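import Groth.Agent.H8Props.DivisorSection
import Groth.Agent.H11Ample.Tensor

/-!
# The dual of an invertible module is its inverse
-/

set_option autoImplicit false
set_option backward.isDefEq.respectTransparency false
set_option maxHeartbeats 800000
universe u

open CategoryTheory CategoryTheory.Limits AlgebraicGeometry Opposite TopologicalSpace
open Groth.Agent Groth.Agent.H11Ample Groth.Agent.H11Tilde

noncomputable section

namespace Groth.Agent.H25AbCube

variable {X : Scheme.{u}} {F : X.Modules}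

/-- The dual of an invertible module is an inverse for the tensor product. -/
theorem isInverseOf_dual (hF : PicF.IsInvertible F) : ClSub.IsInverseOf (RefHull.dual F) F := by
  let J := {p : Σ V : X.Opens, Γ(F, V) × Γ(RefHull.dual F, V) // IsGen F p.2.1 ∧ IsGen (RefHull.dual F) p.2.2 ∧
    ∀ y : p.1, p.2.2.1 y (F.presheaf.germ p.1 y.1 y.2 p.2.1) = H29Ref.oneStalk y.1}
  obtain ⟨φ, -⟩ := exists_iso_of_gen (fun j : J => j.1.1)
    (fun x => by
      obtain ⟨V, e, hx, he⟩ := exists_gen hF x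
      obtain ⟨s, h1, h2⟩ := H8Props.DivisorSection.exists_dual_gen he
      exact ⟨⟨⟨V, e, s⟩, he, h2, h1⟩, hx⟩)
    (fun j => tm j.1.2.2 j.1.2.1) (fun j => isGen_tm j.2.2.1 j.2.1)
    (fun j => one j.1.1) (fun j => isGen_one _) fun i j u hu => by
      obtain ⟨a, ha⟩ := transition (ei := i.1.2.1) j.2.1
      obtain ⟨b, hb⟩ := transition (ei := i.1.2.2) j.2.2.1
      rw [tm_res, tm_res, ha, hb, tm_smul_left, tm_smul_right, smul_smul] at hu
      have hba := ((isGen_tm (j.2.2.1.res inf_le_right) (j.2.1.res inf_le_right)).bijective le_rfl).1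
        (a₁ := b * a) (a₂ := u) (by beta_reduce; rw [H10Coh.mres_self]; exact hu)
      rw [one_res, one_res, ← hba]
      suffices h : b * a = 1 by rw [h, one_smul]
      refine TopCat.Presheaf.section_ext X.sheaf _ _ _ fun y hy => ?_
      show X.presheaf.germ _ y hy (b * a) = X.presheaf.germ _ y hy 1
      rw [map_mul, map_one]
      apply (H29Ref.unitEquiv y).injective
      have h1 := i.2.2.2 ⟨y, (inf_le_left : i.1.1 ⊓ j.1.1 ≤ _) hy⟩
      have hj := j.2.2.2 ⟨y, (inf_le_right : i.1.1 ⊓ j.1.1 ≤ _) hy⟩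
      have hs : i.1.2.2.1 ⟨y, (inf_le_left : i.1.1 ⊓ j.1.1 ≤ _) hy⟩ =
          X.presheaf.germ (i.1.1 ⊓ j.1.1) y hy b • j.1.2.2.1 ⟨y, (inf_le_right : i.1.1 ⊓ j.1.1 ≤ _) hy⟩ :=
        congrArg (fun s : Γ(RefHull.dual F, i.1.1 ⊓ j.1.1) => s.1 ⟨y, hy⟩) hb
      have he : F.presheaf.germ i.1.1 y ((inf_le_left : i.1.1 ⊓ j.1.1 ≤ _) hy) i.1.2.1 =
          X.presheaf.germ (i.1.1 ⊓ j.1.1) y hy a •
            F.presheaf.germ j.1.1 y ((inf_le_right : i.1.1 ⊓ j.1.1 ≤ _) hy) j.1.2.1 := by
        rw [← TopCat.Presheaf.germ_res_apply F.presheaf (homOfLE (inf_le_left : i.1.1 ⊓ j.1.1 ≤ _)) y hy, ha,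
          H06Mod.germ_smul, TopCat.Presheaf.germ_res_apply]
      rw [hs, he] at h1
      rw [LinearMap.smul_apply, map_smul, smul_smul, hj] at h1
      show (X.presheaf.germ _ y hy b * X.presheaf.germ _ y hy a) • H29Ref.oneStalk y =
        (1 : X.presheaf.stalk y) • H29Ref.oneStalk y
      rw [one_smul]
      exact h1
  exact ⟨φ⟩

open H8Props.DivisorSection in
/-- The canonical section of the dual of an ideal of a divisor generates off the divisor. -/
theorem gen_ofHom {I : X.IdealSheafData} (hI : BlowUp.IsEffCartierIdeal I) :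
    gen (RefHull.dual (ClSub.idealMod I)) (RefHull.ofHom (ClSub.idealModι I) ⊤) = I.support.compl := by
  have hF : PicF.IsInvertible (ClSub.idealMod I) := H29Blow.isInvertible_of_isEffCartierIdeal I hI
  ext x
  obtain ⟨V, e₀, hxV, he₀⟩ := exists_gen hF x
  obtain ⟨U, hU, hxU, hUV⟩ := exists_isAffineOpen_mem_and_subset (U := V) hxV
  let e : Γ(ClSub.idealMod I, U) := (ClSub.idealMod I).presheaf.map (homOfLE hUV).op e₀
  have he : IsGen (ClSub.idealMod I) e := he₀.res hUV
  obtain ⟨s, hs, hsgen⟩ := exists_dual_gen he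
  let a : Γ(X, U) := OmegaSh.idealSect I U e
  have hres : (RefHull.dual (ClSub.idealMod I)).presheaf.map (homOfLE (le_top : U ≤ ⊤)).op
      (RefHull.ofHom (ClSub.idealModι I) ⊤) = a • s := by
    refine Eq.trans ?_ (ofHom_eq_smul he s hs (ClSub.idealModι I))
    rfl
  have hideal : I.ideal ⟨U, hU⟩ = Ideal.span {a} := by
    refine le_antisymm (fun b hb => ?_) ?_
    · obtain ⟨m, rfl⟩ := (H29Blow.mem_ideal_iff_exists_idealSect I hU b).1 hb
      obtain ⟨r, rfl⟩ := exists_coeff he m
      rw [H29Blow.idealSect_smul]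
      exact Ideal.mul_mem_left _ r (Ideal.mem_span_singleton_self _)
    · rw [Ideal.span_le, Set.singleton_subset_iff]
      exact (H29Blow.mem_ideal_iff_exists_idealSect I hU _).2 ⟨e, rfl⟩
  have hsupp := I.coe_support_inter ⟨U, hU⟩
  rw [hideal] at hsupp
  have hg := gen_inf_eq_basicOpen hsgen _ a hres
  constructor
  · intro hx hxs
    have h1 : x ∈ X.basicOpen a := hg.le ⟨hx, hxU⟩
    have h2 := hsupp.le ⟨hxs, hxU⟩
    rw [Scheme.zeroLocus_span, Scheme.zeroLocus_singleton] at h2
    exact h2.1 h1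
  · intro hx
    refine (hg.ge ?_).1
    by_contra h1
    refine hx (hsupp.ge ⟨?_, hxU⟩).1
    rw [Scheme.zeroLocus_span, Scheme.zeroLocus_singleton]
    exact h1

end Groth.Agent.H25AbCube
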