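import Groth.Agent.H25AbCube.MulN
import Groth.Agent.H25Euler.PushRank
import Groth.Agent.H28Int.Push
import Groth.Agent.H10Coh.ProjFormulaFLF
import Groth.Agent.H19Grp.EtaleEndo
import Groth.Agent.H11Ample.Converse
import Groth.Agent.H10Coh.Stab.Degree
import Groth.Agent.H22Alg.PnVan
import Groth.Agent.S19572

/-!
# The degree of multiplication by an integer on an abelian variety
-/

set_option autoImplicit false
set_option linter.style.haveILetI false
set_option backward.isDefEq.respectTransparency false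
universe u

open CategoryTheory CategoryTheory.Limits MonoidalCategory CartesianMonoidalCategory MonObj GrpObj AlgebraicGeometry
  TopologicalSpace
open Groth.Agent

attribute [local instance 10000] Groth.Agent.H10Coh.hasSheafifyAb Groth.Agent.H10Coh.hasWeakSheafifyAb Groth.Agent.H10Coh.hasExtAb Groth.Agent.H10Coh.enoughInjAb

noncomputable section

namespace Groth.Agent.H25AbCube

theorem exists_pc_tensorPow {X : Scheme.{u}} {M : X.Modules} (hM : PicF.IsInvertible M) (m : ℕ) :
    ∃ h, pc (CohB1.tensorPow M m) h = m • pc M hM := by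
  induction m with
  | zero => exact ⟨H11Ample.isInvertible_structureModule, by rw [zero_smul]; exact pc_one⟩
  | succ m ih =>
    obtain ⟨hm, e⟩ := ih
    exact ⟨H11Ample.isInvertible_tensor hm hM, (pc_tensor hm hM _).trans (by rw [e, succ_nsmul])⟩

variable {k : Type u} [Field k] {A : Over (Spec (CommRingCat.of k))} [GrpObj A] [IsProper A.hom]
  [GeometricallyIntegral A.hom] [IsCommMonObj A]

theorem isMonHom_pow (n : ℕ) : IsMonHom ((𝟙 A) ^ n : A ⟶ A) := by
  rw [← zpow_natCast]
  exact H19Grp.isMonHom_zpow (𝟙 A) (n : ℤ)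

/-- Multiplication by a positive integer is flat. -/
theorem flat_pow {n : ℕ} (hn : 0 < n) : Flat ((𝟙 A) ^ n : A ⟶ A).left := by
  haveI := isMonHom_pow (A := A) n
  haveI := surjective_pow (A := A) hn
  exact (Groth.Agent.S19572.result k A A ((𝟙 A) ^ n : A ⟶ A) rfl).2

/-- The degree of multiplication by a positive integer is its `2g`-th power. -/
theorem finrank_pow {n : ℕ} (hn : 0 < n) (g : ℕ) (hg : topologicalKrullDim A.left = g) (a : A.left) :
    ((𝟙 A) ^ n : A ⟶ A).left.finrank a = n ^ (2 * g) := by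
  letI : A.left.Over (Spec (CommRingCat.of k)) := ⟨A.hom⟩
  haveI : IsProper (A.left ↘ Spec (CommRingCat.of k)) := ‹IsProper A.hom›
  haveI : IsIntegral A.left := GeometricallyIntegral.isIntegral_of_subsingleton A.hom
  haveI : IsLocallyNoetherian A.left := LocallyOfFiniteType.isLocallyNoetherian A.hom
  haveI : CompactSpace A.left := QuasiCompact.compactSpace_of_compactSpace A.hom
  haveI : IsNoetherian A.left := {}
  obtain ⟨L, hL, hamp, hsymm⟩ := exists_ample_symm (A := A)
  let φ := ((𝟙 A) ^ n : A ⟶ A).left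
  haveI : IsFinite φ := isFinite_pow hn
  haveI : Flat φ := flat_pow hn
  rw [show φ.finrank a = φ.finrank (genericPoint A.left) from
    (Scheme.Hom.isLocallyConstant_finrank φ).apply_eq_of_preconnectedSpace _ _, ← H25Euler.genRank_push φ]
  let O := Coh.structureModule A.left
  have hO : Coh.IsCoh O := H11Ample.isCoh_of_isInvertible H11Ample.isInvertible_structureModule
  haveI : O.IsQuasicoherent := hO.1
  have hE : Coh.IsCoh ((Coh.push φ).obj O) := H10Coh.isCoh_push_of_isFinite φ O hO
  have hsupp : topologicalKrullDim (CohB1.support O) = (g : WithBot ℕ∞) := by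
    rw [H25Euler.support_invertible H11Ample.isInvertible_structureModule]
    exact ((Homeomorph.Set.univ A.left).isHomeomorph.topologicalKrullDim_eq).trans hg
  obtain ⟨P₀, hP₀⟩ := H25Euler.exists_hilbPoly (k := k) hamp hO (d := g + 1)
    (hsupp ▸ (by exact_mod_cast Nat.lt_succ_self g))
  obtain ⟨hdeg, -, hpos⟩ := H10Coh.Stab.degree_hilbPoly hamp hO hsupp hP₀
  have hchi : ∀ m : ℕ, H25Euler.chi k L ((Coh.push φ).obj O) m = H25Euler.chi k L O (n * n * m) := by
    intro m
    have hm := H11Ample.isInvertible_tensorPow hL m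
    have hp := H11Ample.isInvertible_pullback φ hm
    obtain ⟨h2, e2⟩ := exists_pc_tensorPow hL (n * n * m)
    obtain ⟨h1, e1⟩ := exists_pc_tensorPow hL m
    have h3 : pc _ hp = pc _ h2 := by
      rw [pullP_pc φ _ h1, e1, map_nsmul, e2,
        show pullP φ (pc L hL) = (n * n : ℕ) • pc L hL from ev_pow_of_symm _ hsymm n, ← mul_nsmul]
    obtain ⟨e⟩ := (pc_eq_iff hp h2).1 h3
    haveI := H10Coh.PF.isIso_ψ_of_isFinLocFree φ (H22Alg.PnVan.finLocFree_of_inv hm) O
    haveI : (CohB1.tensorMod O ((Scheme.Modules.pullback φ).obj (CohB1.tensorPow L m))).IsQuasicoherent :=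
      (H11Ample.isCoh_tensor hO hp).1
    refine (H25Euler.euler_congr (asIso (H16Derived.ProjFormula.ψ φ O (CohB1.tensorPow L m)))).trans ?_
    refine (H28Int.Push.euler_push k φ (Over.w ((𝟙 A) ^ n : A ⟶ A))
      (CohB1.tensorMod O ((Scheme.Modules.pullback φ).obj (CohB1.tensorPow L m)))).trans ?_
    exact H25Euler.euler_congr (eqToIso (H25Euler.tensorBi_obj_obj O _).symm ≪≫
      ((DCoh.tensorBi (X := A.left)).obj O).mapIso e ≪≫ eqToIso (H25Euler.tensorBi_obj_obj O _))
  let Q := P₀.comp (Polynomial.C ((n * n : ℕ) : ℚ) * Polynomial.X)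
  have hQ : ShStab.IsHilbPoly k A.left L ((Coh.push φ).obj O) Q := fun m => by
    simp only [Q, Polynomial.eval_comp, Polynomial.eval_mul, Polynomial.eval_C, Polynomial.eval_X]
    rw [← Nat.cast_mul]
    refine Eq.trans ?_ (hP₀ (n * n * m))
    exact_mod_cast hchi m
  have h := H25Euler.coeff_hilbPoly_eq_genRank_mul k hamp hg hP₀ hE hQ
  rw [show Q.coeff g = P₀.coeff g * ((n * n : ℕ) : ℚ) ^ g from Polynomial.comp_C_mul_X_coeff,
    mul_comm] at h
  have h' := mul_right_cancel₀ hpos.ne' h
  rw [pow_mul, pow_two]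
  exact_mod_cast h'.symm

end Groth.Agent.H25AbCube
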