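import Groth.Agent.H25AbCube.KFinite
import Groth.Agent.H19Grp.AbSchemeRigid

/-!
# The formula for multiplication by integers, and its consequences for primitive classes
-/

set_option autoImplicit false
set_option linter.style.haveILetI false
set_option backward.isDefEq.respectTransparency false
universe u

open CategoryTheory CategoryTheory.Limits MonoidalCategory CartesianMonoidalCategory MonObj GrpObj AlgebraicGeometry
open Groth.Agent

noncomputable section

namespace Groth.Agent.H25AbCube

variable {k : Type u} [Field k]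

/-- A class which vanishes after a surjective base change to a reduced base and on one slice vanishes. -/
theorem eq_zero_of_surjective (X T S : Over (Spec (CommRingCat.of k))) [IsProper X.hom] [GeometricallyIntegral X.hom]
    [LocallyOfFiniteType T.hom] [IsReduced T.left] (u : PC (X ⊗ T).left) (a : 𝟙_ _ ⟶ X) (g : S ⟶ T)
    [Surjective g.left] (h : ev u (lift (fst X S) (snd X S ≫ g)) = 0)
    (h' : ev u (lift (toUnit T ≫ a) (𝟙 T)) = 0) : u = 0 := by
  obtain ⟨Q, hQ, rfl⟩ := exists_rep u
  let f := pullback.snd X.hom T.hom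
  haveI : IsProper f := MorphismProperty.pullback_snd (P := @IsProper) _ _ inferInstance
  haveI : Flat f := MorphismProperty.pullback_snd (P := @Flat) _ _ inferInstance
  haveI : LocallyOfFinitePresentation X.hom :=
    LocallyOfFinitePresentation.iff_locallyOfFiniteType.2 inferInstance
  haveI : LocallyOfFinitePresentation f :=
    MorphismProperty.pullback_snd (P := @LocallyOfFinitePresentation) _ _ inferInstance
  haveI : GeometricallyIntegral f := MorphismProperty.pullback_snd (P := @GeometricallyIntegral) _ _ inferInstance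
  have hint : ∀ s, IsIntegral (f.fiber s) := fun s => inferInstance
  have hK : ∀ s, IsIso (f.fiberToSpecResidueField s).appTop := fun s =>
    H12Pic.isIso_appTop_fiber_of_geomIntegral f s
  obtain ⟨Z, ιZ, hι, hZ⟩ := H12Pic.exists_seesaw_subscheme f hint hK hQ
  haveI := hι
  let r : pullback f g.left ⟶ (X ⊗ S).left :=
    pullback.lift (pullback.fst f g.left ≫ pullback.fst X.hom T.hom) (pullback.snd f g.left) (by
      show (pullback.fst f g.left ≫ pullback.fst X.hom T.hom) ≫ X.hom = pullback.snd f g.left ≫ S.hom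
      rw [Category.assoc, pullback.condition, ← Category.assoc, pullback.condition, Category.assoc, Over.w g])
  have hr1 : r ≫ (fst X S).left = pullback.fst f g.left ≫ (fst X T).left := pullback.lift_fst _ _ _
  have hr2 : r ≫ (snd X S).left = pullback.snd f g.left := pullback.lift_snd _ _ _
  have hr : pullback.fst f g.left = r ≫ (lift (fst X S) (snd X S ≫ g)).left := by
    apply pullback.hom_ext
    · show pullback.fst f g.left ≫ (fst X T).left = (r ≫ _) ≫ (fst X T).left
      rw [Category.assoc, ← Over.comp_left, lift_fst, hr1]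
    · show pullback.fst f g.left ≫ f = (r ≫ _) ≫ (snd X T).left
      rw [Category.assoc, ← Over.comp_left, lift_snd, pullback.condition, Over.comp_left, ← Category.assoc, hr2]
  obtain ⟨u', hu'⟩ := (hZ S.left g.left).2 ⟨Coh.structureModule _, H11Ample.isInvertible_structureModule, by
    refine (pc_eq_iff (H11Ample.isInvertible_pullback _ hQ)
      (H11Ample.isInvertible_pullback _ H11Ample.isInvertible_structureModule)).1 ?_
    rw [pullP_pc _ Q hQ, pullP_pc _ _ H11Ample.isInvertible_structureModule, pc_one, map_zero, hr, ← pullP_pullP]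
    exact (congrArg (pullP r) h).trans (map_zero _)⟩
  haveI : Surjective ιZ := ⟨fun t => by
    obtain ⟨s, rfl⟩ := g.left.surjective t
    exact ⟨u' s, by rw [← Scheme.Hom.comp_apply, hu']⟩⟩
  haveI : IsIso ιZ := isIso_of_isClosedImmersion_of_surjective ιZ
  obtain ⟨N, hN, ⟨φ⟩⟩ := (hZ T.left (𝟙 _)).1 ⟨inv ιZ, IsIso.inv_hom_id ιZ⟩
  have h1 := (pc_eq_iff (H11Ample.isInvertible_pullback _ hQ) (H11Ample.isInvertible_pullback _ hN)).2 ⟨φ⟩
  rw [pullP_pc _ Q hQ, pullP_pc _ N hN] at h1
  let j : pullback X.hom T.hom ⟶ pullback f (𝟙 T.left) := pullback.lift (𝟙 _) f (by simp)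
  have h2 := congrArg (pullP j) h1
  rw [pullP_pullP, pullP_pullP, pullback.lift_fst, pullback.lift_snd] at h2
  have h3 : pc Q hQ = ev (A := T) (pc N hN) (snd X T) := (pullP_id _).symm.trans h2
  rw [h3, ev_comp, lift_snd] at h'
  rw [h3, show (pc N hN : PC T.left) = 0 from (pullP_id _).symm.trans h']
  exact map_zero _

variable {A : Over (Spec (CommRingCat.of k))} [GrpObj A] [IsProper A.hom] [GeometricallyIntegral A.hom]

theorem ev_one (L : PC A.left) {S : Over (Spec (CommRingCat.of k))} : ev L (1 : S ⟶ A) = 0 := by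
  have e1 : (toUnit S ≫ η[A] : S ⟶ A) = 1 := (MonObj.one_eq_one (M := A) ▸ MonObj.comp_one _)
  rw [← e1]; exact ev_toUnit L _

/-- The formula for the pullback of a class by multiplication by an integer. -/
theorem ev_pow (L : PC A.left) (n : ℕ) :
    ev L ((𝟙 A) ^ n) = n • L + n.choose 2 • (L + ev L ((𝟙 A)⁻¹)) := by
  have h1 : ev L (𝟙 A) = L := pullP_id L
  induction n using Nat.strong_induction_on with
  | _ n ih =>
    match n with
    | 0 => rw [pow_zero, ev_one]; simp
    | 1 => rw [pow_one, h1]; simp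
    | n + 2 =>
      have h := three L ((𝟙 A) ^ (n + 1)) (𝟙 A) ((𝟙 A)⁻¹)
      rw [mul_inv_cancel_right, mul_inv_cancel, ev_one, ih (n + 1) (by omega), h1, ← pow_succ,
        show ((𝟙 A : A ⟶ A) ^ (n + 1)) * (𝟙 A)⁻¹ = (𝟙 A) ^ n by rw [pow_succ, mul_inv_cancel_right],
        ih n (by omega)] at h
      have hn : (n + 2).choose 2 + n.choose 2 = ((n + 1).choose 2 + (n + 1).choose 2) + 1 := by
        simp [Nat.choose_succ_succ]
        omega
      generalize (n + 2).choose 2 = c at hn ⊢
      generalize (n + 1).choose 2 = a at hn h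
      generalize n.choose 2 = b at hn h
      generalize hS : L + ev L ((𝟙 A)⁻¹) = S at h ⊢
      have hn' := congrArg (fun m : ℕ => m • S) hn
      simp only [add_smul, one_smul] at hn'
      simp only [add_smul, two_smul, one_smul] at h ⊢
      linear_combination (norm := abel) -h - hn' + hS

/-- Multiplication of a primitive class. -/
theorem ev_pow_of_primitive (N : PC A.left) (hN : theta N = 0) {S : Over (Spec (CommRingCat.of k))} (f : S ⟶ A)
    (n : ℕ) : ev N (f ^ n) = n • ev N f := by
  have h : ∀ p q : S ⟶ A, ev N (p * q) = ev N p + ev N q := fun p q => by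
    have := ev_theta N p q
    rw [hN, ev, map_zero] at this
    linear_combination (norm := abel) -this
  induction n with
  | zero => rw [pow_zero, ev_one, zero_smul]
  | succ n ih => rw [pow_succ, h, ih, succ_nsmul]

/-- A class multiplied by `n` by multiplication by `n ≥ 2` is primitive. -/
theorem theta_eq_zero_of_ev_pow (L : PC A.left) {n : ℕ} (hn : 2 ≤ n) (h : ev L ((𝟙 A) ^ n) = n • L) :
    theta L = 0 := by
  haveI : IsCommMonObj A := H19Grp.isCommMonObj_of_proper
  haveI : IsIntegral A.left := GeometricallyIntegral.isIntegral_of_subsingleton A.hom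
  have hn1 : ∀ {S : Over (Spec (CommRingCat.of k))} (p : S ⟶ A), ev L (p ^ n) = n • ev L p := fun p => by
    have := congrArg (pullP p.left) h
    rw [map_nsmul] at this
    change ev (ev L ((𝟙 A) ^ n)) p = n • ev L p at this
    rwa [ev_comp, MonObj.comp_pow, Category.comp_id] at this
  let Q : (A ⊗ A ⟶ A) → (A ⊗ A ⟶ A) → PC (A ⊗ A).left := fun p q => ev (theta L) (lift p q)
  have add_right : ∀ p q r : A ⊗ A ⟶ A, Q p (q * r) = Q p q + Q p r := fun p q r => by
    simp only [Q, ev_theta]
    have := three L p q r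
    rw [_root_.mul_assoc] at this
    linear_combination (norm := abel) this
  have swap : ∀ p q : A ⊗ A ⟶ A, Q p q = Q q p := fun p q => by
    simp only [Q, ev_theta]
    rw [mul_comm]
    abel
  have pow_right : ∀ (p q : A ⊗ A ⟶ A) (m : ℕ), Q p (q ^ m) = m • Q p q := fun p q m => by
    induction m with
    | zero => simp only [Q, pow_zero, ev_theta, _root_.mul_one, ev_one, zero_smul]; abel
    | succ m ih => rw [pow_succ, add_right, ih, succ_nsmul]
  have e1 : Q (fst A A ^ n) (snd A A ^ n) = (n * n) • theta L := by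
    rw [pow_right, swap, pow_right, swap, mul_smul]
    simp only [Q, lift_fst_snd]
    exact congrArg (fun u => n • n • u) (pullP_id _)
  have e2 : Q (fst A A ^ n) (snd A A ^ n) = n • theta L := by
    simp only [Q, ev_theta]
    rw [← mul_pow, hn1, hn1, hn1, ← smul_sub, ← smul_sub]
    rfl
  obtain ⟨m, rfl⟩ : ∃ m, n = m + 2 := ⟨n - 2, by omega⟩
  have e3 : ((m + 1) * (m + 2)) • theta L = 0 := by
    have := e1.symm.trans e2
    rw [show (m + 2) * (m + 2) = (m + 1) * (m + 2) + (m + 2) by ring, add_smul] at this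
    exact add_eq_right.1 this
  haveI := surjective_pow (A := A) (n := (m + 1) * (m + 2)) (by positivity)
  refine eq_zero_of_surjective A A A (theta L) η[A] ((𝟙 A) ^ ((m + 1) * (m + 2))) ?_ ?_
  · rw [MonObj.comp_pow, Category.comp_id]
    refine (pow_right _ _ _).trans ?_
    rw [show Q (fst A A) (snd A A) = theta L by simp only [Q, lift_fst_snd]; exact pullP_id _]
    exact e3
  · rw [show (toUnit A ≫ η[A] : A ⟶ A) = 1 from (MonObj.one_eq_one (M := A) ▸ MonObj.comp_one _)]
    exact theta_one_left L _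

/-- The sum of an ample and a primitive class is ample. -/
theorem isAmple_tensor_of_primitive (L N : A.left.Modules) (hL : CohB1.IsAmple L) (hN : PicF.IsInvertible N)
    (hN0 : theta (pc N hN) = 0) : CohB1.IsAmple (CohB1.tensorMod L N) := by
  haveI : CompactSpace A.left := QuasiCompact.compactSpace_of_compactSpace A.hom
  haveI : QuasiSeparatedSpace A.left := quasiSeparatedSpace_of_quasiSeparated A.hom
  have hinv : ((𝟙 A)⁻¹ : A ⟶ A) ≫ (𝟙 A)⁻¹ = 𝟙 A := by rw [GrpObj.comp_inv, Category.comp_id, _root_.inv_inv]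
  haveI : IsIso ((𝟙 A)⁻¹ : A ⟶ A) := ⟨(𝟙 A)⁻¹, hinv, hinv⟩
  haveI : IsIso ((𝟙 A)⁻¹ : A ⟶ A).left := inferInstanceAs (IsIso ((Over.forget _).map ((𝟙 A)⁻¹ : A ⟶ A)))
  let i := ((𝟙 A)⁻¹ : A ⟶ A).left
  have hL' : CohB1.IsAmple ((Scheme.Modules.pullback i).obj L) :=
    Groth.Agent.S9815.result i i.homeomorph.isEmbedding L hL
  have hi := H11Ample.isInvertible_pullback i hL.1
  let S := CohB1.tensorMod L ((Scheme.Modules.pullback i).obj L)
  have hS : CohB1.IsAmple S := (Groth.Agent.S4381.result A.hom _).1 (Groth.Agent.S4384.result A.hom _ _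
    ((Groth.Agent.S4381.result A.hom _).2 hL) ((Groth.Agent.S4381.result A.hom _).2 hL'))
  have hLN := H11Ample.isInvertible_tensor hL.1 hN
  obtain ⟨n₀, -, hn₀⟩ := H11Ample.eventually_ample_tensor hS hLN
  obtain ⟨hP, -⟩ := hn₀ n₀ le_rfl
  let P := CohB1.tensorMod (CohB1.tensorPow S n₀) (CohB1.tensorMod L N)
  have htp : ∀ (M : A.left.Modules) (hM : PicF.IsInvertible M) (m : ℕ),
      ∃ h, pc (CohB1.tensorPow M m) h = m • pc M hM := fun M hM m => by
    induction m with
    | zero => exact ⟨H11Ample.isInvertible_structureModule, by rw [zero_smul]; exact pc_one⟩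
    | succ m ih =>
      obtain ⟨hm, e⟩ := ih
      exact ⟨H11Ample.isInvertible_tensor hm hM, (pc_tensor hm hM _).trans (by rw [e, succ_nsmul])⟩
  obtain ⟨hS1, eS⟩ := htp S hS.1 n₀
  obtain ⟨hPr, eP⟩ := htp P hP.1 (2 * n₀ + 1)
  let g : A ⟶ A := (𝟙 A) ^ (2 * n₀ + 1)
  haveI : IsFinite g.left := isFinite_pow (A := A) (by omega)
  haveI : Surjective g.left := surjective_pow (A := A) (by omega)
  have hg := H11Ample.isInvertible_pullback g.left hLN
  obtain ⟨e⟩ : Nonempty (CohB1.tensorPow P (2 * n₀ + 1) ≅
      (Scheme.Modules.pullback g.left).obj (CohB1.tensorMod L N)) := by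
    refine (pc_eq_iff hPr hg).1 ?_
    rw [eP, pc_tensor hS1 hLN, eS, pc_tensor hL.1 hi, pullP_pc i L hL.1, pullP_pc g.left _ hLN, pc_tensor hL.1 hN,
      map_add]
    show _ = ev (pc L hL.1) g + ev (pc N hN) g
    rw [ev_pow, ev_pow_of_primitive _ hN0, show ev (pc N hN) (𝟙 A) = pc N hN from pullP_id _]
    have hc : (2 * n₀ + 1).choose 2 = (2 * n₀ + 1) * n₀ := by
      rw [Nat.choose_two_right, show 2 * n₀ + 1 - 1 = n₀ * 2 by omega, ← Nat.mul_assoc, Nat.mul_div_cancel _ two_pos]
    rw [hc, mul_smul, show pullP i (pc L hL.1) = ev (pc L hL.1) ((𝟙 A)⁻¹) from rfl]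
    simp only [smul_add]
    abel
  have hgA : CohB1.IsAmple ((Scheme.Modules.pullback g.left).obj (CohB1.tensorMod L N)) :=
    H11Ample.isAmple_of_iso e ((H11Ample.isAmple_tensorPow_iff hP.1 _ (by omega)).1 hP)
  haveI : GrpObj (Over.mk A.hom) := inferInstanceAs (GrpObj A)
  haveI : Smooth A.hom := smooth_of_grpObj A.hom
  haveI : IsIntegral A.left := GeometricallyIntegral.isIntegral_of_subsingleton A.hom
  haveI : IsLocallyNoetherian A.left := LocallyOfFiniteType.isLocallyNoetherian A.hom
  haveI : IsNoetherian A.left := ⟨⟩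
  refine (Groth.Agent.S4381.result A.hom _).1 ((Groth.Agent.S3577.result A.hom g.left
    (fun x => Or.inl ?_) _ hLN).2 ((Groth.Agent.S4381.result _ _).2 hgA))
  haveI := H19Grp.isRegularLocalRing_stalk_of_smooth A.hom x
  haveI := H4Depth.isDomain_of_isRegularLocalRing (A.left.presheaf.stalk x)
  haveI := H28Alg.ufd_of_regular (A.left.presheaf.stalk x)
  exact ⟨inferInstance, UniqueFactorizationMonoid.instIsIntegrallyClosed⟩

end Groth.Agent.H25AbCube
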