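import Groth.Agent.H25AbCube.HomFG

/-!
# Homomorphisms over any field form a finitely generated group
-/

set_option autoImplicit false
set_option linter.style.haveILetI false
set_option linter.unusedSectionVars false
set_option backward.isDefEq.respectTransparency false
universe u

open CategoryTheory CategoryTheory.Limits MonoidalCategory CartesianMonoidalCategory MonObj GrpObj AlgebraicGeometry
  TopologicalSpace
open Groth.Agent

noncomputable section

namespace Groth.Agent.H25AbCube

/-- Base change along a faithfully flat map is faithful. -/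
theorem map_pullback_injective {S S' : Scheme.{u}} (σ : S' ⟶ S) [Flat σ] [Surjective σ] {A B : Over S} :
    Function.Injective ((Over.pullback σ).map : (A ⟶ B) → _) := fun f g h => by
  have h1 := congrArg (fun φ => φ.left ≫ pullback.fst B.hom σ) h
  simp only [Over.pullback_map_left, pullback.lift_fst] at h1
  haveI : Epi (pullback.fst A.hom σ) := Flat.epi_of_flat_of_surjective _
  exact Over.OverMorphism.ext ((cancel_epi (pullback.fst A.hom σ)).1 h1)

variable {k : Type u} [Field k] {A B : Over (Spec (CommRingCat.of k))} [GrpObj A] [IsProper A.hom]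
  [GeometricallyIntegral A.hom] [IsCommMonObj A] [GrpObj B] [IsProper B.hom] [GeometricallyIntegral B.hom]
  [IsCommMonObj B]

/-- The homomorphisms of abelian varieties over a field form a finitely generated group. -/
theorem homs_fg' : (homs A B).FG := by
  let σ := Spec.map (CommRingCat.ofHom (algebraMap k (AlgebraicClosure k)))
  haveI : Surjective σ := ⟨fun y => ⟨IsLocalRing.closedPoint (AlgebraicClosure k),
    Subsingleton.elim (α := PrimeSpectrum k) _ _⟩⟩
  haveI : Flat σ := Flat.SpecMap_iff.2 (RingHom.flat_algebraMap_iff.2 inferInstance)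
  let F := Over.pullback σ
  letI : GrpObj (F.obj A) := Functor.grpObjObj
  letI : GrpObj (F.obj B) := Functor.grpObjObj
  haveI : IsProper (F.obj A).hom := MorphismProperty.pullback_snd _ _ inferInstance
  haveI : IsProper (F.obj B).hom := MorphismProperty.pullback_snd _ _ inferInstance
  haveI : GeometricallyIntegral (F.obj A).hom := MorphismProperty.pullback_snd _ _ inferInstance
  haveI : GeometricallyIntegral (F.obj B).hom := MorphismProperty.pullback_snd _ _ inferInstance
  haveI : IsCommMonObj (F.obj A) := isCommMonObj_of_av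
  haveI : IsCommMonObj (F.obj B) := isCommMonObj_of_av
  let Φ : Additive (A ⟶ B) →+ Additive (F.obj A ⟶ F.obj B) :=
    MonoidHom.toAdditive (Functor.homMonoidHom F (X := A) (M := B))
  let Ψ : homs A B →+ homs (F.obj A) (F.obj B) :=
    { toFun := fun x => ⟨Φ x.1, by
        haveI : IsMonHom x.1.toMul := x.2
        show IsMonHom (F.map x.1.toMul)
        infer_instance⟩
      map_zero' := Subtype.ext (map_zero Φ)
      map_add' := fun x y => Subtype.ext (map_add Φ _ _) }
  have hinj : Function.Injective Ψ := fun x y h =>
    Subtype.ext (Additive.toMul.injective (map_pullback_injective σ (congrArg (fun z => z.1.toMul) h)))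
  haveI : AddGroup.FG (homs (F.obj A) (F.obj B)) := (AddGroup.fg_iff_addSubgroup_fg _).2 homs_fg
  haveI : Module.Finite ℤ (homs (F.obj A) (F.obj B)) := Module.Finite.iff_addGroup_fg.2 ‹_›
  haveI : Module.Finite ℤ (homs A B) := Module.Finite.of_injective Ψ.toIntLinearMap hinj
  exact (AddGroup.fg_iff_addSubgroup_fg _).1 (Module.Finite.iff_addGroup_fg.1 ‹_›)

/-- A finite family of homomorphisms generating all homomorphisms. -/
theorem exists_generators : ∃ (n : ℕ) (e : Fin n → (A ⟶ B)), (∀ i, IsMonHom (e i)) ∧
    ∀ f : A ⟶ B, IsMonHom f → ∃ a : Fin n → ℤ, f = ∏ i, e i ^ a i := by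
  haveI : AddGroup.FG (homs A B) := (AddGroup.fg_iff_addSubgroup_fg _).2 homs_fg'
  haveI : Module.Finite ℤ (homs A B) := Module.Finite.iff_addGroup_fg.2 ‹_›
  obtain ⟨n, e, he⟩ := Module.Finite.exists_fin (R := ℤ) (M := homs A B)
  refine ⟨n, fun i => (e i).1.toMul, fun i => (e i).2, fun f hf => ?_⟩
  have hx : (⟨Additive.ofMul f, hf⟩ : homs A B) ∈ Submodule.span ℤ (Set.range e) := he ▸ Submodule.mem_top
  obtain ⟨a, ha⟩ := Submodule.mem_span_range_iff_exists_fun ℤ |>.1 hx
  refine ⟨a, ?_⟩
  have h := congrArg (fun z : homs A B => z.1) ha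
  simp only [AddSubgroup.val_finsetSum, AddSubgroup.coe_zsmul] at h
  refine (congrArg Additive.toMul h).symm.trans ?_
  rw [toMul_sum]
  rfl

end Groth.Agent.H25AbCube
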