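import Groth.Agent.H25AbCube.DegreePoly
import Groth.Agent.H25AbCube.HomDescent
import Groth.Agent.H17.AssPush
import Groth.Prelude.Def_SGA7a
import Groth.Prelude.Def_EndTate

/-!
# Tate modules of geometric points and base change to the geometric field
-/

set_option autoImplicit false
set_option linter.style.haveILetI false
set_option backward.isDefEq.respectTransparency false
universe u

open CategoryTheory CategoryTheory.Limits MonoidalCategory CartesianMonoidalCategory MonObj GrpObj AlgebraicGeometry
  TopologicalSpace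
open Groth.Agent

noncomputable section

namespace Groth.Agent.H25AbCube.GeomTate

section congr

variable {S S' : Scheme.{u}} {T A : Over S} [GrpObj A] [IsCommMonObj A] {T' A' : Over S'} [GrpObj A']
  [IsCommMonObj A'] (l : ℕ) [Fact l.Prime] (a : Additive (T ⟶ A) ≃+ Additive (T' ⟶ A'))

/-- Tate modules only depend on the group of points. -/
def tateCongr : AbDual.TateMod A l T ≃ₗ[ℤ_[l]] AbDual.TateMod A' l T' where
  toFun x := ⟨fun n => a ((x : ℕ → Additive (T ⟶ A)) n),
    fun n => by rw [← map_nsmul, x.torsion n, map_zero], fun n => by rw [← map_nsmul, x.compat n]⟩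
  invFun y := ⟨fun n => a.symm ((y : ℕ → Additive (T' ⟶ A')) n),
    fun n => by rw [← map_nsmul, y.torsion n, map_zero], fun n => by rw [← map_nsmul, y.compat n]⟩
  left_inv x := AbDual.TateMod.ext fun n => a.symm_apply_apply _
  right_inv y := AbDual.TateMod.ext fun n => a.apply_symm_apply _
  map_add' x y := AbDual.TateMod.ext fun n => map_add a _ _
  map_smul' c x := AbDual.TateMod.ext fun n => map_nsmul a _ _

end congr

variable (k Ω : Type u) [Field k] [Field Ω] [Algebra k Ω]

/-- The morphism of spectra. -/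
abbrev σ : Spec (CommRingCat.of Ω) ⟶ Spec (CommRingCat.of k) := Spec.map (CommRingCat.ofHom (algebraMap k Ω))

/-- Base change to the big field. -/
abbrev bc : Over (Spec (CommRingCat.of k)) ⥤ Over (Spec (CommRingCat.of Ω)) := Over.pullback (σ k Ω)

theorem surjective_σ : Surjective (σ k Ω) :=
  ⟨fun y => ⟨IsLocalRing.closedPoint Ω, Subsingleton.elim (α := PrimeSpectrum k) _ _⟩⟩

theorem flat_σ : Flat (σ k Ω) := Flat.SpecMap_iff.2 (RingHom.flat_algebraMap_iff.2 inferInstance)

attribute [local instance] Functor.grpObjObj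

variable {k Ω} (A : Over (Spec (CommRingCat.of k))) [GrpObj A]

instance isProper_bc [IsProper A.hom] : IsProper ((bc k Ω).obj A).hom :=
  MorphismProperty.pullback_snd _ _ inferInstance

instance geometricallyIntegral_bc [GeometricallyIntegral A.hom] : GeometricallyIntegral ((bc k Ω).obj A).hom :=
  MorphismProperty.pullback_snd _ _ inferInstance

instance isCommMonObj_bc [IsProper A.hom] [GeometricallyIntegral A.hom] : IsCommMonObj ((bc k Ω).obj A) :=
  isCommMonObj_of_av

/-- The tautological point. -/
def jIso : (Over.map (σ k Ω)).obj (Over.mk (𝟙 (Spec (CommRingCat.of Ω)))) ≅ SGA7.pt Ω :=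
  Over.isoMk (Iso.refl _)

/-- Points with values in the big field are points of the base change. -/
def ψ : (SGA7.pt Ω ⟶ A) ≃* (Over.mk (𝟙 (Spec (CommRingCat.of Ω))) ⟶ (bc k Ω).obj A) :=
  { toEquiv := ((jIso (k := k) (Ω := Ω)).homFromEquiv).symm.trans
      ((Over.mapPullbackAdj (σ k Ω)).homEquiv (Over.mk (𝟙 (Spec (CommRingCat.of Ω)))) A)
    map_mul' := fun f g => by
      show (Over.mapPullbackAdj _).homEquiv _ _ (jIso.hom ≫ (f * g)) =
        (Over.mapPullbackAdj _).homEquiv _ _ (jIso.hom ≫ f) * (Over.mapPullbackAdj _).homEquiv _ _ (jIso.hom ≫ g)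
      rw [MonObj.comp_mul, Adjunction.homEquiv_unit, Adjunction.homEquiv_unit, Adjunction.homEquiv_unit]
      exact (congrArg _ (map_mul (Functor.homMonoidHom (bc k Ω)) _ _)).trans (MonObj.comp_mul _ _ _) }

theorem ψ_comp {B : Over (Spec (CommRingCat.of k))} [GrpObj B] (f : SGA7.pt Ω ⟶ A) (e : A ⟶ B) :
    ψ B (f ≫ e) = ψ A f ≫ (bc k Ω).map e := by
  show (Over.mapPullbackAdj _).homEquiv _ _ (jIso.hom ≫ f ≫ e) = (Over.mapPullbackAdj _).homEquiv _ _ (jIso.hom ≫ f) ≫ _
  rw [← Category.assoc]
  exact Adjunction.homEquiv_naturality_right _ _ _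

variable [IsCommMonObj A] [IsProper A.hom] [GeometricallyIntegral A.hom]

/-- The Tate modules agree. -/
def tateEquiv (l : ℕ) [Fact l.Prime] :
    AbDual.TateMod A l (SGA7.pt Ω) ≃ₗ[ℤ_[l]]
      AbDual.TateMod ((bc k Ω).obj A) l (Over.mk (𝟙 (Spec (CommRingCat.of Ω)))) :=
  tateCongr l (MulEquiv.toAdditive (ψ A))

theorem tateEquiv_map (l : ℕ) [Fact l.Prime] {B : Over (Spec (CommRingCat.of k))} [GrpObj B] [IsCommMonObj B]
    [IsProper B.hom] [GeometricallyIntegral B.hom] (e : A ⟶ B) [IsMonHom e] (x : AbDual.TateMod A l (SGA7.pt Ω)) :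
    tateEquiv B l (AbDual.tateMapₗ (l := l) (T := SGA7.pt Ω) e x) =
      AbDual.tateMapₗ (l := l) (T := Over.mk (𝟙 (Spec (CommRingCat.of Ω)))) ((bc k Ω).map e) (tateEquiv A l x) :=
  AbDual.TateMod.ext fun n => congrArg Additive.ofMul (ψ_comp A _ e)

theorem tateMap_conj (l : ℕ) [Fact l.Prime] (e : A ⟶ A) [IsMonHom e] :
    AbDual.tateMapₗ (l := l) (T := Over.mk (𝟙 (Spec (CommRingCat.of Ω)))) ((bc k Ω).map e) =
      (tateEquiv A l).conj (AbDual.tateMapₗ (l := l) (T := SGA7.pt Ω) e) := by
  refine LinearMap.ext fun y => ?_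
  rw [LinearEquiv.conj_apply_apply, tateEquiv_map, LinearEquiv.apply_symm_apply]

omit [IsCommMonObj A] in
theorem isPullback_map {B : Over (Spec (CommRingCat.of k))} (e : A ⟶ B) :
    IsPullback (pullback.fst A.hom (σ k Ω)) ((bc k Ω).map e).left e.left (pullback.fst B.hom (σ k Ω)) := by
  refine IsPullback.of_bot (v₂₁ := pullback.snd B.hom (σ k Ω)) (v₂₂ := B.hom) ?_ ?_ (IsPullback.of_hasPullback B.hom (σ k Ω))
  · simp only [Over.pullback_map_left, pullback.lift_snd, Over.w]
    exact IsPullback.of_hasPullback A.hom (σ k Ω)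
  · simp only [Over.pullback_map_left, pullback.lift_fst]

/-- The dimension does not change in the algebraic closure. -/
theorem dim_bc [Algebra.IsAlgebraic k Ω] {g : ℕ} (hg : topologicalKrullDim A.left = g) :
    topologicalKrullDim ((bc k Ω).obj A).left = g := by
  rw [← hg]
  haveI : IsIntegralHom (σ k Ω) := IsIntegralHom.SpecMap_iff.2 (algebraMap_isIntegral_iff.2 inferInstance)
  haveI := surjective_σ k Ω
  let p : ((bc k Ω).obj A).left ⟶ A.left := pullback.fst A.hom (σ k Ω)
  haveI : IsIntegralHom p := MorphismProperty.pullback_fst _ _ inferInstance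
  haveI : Surjective p := MorphismProperty.pullback_fst _ _ inferInstance
  refine le_antisymm ?_ ?_
  · exact H17.topologicalKrullDim_le_of_noSpecializationsInFibres p p.continuous fun x y h e =>
      H17.AssPts.eq_of_specializes_of_map_eq p h e
  · exact H17.topologicalKrullDim_le_of_specializingMap p p.isClosedMap.specializingMap p.surjective

omit [IsCommMonObj A] in
/-- The degree does not change under base change. -/
theorem degree_bc {B : Over (Spec (CommRingCat.of k))} [GrpObj B] [IsProper B.hom] [GeometricallyIntegral B.hom]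
    (e : A ⟶ B) [IsMonHom e] {g : ℕ} (hA : topologicalKrullDim A.left = g) (hB : topologicalKrullDim B.left = g)
    (hA' : topologicalKrullDim ((bc k Ω).obj A).left = g) (hB' : topologicalKrullDim ((bc k Ω).obj B).left = g) :
    degree ((bc k Ω).map e) = degree e := by
  haveI : IsCommMonObj A := isCommMonObj_of_av
  haveI : IsCommMonObj B := isCommMonObj_of_av
  haveI : IsIntegral ((bc k Ω).obj B).left := GeometricallyIntegral.isIntegral_of_subsingleton ((bc k Ω).obj B).hom
  have hp := isPullback_map (Ω := Ω) A e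
  by_cases hf : IsFinite e.left
  · haveI := hf
    haveI := flat_of_finite e hA hB
    haveI : IsFinite ((bc k Ω).map e).left := MorphismProperty.of_isPullback hp hf
    rw [← finrank_eq_degree ((bc k Ω).map e) hA' hB' (genericPoint _), Scheme.Hom.finrank_of_isPullback _ _ _ _ hp,
      finrank_eq_degree e hA hB]
  · rw [degree_of_not_finite e hf, degree_of_not_finite]
    intro h
    haveI := h
    haveI := surjective_of_finite ((bc k Ω).map e).left hA' hB'
    haveI := surjective_σ k Ω
    haveI : Surjective (pullback.fst B.hom (σ k Ω)) := MorphismProperty.pullback_fst _ _ inferInstance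
    haveI : Surjective e.left := ⟨fun y => by
      obtain ⟨y', rfl⟩ := (pullback.fst B.hom (σ k Ω)).surjective y
      obtain ⟨x, rfl⟩ := ((bc k Ω).map e).left.surjective y'
      exact ⟨pullback.fst A.hom (σ k Ω) x, by rw [← Scheme.Hom.comp_apply, hp.w]; rfl⟩⟩
    exact hf (Groth.Agent.S19572.result k A B e (hA.trans hB.symm)).1

end Groth.Agent.H25AbCube.GeomTate
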