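import Mathlib

/-!
# Abelian groups with few torsion elements
-/

set_option autoImplicit false
set_option linter.style.haveILetI false
set_option backward.isDefEq.respectTransparency false

namespace Groth.Agent.H25AbCube.GroupTorsion

variable {G : Type*} [CommGroup G]

/-- The elements killed by `n`. -/
abbrev tors (G : Type*) [CommGroup G] (n : ℕ) : Subgroup G := (powMonoidHom n : G →* G).ker

theorem mem_tors {n : ℕ} {x : G} : x ∈ tors G n ↔ x ^ n = 1 := Iff.rfl

/-- The decomposition along coprime factors. -/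
noncomputable def prodEquiv {a b : ℕ} (h : a.Coprime b) : tors G a × tors G b ≃* tors G (a * b) := by
  refine MulEquiv.ofBijective
    (show tors G a × tors G b →* tors G (a * b) from
    { toFun := fun x => ⟨x.1.1 * x.2.1, by
        rw [mem_tors, mul_pow, pow_mul, mem_tors.1 x.1.2, one_pow, one_mul, mul_comm a b, pow_mul,
          mem_tors.1 x.2.2, one_pow]⟩
      map_one' := Subtype.ext (mul_one 1)
      map_mul' := fun x y => Subtype.ext (mul_mul_mul_comm _ _ _ _) }) ⟨?_, ?_⟩
  · refine (injective_iff_map_eq_one _).2 fun x hx => ?_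
    have h1 : x.1.1 * x.2.1 = 1 := congrArg Subtype.val hx
    have ha : x.1.1 ^ a = 1 := x.1.2
    have hb : x.1.1 ^ b = 1 := by
      have := congrArg (· ^ b) h1
      simp only [mul_pow, mem_tors.1 x.2.2, mul_one, one_pow] at this
      exact this
    have h2 : x.1.1 = 1 := by
      have h3 := pow_gcd_eq_one.2 ⟨ha, hb⟩
      rwa [h.gcd_eq_one, pow_one] at h3
    refine Prod.ext (Subtype.ext h2) (Subtype.ext ?_)
    rwa [h2, one_mul] at h1
  · rintro ⟨z, hz⟩
    rw [mem_tors] at hz
    have hb : ((z ^ (b : ℤ)) ^ Nat.gcdB a b) ^ a = 1 := by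
      rw [← zpow_natCast, ← zpow_mul, ← zpow_mul, show (b : ℤ) * (Nat.gcdB a b * a) = ((a * b : ℕ) : ℤ) * Nat.gcdB a b by
        push_cast; ring, zpow_mul, zpow_natCast, hz, one_zpow]
    have ha : ((z ^ (a : ℤ)) ^ Nat.gcdA a b) ^ b = 1 := by
      rw [← zpow_natCast, ← zpow_mul, ← zpow_mul, show (a : ℤ) * (Nat.gcdA a b * b) = ((a * b : ℕ) : ℤ) * Nat.gcdA a b by
        push_cast; ring, zpow_mul, zpow_natCast, hz, one_zpow]
    refine ⟨(⟨_, hb⟩, ⟨_, ha⟩), Subtype.ext ?_⟩
    show (z ^ (b : ℤ)) ^ Nat.gcdB a b * (z ^ (a : ℤ)) ^ Nat.gcdA a b = z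
    rw [← zpow_mul, ← zpow_mul, ← zpow_add]
    have := Nat.gcd_eq_gcd_ab a b
    rw [h.gcd_eq_one] at this
    rw [show (b : ℤ) * Nat.gcdB a b + (a : ℤ) * Nat.gcdA a b = 1 by push_cast at this; linarith, zpow_one]

theorem card_mul {a b : ℕ} (h : a.Coprime b) :
    Nat.card (tors G (a * b)) = Nat.card (tors G a) * Nat.card (tors G b) := by
  rw [← Nat.card_congr (prodEquiv (G := G) h).toEquiv, Nat.card_prod]

theorem card_one : Nat.card (tors G 1) = 1 := by
  rw [Nat.card_eq_one_iff_unique]
  exact ⟨⟨fun x y => Subtype.ext (by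
    rw [← pow_one x.1, ← pow_one y.1, mem_tors.1 x.2, mem_tors.1 y.2])⟩, ⟨1⟩⟩

/-- If there are at most `n^d` elements killed by `n` for every `n`, their number divides `n^d`. -/
theorem card_dvd (d : ℕ) (hfin : ∀ n, 0 < n → Finite (tors G n))
    (hle : ∀ n, 0 < n → Nat.card (tors G n) ≤ n ^ d) :
    ∀ {n : ℕ}, 0 < n → Nat.card (tors G n) ∣ n ^ d := by
  intro n
  induction n using Nat.recOnPrimeCoprime with
  | zero => intro h; omega
  | coprime a b ha hb hab iha ihb =>
    intro _
    rw [card_mul hab, mul_pow]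
    exact mul_dvd_mul (iha (by omega)) (ihb (by omega))
  | prime_pow p e hp =>
    intro hpos
    haveI := hfin (p ^ e) hpos
    haveI := Fact.mk hp
    have hG : IsPGroup p (tors G (p ^ e)) := fun x => ⟨e, Subtype.ext (by simpa using mem_tors.1 x.2)⟩
    obtain ⟨c, hc⟩ := hG.exists_card_eq
    rw [hc, ← pow_mul]
    refine pow_dvd_pow p ((Nat.pow_le_pow_iff_right hp.one_lt).1 ?_)
    rw [← hc, pow_mul]
    exact hle _ hpos

theorem exists_span_aux {V : Type*} [AddCommGroup V] {p d : ℕ} [Fact p.Prime] [Module (ZMod p) V] [Finite V]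
    (hV : Nat.card V = p ^ d) : ∃ b : Fin d → V, ∀ x, ∃ c : Fin d → ℕ, x = ∑ i, c i • b i := by
  have hd : Module.finrank (ZMod p) V = d := by
    have h1 := Module.natCard_eq_pow_finrank (K := ZMod p) (V := V)
    rw [hV, Nat.card_zmod] at h1
    exact (Nat.pow_right_injective (Fact.out : p.Prime).two_le h1).symm
  let b := Module.finBasisOfFinrankEq (ZMod p) V hd
  refine ⟨b, fun x => ⟨fun i => (b.repr x i).val, (b.sum_repr x).symm.trans ?_⟩⟩
  refine Finset.sum_congr rfl fun i _ => ?_
  rw [← Nat.cast_smul_eq_nsmul (ZMod p), ZMod.natCast_zmod_val]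

/-- A group of order `p^d` killed by the prime `p` is spanned by `d` elements. -/
theorem exists_span {V : Type*} [AddCommGroup V] {p d : ℕ} [Fact p.Prime] (hV : Nat.card V = p ^ d)
    (h : ∀ x : V, p • x = 0) : ∃ b : Fin d → V, ∀ x, ∃ c : Fin d → ℕ, x = ∑ i, c i • b i :=
  @exists_span_aux V _ p d _ (AddCommGroup.zmodModule h)
    (Nat.finite_of_card_ne_zero (by rw [hV]; exact (pow_pos (Fact.out : p.Prime).pos d).ne')) hV

/-- A group killed by a prime power `p^a` in which `p` kills exactly `p^d` elements and whose order is `p^(ad)`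
is free over `ℤ/p^a`. -/
theorem nonempty_equiv_prime_pow {H : Type*} [AddCommGroup H] [Finite H] {p a d : ℕ} (hp : p.Prime)
    (hH : ∀ x : H, p ^ a • x = 0) (hker : Nat.card (nsmulAddMonoidHom (α := H) p).ker = p ^ d)
    (hcard : Nat.card H = (p ^ a) ^ d) : Nonempty ((Fin d → ZMod (p ^ a)) ≃+ H) := by
  classical
  haveI := Fact.mk hp
  let R := (nsmulAddMonoidHom (α := H) p).range
  have hq : Nat.card (H ⧸ R) = p ^ d := by
    have h1 := AddSubgroup.card_eq_card_quotient_mul_card_addSubgroup R
    have h2 := AddSubgroup.card_eq_card_quotient_mul_card_addSubgroup (nsmulAddMonoidHom (α := H) p).ker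
    rw [Nat.card_congr (QuotientAddGroup.quotientKerEquivRange (nsmulAddMonoidHom (α := H) p)).toEquiv, hker,
      h1, mul_comm _ (p ^ d)] at h2
    exact mul_right_cancel₀ (Nat.card_pos).ne' h2
  obtain ⟨b, hb⟩ := exists_span (V := H ⧸ R) hq fun x => by
    induction x using QuotientAddGroup.induction_on with
    | H x => exact (QuotientAddGroup.eq_zero_iff _).2 ⟨x, rfl⟩
  choose g hg using fun i => QuotientAddGroup.mk_surjective (b i)
  let f : (Fin d → ZMod (p ^ a)) →+ H := ∑ i, ((ZMod.lift (p ^ a))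
    ⟨zmultiplesHom H (g i), by simpa only [zmultiplesHom_apply, natCast_zsmul] using hH (g i)⟩).comp (Pi.evalAddMonoidHom _ i)
  have hf : ∀ i, g i ∈ f.range := fun i => ⟨Pi.single i 1, by
    simp only [f, AddMonoidHom.finsetSum_apply, AddMonoidHom.comp_apply, Pi.evalAddMonoidHom_apply]
    rw [Finset.sum_eq_single i (fun j _ hji => by rw [Pi.single_eq_of_ne hji, map_zero])
      (fun hi => absurd (Finset.mem_univ i) hi), Pi.single_eq_same]
    rw [← Int.cast_one (R := ZMod (p ^ a)), ZMod.lift_coe]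
    simp⟩
  have hstep : ∀ x : H, ∃ y ∈ f.range, ∃ z : H, x = y + p • z := by
    intro x
    obtain ⟨c, hsum⟩ := hb (x : H ⧸ R)
    let y := ∑ i, c i • g i
    have hy : y ∈ f.range := sum_mem fun i _ => nsmul_mem (hf i) _
    have : ((x - y : H) : H ⧸ R) = 0 := by
      rw [QuotientAddGroup.mk_sub, sub_eq_zero]
      refine hsum.trans ?_
      show _ = (QuotientAddGroup.mk' R) y
      rw [map_sum]
      refine Finset.sum_congr rfl fun i _ => ?_
      rw [map_nsmul, QuotientAddGroup.mk'_apply, hg i]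
    obtain ⟨z, hz⟩ := (QuotientAddGroup.eq_zero_iff _).1 this
    exact ⟨y, hy, z, by rw [show p • z = x - y from hz]; abel⟩
  have hiter : ∀ (e : ℕ) (x : H), ∃ y ∈ f.range, ∃ z : H, x = y + p ^ e • z := by
    intro e
    induction e with
    | zero => exact fun x => ⟨0, zero_mem _, x, by simp⟩
    | succ e ih =>
      intro x
      obtain ⟨y, hy, z, rfl⟩ := ih x
      obtain ⟨y', hy', z', rfl⟩ := hstep z
      exact ⟨y + p ^ e • y', add_mem hy (nsmul_mem hy' _), z', by rw [smul_add, ← mul_nsmul', ← pow_succ]; abel⟩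
  have hsurj : Function.Surjective f := fun x => by
    obtain ⟨y, ⟨w, hw⟩, z, rfl⟩ := hiter a x
    exact ⟨w, by rw [hH z, add_zero, hw]⟩
  haveI : NeZero (p ^ a) := ⟨(pow_pos hp.pos a).ne'⟩
  exact ⟨AddEquiv.ofBijective f ((Nat.bijective_iff_surjective_and_card f).2 ⟨hsurj, by
    rw [Nat.card_pi, Finset.prod_const, Nat.card_zmod, Finset.card_univ, Fintype.card_fin, hcard]⟩)⟩

/-- If exactly `m^d` elements are killed by every divisor `m` of `n`, those killed by `n` form `(ℤ/n)^d`. -/
theorem nonempty_equiv (d : ℕ) : ∀ {n : ℕ}, 0 < n → (∀ m, m ∣ n → Nat.card (tors G m) = m ^ d) →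
    Nonempty (tors G n ≃* Multiplicative (Fin d → ZMod n)) := by
  intro n
  induction n using Nat.recOnPrimeCoprime with
  | zero => intro h; omega
  | coprime a b ha hb hab iha ihb =>
    intro hpos h
    obtain ⟨ea⟩ := iha (by omega) fun m hm => h m (hm.mul_right b)
    obtain ⟨eb⟩ := ihb (by omega) fun m hm => h m (hm.mul_left a)
    let e : (Fin d → ZMod (a * b)) ≃+ (Fin d → ZMod a) × (Fin d → ZMod b) :=
      { toFun := fun v => (fun i => (ZMod.chineseRemainder hab (v i)).1, fun i => (ZMod.chineseRemainder hab (v i)).2)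
        invFun := fun w i => (ZMod.chineseRemainder hab).symm (w.1 i, w.2 i)
        left_inv := fun v => funext fun i => by simp
        right_inv := fun w => by simp
        map_add' := fun v w => by simp only [Pi.add_apply, map_add, Prod.fst_add, Prod.snd_add]; rfl }
    exact ⟨(prodEquiv hab).symm.trans ((ea.prodCongr eb).trans
      ((MulEquiv.prodMultiplicative _ _).symm.trans (AddEquiv.toMultiplicative e.symm)))⟩
  | prime_pow p a hp =>
    intro hpos h
    haveI : Finite (tors G (p ^ a)) := Nat.finite_of_card_ne_zero (by rw [h _ dvd_rfl]; positivity)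
    rcases Nat.eq_zero_or_pos a with rfl | hapos
    · haveI : Subsingleton (tors G (p ^ 0)) := by
        rw [pow_zero]; exact (Nat.card_eq_one_iff_unique.1 card_one).1
      haveI : Subsingleton (ZMod (p ^ 0)) := by rw [pow_zero]; infer_instance
      exact ⟨MulEquiv.ofBijective (1 : tors G (p ^ 0) →* Multiplicative (Fin d → ZMod (p ^ 0)))
        ⟨fun _ _ _ => Subsingleton.elim _ _, fun y => ⟨1, Subsingleton.elim (α := Fin d → ZMod (p ^ 0)) _ _⟩⟩⟩
    obtain ⟨e⟩ := nonempty_equiv_prime_pow (H := Additive (tors G (p ^ a))) (a := a) (d := d) hp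
      (fun x => by
        apply Additive.toMul.injective
        exact Subtype.ext (mem_tors.1 (Additive.toMul x).2))
      (by
        rw [← h p (dvd_pow_self p hapos.ne')]
        refine Nat.card_congr
          { toFun := fun x => ⟨(Additive.toMul x.1).1, congrArg (fun z : Additive (tors G (p ^ a)) => ((Additive.toMul z).1 : G)) x.2⟩
            invFun := fun y => ⟨Additive.ofMul ⟨y.1, mem_tors.2 (by
              obtain ⟨c, hc⟩ := dvd_pow_self p hapos.ne'
              rw [hc, pow_mul, mem_tors.1 y.2, one_pow])⟩, ?_⟩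
            left_inv := fun x => rfl
            right_inv := fun y => rfl }
        apply Additive.toMul.injective
        exact Subtype.ext (mem_tors.1 y.2))
      (by rw [Nat.card_congr Additive.toMul, h _ dvd_rfl])
    exact ⟨(AddEquiv.toMultiplicativeRight e.symm)⟩

end Groth.Agent.H25AbCube.GroupTorsion
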