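import Groth.Agent.H25AbCube.TorsionStr

/-!
# The Tate module of an abelian variety
-/

set_option autoImplicit false
set_option linter.style.haveILetI false
set_option backward.isDefEq.respectTransparency false
universe u

open CategoryTheory MonoidalCategory CartesianMonoidalCategory MonObj GrpObj AlgebraicGeometry
open Groth.Agent

noncomputable section

namespace Groth.Agent.H25AbCube

section group

variable {G : Type*} [AddCommGroup G] {l r : ℕ} [Fact l.Prime]

/-- The combination of compatible elements of level `n`. -/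
def comb (t : ℕ → Fin r → G) (n : ℕ) (v : Fin r → ZMod (l ^ n)) : G := ∑ i, (v i).val • t n i

theorem comb_natCast (t : ℕ → Fin r → G) (h0 : ∀ n i, l ^ n • t n i = 0) (n : ℕ) (c : Fin r → ℕ) :
    comb t n (fun i => (c i : ZMod (l ^ n))) = ∑ i, c i • t n i := by
  refine Finset.sum_congr rfl fun i _ => ?_
  rw [ZMod.val_natCast]
  exact AbDual.mod_nsmul (h0 n i) _

theorem exists_comb (t : ℕ → Fin r → G) (h0 : ∀ n i, l ^ n • t n i = 0) (ht : ∀ n i, l • t (n + 1) i = t n i)
    (h1 : ∀ y : G, l • y = 0 → ∃ c : Fin r → ℕ, y = ∑ i, c i • t 1 i) :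
    ∀ (n : ℕ) (y : G), l ^ n • y = 0 → ∃ c : Fin r → ℕ, y = ∑ i, c i • t n i := by
  have hpow : ∀ n i, l ^ n • t (n + 1) i = t 1 i := by
    intro n i
    induction n with
    | zero => simp
    | succ n ih => rw [pow_succ, mul_nsmul', ht (n + 1) i, ih]
  intro n
  induction n with
  | zero =>
    intro y hy
    exact ⟨0, by simpa using hy⟩
  | succ n ih =>
    intro y hy
    obtain ⟨c, hc⟩ := ih (l • y) (by rwa [← mul_nsmul', ← pow_succ])
    obtain ⟨d, hd⟩ := h1 (y - ∑ i, c i • t (n + 1) i) (by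
      rw [smul_sub, Finset.smul_sum, hc, sub_eq_zero]
      refine Finset.sum_congr rfl fun i _ => ?_
      rw [smul_comm, ht n i])
    refine ⟨fun i => c i + d i * l ^ n, ?_⟩
    rw [eq_add_of_sub_eq' hd, ← Finset.sum_add_distrib]
    refine Finset.sum_congr rfl fun i _ => ?_
    rw [add_nsmul, mul_nsmul', hpow]

theorem comb_injective (t : ℕ → Fin r → G) (h0 : ∀ n i, l ^ n • t n i = 0) (ht : ∀ n i, l • t (n + 1) i = t n i)
    (h1 : ∀ y : G, l • y = 0 → ∃ c : Fin r → ℕ, y = ∑ i, c i • t 1 i)
    (hcard : ∀ n, Nat.card (nsmulAddMonoidHom (α := G) (l ^ n)).ker = (l ^ n) ^ r) (n : ℕ) :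
    Function.Injective (comb (l := l) t n) := by
  have hl : 0 < l ^ n := pow_pos (Fact.out : l.Prime).pos n
  haveI : NeZero (l ^ n) := ⟨hl.ne'⟩
  haveI : Finite (nsmulAddMonoidHom (α := G) (l ^ n)).ker := Nat.finite_of_card_ne_zero (by
    rw [hcard]; exact (pow_pos hl r).ne')
  let f : (Fin r → ZMod (l ^ n)) → (nsmulAddMonoidHom (α := G) (l ^ n)).ker := fun v => ⟨comb t n v, by
    show l ^ n • comb t n v = 0
    rw [comb, Finset.smul_sum]
    exact Finset.sum_eq_zero fun i _ => by rw [smul_comm, h0, smul_zero]⟩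
  have hs : Function.Surjective f := fun y => by
    obtain ⟨c, hc⟩ := exists_comb t h0 ht h1 n y.1 y.2
    exact ⟨fun i => (c i : ZMod (l ^ n)), Subtype.ext ((comb_natCast t h0 n c).trans hc.symm)⟩
  have hb := (Nat.bijective_iff_surjective_and_card f).2 ⟨hs, by
    rw [Nat.card_pi, Finset.prod_const, Nat.card_zmod, Finset.card_univ, Fintype.card_fin, hcard]⟩
  exact fun v w h => hb.1 (Subtype.ext h)

/-- A compatible sequence of residues is the reduction of an `l`-adic integer. -/
theorem exists_padicInt (x : ℕ → ℕ) (hx : ∀ n, x (n + 1) ≡ x n [MOD l ^ n]) :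
    ∃ a : ℤ_[l], ∀ n, a.appr n ≡ x n [MOD l ^ n] := by
  have hx' : ∀ {m n}, m ≤ n → x m ≡ x n [MOD l ^ m] := by
    intro m n h
    induction n, h using Nat.le_induction with
    | base => exact Nat.ModEq.refl _
    | succ n hmn ih => exact ih.trans ((hx n).symm.of_dvd (pow_dvd_pow l hmn))
  obtain ⟨a, ha⟩ := IsPrecomplete.prec (I := IsLocalRing.maximalIdeal ℤ_[l]) (M := ℤ_[l]) inferInstance
    (f := fun n => (x n : ℤ_[l])) (fun {m n} h => by
      rw [SModEq.sub_mem, smul_eq_mul, Ideal.mul_top, PadicInt.maximalIdeal_eq_span_p, Ideal.span_singleton_pow,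
        ← PadicInt.ker_toZModPow, RingHom.mem_ker, map_sub, map_natCast, map_natCast, sub_eq_zero,
        ZMod.natCast_eq_natCast_iff]
      exact hx' h)
  refine ⟨a, fun n => ?_⟩
  have h := ha n
  rw [SModEq.sub_mem, smul_eq_mul, Ideal.mul_top, PadicInt.maximalIdeal_eq_span_p, Ideal.span_singleton_pow,
    ← PadicInt.ker_toZModPow, RingHom.mem_ker, map_sub, map_natCast, sub_eq_zero] at h
  rw [← ZMod.natCast_eq_natCast_iff, h, ← AbDual.toZModPow_eq_appr]

end group

variable {k : Type u} [Field k] [IsAlgClosed k] {A : Over (Spec (CommRingCat.of k))} [GrpObj A] [IsProper A.hom]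
  [GeometricallyIntegral A.hom] [IsCommMonObj A]

/-- The Tate module is free of rank twice the dimension. -/
theorem exists_tateBasis (l : ℕ) [Fact l.Prime] (hl : (l : k) ≠ 0) (g : ℕ) (hg : topologicalKrullDim A.left = g) :
    Nonempty (Module.Basis (Fin (2 * g)) ℤ_[l] (AbDual.TateMod A l (Over.mk (𝟙 (Spec (CommRingCat.of k)))))) := by
  classical
  let T := Over.mk (𝟙 (Spec (CommRingCat.of k)))
  have hp : l.Prime := Fact.out
  have hcard : ∀ n, Nat.card (nsmulAddMonoidHom (α := Additive (T ⟶ A)) (l ^ n)).ker = (l ^ n) ^ (2 * g) := fun n => by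
    rw [← card_torsPts (n := l ^ n) (by rw [Nat.cast_pow]; exact pow_ne_zero n hl) g hg]
    exact Nat.card_congr
      { toFun := fun x => ⟨x.1.toMul, x.2⟩
        invFun := fun y => ⟨Additive.ofMul y.1, y.2⟩
        left_inv := fun _ => rfl
        right_inv := fun _ => rfl }
  obtain ⟨b, hb⟩ := GroupTorsion.exists_span (V := (nsmulAddMonoidHom (α := Additive (T ⟶ A)) l).ker)
    (p := l) (d := 2 * g) (by simpa using hcard 1) (fun x => Subtype.ext x.2)
  choose lift hlift using fun a : Additive (T ⟶ A) => exists_pow_eq (A := A) hp.pos a.toMul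
  let s : Fin (2 * g) → ℕ → Additive (T ⟶ A) := fun i n => Nat.rec 0
    (fun m prev => if m = 0 then (b i).1 else Additive.ofMul (lift prev)) n
  have ht : ∀ i n, l • s i (n + 1) = s i n := by
    intro i n
    rcases n with _ | n
    · exact (b i).2
    · show l • Additive.ofMul (lift (s i (n + 1))) = _
      exact congrArg Additive.ofMul (hlift (s i (n + 1)))
  have h0 : ∀ n i, l ^ n • s i n = 0 := by
    intro n i
    induction n with
    | zero => exact smul_zero _
    | succ n ih => rw [pow_succ, mul_nsmul', ht, ih]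
  let e : Fin (2 * g) → AbDual.TateMod A l T := fun i => ⟨s i, fun n => h0 n i, ht i⟩
  let t : ℕ → Fin (2 * g) → Additive (T ⟶ A) := fun n i => s i n
  have h1 : ∀ y : Additive (T ⟶ A), l • y = 0 → ∃ c : Fin (2 * g) → ℕ, y = ∑ i, c i • t 1 i := by
    intro y hy
    obtain ⟨c, hc⟩ := hb ⟨y, hy⟩
    refine ⟨c, ?_⟩
    have := congrArg Subtype.val hc
    rw [AddSubmonoidClass.coe_finset_sum] at this
    refine this.trans (Finset.sum_congr rfl fun i _ => ?_)
    rfl
  have hcomp : ∀ (c : Fin (2 * g) → ℤ_[l]) (n : ℕ),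
      ((∑ i, c i • e i : AbDual.TateMod A l T) : ℕ → Additive (T ⟶ A)) n = ∑ i, (c i).appr n • t n i := by
    intro c n
    show AbDual.TateMod.component A l T n _ = _
    rw [map_sum]
    rfl
  refine ⟨Module.Basis.mk (v := e) ?_ ?_⟩
  · rw [Fintype.linearIndependent_iff]
    intro c hc i
    refine PadicInt.ext_of_toZModPow.1 fun n => ?_
    have h := congrArg (fun x : AbDual.TateMod A l T => (x : ℕ → Additive (T ⟶ A)) n) hc
    have h' : ((∑ i, c i • e i : AbDual.TateMod A l T) : ℕ → Additive (T ⟶ A)) n = 0 := h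
    rw [hcomp, ← comb_natCast t h0 n] at h'
    clear h
    rename' h' => h
    have h' := comb_injective t h0 (fun n i => ht i n) h1 hcard n (a₁ := fun i => ((c i).appr n : ZMod (l ^ n))) (a₂ := 0)
      (h.trans (by simp [comb]))
    rw [AbDual.toZModPow_eq_appr, map_zero]
    exact congrFun h' i
  · intro y _
    choose x hx using fun n => exists_comb t h0 (fun n i => ht i n) h1 n ((y : ℕ → Additive (T ⟶ A)) n) (y.torsion n)
    have hcompat : ∀ i n, x (n + 1) i ≡ x n i [MOD l ^ n] := by
      intro i n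
      rw [← ZMod.natCast_eq_natCast_iff]
      refine congrFun (comb_injective t h0 (fun n i => ht i n) h1 hcard n
        (a₁ := fun i => (x (n + 1) i : ZMod (l ^ n))) (a₂ := fun i => (x n i : ZMod (l ^ n))) ?_) i
      rw [comb_natCast t h0, comb_natCast t h0, ← hx n, ← y.compat n, hx (n + 1), Finset.smul_sum]
      refine Finset.sum_congr rfl fun j _ => ?_
      show _ = l • (x (n + 1) j • s j (n + 1))
      rw [smul_comm, ht]
    choose c hc using fun i => exists_padicInt (l := l) (fun n => x n i) (hcompat i)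
    rw [Submodule.mem_span_range_iff_exists_fun]
    refine ⟨c, AbDual.TateMod.ext fun n => ?_⟩
    rw [hcomp, hx n]
    exact Finset.sum_congr rfl fun i _ => AbDual.nsmul_congr_of_modEq (h0 n i) (hc i n)

end Groth.Agent.H25AbCube
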