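import Groth.Agent.H25AbCube.HomIndep
import Groth.Agent.H25AbCube.Tate
import Groth.Agent.H19Grp.AbSchemeRigid

/-!
# The group of homomorphisms of abelian varieties is finitely generated
-/

set_option autoImplicit false
set_option linter.style.haveILetI false
set_option linter.unusedSectionVars false
set_option backward.isDefEq.respectTransparency false
universe u

open CategoryTheory CategoryTheory.Limits MonoidalCategory CartesianMonoidalCategory MonObj GrpObj AlgebraicGeometry
  TopologicalSpace
open Groth.Agent

noncomputable section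

namespace Groth.Agent.H25AbCube

section group

variable {G : Type*} [AddCommGroup G]

/-- A torsion free subgroup whose independent families are bounded and have bounded denominators is finitely
generated. -/
theorem fg_of_bounded (M : AddSubgroup G) (htf : ∀ (x : G) (m : ℤ), x ∈ M → m ≠ 0 → m • x = 0 → x = 0) (N : ℕ)
    (hN : ∀ (r : ℕ) (e : Fin r → G), (∀ i, e i ∈ M) → LinearIndependent ℤ e → r ≤ N)
    (hden : ∀ (r : ℕ) (e : Fin r → G), (∀ i, e i ∈ M) → LinearIndependent ℤ e → ∃ d : ℕ, 0 < d ∧
      ∀ (m : ℤ) (x : G) (a : Fin r → ℤ), m • x = ∑ i, a i • e i → ∀ i, m ∣ (d : ℤ) * a i) :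
    M.FG := by
  classical
  let P : ℕ → Prop := fun r => ∃ e : Fin r → G, (∀ i, e i ∈ M) ∧ LinearIndependent ℤ e
  have hP0 : P 0 := ⟨Fin.elim0, fun i => i.elim0, linearIndependent_empty_type⟩
  let r := Nat.findGreatest P N
  obtain ⟨e, heM, hli⟩ : P r := Nat.findGreatest_spec (P := P) (Nat.zero_le N) hP0
  obtain ⟨d, hd, hdvd⟩ := hden r e heM hli
  have key : ∀ x : M, (d : ℤ) • (x : G) ∈ Submodule.span ℤ (Set.range e) := by
    rintro ⟨x, hx⟩
    have hdep : ¬ LinearIndependent ℤ (Fin.cons x e : Fin (r + 1) → G) := fun h => by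
      have hle := hN (r + 1) _ (fun i => Fin.cases hx heM i) h
      exact Nat.findGreatest_is_greatest (P := P) (Nat.lt_succ_self r) hle
        ⟨Fin.cons x e, fun i => Fin.cases hx heM i, h⟩
    obtain ⟨g, hg, i, hi⟩ := Fintype.not_linearIndependent_iff.1 hdep
    rw [Fin.sum_univ_succ] at hg
    simp only [Fin.cons_zero, Fin.cons_succ] at hg
    have hm : g 0 ≠ 0 := fun h0 => by
      rw [h0, zero_smul, zero_add] at hg
      have := Fintype.linearIndependent_iff.1 hli _ hg
      exact hi (Fin.cases h0 this i)
    have hmx : g 0 • x = ∑ j, (-g j.succ) • e j := by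
      rw [eq_neg_of_add_eq_zero_left hg, ← Finset.sum_neg_distrib]
      exact Finset.sum_congr rfl fun j _ => (neg_smul _ _).symm
    choose b hb using fun j => hdvd (g 0) x _ hmx j
    rw [Submodule.mem_span_range_iff_exists_fun]
    refine ⟨b, sub_eq_zero.1 (htf _ (g 0) ?_ hm ?_)⟩
    · exact M.sub_mem (AddSubgroup.sum_mem _ fun j _ => M.zsmul_mem (heM j) _) (M.zsmul_mem hx _)
    · rw [smul_sub, Finset.smul_sum, sub_eq_zero, smul_comm (g 0) (d : ℤ) x, hmx, Finset.smul_sum]
      refine Finset.sum_congr rfl fun j _ => ?_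
      rw [smul_smul, smul_smul, hb j]
  let f : M →ₗ[ℤ] Submodule.span ℤ (Set.range e) :=
    { toFun := fun x => ⟨(d : ℤ) • (x : G), key x⟩
      map_add' := fun x y => Subtype.ext (smul_add _ _ _)
      map_smul' := fun c x => Subtype.ext (by
        show (d : ℤ) • (c • (x : G)) = c • ((d : ℤ) • (x : G))
        exact smul_comm _ _ _) }
  have hinj : Function.Injective f := (injective_iff_map_eq_zero f).2 fun x hx =>
    Subtype.ext (htf x.1 d x.2 (by exact_mod_cast hd.ne') (congrArg Subtype.val hx))
  haveI : Module.Finite ℤ (Submodule.span ℤ (Set.range e)) := Module.Finite.span_of_finite ℤ (Set.finite_range e)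
  haveI : Module.Finite ℤ M := Module.Finite.of_injective f hinj
  exact (AddGroup.fg_iff_addSubgroup_fg M).1 (Module.Finite.iff_addGroup_fg.1 ‹_›)

end group

variable {k : Type u} [Field k] {A B : Over (Spec (CommRingCat.of k))}

theorem isCommMonObj_of_av [GrpObj A] [IsProper A.hom] [GeometricallyIntegral A.hom] : IsCommMonObj A := by
  haveI : LocallyOfFinitePresentation A.hom := LocallyOfFinitePresentation.iff_locallyOfFiniteType.2 inferInstance
  haveI := geometricallyConnected_of_irreducible A.hom
  exact H19Grp.isCommMonObj_of_proper (X := A)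

variable [GrpObj A] [IsProper A.hom] [GeometricallyIntegral A.hom] [IsCommMonObj A]
  [GrpObj B] [IsProper B.hom] [GeometricallyIntegral B.hom] [IsCommMonObj B]

/-- The homomorphisms as a subgroup of all morphisms. -/
def homs (A B : Over (Spec (CommRingCat.of k))) [GrpObj A] [IsCommMonObj A] [GrpObj B] [IsCommMonObj B] :
    AddSubgroup (Additive (A ⟶ B)) where
  carrier := {x | IsMonHom x.toMul}
  zero_mem' := by show IsMonHom (1 : A ⟶ B); rw [Hom.one_def]; infer_instance
  add_mem' := fun {x y} hx hy => by
    show IsMonHom (x.toMul * y.toMul)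
    have := hx.out; have := hy.out
    rw [Hom.mul_def]; infer_instance
  neg_mem' := fun {x} hx => by
    show IsMonHom (x.toMul)⁻¹
    have := hx.out
    rw [← zpow_neg_one]
    exact H19Grp.isMonHom_zpow x.toMul (-1)

theorem eq_zero_of_smul_homs (x : Additive (A ⟶ B)) (m : ℤ) (hx : x ∈ homs A B) (hm : m ≠ 0) (h : m • x = 0) :
    x = 0 := by
  have h2 : m.natAbs • x = 0 := by
    rcases Int.natAbs_eq m with he | he <;> rw [he] at h
    · rwa [natCast_zsmul] at h
    · rwa [neg_smul, natCast_zsmul, neg_eq_zero] at h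
  haveI : IsMonHom x.toMul := hx
  exact Additive.toMul.injective (eq_one_of_pow_eq_one x.toMul (Int.natAbs_pos.2 hm) (congrArg Additive.toMul h2))

/-- A prime invertible in a field. -/
theorem exists_prime_ne_zero (k : Type*) [Field k] : ∃ l : ℕ, l.Prime ∧ (l : k) ≠ 0 := by
  by_cases h2 : ((2 : ℕ) : k) = 0
  · refine ⟨3, Nat.prime_three, fun h3 => one_ne_zero (α := k) ?_⟩
    calc (1 : k) = ((3 : ℕ) : k) - ((2 : ℕ) : k) := by push_cast; ring
      _ = 0 := by rw [h2, h3, sub_zero]
  · exact ⟨2, Nat.prime_two, h2⟩

variable [IsAlgClosed k]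

/-- At most `4gh` homomorphisms are linearly independent. -/
theorem card_le_of_linearIndependent {g h : ℕ} (hg : topologicalKrullDim A.left = g)
    (hh : topologicalKrullDim B.left = h) {n : ℕ} (e : Fin n → (A ⟶ B)) [∀ i, IsMonHom (e i)]
    (he : LinearIndependent ℤ (fun i => Additive.ofMul (e i))) : n ≤ 4 * g * h := by
  obtain ⟨l, hl, hlk⟩ := exists_prime_ne_zero k
  haveI := Fact.mk hl
  have hli := linearIndependent_tateMap l hlk e he
  obtain ⟨bA⟩ := exists_tateBasis (A := A) l hlk g hg
  obtain ⟨bB⟩ := exists_tateBasis (A := B) l hlk h hh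
  have := Module.Finite.of_basis bA
  have := Module.Finite.of_basis bB
  have := Module.Free.of_basis bA
  have := Module.Free.of_basis bB
  have h1 := hli.fintype_card_le_finrank
  rw [Fintype.card_fin, Module.finrank_linearMap, Module.finrank_eq_card_basis bA, Module.finrank_eq_card_basis bB,
    Fintype.card_fin, Fintype.card_fin] at h1
  exact h1.trans (le_of_eq (by ring))

/-- The homomorphisms form a finitely generated group. -/
theorem homs_fg : (homs A B).FG := by
  haveI : IsIntegral A.left := GeometricallyIntegral.isIntegral_of_subsingleton A.hom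
  haveI : IsIntegral B.left := GeometricallyIntegral.isIntegral_of_subsingleton B.hom
  obtain ⟨g, hg⟩ := H8Props.FieldDim.exists_nat_cdim A.hom (genericPoint A.left)
  obtain ⟨h, hh⟩ := H8Props.FieldDim.exists_nat_cdim B.hom (genericPoint B.left)
  have hdim : ∀ {C : Scheme.{u}} [IsIntegral C], topologicalKrullDim C =
      H8Props.FieldDim.cdim (genericPoint C) := fun {C} _ => by
    show _ = topologicalKrullDim (closure ({genericPoint C} : Set C))
    rw [genericPoint_closure]
    exact (Homeomorph.Set.univ C).isHomeomorph.topologicalKrullDim_eq.symm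
  refine fg_of_bounded _ eq_zero_of_smul_homs (4 * g * h) (fun r e heM hli => ?_) fun r e heM hli => ?_
  · haveI : ∀ i, IsMonHom (Additive.toMul (e i)) := fun i => heM i
    exact card_le_of_linearIndependent (hdim.trans hg) (hdim.trans hh) (fun i => Additive.toMul (e i)) hli
  · refine exists_dvd_of_separating e fun a ha => ?_
    haveI : IsMonHom (Additive.toMul (∑ i, a i • e i)) :=
      (homs A B).sum_mem fun i _ => (homs A B).zsmul_mem (heM i) _
    exact exists_functional (Additive.toMul (∑ i, a i • e i)) fun h1 =>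
      ha (funext (Fintype.linearIndependent_iff.1 hli a (Additive.toMul.injective h1)))

end Groth.Agent.H25AbCube
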