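import Groth.Agent.H25AbCube.KerCard
import Groth.Agent.H25AbCube.HomFG
import Groth.Agent.H25AbCube.Tate
import Groth.Agent.H19Grp.NormalPts
import Groth.Agent.H28Top.Dim

/-!
# A homomorphism is finite iff it is injective on Tate modules
-/

set_option autoImplicit false
set_option linter.style.haveILetI false
set_option linter.unusedSectionVars false
set_option backward.isDefEq.respectTransparency false
set_option synthInstance.maxHeartbeats 400000
set_option maxHeartbeats 1000000
universe u

open CategoryTheory CategoryTheory.Limits MonoidalCategory CartesianMonoidalCategory MonObj GrpObj AlgebraicGeometry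
  TopologicalSpace
open Groth.Agent

noncomputable section

namespace Groth.Agent.H25AbCube

section mono

variable {S : Scheme.{u}} {A B C : Over S} [GrpObj A] [IsCommMonObj A] [GrpObj B] [IsCommMonObj B] [GrpObj C]
  [IsCommMonObj C] {T : Over S} (l : ℕ) [Fact l.Prime]

theorem tateMap_comp_apply (f : A ⟶ B) [IsMonHom f] (g : B ⟶ C) [IsMonHom g] (x : AbDual.TateMod A l T) :
    AbDual.tateMapₗ (l := l) (T := T) (f ≫ g) x =
      AbDual.tateMapₗ (l := l) (T := T) g (AbDual.tateMapₗ (l := l) (T := T) f x) :=
  AbDual.TateMod.ext fun _ => congrArg Additive.ofMul (Category.assoc _ f g).symm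

theorem tateMap_injective_of_mono (i : A ⟶ B) [IsMonHom i] [Mono i] :
    Function.Injective (AbDual.tateMapₗ (l := l) (T := T) i) := fun x y h =>
  AbDual.TateMod.ext fun n => Additive.toMul.injective
    ((cancel_mono i).1 (congrArg (fun z : AbDual.TateMod B l T => ((z : ℕ → Additive (T ⟶ B)) n).toMul) h))

/-- The image of the Tate module of a subgroup is saturated. -/
theorem mem_range_of_smul_mem (i : A ⟶ B) [IsMonHom i] [Mono i] (y : AbDual.TateMod B l T)
    (h : l • y ∈ LinearMap.range (AbDual.tateMapₗ (l := l) (T := T) i)) :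
    y ∈ LinearMap.range (AbDual.tateMapₗ (l := l) (T := T) i) := by
  obtain ⟨x, hx⟩ := h
  let K : Additive (T ⟶ A) →+ Additive (T ⟶ B) :=
    AddMonoidHom.mk' (fun a => Additive.ofMul (a.toMul ≫ i)) fun a b => congrArg Additive.ofMul (MonObj.mul_comp _ _ i)
  have hK : Function.Injective K := fun a b hab => Additive.toMul.injective ((cancel_mono i).1 (congrArg Additive.toMul hab))
  have hy : ∀ n, K ((x : ℕ → Additive (T ⟶ A)) (n + 1)) = (y : ℕ → Additive (T ⟶ B)) n := fun n => by
    have := congrArg (fun z : AbDual.TateMod B l T => AbDual.TateMod.component B l T (n + 1) z) hx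
    simp only [map_nsmul] at this
    exact this.trans (y.compat n)
  refine ⟨⟨fun n => (x : ℕ → Additive (T ⟶ A)) (n + 1), fun n => ?_, fun n => x.compat _⟩, AbDual.TateMod.ext hy⟩
  refine hK ?_
  rw [map_nsmul, hy, y.torsion n, map_zero]

end mono

variable {k : Type u} [Field k] [IsAlgClosed k] {A B : Over (Spec (CommRingCat.of k))} [GrpObj A] [IsCommMonObj A]
  [IsProper A.hom] [GeometricallyIntegral A.hom] [GrpObj B] [IsCommMonObj B] [IsProper B.hom]
  [GeometricallyIntegral B.hom]

/-- A homomorphism which is not finite kills a positive dimensional abelian subvariety. -/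
theorem exists_abelian_in_kernel (α : A ⟶ B) [IsMonHom α] (h : ¬ IsFinite α.left) :
    ∃ (Z : Over (Spec (CommRingCat.of k))) (_ : GrpObj Z) (_ : IsProper Z.hom) (_ : GeometricallyIntegral Z.hom)
      (z : Z ⟶ A) (_ : IsMonHom z) (d : ℕ), Mono z ∧ z ≫ α = 1 ∧ 0 < d ∧ topologicalKrullDim Z.left = d := by
  haveI : Smooth A.hom := by
    haveI : GrpObj (Over.mk A.hom) := inferInstanceAs (GrpObj A)
    exact smooth_of_grpObj A.hom
  haveI : IsProper (α.left ≫ B.hom) := by rw [Over.w α]; infer_instance
  haveI : IsProper α.left := IsProper.of_comp α.left B.hom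
  obtain ⟨N, _, j, hj, hjc, hker⟩ := H19Grp.AffineQuotient.exists_kernel α
  haveI := hj; haveI := hjc
  obtain ⟨Z, gZ, z, hz, hzc, hsm, hconn, -, hdim⟩ := H19Grp.NormalPts.exists_reduced_component j
    (fun T x n => ⟨n, by rw [mul_comm x, mul_inv_cancel_right]⟩)
  haveI := hz; haveI := hzc; haveI := hsm; haveI := hconn
  haveI : IsClosedImmersion (z ≫ j).left := by rw [Over.comp_left]; infer_instance
  haveI : IsProper Z.hom := by rw [← Over.w (z ≫ j)]; infer_instance
  haveI : GeometricallyConnected Z.hom := H19Grp.geometricallyConnected_of_connectedSpace Z.hom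
  haveI : GeometricallyIntegral Z.hom := geometricallyIntegral_of_smooth Z
  haveI : IsIntegral Z.left := GeometricallyIntegral.isIntegral_of_subsingleton Z.hom
  obtain ⟨d, hd⟩ := H25Grp.exists_nat_dim Z.hom
  refine ⟨Z, gZ, inferInstance, inferInstance, z ≫ j, inferInstance, d, Over.mono_of_mono_left _,
    by rw [Category.assoc, H19Grp.kernel_comp_eq_one hker, MonObj.comp_one], Nat.pos_of_ne_zero ?_, hd⟩
  rintro rfl
  refine h ?_
  haveI : IsProper N.hom := by rw [← Over.w j]; infer_instance
  haveI : IsLocallyNoetherian N.left := LocallyOfFiniteType.isLocallyNoetherian N.hom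
  haveI : CompactSpace N.left := QuasiCompact.compactSpace_of_compactSpace N.hom
  haveI : IsNoetherian N.left := {}
  obtain ⟨_, _⟩ := H28Top.finite_discrete_of_dim_le_zero (X := N.left) (by rw [← hdim, hd]; simp)
  haveI : LocallyQuasiFinite N.hom := by
    rw [locallyQuasiFinite_iff_isDiscrete_preimage_singleton]
    exact fun y => ⟨inferInstance⟩
  haveI : LocallyQuasiFinite (pullback.snd α.left (η[B]).left) := by
    let K : Over (Spec (CommRingCat.of k)) := Over.mk (pullback.snd α.left (η[B]).left)
    have hKw : pullback.fst α.left (η[B]).left ≫ A.hom = K.hom := by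
      rw [← Over.w α, reassoc_of% (pullback.condition (f := α.left) (g := (η[B]).left)), Over.w η[B]]
      exact Category.comp_id _
    let iK : K ⟶ A := Over.homMk (pullback.fst α.left (η[B]).left) hKw
    obtain ⟨n, hn⟩ := H19Grp.kernel_lift hker iK (Over.OverMorphism.ext (pullback.condition.trans (H19Grp.one_left K).symm))
    haveI : IsSplitMono (η[B]).left := ⟨⟨⟨B.hom, Over.w η[B]⟩⟩⟩
    haveI : Mono iK.left := inferInstanceAs (Mono (pullback.fst α.left (η[B]).left))
    haveI : Mono (n ≫ j).left := by rw [hn]; infer_instance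
    haveI : Mono n.left := by
      rw [Over.comp_left] at *
      exact mono_of_mono n.left j.left
    haveI : LocallyOfFiniteType (n.left ≫ N.hom) := by
      rw [Over.w n]
      exact inferInstanceAs (LocallyOfFiniteType (pullback.snd α.left (η[B]).left))
    haveI : LocallyOfFiniteType n.left := locallyOfFiniteType_of_comp n.left N.hom
    show LocallyQuasiFinite K.hom
    rw [← Over.w n]
    infer_instance
  haveI := H19Grp.ArtinHom.lqf_of_kernel α ‹_›
  exact IsFinite.of_isProper_of_locallyQuasiFinite α.left

/-- A finite homomorphism is injective on Tate modules. -/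
theorem tateMap_injective_of_finite (l : ℕ) [Fact l.Prime] (hl : (l : k) ≠ 0) (α : A ⟶ B) [IsMonHom α]
    [IsFinite α.left] : Function.Injective (AbDual.tateMapₗ (l := l) (T := pt1 k) α) := by
  haveI : IsIntegral A.left := GeometricallyIntegral.isIntegral_of_subsingleton A.hom
  obtain ⟨g, hg⟩ := H25Grp.exists_nat_dim A.hom
  obtain ⟨b⟩ := exists_tateBasis (A := A) l hl g hg
  haveI : Module.Free ℤ_[l] (AbDual.TateMod A l (pt1 k)) := Module.Free.of_basis b
  let q := pullback.snd α.left (η[B]).left
  haveI : IsFinite q := inferInstance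
  haveI := discreteTopology_of_finite q
  haveI : CompactSpace ↥(𝟙_ (Over (Spec (CommRingCat.of k)))).left := inferInstanceAs (CompactSpace (PrimeSpectrum k))
  haveI : CompactSpace (pullback α.left (η[B]).left : Scheme.{u}) := QuasiCompact.compactSpace_of_compactSpace q
  haveI : Finite (pullback α.left (η[B]).left : Scheme.{u}) := finite_of_compact_of_discrete
  haveI : Finite ↥(ptsKer α) := Finite.of_equiv _ ((ptsKerEquiv α).trans (pointEquivClosedPoint q)).symm
  rw [injective_iff_map_eq_zero]
  intro x hx
  have hkill : Nat.card ↥(ptsKer α) • x = 0 := AbDual.TateMod.ext fun n => by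
    have hm : ((x : ℕ → Additive (pt1 k ⟶ A)) n).toMul ∈ ptsKer α :=
      congrArg (fun z : AbDual.TateMod B l (pt1 k) => ((z : ℕ → Additive (pt1 k ⟶ B)) n).toMul) hx
    have h1 := congrArg Subtype.val (pow_card_eq_one' (G := ↥(ptsKer α)) (x := ⟨_, hm⟩))
    show AbDual.TateMod.component A l (pt1 k) n (Nat.card ↥(ptsKer α) • x) = _
    rw [map_nsmul]
    exact congrArg Additive.ofMul h1
  rw [← Nat.cast_smul_eq_nsmul ℤ_[l]] at hkill
  exact (smul_eq_zero.1 hkill).resolve_left (Nat.cast_ne_zero.2 Nat.card_pos.ne')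

/-- Finiteness is injectivity on the Tate module. -/
theorem isFinite_iff_tateMap_injective (l : ℕ) [Fact l.Prime] (hl : (l : k) ≠ 0) (α : A ⟶ B) [IsMonHom α] :
    IsFinite α.left ↔ Function.Injective (AbDual.tateMapₗ (l := l) (T := pt1 k) α) := by
  refine ⟨fun h => tateMap_injective_of_finite l hl α, fun hinj => ?_⟩
  by_contra h
  obtain ⟨Z, _, _, _, z, _, d, hmono, hz, hd, hdim⟩ := exists_abelian_in_kernel α h
  haveI := hmono
  haveI : IsCommMonObj Z := isCommMonObj_of_av
  obtain ⟨b⟩ := exists_tateBasis (A := Z) l hl d hdim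
  refine b.ne_zero ⟨0, by omega⟩ (tateMap_injective_of_mono l z (hinj ?_))
  rw [map_zero, map_zero, ← tateMap_comp_apply]
  exact AbDual.TateMod.ext fun n => congrArg Additive.ofMul
    ((congrArg (((b ⟨0, by omega⟩ : ℕ → Additive (pt1 k ⟶ Z)) n).toMul ≫ ·) hz).trans (MonObj.comp_one _))

end Groth.Agent.H25AbCube
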