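import Groth.Agent.H25AbCube.TorsionStr
import Groth.Agent.H19Grp.Quotient

/-!
# Homomorphisms killing the torsion factor through multiplication
-/

set_option autoImplicit false
set_option linter.style.haveILetI false
set_option backward.isDefEq.respectTransparency false
universe u

open CategoryTheory CategoryTheory.Limits MonoidalCategory CartesianMonoidalCategory MonObj GrpObj AlgebraicGeometry
  TopologicalSpace
open Groth.Agent

noncomputable section

namespace Groth.Agent.H25AbCube

variable {k : Type u} [Field k] [IsAlgClosed k] {A B : Over (Spec (CommRingCat.of k))} [GrpObj A] [IsProper A.hom]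
  [GeometricallyIntegral A.hom] [IsCommMonObj A] [GrpObj B] [IsProper B.hom]

/-- A morphism over `k` from a reduced scheme of finite type is determined by the rational points. -/
theorem ext_of_points {X Y : Over (Spec (CommRingCat.of k))} [LocallyOfFiniteType X.hom] [IsReduced X.left]
    [IsSeparated Y.hom] [LocallyOfFiniteType Y.hom] (f g : X ⟶ Y)
    (h : ∀ a : Over.mk (𝟙 (Spec (CommRingCat.of k))) ⟶ X, a ≫ f = a ≫ g) : f = g := by
  refine Over.OverMorphism.ext ?_
  haveI : LocallyOfFiniteType (f.left ≫ Y.hom) := by rw [Over.w f]; infer_instance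
  refine ext_of_apply_eq Y.hom Set.univ isOpen_univ.isLocallyClosed dense_univ (fun x _ hx => ?_)
    ((Over.w f).trans (Over.w g).symm)
  have h1 := congrArg (fun φ => φ.left (IsLocalRing.closedPoint k))
    (h (Over.homMk (pointOfClosedPoint X.hom x hx) (pointOfClosedPoint_comp _ _ _)))
  simp only [Over.comp_left, Over.homMk_left, Scheme.Hom.comp_apply] at h1
  exact (congrArg f.left (pointOfClosedPoint_apply X.hom x hx _)).symm.trans
    (h1.trans (congrArg g.left (pointOfClosedPoint_apply X.hom x hx _)))

theorem isReduced_kerPow {n : ℕ} (hn : (n : k) ≠ 0) : IsReduced (kerPow A n) := by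
  have hn' : 0 < n := Nat.pos_of_ne_zero fun h => hn (by rw [h, Nat.cast_zero])
  haveI := isFinite_pow (A := A) hn'
  haveI := flat_pow (A := A) hn'
  haveI : Etale ((𝟙 A) ^ n : A ⟶ A).left := by
    have := H19Grp.etale_zpow_field' A (n : ℤ) (by rwa [Int.cast_natCast])
    rwa [zpow_natCast] at this
  let q := pullback.snd ((𝟙 A) ^ n : A ⟶ A).left (η[A]).left
  haveI : Etale q := MorphismProperty.pullback_snd _ _ inferInstance
  haveI : FormallyUnramified q := inferInstance
  haveI : ∀ z, _root_.IsReduced ((kerPow A n).presheaf.stalk z) := fun z => by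
    have h : H22Alg.FiniteDegree.mult (X := kerPow A n) q z = 1 := Groth.Agent.S15003.mult_eq_one q z
    rw [mult_eq_length] at h
    haveI : IsSimpleModule ((kerPow A n).presheaf.stalk z) ((kerPow A n).presheaf.stalk z) := by
      rw [← Module.length_eq_one_iff]
      rcases hl : Module.length ((kerPow A n).presheaf.stalk z) ((kerPow A n).presheaf.stalk z) with _ | m
      · rw [hl] at h; change (0 : ℕ) = 1 at h; omega
      · rw [hl] at h; exact congrArg _ h
    haveI : IsSimpleOrder (Ideal ((kerPow A n).presheaf.stalk z)) := IsSimpleModule.toIsSimpleOrder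
    have hF : IsField ((kerPow A n).presheaf.stalk z) := Ring.isField_iff_isSimpleOrder_ideal.2 ‹_›
    letI := hF.toField
    infer_instance
  exact isReduced_of_isReduced_stalk (kerPow A n)

/-- A homomorphism killing the `n`-torsion points is divisible by `n`, for invertible `n`. -/
theorem exists_eq_pow_comp {n : ℕ} (hn : (n : k) ≠ 0) (φ : A ⟶ B) [IsMonHom φ]
    (h : ∀ a : Over.mk (𝟙 (Spec (CommRingCat.of k))) ⟶ A, a ^ n = 1 → a ≫ φ = 1) :
    ∃ φ' : A ⟶ B, IsMonHom φ' ∧ φ = ((𝟙 A) ^ n : A ⟶ A) ≫ φ' := by
  have hn' : 0 < n := Nat.pos_of_ne_zero fun h0 => hn (by rw [h0, Nat.cast_zero])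
  let q : A ⟶ A := (𝟙 A) ^ n
  haveI : IsMonHom q := isMonHom_pow n
  haveI : IsFinite q.left := isFinite_pow hn'
  haveI : Flat q.left := flat_pow hn'
  haveI : Surjective q.left := surjective_pow hn'
  let K : Over (Spec (CommRingCat.of k)) := Over.mk (pullback.snd q.left (η[A]).left : kerPow A n ⟶ _)
  have hi : pullback.fst q.left (η[A]).left ≫ A.hom = pullback.snd q.left (η[A]).left := by
    rw [← Over.w q, reassoc_of% (pullback.condition (f := q.left) (g := (η[A]).left)), Over.w η[A]]
    exact Category.comp_id _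
  let i : K ⟶ A := Over.homMk (pullback.fst q.left (η[A]).left) hi
  haveI : IsReduced K.left := isReduced_kerPow hn
  haveI : LocallyOfFiniteType K.hom := inferInstanceAs (LocallyOfFiniteType (pullback.snd q.left (η[A]).left))
  have hker : i ≫ φ = 1 := ext_of_points _ _ fun a => by
    rw [MonObj.comp_one, ← Category.assoc]
    refine h _ ?_
    rw [← comp_pow_id]
    refine Over.OverMorphism.ext (Eq.trans ?_ (H19Grp.one_left _).symm)
    show (a.left ≫ pullback.fst q.left (η[A]).left) ≫ q.left = _
    rw [Category.assoc, pullback.condition, ← Category.assoc]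
    exact congrArg (· ≫ (η[A]).left) (Over.w a)
  obtain ⟨φ', hfac, -⟩ := H19Grp.existsUnique_desc_over q φ fun T a b hab => by
    have h1 : (a / b) ≫ q = 1 := by rw [GrpObj.div_comp, hab, div_self']
    let l : T ⟶ K := Over.homMk (pullback.lift (a / b).left T.hom
      ((congrArg (·.left) h1).trans (H19Grp.one_left _))) (pullback.lift_snd _ _ _)
    have h2 : a / b = l ≫ i := Over.OverMorphism.ext (pullback.lift_fst _ _ _).symm
    have h3 : (a / b) ≫ φ = 1 := by rw [h2, Category.assoc, hker, MonObj.comp_one]
    rwa [GrpObj.div_comp, div_eq_one] at h3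
  refine ⟨φ', ⟨?_, ?_⟩, hfac.symm⟩
  · rw [← IsMonHom.one_hom (f := q), Category.assoc, hfac, IsMonHom.one_hom]
  · have := H19Grp.epi_tensorHom_of_fpqc q q
    rw [← cancel_epi (q ⊗ₘ q), ← IsMonHom.mul_hom_assoc, hfac, tensorHom_comp_tensorHom_assoc,
      hfac, IsMonHom.mul_hom]

/-- Every torsion point is a component of an element of the Tate module. -/
theorem exists_tate_component (l : ℕ) [Fact l.Prime] {n : ℕ} (a : Over.mk (𝟙 (Spec (CommRingCat.of k))) ⟶ A)
    (ha : a ^ (l ^ n) = 1) :
    ∃ x : AbDual.TateMod A l (Over.mk (𝟙 (Spec (CommRingCat.of k)))),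
      (AbDual.TateMod.component A l _ n x).toMul = a := by
  classical
  let T := Over.mk (𝟙 (Spec (CommRingCat.of k)))
  choose lift hlift using fun b : Additive (T ⟶ A) => exists_pow_eq (A := A) (Fact.out : l.Prime).pos b.toMul
  let up : ℕ → Additive (T ⟶ A) := fun j => Nat.rec (Additive.ofMul a) (fun _ p => Additive.ofMul (lift p)) j
  have hup : ∀ j, l • up (j + 1) = up j := fun j => congrArg Additive.ofMul (hlift (up j))
  have hup' : ∀ j, l ^ (n + j) • up j = 0 := fun j => by
    induction j with
    | zero => exact congrArg Additive.ofMul ha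
    | succ j ih => rw [← add_assoc, pow_succ, mul_nsmul', hup, ih]
  let x : ℕ → Additive (T ⟶ A) := fun m => if m ≤ n then l ^ (n - m) • Additive.ofMul a else up (m - n)
  have hx : ∀ m, l • x (m + 1) = x m := fun m => by
    rcases lt_trichotomy m n with hm | rfl | hm
    · simp only [x, if_pos (Nat.succ_le_of_lt hm), if_pos hm.le]
      rw [← mul_nsmul', ← pow_succ', show n - (m + 1) + 1 = n - m by omega]
    · simp only [x, if_neg (Nat.not_succ_le_self m), if_pos le_rfl, Nat.sub_self, pow_zero, one_smul,
        Nat.add_sub_cancel_left]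
      exact hup 0
    · simp only [x, if_neg (show ¬ m + 1 ≤ n by omega), if_neg (not_le.2 hm), show m + 1 - n = (m - n) + 1 by omega]
      exact hup _
  have hx0 : ∀ m, l ^ m • x m = 0 := fun m => by
    rcases le_or_gt m n with hm | hm
    · simp only [x, if_pos hm, ← mul_nsmul', ← pow_add, show m + (n - m) = n by omega]
      exact congrArg Additive.ofMul ha
    · simp only [x, if_neg (not_le.2 hm)]
      have := hup' (m - n)
      rwa [show n + (m - n) = m by omega] at this
  refine ⟨⟨x, hx0, hx⟩, ?_⟩
  show (x n).toMul = a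
  simp only [x, if_pos le_rfl, Nat.sub_self, pow_zero, one_smul]
  rfl

/-- If the map on Tate modules is divisible by `l^n`, the homomorphism kills the `l^n`-torsion points. -/
theorem comp_eq_one_of_tate_dvd [IsCommMonObj B] (l : ℕ) [Fact l.Prime] (φ : A ⟶ B) [IsMonHom φ] {n : ℕ}
    (u : AbDual.TateMod A l (Over.mk (𝟙 (Spec (CommRingCat.of k)))) →ₗ[ℤ_[l]]
      AbDual.TateMod B l (Over.mk (𝟙 (Spec (CommRingCat.of k)))))
    (hu : AbDual.tateMapₗ (l := l) (T := Over.mk (𝟙 (Spec (CommRingCat.of k)))) φ = ((l : ℤ_[l]) ^ n) • u)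
    (a : Over.mk (𝟙 (Spec (CommRingCat.of k))) ⟶ A) (ha : a ^ (l ^ n) = 1) : a ≫ φ = 1 := by
  obtain ⟨x, hx⟩ := exists_tate_component l a ha
  have h := congrArg (fun z : AbDual.TateMod B l (Over.mk (𝟙 (Spec (CommRingCat.of k)))) =>
    AbDual.TateMod.component B l _ n z) (LinearMap.congr_fun hu x)
  simp only [LinearMap.smul_apply, ← Nat.cast_pow, Nat.cast_smul_eq_nsmul, map_nsmul] at h
  have h2 : AbDual.TateMod.component B l _ n (AbDual.tateMapₗ (l := l) φ x) = 0 :=
    h.trans (AbDual.TateMod.torsion (u x) n)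
  rw [← hx]
  exact congrArg Additive.toMul h2

end Groth.Agent.H25AbCube
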