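import Groth.Agent.H25AbCube.CurveDeg
import Groth.Agent.H25AbCube.HomFactor

/-!
# A homomorphism divisible by all powers of a prime is trivial
-/

set_option autoImplicit false
set_option linter.style.haveILetI false
set_option backward.isDefEq.respectTransparency false
universe u

open CategoryTheory CategoryTheory.Limits MonoidalCategory CartesianMonoidalCategory MonObj GrpObj AlgebraicGeometry
  TopologicalSpace
open Groth.Agent

noncomputable section

namespace Groth.Agent.H25AbCube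

variable {k : Type u} [Field k] [IsAlgClosed k] {A B : Over (Spec (CommRingCat.of k))} [GrpObj A] [IsProper A.hom]
  [GeometricallyIntegral A.hom] [IsCommMonObj A] [GrpObj B] [IsProper B.hom] [GeometricallyIntegral B.hom]

/-- The image of the unit. -/
abbrev zeroPt (B : Over (Spec (CommRingCat.of k))) [GrpObj B] : B.left :=
  (η[B]).left (IsLocalRing.closedPoint k)

theorem isClosed_zeroPt : IsClosed ({zeroPt B} : Set B.left) := by
  haveI : Subsingleton (𝟙_ (Over (Spec (CommRingCat.of k)))).left := inferInstanceAs (Subsingleton (PrimeSpectrum k))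
  haveI : IsClosedImmersion (η[B]).left := isClosedImmersion_of_comp_eq_id _ _ (Over.w η[B])
  have hr : Set.range (η[B]).left = {zeroPt B} :=
    Set.Subset.antisymm (by rintro _ ⟨t, rfl⟩; exact congrArg (η[B]).left (Subsingleton.elim _ _))
      (by rintro _ rfl; exact ⟨_, rfl⟩)
  exact hr ▸ (η[B]).left.isClosedEmbedding.isClosed_range

/-- A nontrivial homomorphism moves the generic point away from the zero. -/
theorem map_genericPoint_ne (φ : A ⟶ B) [IsIntegral A.left] (h : φ ≠ 1) :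
    φ.left (genericPoint A.left) ≠ zeroPt B := by
  intro he
  refine h (ext_of_points _ _ fun a => ?_)
  rw [MonObj.comp_one]
  refine Over.OverMorphism.ext (ext_of_apply_closedPoint_eq B.hom (Over.w (a ≫ φ)) (Over.w (1 : Over.mk (𝟙 _) ⟶ B)) ?_)
  have hs : φ.left (genericPoint A.left) ⤳ φ.left (a.left (IsLocalRing.closedPoint k)) :=
    (genericPoint_specializes _).map φ.left.continuous
  rw [he] at hs
  show φ.left (a.left (IsLocalRing.closedPoint k)) = _
  rw [hs.mem_closed isClosed_zeroPt rfl, H19Grp.one_left, Scheme.Hom.comp_apply]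
  exact congrArg (η[B]).left (Subsingleton.elim (α := PrimeSpectrum k) _ _)

/-- A homomorphism divisible by every power of a prime is trivial. -/
theorem eq_one_of_forall_dvd (φ : A ⟶ B) [IsMonHom φ] {l : ℕ} (hl : 1 < l)
    (h : ∀ n : ℕ, ∃ ψ : A ⟶ B, IsMonHom ψ ∧ φ = ((𝟙 A) ^ (l ^ n) : A ⟶ A) ≫ ψ) : φ = 1 := by
  haveI : IsIntegral A.left := GeometricallyIntegral.isIntegral_of_subsingleton A.hom
  by_contra hne
  letI : A.left.Over (Spec (CommRingCat.of k)) := ⟨A.hom⟩
  haveI : IsProper (A.left ↘ Spec (CommRingCat.of k)) := ‹IsProper A.hom›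
  haveI : CompactSpace B.left := QuasiCompact.compactSpace_of_compactSpace B.hom
  haveI : QuasiSeparatedSpace B.left := quasiSeparatedSpace_of_quasiSeparated B.hom
  obtain ⟨M, hM, hamp, hsymm⟩ := exists_ample_symm (A := B)
  have h0 : φ.left (zeroPt A) = zeroPt B := by
    rw [← Scheme.Hom.comp_apply, ← Over.comp_left, IsMonHom.one_hom]
  obtain ⟨C, i, _, _, hC, hpos⟩ := exists_curve_degHom_pos (k := k) φ.left (x := zeroPt A) isClosed_zeroPt
    (h0 ▸ isClosed_zeroPt) (by rw [h0]; exact map_genericPoint_ne φ hne) hamp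
  obtain ⟨D, hD⟩ : ∃ D : ℤ, degHom (k := k) hC (pullP i (pullP φ.left (pc M hamp.1))) = D := ⟨_, rfl⟩
  rw [hD] at hpos
  obtain ⟨n, hn⟩ : ∃ n, D.natAbs < l ^ n := ⟨D.natAbs, Nat.lt_pow_self hl⟩
  obtain ⟨ψ, hψ, hfac⟩ := h n
  haveI := hψ
  let N : PC A.left := ev (pc M hM) ψ
  have hN : ev N ((𝟙 A)⁻¹) = N := by
    show ev (ev (pc M hM) ψ) _ = _
    rw [ev_comp, show ((𝟙 A)⁻¹ : A ⟶ A) ≫ ψ = ψ ≫ (𝟙 B)⁻¹ by
      rw [GrpObj.inv_comp, Category.id_comp, GrpObj.comp_inv, Category.comp_id], ← ev_comp, hsymm]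
  have he : pullP φ.left (pc M hamp.1) = (l ^ n * l ^ n : ℕ) • N := by
    rw [← ev_pow_of_symm N hN (l ^ n), ev_comp, ← hfac]
    rfl
  rw [he, map_nsmul, map_nsmul, nsmul_eq_mul] at hD
  have hdvd : l ^ n ∣ D.natAbs := by
    have h1 : ((l ^ n : ℕ) : ℤ) ∣ D := by
      rw [← hD, Nat.cast_mul, _root_.mul_assoc]
      exact dvd_mul_right _ _
    exact Int.natCast_dvd.1 h1
  exact absurd (Nat.le_of_dvd (Int.natAbs_pos.2 hpos.ne') hdvd) (not_le.2 hn)

end Groth.Agent.H25AbCube
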