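import Groth.Agent.H25AbCube.SelfMap
import Groth.Agent.H25AbCube.HomTate
import Groth.Agent.H17.Image
import Groth.Agent.H8Props.FieldDimScheme
import Groth.Agent.H22Alg.GenCurves

/-!
# Density of the torsion points
-/

set_option autoImplicit false
set_option linter.style.haveILetI false
set_option linter.unusedSectionVars false
set_option backward.isDefEq.respectTransparency false
universe u

open CategoryTheory CategoryTheory.Limits MonoidalCategory CartesianMonoidalCategory MonObj GrpObj AlgebraicGeometry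
  TopologicalSpace
open Groth.Agent

noncomputable section

namespace Groth.Agent.H25AbCube

variable {k : Type u} [Field k] [IsAlgClosed k] {A : Over (Spec (CommRingCat.of k))} [GrpObj A] [IsProper A.hom]
  [GeometricallyIntegral A.hom] [IsCommMonObj A]

local notation "pt" => Over.mk (𝟙 (Spec (CommRingCat.of k)))

/-- The point underlying a rational point. -/
abbrev ptOf (a : pt ⟶ A) : A.left := a.left (IsLocalRing.closedPoint k)

theorem ptOf_injective : Function.Injective (ptOf (A := A)) := fun a b h =>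
  Over.OverMorphism.ext (ext_of_apply_closedPoint_eq A.hom (Over.w a) (Over.w b) h)

theorem ptOf_comp (a : pt ⟶ A) (φ : A ⟶ A) : φ.left (ptOf a) = ptOf (a ≫ φ) := rfl

/-- Translation by a rational point. -/
def tr (a : pt ⟶ A) : A ⟶ A := ((Over.homMk A.hom : A ⟶ pt) ≫ a) * 𝟙 A

theorem comp_tr (b a : pt ⟶ A) : b ≫ tr a = a * b := by
  rw [tr, MonObj.comp_mul, ← Category.assoc, Category.comp_id,
    show b ≫ (Over.homMk A.hom : A ⟶ pt) = 𝟙 _ from Over.OverMorphism.ext (Over.w b), Category.id_comp]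

theorem tr_comp_tr (a b : pt ⟶ A) : tr a ≫ tr b = tr (b * a) := by
  rw [tr, tr, MonObj.comp_mul, ← Category.assoc, Category.comp_id,
    show (((Over.homMk A.hom : A ⟶ pt) ≫ a) * 𝟙 A) ≫ (Over.homMk A.hom : A ⟶ pt) = Over.homMk A.hom from
      Over.OverMorphism.ext ((Over.w _).trans rfl), tr, MonObj.comp_mul, _root_.mul_assoc]

theorem tr_one : tr (1 : pt ⟶ A) = 𝟙 A := by rw [tr, MonObj.comp_one, _root_.one_mul]

theorem tr_left_inv (a : pt ⟶ A) (z : A.left) : (tr a⁻¹).left ((tr a).left z) = z := by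
  rw [← Scheme.Hom.comp_apply, ← Over.comp_left, tr_comp_tr, inv_mul_cancel, tr_one]; rfl

theorem tr_comp_pow (a : pt ⟶ A) {n : ℕ} (ha : a ^ n = 1) :
    tr a ≫ ((𝟙 A) ^ n : A ⟶ A) = ((𝟙 A) ^ n : A ⟶ A) := by
  rw [comp_pow_id, tr, mul_pow]
  have h : (((Over.homMk A.hom : A ⟶ pt) ≫ a)) ^ n = 1 := by
    rw [← comp_pow_id, Category.assoc, comp_pow_id, ha, MonObj.comp_one]
  rw [h, _root_.one_mul]

/-- The torsion points whose order is a power of `l`. -/
def torsSet (A : Over (Spec (CommRingCat.of k))) [GrpObj A] (l : ℕ) : Set A.left :=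
  {z | ∃ (n : ℕ) (a : pt ⟶ A), a ^ (l ^ n) = 1 ∧ ptOf a = z}

/-- A point of a closed set without proper generisation in it. -/
def IsGen (Z : Set A.left) (ξ : A.left) : Prop := ξ ∈ Z ∧ ∀ z ∈ Z, z ⤳ ξ → z = ξ

theorem exists_generic_finset (Z : Set A.left) (hZ : IsClosed Z) :
    {ξ | IsGen Z ξ}.Finite ∧ ∀ z ∈ Z, ∃ ξ, IsGen Z ξ ∧ ξ ⤳ z := by
  haveI : IsLocallyNoetherian A.left := LocallyOfFiniteType.isLocallyNoetherian A.hom
  haveI : CompactSpace A.left := QuasiCompact.compactSpace_of_compactSpace A.hom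
  haveI : IsNoetherian A.left := {}
  haveI : QuasiSober Z := hZ.isClosedEmbedding_subtypeVal.quasiSober
  obtain ⟨G, hGf, hG, hanti⟩ := H25Euler.exists_finite_generizing_antichain Z
  have hgen : ∀ ξ ∈ G, IsGen Z ξ.1 := fun ξ hξ => ⟨ξ.2, fun z hz hzξ => by
    obtain ⟨ζ, hζ, hζz⟩ := hG ⟨z, hz⟩
    have h1 : ζ ⤳ ξ := hζz.trans (Topology.IsInducing.subtypeVal.specializes_iff.1 hzξ)
    have h2 := hanti ζ hζ ξ hξ h1
    subst h2
    exact (hzξ.antisymm (Topology.IsInducing.subtypeVal.specializes_iff.2 hζz)).eq⟩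
  refine ⟨(hGf.image Subtype.val).subset fun ξ hξ => ?_, fun z hz => ?_⟩
  · obtain ⟨ζ, hζ, hζξ⟩ := hG ⟨ξ, hξ.1⟩
    exact ⟨ζ, hζ, hξ.2 ζ.1 ζ.2 (Topology.IsInducing.subtypeVal.specializes_iff.2 hζξ)⟩
  · obtain ⟨ζ, hζ, hζz⟩ := hG ⟨z, hz⟩
    exact ⟨ζ.1, hgen ζ hζ, Topology.IsInducing.subtypeVal.specializes_iff.2 hζz⟩

/-- Torsion points of prime power order are dense. -/
theorem dense_torsSet (l : ℕ) [Fact l.Prime] (hl : (l : k) ≠ 0) : Dense (torsSet A l) := by
  classical
  have hp : l.Prime := Fact.out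
  haveI : IsIntegral A.left := GeometricallyIntegral.isIntegral_of_subsingleton A.hom
  letI : A.left.Over (Spec (CommRingCat.of k)) := ⟨A.hom⟩
  haveI : IsProper (A.left ↘ Spec (CommRingCat.of k)) := ‹IsProper A.hom›
  haveI : CompactSpace A.left := QuasiCompact.compactSpace_of_compactSpace A.hom
  haveI : IsLocallyNoetherian A.left := LocallyOfFiniteType.isLocallyNoetherian A.hom
  haveI : IsNoetherian A.left := {}
  rw [dense_iff_closure_eq]
  by_contra hne
  let Z := closure (torsSet A l)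
  have hZ : IsClosed Z := isClosed_closure
  -- translations preserve the closure
  have htrZ : ∀ (n : ℕ) (a : pt ⟶ A), a ^ (l ^ n) = 1 → ∀ z ∈ Z, (tr a).left z ∈ Z := by
    intro n a ha z hz
    refine closure_mono ?_ (image_closure_subset_closure_image (tr a).left.continuous ⟨z, hz, rfl⟩)
    rintro _ ⟨_, ⟨m, b, hb, rfl⟩, rfl⟩
    exact ⟨n + m, a * b, by rw [mul_pow, pow_add, pow_mul, ha, one_pow, _root_.one_mul, mul_comm (l ^ n), pow_mul, hb, one_pow],
      by rw [ptOf_comp, comp_tr]⟩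
  have htrG : ∀ (n : ℕ) (a : pt ⟶ A), a ^ (l ^ n) = 1 → ∀ ξ, IsGen Z ξ → IsGen Z ((tr a).left ξ) := by
    intro n a ha ξ hξ
    refine ⟨htrZ n a ha ξ hξ.1, fun z hz hzξ => ?_⟩
    have hi : (a⁻¹) ^ (l ^ n) = 1 := by rw [inv_pow, ha, inv_one]
    have h := hξ.2 _ (htrZ n a⁻¹ hi z hz) (tr_left_inv a ξ ▸ hzξ.map (tr a⁻¹).left.continuous)
    rw [← h]
    have := tr_left_inv a⁻¹ z
    rw [_root_.inv_inv] at this
    exact this.symm
  -- multiplication by `l` permutes the components
  let φ : A ⟶ A := (𝟙 A) ^ l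
  haveI : IsFinite φ.left := isFinite_pow hp.pos
  have hφZ : φ.left '' Z = Z := by
    rw [← φ.left.isClosedMap.closure_image_eq_of_continuous φ.left.continuous]
    congr 1
    ext z
    constructor
    · rintro ⟨_, ⟨n, a, ha, rfl⟩, rfl⟩
      refine ⟨n, a ^ l, by rw [← pow_mul, mul_comm, pow_mul, ha, one_pow], ?_⟩
      rw [ptOf_comp, comp_pow_id]
    · rintro ⟨n, a, ha, rfl⟩
      obtain ⟨b, hb⟩ := exists_pow_eq hp.pos a
      exact ⟨ptOf b, ⟨n + 1, b, by rw [pow_succ', pow_mul, hb, ha], rfl⟩, by rw [ptOf_comp, comp_pow_id, hb]⟩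
  obtain ⟨hfin, hcov⟩ := exists_generic_finset Z hZ
  let G := {ξ | IsGen Z ξ}
  have hsub : ∀ ξ' ∈ G, ∃ ξ ∈ G, φ.left ξ = ξ' := fun ξ' hξ' => by
    obtain ⟨z, hz, hzξ⟩ : ξ' ∈ φ.left '' Z := by rw [hφZ]; exact hξ'.1
    obtain ⟨ξ, hξ, hξz⟩ := hcov z hz
    exact ⟨ξ, hξ, hξ'.2 _ (hφZ ▸ ⟨ξ, hξ.1, rfl⟩) (hzξ ▸ hξz.map φ.left.continuous)⟩
  haveI : Finite G := hfin.to_subtype
  choose s hs hs' using hsub
  have hsbij : Function.Bijective (fun ξ : G => (⟨s ξ.1 ξ.2, hs ξ.1 ξ.2⟩ : G)) := by
    refine Finite.injective_iff_bijective.1 fun a b h => Subtype.ext ?_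
    rw [← hs' a.1 a.2, ← hs' b.1 b.2]
    exact congrArg φ.left (congrArg Subtype.val h)
  have hφG : ∀ ξ ∈ G, φ.left ξ ∈ G := fun ξ hξ => by
    obtain ⟨ξ', h⟩ := hsbij.2 ⟨ξ, hξ⟩
    rw [← show s ξ'.1 ξ'.2 = ξ from congrArg Subtype.val h, hs']
    exact ξ'.2
  let σ : G → G := fun ξ => ⟨φ.left ξ.1, hφG ξ.1 ξ.2⟩
  have hσ : Function.Injective σ := Finite.injective_iff_surjective.2 fun ξ =>
    ⟨⟨s ξ.1 ξ.2, hs ξ.1 ξ.2⟩, Subtype.ext (hs' ξ.1 ξ.2)⟩
  obtain ⟨m, hm, hper⟩ : ∃ m, 0 < m ∧ ∀ ξ : G, σ^[m] ξ = ξ := by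
    let e : Equiv.Perm G := Equiv.ofBijective σ ⟨hσ, Finite.injective_iff_surjective.1 hσ⟩
    haveI : Fintype G := Fintype.ofFinite G
    refine ⟨orderOf e, orderOf_pos e, fun ξ => ?_⟩
    have := congrArg (fun p : Equiv.Perm G => p ξ) (pow_orderOf_eq_one e)
    exact (congrFun (Equiv.Perm.coe_pow e (orderOf e)) ξ).symm.trans this
  -- choose a component
  obtain ⟨ξ, hξ, -⟩ := hcov (ptOf (1 : pt ⟶ A)) (subset_closure ⟨0, 1, one_pow _, rfl⟩)
  have hpowfix : ∀ j : ℕ, ((𝟙 A) ^ (l ^ (m * j)) : A ⟶ A).left ξ = ξ := by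
    have hiter : ∀ r : ℕ, ((𝟙 A) ^ (l ^ r) : A ⟶ A).left ξ = (σ^[r] ⟨ξ, hξ⟩).1 := by
      intro r
      induction r with
      | zero => rw [pow_zero, pow_one]; rfl
      | succ r ih =>
        rw [Function.iterate_succ_apply', pow_succ, pow_mul, ← comp_pow_id, Over.comp_left, Scheme.Hom.comp_apply, ih]
    intro j
    rw [hiter, Function.iterate_mul]
    exact congrArg Subtype.val (Function.iterate_fixed (hper ⟨ξ, hξ⟩) j)
  -- the component as a variety
  let J := Scheme.IdealSheafData.vanishingIdeal (H22Alg.DevLength.cl ξ)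
  let i := J.subschemeι
  have hri : Set.range i = closure {ξ} := H17.range_vanishingIdeal_subschemeι _
  obtain ⟨w, hw⟩ : ξ ∈ Set.range i := by rw [hri]; exact subset_closure rfl
  haveI : IrreducibleSpace J.subscheme := by
    have h1 : closure ({w} : Set J.subscheme) = Set.univ := Set.eq_univ_of_forall fun y => by
      refine (i.isEmbedding.isInducing.specializes_iff.1 ?_).mem_closure
      rw [hw, specializes_iff_mem_closure]
      have h' := Set.mem_range_self (f := i) y
      rw [hri] at h'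
      exact h'
    exact (irreducibleSpace_def _).2 (by
      have h2 := (isIrreducible_singleton (x := w)).closure
      rw [h1] at h2
      exact h2)
  haveI : IsReduced J.subscheme := H17.isReduced_vanishingIdeal_subscheme _
  haveI : IsIntegral J.subscheme := isIntegral_of_irreducibleSpace_of_isReduced _
  letI : J.subscheme.Over (Spec (CommRingCat.of k)) := ⟨i ≫ A.hom⟩
  haveI : IsProper (J.subscheme ↘ Spec (CommRingCat.of k)) := inferInstanceAs (IsProper (i ≫ A.hom))
  haveI : JacobsonSpace J.subscheme := LocallyOfFiniteType.jacobsonSpace (J.subscheme ↘ Spec (CommRingCat.of k))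
  obtain ⟨g, hgA⟩ := H8Props.FieldDim.exists_nat_cdim A.hom (genericPoint A.left)
  obtain ⟨d, hd⟩ := H8Props.FieldDim.exists_nat_cdim A.hom ξ
  have hW : topologicalKrullDim J.subscheme = d := by
    rw [← hd, i.isClosedEmbedding.isEmbedding.toHomeomorph.isHomeomorph.topologicalKrullDim_eq, hri]
    rfl
  have hAg : topologicalKrullDim A.left = g := by
    rw [← hgA]
    show _ = topologicalKrullDim (closure ({genericPoint A.left} : Set A.left))
    rw [genericPoint_closure]
    exact (Homeomorph.Set.univ A.left).isHomeomorph.topologicalKrullDim_eq.symm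
  have hdg : d < g := by
    have hne' : genericPoint A.left ≠ ξ := fun h => hne (Set.eq_univ_of_forall fun z =>
      hZ.closure_subset_iff.2 (Set.singleton_subset_iff.2 hξ.1) (h ▸ (genericPoint_specializes z).mem_closure))
    have := H8Props.FieldDim.cdim_lt A.hom (genericPoint_specializes ξ) hne'
    rw [hd, hgA] at this
    exact_mod_cast this
  obtain ⟨L, hL, hamp, hsymm⟩ := exists_ample_symm (A := A)
  have hampW : CohB1.IsAmple ((Scheme.Modules.pullback i).obj L) := H11Ample.isAmple_pullback_of_isAffineHom i hamp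
  -- the bound
  have key : ∀ j : ℕ, (l ^ (m * j)) ^ (2 * g) ≤ Nat.card G * (l ^ (m * j)) ^ (2 * d) := by
    intro j
    let N := l ^ (m * j)
    have hN : 0 < N := pow_pos hp.pos _
    have hNk : (N : k) ≠ 0 := by rw [Nat.cast_pow]; exact pow_ne_zero _ hl
    let ψA : A ⟶ A := (𝟙 A) ^ N
    haveI : IsFinite ψA.left := isFinite_pow hN
    obtain ⟨ψ, hψ⟩ := H17.exists_lift_of_range_subset (i ≫ ψA.left) i (by
      rintro _ ⟨y, rfl⟩
      have hy := Set.mem_range_self (f := i) y
      rw [hri] at hy ⊢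
      rw [Scheme.Hom.comp_apply]
      refine Specializes.mem_closure ?_
      rw [← hpowfix j]
      exact (specializes_iff_mem_closure.2 hy).map ψA.left.continuous)
    haveI : IsFinite (ψ ≫ i) := hψ ▸ inferInstance
    haveI : IsFinite ψ := IsFinite.of_comp ψ i
    have hc : pullP ψ (pc _ hampW.1) = (N * N) • pc _ hampW.1 := by
      rw [pullP_pc i L hL, pullP_pullP, hψ, ← pullP_pullP,
        show pullP ψA.left (pc L hL) = (N * N) • pc L hL from ev_pow_of_symm _ hsymm N, map_nsmul]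
    have hrank := genRank_push_of_pullback (k := k) ψ (by
      show ψ ≫ i ≫ A.hom = i ≫ A.hom
      rw [← Category.assoc, hψ, Category.assoc, Over.w]) hampW hc hW
    obtain ⟨y, hy, hcard⟩ := exists_fibre_card_le ψ
    rw [hrank] at hcard
    obtain ⟨q, hqy⟩ : ∃ q, ψ q = y := by
      have hsur : w ∈ Set.range ψ := ⟨w, i.isEmbedding.injective (by
        rw [← Scheme.Hom.comp_apply, hψ, Scheme.Hom.comp_apply, hw]; exact hpowfix j)⟩
      have hspec : w ⤳ y := by
        refine i.isEmbedding.isInducing.specializes_iff.1 ?_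
        rw [hw, specializes_iff_mem_closure, ← hri]
        exact ⟨y, rfl⟩
      exact hspec.mem_closed ψ.isClosedMap.isClosed_range hsur
    haveI : CompactSpace J.subscheme := hampW.2.1
    obtain ⟨q', hq'y, hq'⟩ := IsClosed.exists_closed_singleton (hy.preimage ψ.continuous) ⟨q, hqy⟩
    have hiq : IsClosed ({i q'} : Set A.left) := by
      rw [← Set.image_singleton]; exact i.isClosedEmbedding.isClosedMap _ hq'
    let c : pt ⟶ A := Over.homMk (pointOfClosedPoint A.hom (i q') hiq) (pointOfClosedPoint_comp _ _ _)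
    have hcq : ptOf c = i q' := pointOfClosedPoint_apply A.hom (i q') hiq _
    let Tn := AbDual.torsPts A N pt
    haveI : Finite Tn := finite_torsPts hN
    let orb : Tn → G := fun a => ⟨(tr a.1).left ξ, htrG (m * j) a.1 a.2 ξ hξ⟩
    let Hs := {a : Tn // (tr a.1).left ξ = ξ}
    have hH : Nat.card Hs ≤ (N * N) ^ d := by
      let F : Hs → ψ ⁻¹' {y} := fun a => by
        have hmem : (tr a.1.1).left (i q') ∈ Set.range i := by
          rw [hri]
          refine Specializes.mem_closure ?_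
          have h1 : ξ ⤳ i q' := by rw [specializes_iff_mem_closure, ← hri]; exact ⟨q', rfl⟩
          have h2 := h1.map (tr a.1.1).left.continuous
          rwa [a.2] at h2
        refine ⟨hmem.choose, ?_⟩
        have h2 : i (ψ hmem.choose) = i y := by
          rw [← Scheme.Hom.comp_apply, hψ, Scheme.Hom.comp_apply, hmem.choose_spec, ← Scheme.Hom.comp_apply,
            ← Over.comp_left, tr_comp_pow _ a.1.2, ← hq'y, ← Scheme.Hom.comp_apply, ← Scheme.Hom.comp_apply, hψ]
        exact i.isEmbedding.injective h2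
      have hF : Function.Injective F := fun a b h => by
        have h1 := congrArg (fun z : ψ ⁻¹' {y} => i z.1) h
        simp only [F] at h1
        generalize_proofs pa pb at h1
        rw [pa.choose_spec, pb.choose_spec, ← hcq, ptOf_comp, ptOf_comp, comp_tr, comp_tr] at h1
        exact Subtype.ext (Subtype.ext (mul_right_cancel (ptOf_injective h1)))
      have hle : ENat.card Hs ≤ (((N * N) ^ d : ℕ) : ℕ∞) := (ENat.card_le_card_of_injective hF).trans hcard
      haveI : Finite Hs := inferInstance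
      rw [ENat.card_eq_coe_natCard, Nat.cast_le] at hle
      exact hle
    have hcardT : Nat.card Tn ≤ Nat.card G * (N * N) ^ d := by
      haveI : Fintype Tn := Fintype.ofFinite _
      haveI : Fintype G := Fintype.ofFinite _
      rw [Nat.card_eq_fintype_card, Nat.card_eq_fintype_card, ← Finset.card_univ, ← Finset.card_univ (α := G),
        Finset.card_eq_sum_card_fiberwise (f := orb) (t := Finset.univ) (fun _ _ => Finset.mem_univ _)]
      refine (Finset.sum_le_card_nsmul _ _ ((N * N) ^ d) fun t₀ _ => ?_).trans (le_of_eq (smul_eq_mul _ _))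
      rcases Finset.eq_empty_or_nonempty (Finset.univ.filter fun a => orb a = t₀) with he | ⟨a₀, ha₀⟩
      · rw [he]; simp
      refine le_trans ?_ hH
      rw [Nat.card_eq_fintype_card, ← Finset.card_univ]
      refine Finset.card_le_card_of_injOn (fun a => if h : orb a = t₀ then
        (⟨a₀⁻¹ * a, ?_⟩ : Hs) else ⟨1, ?_⟩) (fun _ _ => Finset.mem_univ _) ?_
      · have h0 : orb a₀ = t₀ := (Finset.mem_filter.1 ha₀).2
        have he : (tr a.1).left ξ = (tr a₀.1).left ξ := congrArg Subtype.val (h.trans h0.symm)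
        show (tr (a₀.1⁻¹ * a.1)).left ξ = ξ
        rw [← tr_comp_tr, Over.comp_left, Scheme.Hom.comp_apply, he, tr_left_inv]
      · show (tr (1 : pt ⟶ A)).left ξ = ξ
        rw [tr_one]; rfl
      · intro a ha b hb hab
        simp only [Finset.coe_filter, Set.mem_ofPred_eq] at ha hb
        simp only [dif_pos ha.2, dif_pos hb.2] at hab
        exact mul_left_cancel (congrArg Subtype.val hab)
    rw [card_torsPts hNk g hAg, ← pow_two, ← pow_mul N 2 d] at hcardT
    exact hcardT
  -- conclusion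
  obtain ⟨j, hj⟩ : ∃ j, Nat.card G < l ^ (m * j) :=
    ⟨Nat.card G, lt_of_lt_of_le (Nat.lt_pow_self hp.one_lt) (Nat.pow_le_pow_right hp.pos (Nat.le_mul_of_pos_left _ hm))⟩
  have h := key j
  set N := l ^ (m * j) with hN
  have hN1 : 1 ≤ N := Nat.one_le_pow _ _ hp.pos
  have : N ^ (2 * d) * N ≤ N ^ (2 * g) := by
    rw [← pow_succ]; exact Nat.pow_le_pow_right hN1 (by omega)
  have h2 : N ^ (2 * d) * N ≤ Nat.card G * N ^ (2 * d) := this.trans h
  rw [mul_comm (Nat.card G)] at h2
  have := Nat.le_of_mul_le_mul_left h2 (pow_pos hN1 _)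
  omega

end Groth.Agent.H25AbCube
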