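import Groth.Agent.H25AbCube.Abelian
import Groth.Agent.H12Pic.SeesawScheme
import Groth.Agent.H12Pic.IntegralFibres

/-!
# The seesaw principle from rational slices, and translation invariant classes
-/

set_option autoImplicit false
set_option linter.style.haveILetI false
set_option backward.isDefEq.respectTransparency false
universe u

open CategoryTheory CategoryTheory.Limits MonoidalCategory CartesianMonoidalCategory MonObj AlgebraicGeometry
open Groth.Agent

noncomputable section

namespace Groth.Agent.H25AbCube

variable {k : Type u} [Field k] [IsAlgClosed k]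

/-- A class trivial on all rational slices comes from the base. -/
theorem eq_ev_snd_of_slices (A T : Over (Spec (CommRingCat.of k))) [IsProper A.hom] [GeometricallyIntegral A.hom]
    [LocallyOfFiniteType T.hom] [IsReduced T.left] (u : PC (A ⊗ T).left)
    (h : ∀ t : 𝟙_ _ ⟶ T, ev u (lift (𝟙 A) (toUnit A ≫ t)) = 0) : ∃ N : PC T.left, u = ev N (snd A T) := by
  obtain ⟨L, hL, rfl⟩ := exists_rep u
  let f := pullback.snd A.hom T.hom
  haveI : IsProper f := MorphismProperty.pullback_snd (P := @IsProper) _ _ inferInstance
  haveI : Flat f := MorphismProperty.pullback_snd (P := @Flat) _ _ inferInstance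
  haveI : LocallyOfFinitePresentation A.hom :=
    LocallyOfFinitePresentation.iff_locallyOfFiniteType.2 inferInstance
  haveI : LocallyOfFinitePresentation f :=
    MorphismProperty.pullback_snd (P := @LocallyOfFinitePresentation) _ _ inferInstance
  haveI : GeometricallyIntegral f := MorphismProperty.pullback_snd (P := @GeometricallyIntegral) _ _ inferInstance
  have hint : ∀ s, IsIntegral (f.fiber s) := fun s => inferInstance
  have hK : ∀ s, IsIso (f.fiberToSpecResidueField s).appTop := fun s =>
    H12Pic.isIso_appTop_fiber_of_geomIntegral f s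
  obtain ⟨Z, ιZ, hι, hZ⟩ := H12Pic.exists_seesaw_subscheme f hint hK hL
  haveI := hι
  haveI : JacobsonSpace T.left := LocallyOfFiniteType.jacobsonSpace T.hom
  haveI : Surjective ιZ := by
    have hcl : ∀ x : T.left, IsClosed ({x} : Set T.left) → x ∈ Set.range ιZ := by
      intro x hx
      let p := (pointEquivClosedPoint T.hom).symm ⟨x, hx⟩
      let t : 𝟙_ _ ⟶ T := Over.homMk p.1 p.2
      let N₀ := Coh.structureModule (Spec (CommRingCat.of k))
      have hN₀ : PicF.IsInvertible N₀ := H11Ample.isInvertible_structureModule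
      obtain ⟨u', hu'⟩ := (hZ (Spec (CommRingCat.of k)) t.left).2 ⟨N₀, hN₀, by
        refine (pc_eq_iff (H11Ample.isInvertible_pullback _ hL) (H11Ample.isInvertible_pullback _ hN₀)).1 ?_
        rw [pullP_pc _ L hL, pullP_pc _ N₀ hN₀, pc_one, map_zero]
        let e : pullback f t.left ⟶ A.left := pullback.fst f t.left ≫ pullback.fst A.hom T.hom
        have he : pullback.fst f t.left = e ≫ (lift (𝟙 A) (toUnit A ≫ t)).left := by
          apply pullback.hom_ext
          · have : (lift (𝟙 A) (toUnit A ≫ t)).left ≫ (fst A T).left = 𝟙 _ :=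
              congrArg Over.Hom.left (lift_fst (𝟙 A) (toUnit A ≫ t))
            show _ = (e ≫ _) ≫ (fst A T).left
            rw [Category.assoc, this, Category.comp_id]
          · have : (lift (𝟙 A) (toUnit A ≫ t)).left ≫ (snd A T).left = A.hom ≫ t.left :=
              congrArg Over.Hom.left (lift_snd (𝟙 A) (toUnit A ≫ t))
            show pullback.fst f t.left ≫ f = (e ≫ _) ≫ (snd A T).left
            have h3 : pullback.snd f t.left = e ≫ A.hom := by
              show _ = (pullback.fst f t.left ≫ pullback.fst A.hom T.hom) ≫ A.hom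
              rw [Category.assoc, pullback.condition, ← Category.assoc, pullback.condition, Category.assoc, Over.w t]
              exact (Category.comp_id _).symm
            rw [Category.assoc, this, pullback.condition, h3, Category.assoc]
        rw [he, ← pullP_pullP]
        exact (congrArg _ (h t)).trans (map_zero _)⟩
      refine ⟨u' (IsLocalRing.closedPoint k), ?_⟩
      have : (u' ≫ ιZ) (IsLocalRing.closedPoint k) = x := by
        rw [hu']
        exact congrArg Subtype.val ((pointEquivClosedPoint T.hom).apply_symm_apply ⟨x, hx⟩)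
      exact this
    refine ⟨fun x => ?_⟩
    by_contra hx
    obtain ⟨y, hy, hyc⟩ := nonempty_inter_closedPoints (Z := (Set.range ιZ)ᶜ) ⟨x, hx⟩
      ιZ.isClosedEmbedding.isClosed_range.isOpen_compl.isLocallyClosed
    exact hy (hcl y hyc)
  haveI : IsIso ιZ := isIso_of_isClosedImmersion_of_surjective ιZ
  obtain ⟨N, hN, ⟨φ⟩⟩ := (hZ T.left (𝟙 _)).1 ⟨inv ιZ, IsIso.inv_hom_id ιZ⟩
  refine ⟨pc N hN, ?_⟩
  have := (pc_eq_iff (H11Ample.isInvertible_pullback _ hL) (H11Ample.isInvertible_pullback _ hN)).2 ⟨φ⟩
  rw [pullP_pc _ L hL, pullP_pc _ N hN] at this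
  let j : pullback A.hom T.hom ⟶ pullback f (𝟙 T.left) := pullback.lift (𝟙 _) f (by simp)
  have h2 := congrArg (pullP j) this
  rw [pullP_pullP, pullP_pullP, pullback.lift_fst, pullback.lift_snd] at h2
  exact (pullP_id _).symm.trans h2

/-- A class trivial on the rational slices and on one slice over the base is zero. -/
theorem eq_zero_of_slices (A T : Over (Spec (CommRingCat.of k))) [IsProper A.hom] [GeometricallyIntegral A.hom]
    [LocallyOfFiniteType T.hom] [IsReduced T.left] (u : PC (A ⊗ T).left) (a : 𝟙_ _ ⟶ A)
    (h : ∀ t : 𝟙_ _ ⟶ T, ev u (lift (𝟙 A) (toUnit A ≫ t)) = 0)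
    (h' : ev u (lift (toUnit T ≫ a) (𝟙 T)) = 0) : u = 0 := by
  obtain ⟨N, rfl⟩ := eq_ev_snd_of_slices A T u h
  rw [ev_comp, lift_snd] at h'
  rw [show N = 0 from (pullP_id N).symm.trans h']
  exact map_zero _

variable {A : Over (Spec (CommRingCat.of k))} [GrpObj A] [IsProper A.hom] [GeometricallyIntegral A.hom]

/-- Translation of a class. -/
def transl (L : PC A.left) (a : 𝟙_ _ ⟶ A) : PC A.left := ev L (𝟙 A * (toUnit A ≫ a))

/-- Translation invariant classes are primitive. -/
theorem ev_mul_of_invariant (L : PC A.left) (hL : ∀ a : 𝟙_ _ ⟶ A, transl L a = L)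
    {T : Over (Spec (CommRingCat.of k))} (f g : T ⟶ A) : ev L (f * g) = ev L f + ev L g := by
  haveI : IsIntegral A.left := GeometricallyIntegral.isIntegral_of_subsingleton A.hom
  let θ := ev L (fst A A * snd A A) - ev L (fst A A) - ev L (snd A A)
  have hθ : ∀ {S : Over (Spec (CommRingCat.of k))} (p q : S ⟶ A),
      ev θ (lift p q) = ev L (p * q) - ev L p - ev L q := by
    intro S p q
    show pullP _ θ = _
    simp only [θ, map_sub]
    show ev (ev L _) _ - ev (ev L _) _ - ev (ev L _) _ = _
    rw [ev_comp, ev_comp, ev_comp, MonObj.comp_mul, lift_fst, lift_snd]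
  have h0 : θ = 0 := by
    refine eq_zero_of_slices A A θ η[A] (fun t => ?_) ?_
    · rw [hθ, ev_toUnit, show ev L (𝟙 A * (toUnit A ≫ t)) = L from hL t, show ev L (𝟙 A) = L from pullP_id L]
      abel
    · rw [hθ, show (toUnit A ≫ η[A] : A ⟶ A) = 1 from (MonObj.one_eq_one (M := A) ▸ MonObj.comp_one _),
        _root_.one_mul]
      have : ev L (1 : A ⟶ A) = 0 := by
        rw [show (1 : A ⟶ A) = toUnit A ≫ (1 : 𝟙_ _ ⟶ A) from (MonObj.comp_one _).symm, ev_toUnit]
      rw [this]; abel
  have := hθ f g
  rw [h0] at this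
  have h1 : ev (0 : PC (A ⊗ A).left) (lift f g) = 0 := map_zero _
  rw [h1] at this
  linear_combination (norm := abel) -this

theorem square_transl (L : PC A.left) (a b : 𝟙_ _ ⟶ A) : transl L (a * b) + L = transl L a + transl L b := by
  have h := three L (𝟙 A) (toUnit A ≫ a) (toUnit A ≫ b)
  rw [_root_.mul_assoc, ← MonObj.comp_mul, ev_toUnit, ev_toUnit, ev_toUnit, show ev L (𝟙 A) = L from pullP_id L] at h
  simpa [transl] using h

theorem transl_transl (L : PC A.left) (a b : 𝟙_ _ ⟶ A) : transl (transl L a) b = transl L (b * a) := by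
  rw [transl, transl, ev_comp, transl]
  congr 1
  rw [MonObj.comp_mul, Category.comp_id, ← Category.assoc, comp_toUnit, MonObj.comp_mul, _root_.mul_assoc]

theorem phi_invariant (L : PC A.left) (a b : 𝟙_ _ ⟶ A) : transl (transl L a - L) b = transl L a - L := by
  have e : transl (transl L a - L) b = transl (transl L a) b - transl L b := map_sub _ _ _
  rw [e, transl_transl]
  linear_combination (norm := abel) square_transl L b a

end Groth.Agent.H25AbCube
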