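import Groth.Agent.H25AbCube.Torsion
import Groth.Agent.H25AbCube.GroupTorsion
import Groth.Agent.H19Grp.AbSchemeRigid

/-!
# The structure of the torsion of an abelian variety
-/

set_option autoImplicit false
set_option linter.style.haveILetI false
set_option backward.isDefEq.respectTransparency false
universe u

open CategoryTheory CategoryTheory.Limits MonoidalCategory CartesianMonoidalCategory MonObj GrpObj AlgebraicGeometry
  TopologicalSpace
open Groth.Agent

noncomputable section

namespace Groth.Agent.H25AbCube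

theorem geometricallyIntegral_of_smooth {k : Type u} [Field k] (A : Over (Spec (CommRingCat.of k))) [GrpObj A]
    [IsProper A.hom] [Smooth A.hom] [GeometricallyConnected A.hom] : GeometricallyIntegral A.hom :=
  haveI := H19Grp.geometricallyReduced_of_smooth_hom A.hom
  H19Grp.geometricallyIntegral_of_abScheme A

variable {k : Type u} [Field k] [IsAlgClosed k] {A : Over (Spec (CommRingCat.of k))} [GrpObj A] [IsProper A.hom]
  [GeometricallyIntegral A.hom] [IsCommMonObj A]

/-- The points of an abelian variety over an algebraically closed field are divisible. -/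
theorem exists_pow_eq {n : ℕ} (hn : 0 < n) (a : Over.mk (𝟙 (Spec (CommRingCat.of k))) ⟶ A) :
    ∃ b : Over.mk (𝟙 (Spec (CommRingCat.of k))) ⟶ A, b ^ n = a := by
  let φ : A ⟶ A := (𝟙 A) ^ n
  haveI : IsFinite φ.left := isFinite_pow hn
  haveI : Surjective φ.left := surjective_pow hn
  haveI : Subsingleton (Over.mk (𝟙 (Spec (CommRingCat.of k)))).left :=
    inferInstanceAs (Subsingleton (PrimeSpectrum k))
  haveI : IsClosedImmersion a.left := isClosedImmersion_of_comp_eq_id _ _ (Over.w a)
  let y := a.left (IsLocalRing.closedPoint k)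
  have hy : IsClosed ({y} : Set A.left) := by
    have hr : Set.range a.left = {y} := by
      exact Set.Subset.antisymm (by rintro _ ⟨t, rfl⟩; exact congrArg a.left (Subsingleton.elim (α := PrimeSpectrum k) _ _))
        (by rintro _ rfl; exact ⟨_, rfl⟩)
    exact hr ▸ a.left.isClosedEmbedding.isClosed_range
  obtain ⟨x, hx⟩ := φ.left.surjective y
  have hcl := (hy.preimage φ.left.continuous)
  haveI : CompactSpace A.left := QuasiCompact.compactSpace_of_compactSpace A.hom
  obtain ⟨x', hx', hxc⟩ := IsClosed.exists_closed_singleton hcl ⟨x, hx⟩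
  haveI : LocallyOfFiniteType A.hom := inferInstance
  let b : Over.mk (𝟙 (Spec (CommRingCat.of k))) ⟶ A :=
    Over.homMk (pointOfClosedPoint A.hom x' hxc) (pointOfClosedPoint_comp _ _ _)
  refine ⟨b, ?_⟩
  rw [← comp_pow_id]
  refine Over.OverMorphism.ext (ext_of_apply_closedPoint_eq A.hom ?_ (Over.w a) ?_)
  · exact Over.w (b ≫ φ)
  · show φ.left (pointOfClosedPoint A.hom x' hxc (IsLocalRing.closedPoint k)) = _
    rw [pointOfClosedPoint_apply]
    exact hx'

/-- The number of points killed by `n` divides `n^(2g)`. -/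
theorem card_torsPts_dvd {n : ℕ} (hn : 0 < n) (g : ℕ) (hg : topologicalKrullDim A.left = g) :
    Nat.card ↥(AbDual.torsPts A n (Over.mk (𝟙 (Spec (CommRingCat.of k))))) ∣ n ^ (2 * g) :=
  GroupTorsion.card_dvd (G := Over.mk (𝟙 (Spec (CommRingCat.of k))) ⟶ A) (2 * g)
    (fun _ hm => finite_torsPts hm) (fun _ hm => card_torsPts_le hm g hg) hn

/-- The points killed by an invertible `n` form `(ℤ/n)^(2g)`. -/
theorem nonempty_torsPts_equiv {n : ℕ} (hn : 0 < n) (hnk : (n : k) ≠ 0) (g : ℕ)
    (hg : topologicalKrullDim A.left = g) :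
    Nonempty (AbDual.torsPts A n (Over.mk (𝟙 (Spec (CommRingCat.of k)))) ≃* Multiplicative (Fin (2 * g) → ZMod n)) :=
  GroupTorsion.nonempty_equiv (G := Over.mk (𝟙 (Spec (CommRingCat.of k))) ⟶ A) (2 * g) hn fun m hm =>
    card_torsPts (fun h0 => hnk (by obtain ⟨c, rfl⟩ := hm; rw [Nat.cast_mul, h0, zero_mul])) g hg

end Groth.Agent.H25AbCube
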