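import Groth.Agent.H25AbCube.PicKernel
import Groth.Agent.H25AbCube.Dense
import Groth.Agent.H25AbCube.SeesawPoints
import Groth.Agent.H25AbCube.TorsionStr
import Groth.Agent.H13AlgSp.EtaleLocally
import Groth.Agent.H25Rig.Rigidity
import Groth.Agent.H19Grp.EtaleEndo

/-!
# There are at most `n^(2g)` translation invariant classes killed by `n`
-/

set_option autoImplicit false
set_option linter.style.haveILetI false
set_option backward.isDefEq.respectTransparency false
set_option maxHeartbeats 800000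
universe u

open CategoryTheory CategoryTheory.Limits MonoidalCategory CartesianMonoidalCategory MonObj GrpObj AlgebraicGeometry
  TopologicalSpace
open Groth.Agent

noncomputable section

namespace Groth.Agent.H25AbCube

variable {k : Type u} [Field k] {A : Over (Spec (CommRingCat.of k))} [GrpObj A] [IsProper A.hom]
  [GeometricallyIntegral A.hom]

theorem ev_pow_of_invariant [IsAlgClosed k] (L : PC A.left) (hL : ∀ a : 𝟙_ _ ⟶ A, transl L a = L) (n : ℕ) :
    ev L ((𝟙 A) ^ n : A ⟶ A) = n • L := by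
  induction n with
  | zero =>
    rw [pow_zero, zero_nsmul]
    have := ev_mul_of_invariant L hL (1 : A ⟶ A) 1
    rw [_root_.one_mul] at this
    exact left_eq_add.1 this
  | succ n ih => rw [pow_succ, ev_mul_of_invariant L hL, ih, succ_nsmul, show ev L (𝟙 A) = L from pullP_id L]

/-- A translation fixes the global functions. -/
theorem appTop_eq_self (φ : A ⟶ A) (s : Γ(A.left, ⊤)) : φ.left.appTop s = s := by
  obtain ⟨c, rfl⟩ := (H25Rig.bijective_appTop A.hom).2 s
  show (A.hom.appTop ≫ φ.left.appTop) c = A.hom.appTop c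
  rw [← Scheme.Hom.comp_appTop, Over.w φ]

variable [IsAlgClosed k] [IsCommMonObj A]

/-- There are at most `n^(2g)` classes killed by pullback along multiplication by `n`. -/
theorem card_ker_pow_le {n : ℕ} (hn : (n : k) ≠ 0) (g : ℕ) (hg : topologicalKrullDim A.left = g) :
    Finite {u : PC A.left // pullP ((𝟙 A) ^ n : A ⟶ A).left u = 0} ∧
      Nat.card {u : PC A.left // pullP ((𝟙 A) ^ n : A ⟶ A).left u = 0} ≤ n ^ (2 * g) := by
  haveI : IsIntegral A.left := GeometricallyIntegral.isIntegral_of_subsingleton A.hom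
  have hn' : 0 < n := Nat.pos_of_ne_zero fun h => hn (by rw [h, Nat.cast_zero])
  let q : A ⟶ A := (𝟙 A) ^ n
  haveI : IsFinite q.left := isFinite_pow hn'
  haveI : Flat q.left := flat_pow hn'
  haveI : Surjective q.left := surjective_pow hn'
  haveI : Etale q.left := by
    have := H19Grp.etale_zpow_field' A (n : ℤ) (by rwa [Int.cast_natCast])
    rwa [zpow_natCast] at this
  let G := ↥(AbDual.torsPts A n (Over.mk (𝟙 (Spec (CommRingCat.of k)))))
  have hcard : Nat.card G = n ^ (2 * g) := card_torsPts hn g hg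
  haveI : Finite G := Nat.finite_of_card_ne_zero (by rw [hcard]; exact pow_ne_zero _ hn'.ne')
  let t : G → (A.left ⟶ A.left) := fun a => (tr a.1).left
  have htq : ∀ a, t a ≫ q.left = q.left := fun a => by
    rw [← Over.comp_left, tr_comp_pow a.1 ((AbDual.mem_torsPts A a.1).1 a.2)]
  have hpair : ∀ (V : A.left.Opens) (f : Γ(A.left, q.left ⁻¹ᵁ V)),
      (∀ a, PicKernel.act t htq a V f = f) → ∀ {Z : Scheme.{u}} (g₁ g₂ : Z ⟶ A.left), g₁ ≫ q.left = g₂ ≫ q.left →
        ∀ (e₁ : ⊤ ≤ g₁ ⁻¹ᵁ (q.left ⁻¹ᵁ V)) (e₂ : ⊤ ≤ g₂ ⁻¹ᵁ (q.left ⁻¹ᵁ V)),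
          g₁.appLE (q.left ⁻¹ᵁ V) ⊤ e₁ f = g₂.appLE (q.left ⁻¹ᵁ V) ⊤ e₂ f := by
    intro V f hf Z g₁ g₂ e e₁ e₂
    let P : Scheme.{u} := pullback q.left q.left
    let p₁ : P ⟶ A.left := pullback.fst _ _
    let p₂ : P ⟶ A.left := pullback.snd _ _
    haveI : Etale p₁ := MorphismProperty.pullback_fst _ _ inferInstance
    haveI : IsReduced P := H13AlgSp.isReduced_of_smooth_mor p₁
    let pP : P ⟶ Spec (CommRingCat.of k) := p₁ ≫ A.hom
    haveI : LocallyOfFiniteType pP := inferInstance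
    haveI : JacobsonSpace P := LocallyOfFiniteType.jacobsonSpace pP
    have hW : p₂ ⁻¹ᵁ (q.left ⁻¹ᵁ V) = p₁ ⁻¹ᵁ (q.left ⁻¹ᵁ V) := by
      show (p₂ ≫ q.left) ⁻¹ᵁ V = (p₁ ≫ q.left) ⁻¹ᵁ V
      rw [show p₂ ≫ q.left = p₁ ≫ q.left from pullback.condition.symm]
    let W := p₁ ⁻¹ᵁ (q.left ⁻¹ᵁ V)
    let r : Γ(P, W) := p₁.appLE _ W le_rfl f - p₂.appLE _ W hW.ge f
    have hr : r = 0 := by
      refine eq_zero_of_basicOpen_eq_bot r ?_
      by_contra hne
      obtain ⟨c, hcr, hc⟩ := nonempty_inter_closedPoints (Z := (P.basicOpen r : Set P))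
        (Set.nonempty_iff_ne_empty.2 fun h => hne (Opens.ext h)) (P.basicOpen r).isOpen.isLocallyClosed
      let p := (pointEquivClosedPoint pP).symm ⟨c, hc⟩
      have hpc : p.1 (IsLocalRing.closedPoint k) = c :=
        congrArg Subtype.val ((pointEquivClosedPoint pP).apply_symm_apply ⟨c, hc⟩)
      let b₁ : Over.mk (𝟙 (Spec (CommRingCat.of k))) ⟶ A := Over.homMk (p.1 ≫ p₁) (by
        show (p.1 ≫ p₁) ≫ A.hom = 𝟙 _
        rw [Category.assoc]; exact p.2)
      let b₂ : Over.mk (𝟙 (Spec (CommRingCat.of k))) ⟶ A := Over.homMk (p.1 ≫ p₂) (by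
        show (p.1 ≫ p₂) ≫ A.hom = 𝟙 _
        rw [Category.assoc, ← Over.w q, ← Category.assoc p₂, show p₂ ≫ q.left = p₁ ≫ q.left from pullback.condition.symm,
          Category.assoc p₁, Over.w q]
        exact p.2)
      have hb : (b₂ / b₁) ^ n = 1 := by
        rw [div_pow, div_eq_one, ← comp_pow_id b₂, ← comp_pow_id b₁]
        refine Over.OverMorphism.ext ?_
        show (p.1 ≫ p₂) ≫ q.left = (p.1 ≫ p₁) ≫ q.left
        rw [Category.assoc, Category.assoc, show p₂ ≫ q.left = p₁ ≫ q.left from pullback.condition.symm]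
      let a : G := ⟨b₂ / b₁, (AbDual.mem_torsPts A _).2 hb⟩
      have hmul : (p.1 ≫ p₁) ≫ t a = p.1 ≫ p₂ := by
        have := congrArg (fun z => z.left) (comp_tr b₁ a.1)
        rw [show a.1 * b₁ = b₂ from div_mul_cancel b₂ b₁] at this
        exact this
      have hWtop : ⊤ ≤ p.1 ⁻¹ᵁ W := fun z _ => by
        obtain rfl : z = IsLocalRing.closedPoint k := Subsingleton.elim (α := PrimeSpectrum k) _ _
        show p.1 (IsLocalRing.closedPoint k) ∈ W
        rw [hpc]
        exact P.basicOpen_le r hcr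
      have h0 : p.1.appLE W ⊤ hWtop r = 0 := by
        rw [map_sub, sub_eq_zero]
        show (p₁.appLE _ W le_rfl ≫ p.1.appLE W ⊤ hWtop) f = (p₂.appLE _ W hW.ge ≫ p.1.appLE W ⊤ hWtop) f
        rw [Scheme.Hom.appLE_comp_appLE, Scheme.Hom.appLE_comp_appLE]
        conv_lhs => rw [← hf a]
        show ((t a).appLE _ _ (PicKernel.act_le t htq a V) ≫ (p.1 ≫ p₁).appLE _ ⊤ _) f = _
        rw [Scheme.Hom.appLE_comp_appLE]
        simp only [hmul]
      have h2 : c ∈ P.basicOpen r := hcr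
      have h3 : IsLocalRing.closedPoint k ∈ p.1 ⁻¹ᵁ P.basicOpen r := by
        exact (congrArg (· ∈ P.basicOpen r) hpc).mpr h2
      have h4 : IsLocalRing.closedPoint k ∈ (Spec (CommRingCat.of k)).basicOpen (p.1.appLE W ⊤ hWtop r) := by
        rw [Scheme.preimage_basicOpen] at h3
        rw [Scheme.Hom.appLE, CommRingCat.comp_apply, Scheme.basicOpen_res]
        exact ⟨trivial, h3⟩
      rw [h0, Scheme.basicOpen_zero] at h4
      exact h4
    let l : Z ⟶ P := pullback.lift g₁ g₂ e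
    have hl : ⊤ ≤ l ⁻¹ᵁ W := fun z hz => by
      show (l ≫ p₁) z ∈ q.left ⁻¹ᵁ V
      rw [show l ≫ p₁ = g₁ from pullback.lift_fst _ _ _]
      exact e₁ hz
    have h5 := congrArg (l.appLE W ⊤ hl) hr
    rw [map_zero, map_sub, sub_eq_zero] at h5
    change (p₁.appLE _ W le_rfl ≫ l.appLE W ⊤ hl) f = (p₂.appLE _ W hW.ge ≫ l.appLE W ⊤ hl) f at h5
    rw [Scheme.Hom.appLE_comp_appLE, Scheme.Hom.appLE_comp_appLE] at h5
    simp only [show l ≫ p₁ = g₁ from pullback.lift_fst _ _ _, show l ≫ p₂ = g₂ from pullback.lift_snd _ _ _] at h5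
    exact h5
  have h := PicKernel.card_ker_le t htq (by show (tr (1 : G).1).left = _; rw [OneMemClass.coe_one, tr_one]; rfl)
    (fun a b => by
      show (tr (a * b).1).left = (tr b.1).left ≫ (tr a.1).left
      rw [← Over.comp_left, tr_comp_tr]; rfl)
    (fun a s => appTop_eq_self (tr a.1) s) hpair
  exact ⟨h.1, h.2.trans hcard.le⟩

/-- There are at most `n^(2g)` translation invariant classes killed by `n`. -/
theorem card_invariant_torsion_le {n : ℕ} (hn : (n : k) ≠ 0) (g : ℕ) (hg : topologicalKrullDim A.left = g) :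
    Finite {u : PC A.left // (∀ a : 𝟙_ _ ⟶ A, transl u a = u) ∧ n • u = 0} ∧
      Nat.card {u : PC A.left // (∀ a : 𝟙_ _ ⟶ A, transl u a = u) ∧ n • u = 0} ≤ n ^ (2 * g) := by
  obtain ⟨hfin, hle⟩ := card_ker_pow_le (A := A) hn g hg
  let j : {u : PC A.left // (∀ a : 𝟙_ _ ⟶ A, transl u a = u) ∧ n • u = 0} →
      {u : PC A.left // pullP ((𝟙 A) ^ n : A ⟶ A).left u = 0} :=
    fun u => ⟨u.1, (ev_pow_of_invariant u.1 u.2.1 n).trans u.2.2⟩
  have hj : Function.Injective j := fun u v h =>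
    Subtype.ext (congrArg (fun z : {u : PC A.left // pullP ((𝟙 A) ^ n : A ⟶ A).left u = 0} => z.1) h)
  exact ⟨Finite.of_injective j hj, (Nat.card_le_card_of_injective j hj).trans hle⟩

end Groth.Agent.H25AbCube
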