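import Groth.Agent.H25AbCube.PoincareSub
import Groth.Agent.H25AbCube.PicTorsion
import Groth.Agent.H25AbCube.GeomTate
import Groth.Agent.H25AbCube.KerFinite
import Groth.Agent.H25AbCube.GroupTorsion
import Groth.Agent.H25Rig.GroupMaps
import Groth.Agent.H11Ample.AmpleOn
import Mathlib.LinearAlgebra.FreeModule.Finite.Matrix

/-!
# Complements of abelian subvarieties
-/

set_option autoImplicit false
set_option linter.style.haveILetI false
set_option linter.unusedSectionVars false
set_option backward.isDefEq.respectTransparency false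
set_option synthInstance.maxHeartbeats 400000
set_option maxHeartbeats 1000000
universe u

open CategoryTheory CategoryTheory.Limits MonoidalCategory CartesianMonoidalCategory MonObj GrpObj AlgebraicGeometry
  TopologicalSpace
open Groth.Agent

noncomputable section

namespace Groth.Agent.H25AbCube

open GeomTate

attribute [local instance] Functor.grpObjObj

variable {k : Type u} [Field k] {Ω : Type u} [Field Ω] [Algebra k Ω]

instance subsingleton_pt : Subsingleton (SGA7.pt (K := k) Ω).left := inferInstanceAs (Subsingleton (PrimeSpectrum Ω))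

theorem ev_zero' {T A : Over (Spec (CommRingCat.of k))} (f : T ⟶ A) : ev (0 : PC A.left) f = 0 := map_zero _

theorem ev_pt_eq_zero {A : Over (Spec (CommRingCat.of k))} (L : PC A.left) (f : SGA7.pt Ω ⟶ A) : ev L f = 0 := by
  haveI : Nonempty (SGA7.pt (K := k) Ω).left := ⟨IsLocalRing.closedPoint Ω⟩
  exact eq_zero_of_subsingleton _

/-! ## Translations of the base change -/

section transl

variable (B : Over (Spec (CommRingCat.of k))) [GrpObj B]

/-- The base change is the product with the point. -/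
def toProd : (Over.map (σ k Ω)).obj ((bc k Ω).obj B) ⟶ B ⊗ SGA7.pt Ω :=
  Over.homMk (𝟙 _) ((Category.id_comp _).trans pullback.condition)

theorem homEquiv_mul {X : Over (Spec (CommRingCat.of Ω))} (f g : (Over.map (σ k Ω)).obj X ⟶ B) :
    (Over.mapPullbackAdj (σ k Ω)).homEquiv X B (f * g) =
      (Over.mapPullbackAdj (σ k Ω)).homEquiv X B f * (Over.mapPullbackAdj (σ k Ω)).homEquiv X B g := by
  rw [Adjunction.homEquiv_unit, Adjunction.homEquiv_unit, Adjunction.homEquiv_unit]
  exact (congrArg _ (map_mul (Functor.homMonoidHom (bc k Ω)) _ _)).trans (MonObj.comp_mul _ _ _)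

theorem symm_left {X : Over (Spec (CommRingCat.of Ω))} (f : X ⟶ (bc k Ω).obj B) :
    (((Over.mapPullbackAdj (σ k Ω)).homEquiv X B).symm f).left = f.left ≫ pullback.fst B.hom (σ k Ω) := by
  simp [Adjunction.homEquiv_counit]

theorem symm_mul {X : Over (Spec (CommRingCat.of Ω))} (f g : X ⟶ (bc k Ω).obj B) :
    ((Over.mapPullbackAdj (σ k Ω)).homEquiv X B).symm (f * g) =
      ((Over.mapPullbackAdj (σ k Ω)).homEquiv X B).symm f * ((Over.mapPullbackAdj (σ k Ω)).homEquiv X B).symm g :=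
  ((Over.mapPullbackAdj (σ k Ω)).homEquiv X B).injective (by
    rw [homEquiv_mul, Equiv.apply_symm_apply, Equiv.apply_symm_apply, Equiv.apply_symm_apply])

theorem transl_left (b : pt1 Ω ⟶ (bc k Ω).obj B) :
    (𝟙 ((bc k Ω).obj B) * (toUnit ((bc k Ω).obj B) ≫ b)).left =
      (lift (fst B (SGA7.pt Ω) * (snd B (SGA7.pt Ω) ≫ (ψ B).symm b)) (snd B (SGA7.pt Ω))).left := by
  refine pullback.hom_ext ?_ ?_
  · let Θ := (Over.mapPullbackAdj (σ k Ω)).homEquiv ((bc k Ω).obj B) B
    have h1 : Θ.symm (𝟙 _) = toProd B ≫ fst B (SGA7.pt Ω) := Over.OverMorphism.ext (by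
      rw [symm_left, Over.id_left]
      rfl)
    have h2 : Θ.symm (toUnit ((bc k Ω).obj B) ≫ b) = toProd B ≫ snd B (SGA7.pt Ω) ≫ (ψ B).symm b :=
      Over.OverMorphism.ext (by
        rw [symm_left, Over.comp_left, Over.comp_left, Over.comp_left]
        show (pullback.snd B.hom (σ k Ω) ≫ b.left) ≫ pullback.fst _ _ =
          𝟙 _ ≫ pullback.snd B.hom (σ k Ω) ≫ 𝟙 _ ≫ (((Over.mapPullbackAdj (σ k Ω)).homEquiv _ B).symm b).left
        rw [symm_left]
        simp)
    have h := congrArg Over.Hom.left (symm_mul B (𝟙 ((bc k Ω).obj B)) (toUnit ((bc k Ω).obj B) ≫ b))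
    rw [symm_left, h1, h2, ← MonObj.comp_mul, Over.comp_left] at h
    exact (h.trans (Category.id_comp _)).trans (congrArg Over.Hom.left (lift_fst (fst B (SGA7.pt Ω) * _) _)).symm
  · exact (Over.w (𝟙 ((bc k Ω).obj B) * (toUnit ((bc k Ω).obj B) ≫ b))).trans
      (congrArg Over.Hom.left (lift_snd (fst B (SGA7.pt Ω) * _) (snd B (SGA7.pt Ω)))).symm

theorem transl_eq [IsProper B.hom] [GeometricallyIntegral B.hom] (u : PC (B ⊗ SGA7.pt Ω).left)
    (b : 𝟙_ (Over (Spec (CommRingCat.of Ω))) ⟶ (bc k Ω).obj B) :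
    transl (A := (bc k Ω).obj B) u b =
      ev u (lift (fst B (SGA7.pt Ω) * (snd B (SGA7.pt Ω) ≫ (ψ B).symm b)) (snd B (SGA7.pt Ω))) := by
  show pullP _ u = pullP _ u
  exact congrArg (fun f => pullP f u) (transl_left B b)

end transl

/-! ## The orthogonal points -/

variable {A B : Over (Spec (CommRingCat.of k))} [GrpObj A] [IsProper A.hom] [GeometricallyIntegral A.hom]
  [IsCommMonObj A] [GrpObj B] [IsProper B.hom] [GeometricallyIntegral B.hom]

theorem th_comm (L : PC A.left) {T : Over (Spec (CommRingCat.of k))} (p q : T ⟶ A) : th L p q = th L q p := by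
  rw [th, th, _root_.mul_comm p q]; abel

theorem th_mul_left (L : PC A.left) {T : Over (Spec (CommRingCat.of k))} (p q g : T ⟶ A) :
    th L (p * q) g = th L p g + th L q g := by
  rw [th_comm, th_mul_right, th_comm L g p, th_comm L g q]

/-- The pairing with a geometric point is translation invariant. -/
theorem pairing_invariant (L : PC A.left) (i : B ⟶ A) [IsMonHom i] (a : SGA7.pt Ω ⟶ A)
    (b : 𝟙_ (Over (Spec (CommRingCat.of Ω))) ⟶ (bc k Ω).obj B) :
    transl (A := (bc k Ω).obj B) (pairing L i a : PC (B ⊗ SGA7.pt Ω).left) b = pairing L i a := by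
  rw [transl_eq, pairing, ev_th, lift_fst_assoc, lift_snd_assoc, MonObj.mul_comp, th_mul_left, Category.assoc,
    ← ev_th L (snd B (SGA7.pt Ω)) _ a]
  rw [show th L ((ψ B).symm b ≫ i) a = 0 from by
    haveI : Nonempty (SGA7.pt (K := k) Ω).left := ⟨IsLocalRing.closedPoint Ω⟩
    exact eq_zero_of_subsingleton _, ev_zero', _root_.add_zero]

theorem pairing_pow (L : PC A.left) (i : B ⟶ A) {T : Over (Spec (CommRingCat.of k))} (a : T ⟶ A) (n : ℕ) :
    pairing L i (a ^ n) = n • pairing L i a := by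
  induction n with
  | zero => rw [pow_zero, pairing_one, zero_nsmul]
  | succ n ih => rw [pow_succ, pairing_mul, ih, succ_nsmul]

theorem card_tors_pt [IsAlgClosed Ω] [Algebra.IsAlgebraic k Ω] {n : ℕ} (hn : (n : Ω) ≠ 0) {g : ℕ}
    (hg : topologicalKrullDim A.left = g) : Nat.card ↥(GroupTorsion.tors (SGA7.pt Ω ⟶ A) n) = n ^ (2 * g) := by
  rw [← card_torsPts (A := (bc k Ω).obj A) hn g (dim_bc A hg)]
  exact Nat.card_congr ((ψ A).toEquiv.subtypeEquiv fun a => by
    show a ^ n = 1 ↔ (ψ A a) ^ n = 1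
    rw [← map_pow, MulEquiv.map_eq_one_iff])

/-- Many torsion points are orthogonal to a subvariety. -/
theorem card_orth_ge [IsAlgClosed Ω] [Algebra.IsAlgebraic k Ω] (L : PC A.left) (i : B ⟶ A) [IsMonHom i] {n : ℕ}
    (hn : (n : Ω) ≠ 0) {gA gB : ℕ} (hA : topologicalKrullDim A.left = gA) (hB : topologicalKrullDim B.left = gB) :
    n ^ (2 * gA) ≤ n ^ (2 * gB) * Nat.card {a : SGA7.pt Ω ⟶ A // a ^ n = 1 ∧ pairing L i a = 0} := by
  haveI : IsCommMonObj B := isCommMonObj_of_av
  obtain ⟨hfin, hle⟩ := card_invariant_torsion_le (A := (bc k Ω).obj B) hn gB (dim_bc B hB)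
  let G := GroupTorsion.tors (SGA7.pt Ω ⟶ A) n
  let f : ↥G →* Multiplicative (PC (B ⊗ SGA7.pt Ω).left) :=
    MonoidHom.mk' (fun a => Multiplicative.ofAdd (pairing L i a.1)) fun a b => by
      show Multiplicative.ofAdd (pairing L i (a.1 * b.1)) = _
      rw [pairing_mul]; rfl
  let e : ↥f.range → {u : PC ((bc k Ω).obj B).left //
      (∀ b : 𝟙_ _ ⟶ (bc k Ω).obj B, transl (A := (bc k Ω).obj B) u b = u) ∧ n • u = 0} := fun u => ⟨u.1.toAdd, by
    obtain ⟨_, a, rfl⟩ := u
    refine ⟨pairing_invariant L i a.1, ?_⟩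
    show n • pairing L i a.1 = 0
    rw [← pairing_pow, show a.1 ^ n = 1 from a.2, pairing_one]⟩
  have he : Function.Injective e := fun u v h => Subtype.ext
    (Multiplicative.toAdd.injective (congrArg Subtype.val h :))
  let κ : ↥f.ker ≃ {a : SGA7.pt Ω ⟶ A // a ^ n = 1 ∧ pairing L i a = 0} :=
    { toFun := fun a => ⟨a.1.1, a.1.2, congrArg Multiplicative.toAdd (show f a.1 = 1 from a.2)⟩
      invFun := fun a => ⟨⟨a.1, a.2.1⟩, congrArg Multiplicative.ofAdd a.2.2⟩
      left_inv := fun _ => rfl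
      right_inv := fun _ => rfl }
  haveI := hfin
  rw [← card_tors_pt (A := A) hn hA, Subgroup.card_eq_card_quotient_mul_card_subgroup f.ker,
    Nat.card_congr (QuotientGroup.quotientKerEquivRange f).toEquiv, ← Nat.card_congr κ]
  exact Nat.mul_le_mul_right _ ((Nat.card_le_card_of_injective e he).trans hle)

/-- A finite scheme has finitely many geometric points. -/
theorem finite_pt_hom (Q : Over (Spec (CommRingCat.of k))) [IsFinite Q.hom] : Finite (SGA7.pt Ω ⟶ Q) := by
  haveI : IsAffine Q.left := isAffine_of_isAffineHom Q.hom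
  let φ : CommRingCat.of k ⟶ Γ(Q.left, ⊤) := (Scheme.ΓSpecIso _).inv ≫ Q.hom.appTop
  letI : Algebra k Γ(Q.left, ⊤) := φ.hom.toAlgebra
  haveI : Module.Finite k Γ(Q.left, ⊤) := by
    refine RingHom.finite_algebraMap.1 ?_
    show φ.hom.Finite
    rw [CommRingCat.hom_comp]
    exact RingHom.Finite.comp (Scheme.Hom.finite_appTop Q.hom) (RingHom.Finite.of_surjective _
      (Scheme.ΓSpecIso _).commRingCatIsoToRingEquiv.symm.surjective)
  let F : (SGA7.pt Ω ⟶ Q) → (Γ(Q.left, ⊤) →ₐ[k] Ω) := fun z =>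
    { toRingHom := (z.left.appTop ≫ (Scheme.ΓSpecIso (CommRingCat.of Ω)).hom).hom
      commutes' := fun r => by
        show ((Scheme.ΓSpecIso _).inv ≫ Q.hom.appTop ≫ z.left.appTop ≫ (Scheme.ΓSpecIso (CommRingCat.of Ω)).hom) r = _
        rw [← Scheme.Hom.comp_appTop_assoc, Over.w z]
        show ((Scheme.ΓSpecIso _).inv ≫ (σ k Ω).appTop ≫ (Scheme.ΓSpecIso (CommRingCat.of Ω)).hom) r = _
        rw [Scheme.ΓSpecIso_naturality, Iso.inv_hom_id_assoc]
        rfl }
  refine Finite.of_injective F fun z z' h => Over.OverMorphism.ext (ext_of_isAffine ?_)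
  have h2 : z.left.appTop ≫ (Scheme.ΓSpecIso (CommRingCat.of Ω)).hom = z'.left.appTop ≫ (Scheme.ΓSpecIso (CommRingCat.of Ω)).hom :=
    CommRingCat.hom_ext (congrArg AlgHom.toRingHom h)
  exact (cancel_mono _).1 h2

theorem pairing_comp_of_orth (L : PC A.left) (i : B ⟶ A) {Z : Over (Spec (CommRingCat.of k))} (jZ : Z ⟶ A)
    (hfun : ∀ (T : Over (Spec (CommRingCat.of k))) (a : T ⟶ A),
      (∃ z : T ⟶ Z, z ≫ jZ = a) ↔ ∃ N : PC T.left, pairing L i a = ev N (snd B T))
    (a : SGA7.pt Ω ⟶ A) : (∃ z : SGA7.pt Ω ⟶ Z, z ≫ jZ = a) ↔ pairing L i a = 0 := by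
  haveI : Nonempty (SGA7.pt (K := k) Ω).left := ⟨IsLocalRing.closedPoint Ω⟩
  refine (hfun _ a).trans ⟨?_, fun h => ⟨0, h.trans (ev_zero' _).symm⟩⟩
  rintro ⟨N, hN⟩
  rw [hN, eq_zero_of_subsingleton N, ev_zero']

/-- Only finitely many points of the subvariety are orthogonal to it, for an ample class. -/
theorem finite_orth [IsAlgClosed Ω] [Algebra.IsAlgebraic k Ω] (M : A.left.Modules) (hM : CohB1.IsAmple M)
    (i : B ⟶ A) [IsMonHom i] [IsFinite i.left] :
    Set.Finite {b : SGA7.pt Ω ⟶ B | pairing (pc M hM.1) i (b ≫ i) = 0} := by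
  haveI : IsCommMonObj B := isCommMonObj_of_av
  let P := SGA7.pt (K := k) Ω
  haveI : IsAffineHom P.hom := isAffineHom_of_isAffine _
  let f : B ⊗ P ⟶ A := fst B P ≫ i
  haveI : IsAffineHom (fst B P).left := MorphismProperty.pullback_fst (P := @IsAffineHom) _ _ inferInstance
  haveI : IsAffineHom f.left := by
    show IsAffineHom ((fst B P).left ≫ i.left)
    infer_instance
  have hM0 := H11Ample.isAmple_pullback_of_isAffineHom f.left hM
  have hfix := finite_fixing (A := (bc k Ω).obj B) ((Scheme.Modules.pullback f.left).obj M) hM0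
  refine (hfix.preimage (f := fun b : SGA7.pt Ω ⟶ B => (ψ B b : 𝟙_ (Over (Spec (CommRingCat.of Ω))) ⟶ (bc k Ω).obj B))
    (fun x _ y _ h => (ψ B).injective h)).subset fun b hb => ?_
  show transl (A := (bc k Ω).obj B) _ (ψ B b) = _
  have hL : (pc ((Scheme.Modules.pullback f.left).obj M) hM0.1 : PC (B ⊗ P).left) = ev (pc M hM.1) f :=
    pullP_pc f.left M hM.1 _
  refine (transl_eq B _ _).trans ?_
  refine (congrArg (fun u : PC (B ⊗ P).left => ev u _) hL).trans (Eq.trans ?_ hL.symm)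
  rw [ev_comp, MulEquiv.symm_apply_apply, lift_fst_assoc, MonObj.mul_comp, Category.assoc]
  have h : th (pc M hM.1) (fst B P ≫ i) (snd B P ≫ b ≫ i) = 0 := hb
  rw [th] at h
  have h2 : ev (pc M hM.1) (snd B P ≫ b ≫ i) = 0 := by rw [← ev_comp, ev_pt_eq_zero, ev_zero']
  rw [h2, sub_zero, sub_eq_zero] at h
  exact h

theorem exists_prime_gt (Ω : Type u) [Field Ω] (m : ℕ) : ∃ n, n.Prime ∧ m < n ∧ (n : Ω) ≠ 0 := by
  obtain ⟨n, hn, hp⟩ := Nat.exists_infinite_primes (m + ringChar Ω + 1)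
  refine ⟨n, hp, by omega, fun h => ?_⟩
  rcases hp.eq_one_or_self_of_dvd _ (ringChar.dvd h) with e | e
  · exact CharP.ringChar_ne_one e
  · omega

/-- Poincaré's reducibility theorem over any field, for a finite homomorphism. -/
theorem exists_complement {k : Type u} [Field k] (A B : Over (Spec (CommRingCat.of k))) [GrpObj A] [IsProper A.hom]
    [GeometricallyIntegral A.hom] [GrpObj B] [IsProper B.hom] [GeometricallyIntegral B.hom]
    (i : B ⟶ A) [IsMonHom i] [IsFinite i.left] :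
    ∃ (C : Over (Spec (CommRingCat.of k))) (_ : GrpObj C) (j : C ⟶ A), IsProper C.hom ∧ GeometricallyIntegral C.hom ∧
      IsMonHom j ∧ IsClosedImmersion j.left ∧
      Surjective ((fst B C ≫ i) * (snd B C ≫ j)).left ∧ IsFinite ((fst B C ≫ i) * (snd B C ≫ j)).left := by
  let Ω := AlgebraicClosure k
  haveI : IsCommMonObj A := isCommMonObj_of_av
  haveI : IsCommMonObj B := isCommMonObj_of_av
  obtain ⟨M, -, hM, -⟩ := exists_ample_symm (A := A)
  let L := pc M hM.1
  obtain ⟨Z, gZ, jZ, hjZ, hjZc, hfun⟩ := exists_orth L i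
  haveI := hjZ; haveI := hjZc
  haveI : IsProper Z.hom := by rw [← Over.w jZ]; infer_instance
  haveI : Mono jZ := Over.mono_of_mono_left jZ
  obtain ⟨C, gpC, _, _, c, Q, gQ, ρ, hc, hcc, hρ, hQf, hlift⟩ := exists_abelian_part Z
  haveI := hc; haveI := hcc; haveI := hρ; haveI := hQf
  haveI : IsCommMonObj C := isCommMonObj_of_av
  let j : C ⟶ A := c ≫ jZ
  haveI : IsClosedImmersion j.left := by
    show IsClosedImmersion (c.left ≫ jZ.left)
    infer_instance
  haveI : Mono j := Over.mono_of_mono_left j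
  let s : B ⊗ C ⟶ A := (fst B C ≫ i) * (snd B C ≫ j)
  haveI : IsMonHom s := by
    haveI : IsMonHom (fst B C ≫ i) := inferInstance
    haveI : IsMonHom (snd B C ≫ j) := inferInstance
    rw [show s = lift (fst B C ≫ i) (snd B C ≫ j) ≫ μ[A] from rfl]
    infer_instance
  haveI : IsProper (B ⊗ C).hom := by
    show IsProper (pullback.fst B.hom C.hom ≫ B.hom)
    infer_instance
  haveI : GeometricallyIntegral (B ⊗ C).hom := H25Rig.geometricallyIntegral_tensor B C
  haveI : IsCommMonObj (B ⊗ C) := isCommMonObj_of_av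
  haveI : IsIntegral A.left := GeometricallyIntegral.isIntegral_of_subsingleton A.hom
  haveI : IsIntegral B.left := GeometricallyIntegral.isIntegral_of_subsingleton B.hom
  haveI : IsIntegral C.left := GeometricallyIntegral.isIntegral_of_subsingleton C.hom
  haveI : IsIntegral (B ⊗ C).left := GeometricallyIntegral.isIntegral_of_subsingleton (B ⊗ C).hom
  obtain ⟨gA, hgA⟩ := H25Grp.exists_nat_dim A.hom
  obtain ⟨gB, hgB⟩ := H25Grp.exists_nat_dim B.hom
  obtain ⟨gC, hgC⟩ := H25Grp.exists_nat_dim C.hom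
  obtain ⟨D, hD⟩ := H25Grp.exists_nat_dim (B ⊗ C).hom
  haveI : Finite (SGA7.pt Ω ⟶ Q) := finite_pt_hom Q
  -- the kernel of the sum has finitely many points
  have hker : Set.Finite {x : SGA7.pt Ω ⟶ B ⊗ C | x ≫ s = 1} := by
    refine Set.Finite.of_finite_image (f := fun x : SGA7.pt Ω ⟶ B ⊗ C => x ≫ fst B C)
      ((finite_orth M hM i).subset ?_) ?_
    · rintro _ ⟨x, hx, rfl⟩
      have h : x ≫ fst B C ≫ i = (x ≫ snd B C ≫ j)⁻¹ := eq_inv_of_mul_eq_one_left (by
        rw [← MonObj.comp_mul]; exact hx)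
      show pairing L i ((x ≫ fst B C) ≫ i) = 0
      rw [Category.assoc, h, pairing_inv,
        (pairing_comp_of_orth L i jZ hfun (x ≫ snd B C ≫ j)).1 ⟨x ≫ snd B C ≫ c, by simp [j]⟩]
      exact neg_zero
    · intro x hx y hy h
      change x ≫ s = 1 at hx
      change y ≫ s = 1 at hy
      change x ≫ fst B C = y ≫ fst B C at h
      refine CartesianMonoidalCategory.hom_ext _ _ h ((cancel_mono j).1 ?_)
      have e := hx.trans hy.symm
      simp only [s, MonObj.comp_mul] at e
      rw [← Category.assoc x (fst B C), h, Category.assoc] at e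
      simpa using mul_left_cancel e
  haveI := hker.to_subtype
  obtain ⟨n, hn, hn', hnΩ⟩ := exists_prime_gt Ω
    (Nat.card (SGA7.pt Ω ⟶ Q) + Nat.card ↥{x : SGA7.pt Ω ⟶ B ⊗ C | x ≫ s = 1})
  -- torsion points of the kernel are trivial
  let Kσ : Subgroup (SGA7.pt Ω ⟶ B ⊗ C) := (MonoidHom.mk' (fun x : SGA7.pt Ω ⟶ B ⊗ C => x ≫ s)
    fun x y => MonObj.mul_comp x y s).ker
  have h1 : ∀ x : SGA7.pt Ω ⟶ B ⊗ C, x ≫ s = 1 → x ^ n = 1 → x = 1 := by
    intro x hx hxn
    let y : ↥Kσ := ⟨x, hx⟩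
    haveI : Finite ↥Kσ := hker.to_subtype
    have hy : y ^ n = 1 := Subtype.ext hxn
    rcases hn.eq_one_or_self_of_dvd _ (orderOf_dvd_of_pow_eq_one hy) with e | e
    · exact congrArg Subtype.val (orderOf_eq_one_iff.1 e)
    · have : orderOf y ≤ Nat.card ↥Kσ := Nat.le_of_dvd Nat.card_pos (orderOf_dvd_natCard y)
      have hK : Nat.card ↥Kσ = Nat.card ↥{x : SGA7.pt Ω ⟶ B ⊗ C | x ≫ s = 1} := rfl
      omega
  -- dimension of the complement
  have hdim : gA ≤ gB + gC := by
    haveI : Finite ↥(GroupTorsion.tors (SGA7.pt Ω ⟶ C) n) := Nat.finite_of_card_ne_zero (by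
      rw [card_tors_pt (A := C) hnΩ hgC]; exact pow_ne_zero _ hn.pos.ne')
    have hK : Nat.card {a : SGA7.pt Ω ⟶ A // a ^ n = 1 ∧ pairing L i a = 0} ≤
        Nat.card ↥(GroupTorsion.tors (SGA7.pt Ω ⟶ C) n) := by
      refine Nat.card_le_card_of_surjective
        (fun y => ⟨y.1 ≫ j, by
          rw [← MonObj.pow_comp, show y.1 ^ n = 1 from y.2]; exact MonObj.one_comp j,
          (pairing_comp_of_orth L i jZ hfun _).1 ⟨y.1 ≫ c, Category.assoc _ _ _⟩⟩) ?_
      rintro ⟨a, han, ha⟩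
      obtain ⟨z, rfl⟩ := (pairing_comp_of_orth L i jZ hfun a).2 ha
      have hz : z ^ n = 1 := (cancel_mono jZ).1 (by rw [MonObj.pow_comp, han, MonObj.one_comp])
      have hzρ : z ≫ ρ = 1 := by
        have h : (z ≫ ρ) ^ n = 1 := by rw [← MonObj.pow_comp, hz, MonObj.one_comp]
        rcases hn.eq_one_or_self_of_dvd _ (orderOf_dvd_of_pow_eq_one h) with e | e
        · exact orderOf_eq_one_iff.1 e
        · have : orderOf (z ≫ ρ) ≤ Nat.card (SGA7.pt Ω ⟶ Q) :=
            Nat.le_of_dvd Nat.card_pos (orderOf_dvd_natCard _)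
          omega
      obtain ⟨y, hy⟩ := hlift _ z hzρ
      refine ⟨⟨y, ?_⟩, Subtype.ext (by show y ≫ c ≫ jZ = z ≫ jZ; rw [← Category.assoc, hy])⟩
      show y ^ n = 1
      haveI : Mono c := Over.mono_of_mono_left c
      exact (cancel_mono c).1 (by rw [MonObj.pow_comp, hy, hz, MonObj.one_comp])
    have h := (card_orth_ge L i hnΩ hgA hgB).trans (Nat.mul_le_mul_left _ hK)
    rw [card_tors_pt (A := C) hnΩ hgC, ← pow_add] at h
    have := (Nat.pow_le_pow_iff_right hn.one_lt).1 h
    omega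
  have hD' : D = gB + gC := by
    let e : ↥(GroupTorsion.tors (SGA7.pt Ω ⟶ B ⊗ C) n) ≃
        ↥(GroupTorsion.tors (SGA7.pt Ω ⟶ B) n) × ↥(GroupTorsion.tors (SGA7.pt Ω ⟶ C) n) :=
      { toFun := fun x => (⟨x.1 ≫ fst B C, by
            show (x.1 ≫ fst B C) ^ n = 1
            rw [← MonObj.pow_comp, show x.1 ^ n = 1 from x.2, MonObj.one_comp]⟩,
          ⟨x.1 ≫ snd B C, by
            show (x.1 ≫ snd B C) ^ n = 1
            rw [← MonObj.pow_comp, show x.1 ^ n = 1 from x.2, MonObj.one_comp]⟩)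
        invFun := fun p => ⟨lift p.1.1 p.2.1, by
          show lift p.1.1 p.2.1 ^ n = 1
          refine CartesianMonoidalCategory.hom_ext _ _ ?_ ?_
          · rw [MonObj.pow_comp, lift_fst, show p.1.1 ^ n = 1 from p.1.2, MonObj.one_comp]
          · rw [MonObj.pow_comp, lift_snd, show p.2.1 ^ n = 1 from p.2.2, MonObj.one_comp]⟩
        left_inv := fun x => Subtype.ext (by simp)
        right_inv := fun p => Prod.ext (Subtype.ext (lift_fst _ _)) (Subtype.ext (lift_snd _ _)) }
    have h := Nat.card_congr e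
    rw [Nat.card_prod, card_tors_pt (A := B ⊗ C) hnΩ hD, card_tors_pt (A := B) hnΩ hgB,
      card_tors_pt (A := C) hnΩ hgC, ← pow_add] at h
    have := Nat.pow_right_injective hn.two_le h
    omega
  have hDA : D ≤ gA := by
    haveI : Finite ↥(GroupTorsion.tors (SGA7.pt Ω ⟶ A) n) := Nat.finite_of_card_ne_zero (by
      rw [card_tors_pt (A := A) hnΩ hgA]; exact pow_ne_zero _ hn.pos.ne')
    let φ : ↥(GroupTorsion.tors (SGA7.pt Ω ⟶ B ⊗ C) n) →* ↥(GroupTorsion.tors (SGA7.pt Ω ⟶ A) n) :=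
      MonoidHom.mk' (fun x => ⟨x.1 ≫ s, by
        show (x.1 ≫ s) ^ n = 1
        rw [← MonObj.pow_comp, show x.1 ^ n = 1 from x.2, MonObj.one_comp]⟩)
        fun x y => Subtype.ext (MonObj.mul_comp x.1 y.1 s)
    have hφ : Function.Injective φ := (injective_iff_map_eq_one φ).2 fun x hx =>
      Subtype.ext (h1 x.1 (congrArg Subtype.val hx) x.2)
    have h := Nat.card_le_card_of_injective φ hφ
    rw [card_tors_pt (A := B ⊗ C) hnΩ hD, card_tors_pt (A := A) hnΩ hgA] at h
    have := (Nat.pow_le_pow_iff_right hn.one_lt).1 h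
    omega
  obtain rfl : D = gA := by omega
  -- finiteness after extension to the algebraic closure
  haveI : IsFinite ((bc k Ω).map s).left := by
    by_contra hnf
    obtain ⟨W, gW, _, _, w, hw, d, hmono, hws, hd, hWdim⟩ := exists_abelian_in_kernel ((bc k Ω).map s) hnf
    haveI := hw; haveI := hmono
    haveI : IsCommMonObj W := isCommMonObj_of_av
    have hcard := card_torsPts (A := W) hnΩ d hWdim
    haveI : Subsingleton ↥(AbDual.torsPts W n (pt1 Ω)) := by
      refine ⟨fun x y => Subtype.ext ?_⟩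
      have key : ∀ x : ↥(AbDual.torsPts W n (pt1 Ω)), x.1 = 1 := by
        intro x
        refine (cancel_mono w).1 ?_
        rw [MonObj.one_comp, ← (ψ (B ⊗ C)).apply_symm_apply (x.1 ≫ w), ← map_one (ψ (Ω := Ω) (B ⊗ C))]
        refine congrArg _ (h1 _ ?_ ?_)
        · refine (ψ A).injective ?_
          rw [ψ_comp, MulEquiv.apply_symm_apply, map_one, Category.assoc, hws, MonObj.comp_one]
        · rw [← map_pow, ← MonObj.pow_comp, (AbDual.mem_torsPts W x.1).1 x.2, MonObj.one_comp, map_one]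
      rw [key x, key y]
    rw [Nat.card_unique] at hcard
    have := Nat.one_lt_pow (n := 2 * d) (by omega) hn.one_lt
    omega
  haveI : IsIntegral ((bc k Ω).obj A).left := GeometricallyIntegral.isIntegral_of_subsingleton ((bc k Ω).obj A).hom
  haveI := surjective_of_finite ((bc k Ω).map s).left (dim_bc (Ω := Ω) (B ⊗ C) hD) (dim_bc A hgA)
  haveI : Surjective s.left := by
    haveI := surjective_σ k Ω
    haveI : Surjective (pullback.fst A.hom (σ k Ω)) := MorphismProperty.pullback_fst _ _ inferInstance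
    refine ⟨fun y => ?_⟩
    obtain ⟨y', rfl⟩ := (pullback.fst A.hom (σ k Ω)).surjective y
    obtain ⟨x, rfl⟩ := ((bc k Ω).map s).left.surjective y'
    exact ⟨pullback.fst (B ⊗ C).hom (σ k Ω) x, by
      rw [← Scheme.Hom.comp_apply, (isPullback_map (Ω := Ω) (B ⊗ C) s).w]; rfl⟩
  exact ⟨C, gpC, j, inferInstance, inferInstance, inferInstance, inferInstance, ‹Surjective s.left›,
    (Groth.Agent.S19572.result k (B ⊗ C) A s (hD.trans hgA.symm)).1⟩

end Groth.Agent.H25AbCube
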