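import Groth.Agent.H19Grp.HomUnramified
import Groth.Agent.H19Grp.Quotient
import Groth.Agent.H25AbCube.KerFinite
import Groth.Agent.H26LocSym.Basic

/-!
# Homomorphisms of elliptic curves: etale iff injective on the tangent line
-/

set_option autoImplicit false
set_option linter.style.haveILetI false
set_option linter.unusedSectionVars false
set_option backward.isDefEq.respectTransparency false
set_option synthInstance.maxHeartbeats 400000
set_option maxHeartbeats 1000000
universe u

open CategoryTheory CategoryTheory.Limits MonoidalCategory CartesianMonoidalCategory MonObj GrpObj AlgebraicGeometry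
  TopologicalSpace
open Groth.Agent

noncomputable section

namespace Groth.Agent.H25AbCube

open H19Grp.TangentPow

variable {k : Type u} [Field k] [IsAlgClosed k] {E : Over (Spec (CommRingCat.of k))} [GrpObj E]
  [IsProper E.hom] [Smooth E.hom] [IsIntegral E.left]

/-- On a smooth curve, tangent vectors at the origin are multiples of any nonzero one. -/
theorem exists_eq_scale (hdim : topologicalKrullDim E.left = 1) (x y : sqz k k ⟶ E) (hx : red k k ≫ x = 1)
    (hy : red k k ≫ y = 1) (hx1 : x ≠ 1) : ∃ c : k, y = scale k c ≫ x := by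
  classical
  haveI : H26LocSym.Curve E.hom := ⟨inferInstance, inferInstance, hdim⟩
  let e : Spec (CommRingCat.of k) ⟶ E.left := (η[E]).left
  let o : LocSym.Pt E.hom := ⟨e, Over.w η[E]⟩
  let p : E.left := e (IsLocalRing.closedPoint k)
  haveI : IsDiscreteValuationRing (E.left.presheaf.stalk p) := H26LocSym.isDVR_stalk o
  obtain ⟨π, hπ⟩ := IsDiscreteValuationRing.exists_irreducible (E.left.presheaf.stalk p)
  have hm : IsLocalRing.maximalIdeal (E.left.presheaf.stalk p) = Ideal.span {π} :=
    (IsDiscreteValuationRing.irreducible_iff_uniformizer π).1 hπ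
  haveI : IsLocalRing (TrivSqZeroExt k k) := IsLocalRing.of_isUnit_or_isUnit_one_sub_self fun z => by
    by_cases h : z.fst = 0
    · exact Or.inr (TrivSqZeroExt.isUnit_iff_isUnit_fst.2 (by simp [h]))
    · exact Or.inl (TrivSqZeroExt.isUnit_iff_isUnit_fst.2 (isUnit_iff_ne_zero.2 h))
  haveI : Unique (PrimeSpectrum (TrivSqZeroExt k k)) := by
    refine { default := IsLocalRing.closedPoint _, uniq := fun P => PrimeSpectrum.ext ?_ }
    have h0 : ∀ z : TrivSqZeroExt k k, z.fst = 0 → z ∈ P.asIdeal := fun z hz => by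
      refine P.isPrime.mem_of_pow_mem 2 ?_
      rw [pow_two, show z * z = 0 from TrivSqZeroExt.ext (by simp [hz]) (by simp [hz])]
      exact zero_mem _
    refine le_antisymm (IsLocalRing.le_maximalIdeal P.isPrime.ne_top) fun z hz => h0 z ?_
    by_contra h
    exact (IsLocalRing.mem_maximalIdeal z).1 hz (TrivSqZeroExt.isUnit_iff_isUnit_fst.2 (isUnit_iff_ne_zero.2 h))
  -- tangent vectors as maps on the stalk
  have hcl : ∀ z : sqz k k ⟶ E, red k k ≫ z = 1 →
      z.left (IsLocalRing.closedPoint (TrivSqZeroExt k k)) = p := by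
    intro z hz
    have h := congrArg (fun w : 𝟙_ (Over (Spec (CommRingCat.of k))) ⟶ E => w.left (IsLocalRing.closedPoint k)) hz
    have h2 : (red k k).left (IsLocalRing.closedPoint k) = IsLocalRing.closedPoint (TrivSqZeroExt k k) :=
      Subsingleton.elim (α := PrimeSpectrum (TrivSqZeroExt k k)) _ _
    rw [← h2, ← Scheme.Hom.comp_apply]
    refine h.trans ?_
    show (1 : 𝟙_ (Over (Spec (CommRingCat.of k))) ⟶ E).left _ = p
    rw [H19Grp.one_left]
    exact congrArg e (Subsingleton.elim (α := PrimeSpectrum k) _ _)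
  obtain ⟨D, hD⟩ : ∃ D : ∀ z : sqz k k ⟶ E, red k k ≫ z = 1 → (E.left.presheaf.stalk p ⟶ sqzRing k k),
      ∀ z hz, Spec.map (D z hz) ≫ E.left.fromSpecStalk p = z.left :=
    ⟨fun z hz => E.left.presheaf.stalkSpecializes (specializes_of_eq (hcl z hz)) ≫ Scheme.stalkClosedPointTo z.left,
      fun z hz => by
        rw [Spec.map_comp, Category.assoc, Scheme.SpecMap_stalkSpecializes_fromSpecStalk]
        exact Scheme.Spec_stalkClosedPointTo_fromSpecStalk _⟩
  obtain ⟨ψ, hψ⟩ : ∃ ψ : CommRingCat.of k ⟶ E.left.presheaf.stalk p, Spec.map ψ = E.left.fromSpecStalk p ≫ E.hom :=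
    ⟨_, Spec.map_preimage _⟩
  have hDψ : ∀ z hz, ψ ≫ D z hz = CommRingCat.ofHom (TrivSqZeroExt.inlHom k k) := fun z hz => by
    apply Spec.map_injective
    rw [Spec.map_comp, hψ, reassoc_of% (hD z hz)]
    exact Over.w z
  let εc : E.left.presheaf.stalk p ⟶ CommRingCat.of k := Scheme.stalkClosedPointTo (R := CommRingCat.of k) e
  have hDε : ∀ z hz a, (D z hz a : TrivSqZeroExt k k).fst = εc a := fun z hz => by
    have : D z hz ≫ CommRingCat.ofHom (TrivSqZeroExt.fstHom k k k).toRingHom = εc := by
      apply Spec.map_injective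
      rw [← cancel_mono (E.left.fromSpecStalk p), Spec.map_comp, Category.assoc, hD,
        Scheme.Spec_stalkClosedPointTo_fromSpecStalk]
      refine (congrArg (·.left) hz).trans ?_
      rw [H19Grp.one_left]
      exact Category.id_comp _
    exact fun a => ConcreteCategory.congr_hom this a
  have hψε : ∀ c, εc (ψ c) = c := fun c => by
    rw [← hDε x hx, show (D x hx (ψ c) : TrivSqZeroExt k k) = TrivSqZeroExt.inl c from
      ConcreteCategory.congr_hom (hDψ x hx) c, TrivSqZeroExt.fst_inl]
  have huniq : ∀ z w hz hw, (D z hz π : TrivSqZeroExt k k).snd = (D w hw π : TrivSqZeroExt k k).snd → z = w := by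
    intro z w hz hw hπe
    refine Over.OverMorphism.ext ?_
    rw [← hD z hz, ← hD w hw]
    congr 2
    ext a : 2
    have hmem : a - ψ (εc a) ∈ IsLocalRing.maximalIdeal (E.left.presheaf.stalk p) := by
      intro hu
      have h1 := hu.map εc.hom
      rw [map_sub, hψε, sub_self] at h1
      exact not_isUnit_zero h1
    rw [hm, Ideal.mem_span_singleton] at hmem
    obtain ⟨b, hb⟩ := hmem
    rw [eq_add_of_sub_eq hb, map_add, map_add, map_mul, map_mul]
    congr 1
    · have hπ0 : εc π = 0 := by
        by_contra h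
        refine hπ.not_isUnit (isUnit_of_map_unit εc.hom _ (isUnit_iff_ne_zero.2 h))
      refine TrivSqZeroExt.ext ?_ ?_
      · simp [hDε, hπ0]
      · simp [hDε, hπ0, hπe]
    · exact (ConcreteCategory.congr_hom (hDψ z hz) _).trans (ConcreteCategory.congr_hom (hDψ w hw) _).symm
  have hscale : ∀ (c : k) (h : red k k ≫ scale k c ≫ x = 1),
      (D (scale k c ≫ x) h π : TrivSqZeroExt k k).snd = c * (D x hx π : TrivSqZeroExt k k).snd := by
    intro c h
    have : D (scale k c ≫ x) h = D x hx ≫ ringMap (c • LinearMap.id) := by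
      apply Spec.map_injective
      rw [← cancel_mono (E.left.fromSpecStalk p), Spec.map_comp, Category.assoc, hD, hD]
      rfl
    rw [this]
    show (TrivSqZeroExt.map (c • LinearMap.id) (D x hx π : TrivSqZeroExt k k)).snd = _
    simp
  have hred : ∀ c : k, red k k ≫ scale k c ≫ x = 1 := fun c => by
    rw [← Category.assoc, scale, red_sqzMap, hx]
  have hne : (D x hx π : TrivSqZeroExt k k).snd ≠ 0 := fun h => hx1 (by
    rw [← scale_one (K := k) x, huniq (scale k 1 ≫ x) (scale k 0 ≫ x) (hred 1) (hred 0) (by rw [hscale, hscale, h]; simp),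
      scale_zero hx])
  exact ⟨(D y hy π : TrivSqZeroExt k k).snd / (D x hx π : TrivSqZeroExt k k).snd,
    huniq _ _ hy (hred _) (by rw [hscale, div_mul_cancel₀ _ hne])⟩

theorem eq_one_of_formallyUnramified {G H : Over (Spec (CommRingCat.of k))} [GrpObj G] [GrpObj H]
    (f : G ⟶ H) [IsMonHom f] [FormallyUnramified f.left] [LocallyOfFiniteType f.left] (x : sqz k k ⟶ G)
    (hx : red k k ≫ x = 1) (hxf : x ≫ f = 1) : x = 1 := by
  let l := pullback.lift x.left (1 : sqz k k ⟶ G).left (congrArg (fun w : sqz k k ⟶ H => w.left)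
    (hxf.trans (MonObj.one_comp f).symm))
  have hsub : Subsingleton (PrimeSpectrum (TrivSqZeroExt k k)) := ⟨fun P Q => by
    have h0 : ∀ (P : PrimeSpectrum (TrivSqZeroExt k k)) (z : TrivSqZeroExt k k), z ∈ P.asIdeal ↔ z.fst = 0 := by
      intro P z
      refine ⟨fun hz => ?_, fun hz => P.isPrime.mem_of_pow_mem 2 ?_⟩
      · by_contra h
        exact P.isPrime.ne_top (Ideal.eq_top_of_isUnit_mem _ hz
          (TrivSqZeroExt.isUnit_iff_isUnit_fst.2 (isUnit_iff_ne_zero.2 h)))
      · rw [pow_two, show z * z = 0 from TrivSqZeroExt.ext (by simp [hz]) (by simp [hz])]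
        exact zero_mem _
    exact PrimeSpectrum.ext (Ideal.ext fun z => (h0 P z).trans (h0 Q z).symm)⟩
  have hrange : Set.range l ⊆ Set.range (pullback.diagonal f.left) := by
    rintro _ ⟨t, rfl⟩
    have hred : (red k k).left ≫ l = (η[G]).left ≫ pullback.diagonal f.left := by
      apply pullback.hom_ext
      · rw [Category.assoc, pullback.lift_fst, ← Over.comp_left, hx, H19Grp.one_left, Category.assoc,
          pullback.diagonal_fst, Category.comp_id]
        exact Category.id_comp _
      · rw [Category.assoc, pullback.lift_snd, ← Over.comp_left, MonObj.comp_one, H19Grp.one_left, Category.assoc,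
          pullback.diagonal_snd, Category.comp_id]
        exact Category.id_comp _
    refine ⟨(η[G]).left (IsLocalRing.closedPoint k), ?_⟩
    rw [← Scheme.Hom.comp_apply, ← hred, Scheme.Hom.comp_apply]
    exact congrArg l (hsub.elim _ _)
  haveI : IsOpenImmersion (pullback.diagonal f.left) := inferInstance
  have hf := IsOpenImmersion.lift_fac (pullback.diagonal f.left) l hrange
  have h1 := congr($hf ≫ pullback.fst _ _)
  have h2 := congr($hf ≫ pullback.snd _ _)
  rw [Category.assoc, pullback.diagonal_fst, pullback.lift_fst] at h1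
  rw [Category.assoc, pullback.diagonal_snd, pullback.lift_snd] at h2
  exact Over.OverMorphism.ext (h1.symm.trans h2)

/-- Unramified morphisms of finite type are quasi-finite. -/
theorem locallyQuasiFinite_of_formallyUnramified {X Y : Scheme.{u}} (f : X ⟶ Y) [FormallyUnramified f]
    [LocallyOfFiniteType f] : LocallyQuasiFinite f := by
  refine (HasRingHomProperty.iff_appLE (P := @LocallyQuasiFinite)).2 fun U V e => ?_
  letI := (f.appLE U.1 V.1 e).hom.toAlgebra
  haveI : Algebra.FormallyUnramified Γ(Y, U.1) Γ(X, V.1) :=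
    HasRingHomProperty.appLE @FormallyUnramified f inferInstance U V e
  haveI : Algebra.FiniteType Γ(Y, U.1) Γ(X, V.1) := f.finiteType_appLE U.2 V.2 e
  haveI : Algebra.QuasiFinite Γ(Y, U.1) Γ(X, V.1) := ⟨fun P _ => by
    haveI : Algebra.FormallyUnramified P.ResidueField (P.Fiber Γ(X, V.1)) := inferInstance
    haveI : Algebra.FiniteType P.ResidueField (P.Fiber Γ(X, V.1)) := inferInstance
    exact Algebra.FormallyUnramified.finite_of_free _ _⟩
  exact RingHom.quasiFinite_algebraMap.2 this

end Groth.Agent.H25AbCube
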