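import Groth.Agent.H25AbCube.GeomTate
import Groth.Agent.H25AbCube.TangentLine
import Groth.Agent.H27Perf.Tower
import Groth.Agent.H22Alg.Frobenius
import Groth.Agent.H25Rig.GroupMaps

/-!
# Points over finite fields as fixed points of the Frobenius
-/

set_option autoImplicit false
set_option linter.style.haveILetI false
set_option linter.unusedSectionVars false
set_option backward.isDefEq.respectTransparency false
set_option synthInstance.maxHeartbeats 400000
set_option maxHeartbeats 1000000
universe u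

open CategoryTheory CategoryTheory.Limits MonoidalCategory CartesianMonoidalCategory MonObj GrpObj AlgebraicGeometry
  FrobSch
open Groth.Agent

noncomputable section

namespace Groth.Agent.H25AbCube.FrobPoints

open Groth.Agent.H27Perf.Tower (fr fr_add)

variable (p : ℕ) [Fact p.Prime]

/-- The iterated Frobenius commutes with every morphism. -/
theorem fr_comm {X Y : Scheme.{u}} [IsCharP X p] [IsCharP Y p] (f : X ⟶ Y) :
    ∀ n, fr p X n ≫ f = f ≫ fr p Y n
  | 0 => (Category.id_comp _).trans (Category.comp_id _).symm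
  | n + 1 => by
    show (fr p X n ≫ frob X p) ≫ f = f ≫ fr p Y n ≫ frob Y p
    rw [Category.assoc, frob_comp p f, ← Category.assoc, fr_comm f n, Category.assoc]

/-- The iterated Frobenius of a spectrum. -/
theorem fr_Spec (S : CommRingCat.{u}) [IsCharP (Spec S) p] :
    ∀ n, ∃ φ : S ⟶ S, fr p (Spec S) n = Spec.map φ ∧ ∀ x : S, φ x = x ^ p ^ n
  | 0 => ⟨𝟙 S, (Spec.map_id S).symm, fun x => by simp⟩
  | n + 1 => by
    obtain ⟨φ, hφ, hx⟩ := fr_Spec S n
    refine ⟨CommRingCat.ofHom (powHom p S H27Perf.natCast_eq_zero_of_isCharP_Spec) ≫ φ, ?_, fun x => ?_⟩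
    · show fr p (Spec S) n ≫ frob (Spec S) p = _
      rw [hφ, H27Perf.frob_Spec, Spec.map_comp]
    · show φ (x ^ p) = _
      rw [hx, pow_succ', pow_mul]

theorem fr_Spec_eq_id (S : CommRingCat.{u}) [IsCharP (Spec S) p] (n : ℕ) (h : ∀ x : S, x ^ p ^ n = x) :
    fr p (Spec S) n = 𝟙 _ := by
  obtain ⟨φ, hφ, hx⟩ := fr_Spec p S n
  rw [hφ, show φ = 𝟙 S from CommRingCat.hom_ext (RingHom.ext fun x => (hx x).trans (h x)), Spec.map_id]

theorem isIntegralHom_fr {X : Scheme.{u}} [IsCharP X p] : ∀ n, IsIntegralHom (fr p X n)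
  | 0 => inferInstanceAs (IsIntegralHom (𝟙 X))
  | n + 1 => by
    haveI := isIntegralHom_fr (X := X) n
    haveI := H22Alg.Frobenius.isIntegralHom_frob (p := p) X
    exact inferInstanceAs (IsIntegralHom (fr p X n ≫ frob X p))

/-- Over dual numbers a power of the characteristic kills the infinitesimal part. -/
theorem pow_dual {R : Type u} [CommRing R] (hR : (p : R) = 0) {n : ℕ} (hn : n ≠ 0)
    (x : TrivSqZeroExt R R) : x ^ p ^ n = TrivSqZeroExt.inl (x.fst ^ p ^ n) := by
  refine TrivSqZeroExt.ext (by simp) ?_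
  rw [TrivSqZeroExt.snd_pow, TrivSqZeroExt.snd_inl, nsmul_eq_mul, Nat.cast_pow, hR, zero_pow hn, zero_mul]

section Base

variable {K : Type u} [Field K] [CharP K p] (A : Over (Spec (CommRingCat.of K)))

instance isCharP_left : IsCharP A.left p := IsCharP.of_hom A.hom p

variable (N : ℕ) (hN : ∀ x : K, x ^ p ^ N = x)

include hN in
theorem pow_mul_eq (n : ℕ) (x : K) : x ^ p ^ (N * n) = x := by
  induction n with
  | zero => simp
  | succ n ih => rw [Nat.mul_succ, pow_add, pow_mul, ih, hN]

/-- The Frobenius of the base field to a power, as an endomorphism over the base. -/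
def F (n : ℕ) : A ⟶ A := Over.homMk (fr p A.left (N * n)) (by
  rw [fr_comm, fr_Spec_eq_id p _ _ fun x => pow_mul_eq p N hN n x, Category.comp_id])

theorem F_left (n : ℕ) : (F p A N hN n).left = fr p A.left (N * n) := rfl

theorem F_zero : F p A N hN 0 = 𝟙 A := Over.OverMorphism.ext (by rw [F_left, Nat.mul_zero]; rfl)

theorem F_succ (n : ℕ) : F p A N hN (n + 1) = F p A N hN 1 ≫ F p A N hN n := Over.OverMorphism.ext (by
  rw [Over.comp_left, F_left, F_left, F_left, ← fr_add]
  congr 1
  ring)

theorem isMonHom_F [GrpObj A] [IsProper A.hom] [GeometricallyIntegral A.hom] (n : ℕ) :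
    IsMonHom (F p A N hN n) := by
  refine H25Rig.isMonHom_of_one_hom _ (Over.OverMorphism.ext ?_)
  rw [Over.comp_left, F_left]
  haveI : IsCharP (𝟙_ (Over (Spec (CommRingCat.of K)))).left p := inferInstanceAs (IsCharP (Spec (CommRingCat.of K)) p)
  rw [← fr_comm p (η[A]).left]
  show fr p (Spec (CommRingCat.of K)) _ ≫ _ = _
  rw [fr_Spec_eq_id p _ _ fun x => pow_mul_eq p N hN n x]
  exact Category.id_comp _

theorem isFinite_F [IsProper A.hom] (n : ℕ) : IsFinite (F p A N hN n).left := by
  haveI : LocallyOfFiniteType ((F p A N hN n).left ≫ A.hom) := by rw [Over.w (F p A N hN n)]; infer_instance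
  rw [IsFinite.iff_isIntegralHom_and_locallyOfFiniteType]
  exact ⟨isIntegralHom_fr p _, locallyOfFiniteType_of_comp _ A.hom⟩

/-- A point over a finite extension is a fixed point over an algebraically closed field. -/
def toFixed (Ω : Type u) [Field Ω] [Algebra K Ω] (K' : Type u) [Field K'] [Algebra K K'] (θ : K' →ₐ[K] Ω) (n : ℕ)
    (hK' : ∀ x : K', x ^ p ^ (N * n) = x)
    (g : Over.mk (Spec.map (CommRingCat.ofHom (algebraMap K K'))) ⟶ A) :
    {x : SGA7.pt Ω ⟶ A // x ≫ F p A N hN n = x} :=
  ⟨(Over.homMk (Spec.map (CommRingCat.ofHom θ.toRingHom)) (by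
      show Spec.map _ ≫ Spec.map _ = Spec.map _
      rw [← Spec.map_comp, ← CommRingCat.ofHom_comp]
      exact congrArg (fun f => Spec.map (CommRingCat.ofHom f)) θ.comp_algebraMap) :
        SGA7.pt Ω ⟶ Over.mk (Spec.map (CommRingCat.ofHom (algebraMap K K')))) ≫ g, by
    haveI : CharP K' p := charP_of_injective_algebraMap (algebraMap K K').injective p
    refine Over.OverMorphism.ext ?_
    simp only [Over.comp_left, F_left, Category.assoc]
    congr 1
    haveI : IsCharP (Over.mk (Spec.map (CommRingCat.ofHom (algebraMap K K')))).left p :=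
      inferInstanceAs (IsCharP (Spec (CommRingCat.of K')) p)
    rw [← fr_comm p g.left]
    show fr p (Spec (CommRingCat.of K')) _ ≫ _ = _
    rw [fr_Spec_eq_id p _ _ hK']
    exact Category.id_comp _⟩

theorem bijective_toFixed [IsProper A.hom] (Ω : Type u) [Field Ω] [Algebra K Ω] (K' : Type u) [Field K'] [Algebra K K']
    [Finite K'] (θ : K' →ₐ[K] Ω) {n : ℕ} (hK' : ∀ x : K', x ^ p ^ (N * n) = x) (hcard : Nat.card K' = p ^ (N * n)) :
    Function.Bijective (toFixed p A N hN Ω K' θ n hK') := by
  classical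
  constructor
  · intro g g' h
    have h1 := congrArg (fun x => x.1.left) h
    simp only [toFixed, Over.comp_left, Over.homMk_left] at h1
    refine Over.OverMorphism.ext ?_
    haveI : Surjective (Spec.map (CommRingCat.ofHom θ.toRingHom)) :=
      ⟨fun y => ⟨IsLocalRing.closedPoint Ω, Subsingleton.elim (α := PrimeSpectrum K') _ _⟩⟩
    haveI : IsReduced (Over.mk (Spec.map (CommRingCat.ofHom (algebraMap K K')))).left :=
      inferInstanceAs (IsReduced (Spec (CommRingCat.of K')))
    exact ext_of_isDominant_of_isSeparated A.hom ((Over.w g).trans (Over.w g').symm)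
      (Spec.map (CommRingCat.ofHom θ.toRingHom)) h1
  · rintro ⟨x, hx⟩
    have hinj : Function.Injective θ := θ.toRingHom.injective
    haveI : CharP Ω p := charP_of_injective_algebraMap (algebraMap K Ω).injective p
    haveI : IsCharP (SGA7.pt (K := K) Ω).left p := inferInstanceAs (IsCharP (Spec (CommRingCat.of Ω)) p)
    obtain ⟨⟨a, φ⟩, hφ⟩ := (Scheme.SpecToEquivOfField Ω A.left).symm.surjective x.left
    change Spec.map φ ≫ A.left.fromSpecResidueField a = x.left at hφ
    obtain ⟨ψ₀, hψ₀, hψx⟩ := fr_Spec p (CommRingCat.of Ω) (N * n)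
    have h1 : x.left ≫ fr p A.left (N * n) = x.left := congrArg (fun y : SGA7.pt Ω ⟶ A => y.left) hx
    rw [← fr_comm p x.left] at h1
    change fr p (Spec (CommRingCat.of Ω)) _ ≫ x.left = x.left at h1
    rw [hψ₀, ← hφ, ← Category.assoc, ← Spec.map_comp] at h1
    have h2 : φ ≫ ψ₀ = φ := by
      have h3 := (Scheme.SpecToEquivOfField Ω A.left).symm.injective (a₁ := ⟨a, φ ≫ ψ₀⟩) (a₂ := ⟨a, φ⟩) h1
      exact eq_of_heq (Sigma.mk.inj_iff.1 h3).2
    have hfix : ∀ z, φ z ^ p ^ (N * n) = φ z := fun z => by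
      have := ConcreteCategory.congr_hom h2 z
      exact (hψx _).symm.trans this
    have hrange : ∀ z, ∃ w, θ w = φ z := by
      intro z
      let f : Polynomial Ω := Polynomial.X ^ p ^ (N * n) - Polynomial.X
      haveI : Fintype K' := Fintype.ofFinite K'
      have hf : f ≠ 0 := FiniteField.X_pow_card_sub_X_ne_zero Ω (by
        have := Finite.one_lt_card (α := K')
        omega)
      have hdeg : f.natDegree = p ^ (N * n) := FiniteField.X_pow_card_sub_X_natDegree_eq Ω (by
        have := Finite.one_lt_card (α := K')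
        omega)
      have hsub : Finset.univ.image θ ⊆ f.roots.toFinset := by
        intro y hy
        obtain ⟨w, -, rfl⟩ := Finset.mem_image.1 hy
        rw [Multiset.mem_toFinset, Polynomial.mem_roots hf, Polynomial.IsRoot]
        simp [f, ← map_pow, hK']
      have heq : Finset.univ.image θ = f.roots.toFinset := Finset.eq_of_subset_of_card_le hsub (by
        rw [Finset.card_image_of_injective _ hinj, Finset.card_univ, ← Nat.card_eq_fintype_card, hcard, ← hdeg]
        exact (Multiset.toFinset_card_le _).trans (Polynomial.card_roots' _))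
      have : φ z ∈ Finset.univ.image θ := by
        rw [heq, Multiset.mem_toFinset, Polynomial.mem_roots hf, Polynomial.IsRoot]
        simp [f, hfix z]
      obtain ⟨w, -, hw⟩ := Finset.mem_image.1 this
      exact ⟨w, hw⟩
    choose w hw using hrange
    let w' : A.left.residueField a →+* K' :=
      { toFun := w
        map_one' := hinj (by rw [hw, map_one, map_one])
        map_mul' := fun y z => hinj (by rw [hw, map_mul, map_mul, hw, hw])
        map_zero' := hinj (by rw [hw, map_zero, map_zero])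
        map_add' := fun y z => hinj (by rw [hw, map_add, map_add, hw, hw]) }
    have hfac : CommRingCat.ofHom w' ≫ CommRingCat.ofHom θ.toRingHom = φ :=
      CommRingCat.hom_ext (RingHom.ext hw)
    let g₀ : Spec (CommRingCat.of K') ⟶ A.left :=
      Spec.map (CommRingCat.ofHom w') ≫ A.left.fromSpecResidueField a
    have hg₀ : Spec.map (CommRingCat.ofHom θ.toRingHom) ≫ g₀ = x.left := by
      rw [← hφ, ← hfac, Spec.map_comp, Category.assoc]
    have hover : g₀ ≫ A.hom = Spec.map (CommRingCat.ofHom (algebraMap K K')) := by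
      obtain ⟨ρ, hρ⟩ : ∃ ρ, Spec.map ρ = g₀ ≫ A.hom := ⟨_, Spec.map_preimage _⟩
      rw [← hρ]
      refine congrArg Spec.map (CommRingCat.hom_ext (RingHom.ext fun c => hinj ?_))
      have h3 : ρ ≫ CommRingCat.ofHom θ.toRingHom = CommRingCat.ofHom (algebraMap K Ω) := by
        apply Spec.map_injective
        rw [Spec.map_comp, hρ, ← Category.assoc, hg₀]
        exact Over.w x
      exact (ConcreteCategory.congr_hom h3 c).trans (θ.commutes c).symm
    exact ⟨Over.homMk g₀ hover, Subtype.ext (Over.OverMorphism.ext hg₀)⟩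

end Base

section Count

open GeomTate

attribute [local instance] Functor.grpObjObj

variable {K : Type u} [Field K] [CharP K p] {A : Over (Spec (CommRingCat.of K))} [GrpObj A] [IsProper A.hom]
  [GeometricallyIntegral A.hom] [IsCommMonObj A] (N : ℕ) (hN : ∀ x : K, x ^ p ^ N = x)
  (Ω : Type u) [Field Ω] [Algebra K Ω] [IsAlgClosed Ω]

/-- The endomorphism given by the Frobenius of the base field, over the big field. -/
def frobEnd : EndAV.End ((bc K Ω).obj A) :=
  haveI := isMonHom_F p A N hN 1
  EndAV.End.of ((bc K Ω).map (F p A N hN 1))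

theorem toHom_frobEnd_pow (n : ℕ) :
    (frobEnd p N hN Ω (A := A) ^ n).toHom = (bc K Ω).map (F p A N hN n) := by
  induction n with
  | zero => rw [pow_zero, EndAV.End.toHom_one, F_zero, CategoryTheory.Functor.map_id]
  | succ n ih =>
    rw [pow_succ, EndAV.End.toHom_mul, ih, frobEnd, EndAV.End.toHom_of, F_succ p A N hN n,
      CategoryTheory.Functor.map_comp]

theorem isFinite_frobEnd_pow (n : ℕ) : IsFinite (frobEnd p N hN Ω (A := A) ^ n).toHom.left := by
  rw [toHom_frobEnd_pow]
  exact MorphismProperty.of_isPullback (isPullback_map (Ω := Ω) A (F p A N hN n)) (isFinite_F p A N hN n)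

open H19Grp.TangentPow in
/-- The Frobenius kills tangent vectors. -/
theorem tangent_comp_map {n : ℕ} (hn : N * n ≠ 0) (z : sqz Ω Ω ⟶ (bc K Ω).obj A) (hz : red Ω Ω ≫ z = 1) :
    z ≫ (bc K Ω).map (F p A N hN n) = 1 := by
  haveI : CharP Ω p := charP_of_injective_algebraMap (algebraMap K Ω).injective p
  refine Over.OverMorphism.ext (pullback.hom_ext ?_ ((Over.w _).trans (Over.w _).symm))
  haveI : IsCharP (sqz Ω Ω).left p := IsCharP.of_hom (sqz Ω Ω).hom p
  haveI : IsCharP (SGA7.pt (K := Ω) Ω).left p := inferInstanceAs (IsCharP (Spec (CommRingCat.of Ω)) p)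
  rw [Over.comp_left, Category.assoc, ← (isPullback_map (Ω := Ω) A (F p A N hN n)).w, F_left, ← Category.assoc,
    ← fr_comm p (z.left ≫ pullback.fst A.hom (σ K Ω))]
  haveI : IsCharP (Spec (CommRingCat.of (TrivSqZeroExt Ω Ω))) p :=
    inferInstanceAs (IsCharP (sqz Ω Ω).left p)
  obtain ⟨φ, hφ, hφx⟩ := fr_Spec p (CommRingCat.of (TrivSqZeroExt Ω Ω)) (N * n)
  obtain ⟨χ, hχ, hχx⟩ := fr_Spec p (CommRingCat.of Ω) (N * n)
  have hfac : φ = CommRingCat.ofHom (TrivSqZeroExt.fstHom Ω Ω Ω).toRingHom ≫ χ ≫
      CommRingCat.ofHom (TrivSqZeroExt.inlHom Ω Ω) := by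
    refine CommRingCat.hom_ext (RingHom.ext fun y => (hφx y).trans ((pow_dual p (CharP.cast_eq_zero Ω p) hn y).trans ?_))
    exact (congrArg TrivSqZeroExt.inl (hχx _)).symm
  have h1 : fr p (sqz Ω Ω).left (N * n) = (sqz Ω Ω).hom ≫ fr p (Spec (CommRingCat.of Ω)) (N * n) ≫ (red Ω Ω).left := by
    rw [hχ]
    show fr p (Spec (CommRingCat.of (TrivSqZeroExt Ω Ω))) _ = _
    rw [hφ, hfac, Spec.map_comp, Spec.map_comp, Category.assoc]
    rfl
  rw [h1]
  simp only [Category.assoc]
  rw [← Category.assoc (red Ω Ω).left, ← Over.comp_left, hz, H19Grp.one_left, H19Grp.one_left]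
  simp only [Category.assoc]
  congr 1
  erw [Category.id_comp]
  refine (fr_comm p (X := Spec (CommRingCat.of Ω))
    ((η[(bc K Ω).obj A]).left ≫ pullback.fst A.hom (σ K Ω)) _).trans ?_
  rw [Category.assoc, ← F_left p A N hN,
    (isPullback_map (Ω := Ω) A (F p A N hN n)).w, ← Category.assoc, ← Over.comp_left]
  haveI := isMonHom_F p A N hN n
  rw [IsMonHom.one_hom (f := (bc K Ω).map (F p A N hN n))]

/-- The number of fixed points of a power of the Frobenius is a degree. -/
theorem card_fixed [Algebra.IsAlgebraic K Ω] {g : ℕ} (hg : topologicalKrullDim A.left = g) {n : ℕ} (hn : N * n ≠ 0) :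
    Nat.card {x : SGA7.pt Ω ⟶ A // x ≫ F p A N hN n = x} =
      degree (frobEnd p N hN Ω (A := A) ^ n - 1).toHom := by
  have hg' := dim_bc (Ω := Ω) A hg
  let h := (frobEnd p N hN Ω (A := A) ^ n - 1).toHom
  have hh : h = (bc K Ω).map (F p A N hN n) / 𝟙 _ := by
    show (frobEnd p N hN Ω (A := A) ^ n - 1).toHom = _
    rw [EndAV.End.toHom_sub, toHom_frobEnd_pow, EndAV.End.toHom_one]
  have hdiv : ∀ {T : Over (Spec (CommRingCat.of Ω))} (z : T ⟶ (bc K Ω).obj A),
      z ≫ h = (z ≫ (bc K Ω).map (F p A N hN n)) / z := fun z => by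
    rw [hh, div_eq_mul_inv, MonObj.comp_mul, GrpObj.comp_inv, Category.comp_id, ← div_eq_mul_inv]
  haveI : IsMonHom h := inferInstanceAs (IsMonHom (frobEnd p N hN Ω (A := A) ^ n - 1).toHom)
  haveI : FormallyUnramified h.left := H19Grp.formallyUnramified_of_tangent h fun z hz hz' => by
    rw [hdiv, tangent_comp_map p N hN Ω hn z hz, div_eq_mul_inv, _root_.one_mul, inv_eq_one] at hz'
    exact hz'
  haveI : IsProper (h.left ≫ ((bc K Ω).obj A).hom) := by rw [Over.w h]; infer_instance
  haveI : IsProper h.left := IsProper.of_comp h.left ((bc K Ω).obj A).hom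
  haveI := locallyQuasiFinite_of_formallyUnramified h.left
  haveI : IsFinite h.left := IsFinite.of_isProper_of_locallyQuasiFinite _
  haveI := flat_of_finite h hg' hg'
  haveI : IsIntegral ((bc K Ω).obj A).left :=
    GeometricallyIntegral.isIntegral_of_subsingleton ((bc K Ω).obj A).hom
  let q := pullback.snd h.left (η[(bc K Ω).obj A]).left
  haveI : IsFinite q := inferInstance
  haveI : Flat q := MorphismProperty.pullback_snd _ _ inferInstance
  haveI : FormallyUnramified q := MorphismProperty.pullback_snd _ _ inferInstance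
  haveI := discreteTopology_of_finite q
  let e₁ : closedPoints (pullback h.left (η[(bc K Ω).obj A]).left : Scheme.{u}) ≃
      (pullback h.left (η[(bc K Ω).obj A]).left : Scheme.{u}) :=
    ⟨Subtype.val, fun z => ⟨z, isClosed_discrete _⟩, fun _ => rfl, fun _ => rfl⟩
  let e₂ : {x : SGA7.pt Ω ⟶ A // x ≫ F p A N hN n = x} ≃ ↥(ptsKer h) :=
    (ψ (k := K) (Ω := Ω) A).toEquiv.subtypeEquiv fun x => by
      show _ ↔ ψ A x ∈ ptsKer h
      rw [mem_ptsKer, hdiv, div_eq_one, ← ψ_comp]
      exact ((ψ A).injective.eq_iff).symm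
  rw [Nat.card_congr (e₂.trans ((ptsKerEquiv h).trans ((pointEquivClosedPoint q).trans e₁))),
    card_eq_finrank q (IsLocalRing.closedPoint Ω),
    Scheme.Hom.finrank_of_isPullback _ _ _ _ (IsPullback.of_hasPullback h.left (η[(bc K Ω).obj A]).left) _,
    finrank_eq_degree h hg' hg']

end Count

end Groth.Agent.H25AbCube.FrobPoints
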