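import Groth.Agent.H25Theta.Cls
import Groth.Agent.S17254

/-!
# Invertible classes over a field and alternating sums from the theorem of the cube
-/

set_option autoImplicit false
set_option linter.style.haveILetI false
universe u

open CategoryTheory CategoryTheory.Limits MonoidalCategory CartesianMonoidalCategory AlgebraicGeometry
open Groth.Agent Groth.Agent.H25Theta

noncomputable section

namespace Groth.Agent.H25AbCube

variable {X Y Z : Scheme.{u}}

/-- The group of classes of invertible modules. -/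
def invSub (X : Scheme.{u}) : Subgroup (Cls X)ˣ where
  carrier := {u | ∃ M : X.Modules, PicF.IsInvertible M ∧ cls M = (u : Cls X)}
  one_mem' := ⟨Coh.structureModule X, H11Ample.isInvertible_structureModule, rfl⟩
  mul_mem' := by
    rintro u v ⟨M, hM, hu⟩ ⟨N, hN, hv⟩
    exact ⟨CohB1.tensorMod M N, H11Ample.isInvertible_tensor hM hN, by rw [cls_tensor, hu, hv, Units.val_mul]⟩
  inv_mem' := by
    rintro u ⟨M, hM, hu⟩
    obtain ⟨N, hN, h⟩ := H11Sym.exists_inverse hM
    refine ⟨N, hN, ?_⟩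
    have h1 : cls N * cls M = 1 := Quot.sound h
    rw [hu] at h1
    exact Units.eq_inv_of_mul_eq_one_left ((mul_comm _ _).trans h1)

/-- The additive group of classes of invertible modules. -/
abbrev PC (X : Scheme.{u}) := Additive (invSub X)

/-- The class of an invertible module. -/
def pc (M : X.Modules) (hM : PicF.IsInvertible M) : PC X :=
  Additive.ofMul ⟨unitCls hM, M, hM, rfl⟩

theorem pc_eq_iff {M N : X.Modules} (hM : PicF.IsInvertible M) (hN : PicF.IsInvertible N) :
    pc M hM = pc N hN ↔ Nonempty (M ≅ N) := by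
  rw [← cls_eq]
  refine ⟨fun h => congrArg (fun u : PC X => ((Additive.toMul u).1 : Cls X)) h, fun h => ?_⟩
  exact congrArg Additive.ofMul (Subtype.ext (Units.ext h))

theorem pc_tensor {M N : X.Modules} (hM : PicF.IsInvertible M) (hN : PicF.IsInvertible N)
    (h : PicF.IsInvertible (CohB1.tensorMod M N)) : pc (CohB1.tensorMod M N) h = pc M hM + pc N hN :=
  congrArg Additive.ofMul (Subtype.ext (Units.ext (cls_tensor M N)))

theorem pc_one : pc (Coh.structureModule X) H11Ample.isInvertible_structureModule = 0 :=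
  congrArg Additive.ofMul (Subtype.ext (Units.ext cls_structureModule))

theorem exists_rep (u : PC X) : ∃ (M : X.Modules) (hM : PicF.IsInvertible M), pc M hM = u := by
  obtain ⟨M, hM, h⟩ := (Additive.toMul u).2
  exact ⟨M, hM, congrArg Additive.ofMul (Subtype.ext (Units.ext h))⟩

/-- Pullback of invertible classes. -/
def pullP (f : X ⟶ Y) : PC Y →+ PC X :=
  MonoidHom.toAdditive <| ((pullU f).comp (invSub Y).subtype).codRestrict (invSub X) <| by
    rintro ⟨u, M, hM, hu⟩
    exact ⟨_, H11Ample.isInvertible_pullback f hM, (pull_cls f M).symm.trans (congrArg (pull f) hu)⟩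

theorem pullP_pc (f : X ⟶ Y) (M : Y.Modules) (hM : PicF.IsInvertible M)
    (h : PicF.IsInvertible ((Scheme.Modules.pullback f).obj M)) :
    pc ((Scheme.Modules.pullback f).obj M) h = pullP f (pc M hM) :=
  congrArg Additive.ofMul (Subtype.ext (Units.ext (pull_cls f M).symm))

theorem pullP_pullP (f : X ⟶ Y) (g : Y ⟶ Z) (u : PC Z) : pullP f (pullP g u) = pullP (f ≫ g) u :=
  congrArg Additive.ofMul (Subtype.ext (pullU_pullU f g _))

theorem pullP_id (u : PC X) : pullP (𝟙 X) u = u :=
  congrArg Additive.ofMul (Subtype.ext (pullU_id _))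

theorem eq_zero_of_subsingleton [Subsingleton X] [Nonempty X] (u : PC X) : u = 0 := by
  obtain ⟨M, hM, rfl⟩ := exists_rep u
  exact ((pc_eq_iff hM H11Ample.isInvertible_structureModule).2 (nonempty_iso_of_subsingleton hM)).trans pc_one

variable {k : Type u} [Field k]

/-- The value of a class at a point with values in `T`. -/
def ev {T A : Over (Spec (CommRingCat.of k))} (L : PC A.left) (f : T ⟶ A) : PC T.left := pullP f.left L

theorem ev_comp {T T' A : Over (Spec (CommRingCat.of k))} (L : PC A.left) (g : T' ⟶ T) (f : T ⟶ A) :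
    ev (ev L f) g = ev L (g ≫ f) := by
  simp only [ev, pullP_pullP, Over.comp_left]

theorem ev_toUnit {T A : Over (Spec (CommRingCat.of k))} (L : PC A.left) (x : 𝟙_ _ ⟶ A) :
    ev L (toUnit T ≫ x) = 0 := by
  rw [← ev_comp]
  haveI : Subsingleton (𝟙_ (Over (Spec (CommRingCat.of k)))).left :=
    inferInstanceAs (Subsingleton (PrimeSpectrum k))
  haveI : Nonempty (𝟙_ (Over (Spec (CommRingCat.of k)))).left :=
    inferInstanceAs (Nonempty (PrimeSpectrum k))
  rw [eq_zero_of_subsingleton (ev L x)]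
  exact map_zero _

/-- Alternating sum over the eight vertices of a cube. -/
def alt {α β γ G : Type*} [AddCommGroup G] (F : α → β → γ → G) (a a' : α) (b b' : β) (c c' : γ) : G :=
  F a b c - F a' b c - F a b' c - F a b c' + F a' b' c + F a' b c' + F a b' c' - F a' b' c'

theorem alt_self₁ {α β γ G : Type*} [AddCommGroup G] (F : α → β → γ → G) (a : α) (b b' : β) (c c' : γ) :
    alt F a a b b' c c' = 0 := by
  simp only [alt]; abel

theorem alt_self₂ {α β γ G : Type*} [AddCommGroup G] (F : α → β → γ → G) (a a' : α) (b : β) (c c' : γ) :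
    alt F a a' b b c c' = 0 := by
  simp only [alt]; abel

theorem alt_self₃ {α β γ G : Type*} [AddCommGroup G] (F : α → β → γ → G) (a a' : α) (b b' : β) (c : γ) :
    alt F a a' b b' c c = 0 := by
  simp only [alt]; abel

variable {U V W T : Over (Spec (CommRingCat.of k))}

/-- The value of a class on a triple product at three points. -/
def ev3 (L : PC (U ⊗ V ⊗ W).left) (a : T ⟶ U) (b : T ⟶ V) (c : T ⟶ W) : PC T.left :=
  ev L (lift a (lift b c))

theorem ev_ev3 {T' : Over (Spec (CommRingCat.of k))} (L : PC (U ⊗ V ⊗ W).left) (g : T' ⟶ T) (a : T ⟶ U)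
    (b : T ⟶ V) (c : T ⟶ W) : ev (ev3 L a b c) g = ev3 L (g ≫ a) (g ≫ b) (g ≫ c) := by
  simp only [ev3, ev_comp, comp_lift]

theorem ev_alt {T' : Over (Spec (CommRingCat.of k))} (L : PC (U ⊗ V ⊗ W).left) (g : T' ⟶ T) (a a' : T ⟶ U)
    (b b' : T ⟶ V) (c c' : T ⟶ W) :
    ev (alt (ev3 L) a a' b b' c c') g =
      alt (ev3 L) (g ≫ a) (g ≫ a') (g ≫ b) (g ≫ b') (g ≫ c) (g ≫ c') := by
  show pullP g.left _ = _
  simp only [alt, map_sub, map_add]
  simp only [← ev_ev3]
  rfl

/-- The theorem of the cube, in alternating form. -/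
theorem alt_eq_zero (U V W : Over (Spec (CommRingCat.of k)))
    [IsProper U.hom] [GeometricallyIntegral U.hom]
    [IsProper V.hom] [GeometricallyReduced V.hom] [GeometricallyConnected V.hom]
    [LocallyOfFiniteType W.hom] [QuasiCompact W.hom] [GeometricallyIntegral W.hom]
    (u₀ : 𝟙_ _ ⟶ U) (v₀ : 𝟙_ _ ⟶ V) (w₀ : 𝟙_ _ ⟶ W)
    (L : PC (U ⊗ V ⊗ W).left) {T : Over (Spec (CommRingCat.of k))} (a a' : T ⟶ U) (b b' : T ⟶ V) (c c' : T ⟶ W) :
    alt (ev3 L) a a' b b' c c' = 0 := by
  let θ := alt (ev3 L) (fst U (V ⊗ W)) (toUnit _ ≫ u₀) (snd U (V ⊗ W) ≫ fst V W) (toUnit _ ≫ v₀)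
    (snd U (V ⊗ W) ≫ snd V W) (toUnit _ ≫ w₀)
  have hθ : ∀ {S : Over (Spec (CommRingCat.of k))} (g : S ⟶ U ⊗ V ⊗ W),
      ev θ g = alt (ev3 L) (g ≫ fst U (V ⊗ W)) (toUnit _ ≫ u₀) (g ≫ snd U (V ⊗ W) ≫ fst V W) (toUnit _ ≫ v₀)
        (g ≫ snd U (V ⊗ W) ≫ snd V W) (toUnit _ ≫ w₀) := by
    intro S g
    simp only [θ, ev_alt, comp_toUnit_assoc]
  have hzero : θ = 0 := by
    obtain ⟨M, hM, hMθ⟩ := exists_rep θ
    have key : ∀ {S : Over (Spec (CommRingCat.of k))} (g : S ⟶ U ⊗ V ⊗ W),
        ev θ g = 0 → Nonempty ((Scheme.Modules.pullback g.left).obj M ≅ Coh.structureModule S.left) := by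
      intro S g h
      refine (pc_eq_iff (H11Ample.isInvertible_pullback _ hM) H11Ample.isInvertible_structureModule).1 ?_
      rw [pullP_pc _ M hM, hMθ, pc_one]
      exact h
    obtain ⟨e⟩ := S17254.result k U V W u₀ v₀ w₀ M hM
      (key _ (by rw [hθ]; simp [alt_self₁, alt_self₂, alt_self₃])) (key _ (by rw [hθ]; simp [alt_self₁, alt_self₂, alt_self₃])) (key _ (by rw [hθ]; simp [alt_self₁, alt_self₂, alt_self₃]))
    rw [← hMθ]
    exact ((pc_eq_iff hM H11Ample.isInvertible_structureModule).2 ⟨e⟩).trans pc_one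
  have h : ∀ (a : T ⟶ U) (b : T ⟶ V) (c : T ⟶ W),
      alt (ev3 L) a (toUnit T ≫ u₀) b (toUnit T ≫ v₀) c (toUnit T ≫ w₀) = 0 := by
    intro a b c
    have := hθ (lift a (lift b c))
    rw [hzero] at this
    simpa [ev] using this.symm
  calc alt (ev3 L) a a' b b' c c'
      = alt (fun a b c => alt (ev3 L) a (toUnit T ≫ u₀) b (toUnit T ≫ v₀) c (toUnit T ≫ w₀)) a a' b b' c c' := by
        simp only [alt]; abel
    _ = 0 := by simp only [h]; simp [alt]

end Groth.Agent.H25AbCube
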