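import Mathlib.AlgebraicGeometry.Morphisms.Smooth
import Mathlib.AlgebraicGeometry.Morphisms.Separated
import Mathlib.AlgebraicGeometry.Morphisms.QuasiCompact
import Mathlib.CategoryTheory.Monoidal.Cartesian.Over

/-!
# Properties of morphisms of products over a base
-/

set_option autoImplicit false
set_option linter.style.haveILetI false
set_option backward.isDefEq.respectTransparency false
universe u

open CategoryTheory CategoryTheory.Limits MonoidalCategory CartesianMonoidalCategory AlgebraicGeometry

namespace Groth.Agent.H25AbCube

variable {S : Scheme.{u}} (G W : Over S)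

theorem tensor_prop (P : MorphismProperty Scheme.{u}) [P.IsStableUnderBaseChange] [P.IsStableUnderComposition]
    (hG : P G.hom) (hW : P W.hom) : P (G ⊗ W).hom :=
  P.comp_mem (pullback.fst G.hom W.hom) G.hom (MorphismProperty.pullback_fst _ _ hW) hG

theorem tensor_smooth [Smooth G.hom] [Smooth W.hom] : Smooth (G ⊗ W).hom :=
  tensor_prop G W @Smooth inferInstance inferInstance

theorem tensor_separated [IsSeparated G.hom] [IsSeparated W.hom] : IsSeparated (G ⊗ W).hom :=
  tensor_prop G W @IsSeparated inferInstance inferInstance

theorem tensor_quasiCompact [QuasiCompact G.hom] [QuasiCompact W.hom] : QuasiCompact (G ⊗ W).hom :=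
  tensor_prop G W @QuasiCompact inferInstance inferInstance

end Groth.Agent.H25AbCube
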