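import Groth.Agent.H25AbCube.Square
import Groth.Agent.H25AbCube.TensorProps
import Groth.Agent.H06Red.Scheme
import Groth.Agent.H17.Reduced
import Groth.Prelude.Def_Pic13
import Mathlib.Topology.NoetherianSpace

/-!
# Translations fix classes algebraically equivalent to zero
-/

set_option autoImplicit false
set_option linter.style.haveILetI false
set_option backward.isDefEq.respectTransparency false
universe u

open CategoryTheory CategoryTheory.Limits MonoidalCategory CartesianMonoidalCategory MonObj AlgebraicGeometry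
open Groth.Agent

noncomputable section

namespace Groth.Agent.H25AbCube

variable {k : Type u} [Field k] [IsAlgClosed k]

/-- An integral scheme over an algebraically closed field is geometrically integral. -/
theorem geometricallyIntegral_of_isIntegral (Z : Over (Spec (CommRingCat.of k))) [IsIntegral Z.left] :
    GeometricallyIntegral Z.hom := by
  haveI := H19Grp.geometricallyIrreducible_of_irreducibleSpace Z.hom
  haveI := H06Red.geometricallyReduced_of_perfectField Z.hom
  exact GeometricallyIntegral.of_geometricallyReduced_of_geometricallyIrreducible Z.hom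

/-- A function on rational points constant on rational points of each integral subvariety is constant
on a connected scheme. -/
theorem const_of_components {β : Type*} (T : Over (Spec (CommRingCat.of k))) [LocallyOfFiniteType T.hom]
    [QuasiCompact T.hom] [ConnectedSpace T.left] (F : (𝟙_ _ ⟶ T) → β)
    (hF : ∀ (Z : Over (Spec (CommRingCat.of k))) (i : Z ⟶ T) (_ : LocallyOfFiniteType Z.hom)
      (_ : GeometricallyIntegral Z.hom) (z z' : 𝟙_ _ ⟶ Z), F (z ≫ i) = F (z' ≫ i))
    (t t' : 𝟙_ _ ⟶ T) : F t = F t' := by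
  classical
  haveI : CompactSpace T.left := QuasiCompact.compactSpace_of_compactSpace T.hom
  haveI : IsLocallyNoetherian T.left := LocallyOfFiniteType.isLocallyNoetherian T.hom
  haveI : IsNoetherian T.left := {}
  haveI : JacobsonSpace T.left := LocallyOfFiniteType.jacobsonSpace T.hom
  let pt : (𝟙_ _ ⟶ T) → T.left := fun s => s.left (IsLocalRing.closedPoint k)
  have hsame : ∀ C ∈ irreducibleComponents (T.left : Type u), ∀ s s' : 𝟙_ _ ⟶ T, pt s ∈ C → pt s' ∈ C → F s = F s' := by
    intro C hC s s' hs hs'
    let C' : TopologicalSpace.Closeds T.left := ⟨C, isClosed_of_mem_irreducibleComponents C hC⟩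
    let I := Scheme.IdealSheafData.vanishingIdeal C'
    let Z : Over (Spec (CommRingCat.of k)) := Over.mk (I.subschemeι ≫ T.hom)
    let i : Z ⟶ T := Over.homMk I.subschemeι rfl
    have hrange : Set.range I.subschemeι = C := by
      rw [Scheme.IdealSheafData.range_subschemeι]
      rfl
    haveI : LocallyOfFiniteType Z.hom := inferInstanceAs (LocallyOfFiniteType (I.subschemeι ≫ T.hom))
    haveI : IrreducibleSpace Z.left := by
      haveI : IrreducibleSpace C := Subtype.irreducibleSpace hC.1
      exact (I.subschemeι.isClosedEmbedding.isEmbedding.toHomeomorph.trans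
        (Homeomorph.setCongr hrange)).irreducibleSpace_iff.2 inferInstance
    haveI : IsReduced Z.left := H17.isReduced_vanishingIdeal_subscheme C'
    haveI : IsIntegral Z.left := isIntegral_of_irreducibleSpace_of_isReduced _
    haveI : GeometricallyIntegral Z.hom := geometricallyIntegral_of_isIntegral Z
    have lift : ∀ r : 𝟙_ _ ⟶ T, pt r ∈ C → ∃ z : 𝟙_ _ ⟶ Z, z ≫ i = r := by
      intro r hr
      rw [← hrange] at hr
      obtain ⟨z, hz⟩ := hr
      haveI : JacobsonSpace Z.left := LocallyOfFiniteType.jacobsonSpace Z.hom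
      have hcl : IsClosed ({z} : Set Z.left) := by
        have h1 : IsClosed ({pt r} : Set T.left) := ((pointEquivClosedPoint T.hom) ⟨r.left, Over.w r⟩).2
        have : ({z} : Set Z.left) = I.subschemeι ⁻¹' {pt r} := by
          ext w
          exact ⟨fun h => (congrArg _ h).trans hz, fun h =>
            I.subschemeι.isClosedEmbedding.injective (h.trans hz.symm)⟩
        rw [this]
        exact h1.preimage I.subschemeι.continuous
      let q := (pointEquivClosedPoint Z.hom).symm ⟨z, hcl⟩
      refine ⟨Over.homMk q.1 q.2, Over.OverMorphism.ext ?_⟩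
      have hq : q.1 (IsLocalRing.closedPoint k) = z :=
        congrArg Subtype.val ((pointEquivClosedPoint Z.hom).apply_symm_apply ⟨z, hcl⟩)
      have := (pointEquivClosedPoint T.hom).injective (a₁ := ⟨q.1 ≫ I.subschemeι, by rw [Category.assoc]; exact q.2⟩)
        (a₂ := ⟨r.left, Over.w r⟩) (Subtype.ext (show I.subschemeι (q.1 (IsLocalRing.closedPoint k)) = pt r by
          rw [hq]; exact hz))
      exact congrArg Subtype.val this
    obtain ⟨z, hz⟩ := lift s hs
    obtain ⟨z', hz'⟩ := lift s' hs'
    rw [← hz, ← hz']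
    exact hF Z i inferInstance inferInstance z z'
  let P : Set T.left := ⋃ C ∈ {C | C ∈ irreducibleComponents (T.left : Type u) ∧
    ∀ s, pt s ∈ C → F s = F t}, C
  let Q : Set T.left := ⋃ C ∈ {C | C ∈ irreducibleComponents (T.left : Type u) ∧
    ¬ ∀ s, pt s ∈ C → F s = F t}, C
  have hfin := TopologicalSpace.NoetherianSpace.finite_irreducibleComponents (α := T.left)
  have hPc : IsClosed P := (hfin.subset fun C hC => hC.1).isClosed_biUnion fun C hC =>
    isClosed_of_mem_irreducibleComponents C hC.1
  have hQc : IsClosed Q := (hfin.subset fun C hC => hC.1).isClosed_biUnion fun C hC =>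
    isClosed_of_mem_irreducibleComponents C hC.1
  have hPQ : P ∪ Q = Set.univ := Set.eq_univ_of_forall fun x => by
    by_cases h : ∀ s, pt s ∈ irreducibleComponent x → F s = F t
    · exact Or.inl (Set.mem_biUnion (x := irreducibleComponent x)
        ⟨irreducibleComponent_mem_irreducibleComponents x, h⟩ mem_irreducibleComponent)
    · exact Or.inr (Set.mem_biUnion (x := irreducibleComponent x)
        ⟨irreducibleComponent_mem_irreducibleComponents x, h⟩ mem_irreducibleComponent)
  have hdisj : P ∩ Q = ∅ := by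
    rw [Set.eq_empty_iff_forall_notMem]
    intro x ⟨hx, hx'⟩
    obtain ⟨C, hC, hxC⟩ := Set.mem_iUnion₂.1 hx
    obtain ⟨C', hC', hxC'⟩ := Set.mem_iUnion₂.1 hx'
    obtain ⟨y, hy, hyc⟩ := nonempty_inter_closedPoints (Z := C ∩ C') ⟨x, hxC, hxC'⟩
      ((isClosed_of_mem_irreducibleComponents C hC.1).inter
        (isClosed_of_mem_irreducibleComponents C' hC'.1)).isLocallyClosed
    let q := (pointEquivClosedPoint T.hom).symm ⟨y, hyc⟩
    have hq : pt (Over.homMk q.1 q.2) = y :=
      congrArg Subtype.val ((pointEquivClosedPoint T.hom).apply_symm_apply ⟨y, hyc⟩)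
    refine hC'.2 fun s hs => ?_
    exact (hsame C' hC'.1 s (Over.homMk q.1 q.2) hs (hq ▸ hy.2)).trans (hC.2 _ (hq ▸ hy.1))
  have hP : IsClopen P := ⟨hPc, by
    have : P = Qᶜ := Set.ext fun x => ⟨fun hx hx' => (Set.eq_empty_iff_forall_notMem.1 hdisj x) ⟨hx, hx'⟩,
      fun hx => (hPQ.ge (Set.mem_univ x)).resolve_right hx⟩
    rw [this]; exact hQc.isOpen_compl⟩
  have htP : pt t ∈ P := Set.mem_biUnion (x := irreducibleComponent (pt t))
    ⟨irreducibleComponent_mem_irreducibleComponents _, fun s hs => hsame _
      (irreducibleComponent_mem_irreducibleComponents _) s t hs mem_irreducibleComponent⟩ mem_irreducibleComponent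
  have := hP.eq_univ ⟨_, htP⟩
  obtain ⟨C, hC, hC'⟩ := Set.mem_iUnion₂.1 (this ▸ Set.mem_univ (pt t') : pt t' ∈ P)
  exact (hC.2 t' hC').symm

variable (G : Over (Spec (CommRingCat.of k))) [GrpObj G] [Smooth G.hom] [IsSeparated G.hom] [QuasiCompact G.hom]
  [GeometricallyIntegral G.hom]

/-- The difference of a translate and the class is constant in families over a variety. -/
theorem transl_sub_const (Z : Over (Spec (CommRingCat.of k))) [LocallyOfFiniteType Z.hom]
    [GeometricallyIntegral Z.hom] (M : PC (G ⊗ Z).left) (a : 𝟙_ _ ⟶ G) (z z' : 𝟙_ _ ⟶ Z) :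
    ev M (lift (𝟙 G * (toUnit G ≫ a)) (toUnit G ≫ z)) - ev M (lift (𝟙 G) (toUnit G ≫ z)) =
      ev M (lift (𝟙 G * (toUnit G ≫ a)) (toUnit G ≫ z')) - ev M (lift (𝟙 G) (toUnit G ≫ z')) := by
  let m : G ⊗ Z ⊗ G ⟶ G ⊗ Z :=
    lift ((snd G (Z ⊗ G) ≫ snd Z G) * fst G (Z ⊗ G)) (snd G (Z ⊗ G) ≫ fst Z G)
  have hq : ∀ (c : 𝟙_ _ ⟶ G) (w : 𝟙_ _ ⟶ Z), Qk (ev M m) c w =
      ev M (lift (𝟙 G * (toUnit G ≫ c)) (toUnit G ≫ w)) := by
    intro c w
    simp only [Qk, ev3, ev_comp, m, comp_lift, MonObj.comp_mul, lift_fst, lift_snd_assoc, lift_snd]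
  have h := square G Z G (ev M m) 1 a z z'
  simp only [hq, MonObj.comp_one, _root_.mul_one] at h
  linear_combination (norm := abel) -h

end Groth.Agent.H25AbCube
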