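import Groth.Agent.H25AbCube.Basic
import Groth.Agent.H7Lim.FinitelyPresentable
import Groth.Agent.H7Lim.ModHom
import Groth.Agent.H7Lim.ModStage
import Groth.Agent.H19Grp.AlgClosedGeom
import Groth.Agent.H23Para.Restrict

/-!
# Invertible classes inject under extensions of an algebraically closed field
-/

set_option autoImplicit false
set_option linter.style.haveILetI false
universe u

open CategoryTheory CategoryTheory.Limits AlgebraicGeometry Opposite
open Groth.Agent Groth.Agent.H25Theta

noncomputable section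

namespace Groth.Agent.H25AbCube

variable (k A : Type u) [Field k] [CommRing A] [Algebra k A]

/-- The spectra of the finitely generated subalgebras. -/
noncomputable abbrev adD : (Finset A)ᵒᵖ ⥤ Over (Spec (CommRingCat.of k)) where
  obj s := Over.mk (Spec.map (CommRingCat.ofHom (algebraMap k (Algebra.adjoin k (s.unop : Set A)))))
  map {s t} g := Over.homMk (Spec.map (CommRingCat.ofHom
      (Subalgebra.inclusion (Algebra.adjoin_mono (by exact_mod_cast leOfHom g.unop) :
        Algebra.adjoin k (t.unop : Set A) ≤ Algebra.adjoin k (s.unop : Set A))).toRingHom))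
    ((Spec.map_comp _ _).symm.trans (congrArg Spec.map (CommRingCat.hom_ext (RingHom.ext fun _ => rfl))))
  map_id _ := Over.OverMorphism.ext
    ((congrArg Spec.map (CommRingCat.hom_ext (RingHom.ext fun _ => rfl))).trans (Spec.map_id _))
  map_comp _ _ := by
    refine Over.OverMorphism.ext ?_
    show Spec.map _ = Spec.map _ ≫ Spec.map _
    rw [← Spec.map_comp]
    exact congrArg Spec.map (CommRingCat.hom_ext (RingHom.ext fun _ => rfl))

/-- The spectrum of the algebra over those of its finitely generated subalgebras. -/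
noncomputable def adC : Cone (adD k A) where
  pt := Over.mk (Spec.map (CommRingCat.ofHom (algebraMap k A)))
  π :=
    { app := fun s => (Over.homMk (Spec.map (CommRingCat.ofHom (Algebra.adjoin k (s.unop : Set A)).val.toRingHom))
        ((Spec.map_comp _ _).symm.trans (congrArg Spec.map (CommRingCat.hom_ext (RingHom.ext fun _ => rfl)))) :
        Over.mk (Spec.map (CommRingCat.ofHom (algebraMap k A))) ⟶
          Over.mk (Spec.map (CommRingCat.ofHom (algebraMap k (Algebra.adjoin k (s.unop : Set A))))))
      naturality := fun _ _ _ => by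
        refine Over.OverMorphism.ext ?_
        show 𝟙 _ ≫ Spec.map _ = Spec.map _ ≫ Spec.map _
        rw [Category.id_comp, ← Spec.map_comp]
        exact congrArg Spec.map (CommRingCat.hom_ext (RingHom.ext fun _ => rfl)) }

noncomputable def adC_isLimit : IsLimit ((Over.forget (Spec (CommRingCat.of k))).mapCone (adC k A)) :=
  IsLimit.equivOfNatIsoOfIso (NatIso.ofComponents (fun _ => Iso.refl _) (fun g => by
      refine (Category.comp_id _).trans (Eq.trans ?_ (Category.id_comp _).symm)
      rfl)) _ ((Over.forget (Spec (CommRingCat.of k))).mapCone (adC k A))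
    (Cone.ext (Iso.refl _) fun _ => (Category.comp_id _).trans (Category.id_comp _).symm)
    (isLimitOfPreserves Scheme.Spec
      (isColimitOfPreserves (Under.forget (CommRingCat.of k)) (H7Lim.adjoinIsColimit k A)).op)

theorem finPres_of_inv {X : Scheme.{u}} {M : X.Modules} (hM : PicF.IsInvertible M) : CohB1.IsFP M :=
  H8Props.FinLocFree.isFP_of_isFinLocFree M (H23Para.isFinLocFree_of_isInvertible hM)

/-- A class which vanishes on a limit of schemes with compatible sections vanishes. -/
theorem eq_zero_of_limit {W : Scheme.{u}} {I : Type u} [SmallCategory I] [IsCofiltered I] {E : I ⥤ Scheme.{u}}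
    {C : Cone E} (hc : IsLimit C) [∀ (i j : I) (g : i ⟶ j), IsAffineHom (E.map g)]
    (hcpt : ∀ i, CompactSpace (E.obj i)) (hqs : ∀ i, QuasiSeparatedSpace (E.obj i)) {i₀ : I}
    (q : E.obj i₀ ⟶ W)
    (hsect : ∀ (l : I) (φ : l ⟶ i₀), ∃ s : W ⟶ E.obj l, s ≫ E.map φ ≫ q = 𝟙 W)
    (u : PC W) (hu : pullP (C.π.app i₀ ≫ q) u = 0) : u = 0 := by
  haveI := hcpt i₀
  haveI := hqs i₀
  obtain ⟨M, hM, rfl⟩ := exists_rep u
  let F := (Scheme.Modules.pullback q).obj (Coh.structureModule W)
  let G := (Scheme.Modules.pullback q).obj M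
  have hFi : PicF.IsInvertible F := H11Ample.isInvertible_pullback q H11Ample.isInvertible_structureModule
  have hGi : PicF.IsInvertible G := H11Ample.isInvertible_pullback q hM
  have hFp := finPres_of_inv hFi
  have hGp := finPres_of_inv hGi
  obtain ⟨e⟩ : Nonempty ((Scheme.Modules.pullback (C.π.app i₀)).obj F ≅
      (Scheme.Modules.pullback (C.π.app i₀)).obj G) := by
    have hF' := H11Ample.isInvertible_pullback (C.π.app i₀) hFi
    have hG' := H11Ample.isInvertible_pullback (C.π.app i₀) hGi
    refine (pc_eq_iff hF' hG').1 ?_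
    rw [pullP_pc _ F hFi, pullP_pc _ G hGi, pullP_pc q _ H11Ample.isInvertible_structureModule,
      pullP_pc q M hM, pullP_pullP, pullP_pullP, pc_one, map_zero]
    exact hu.symm
  obtain ⟨j, φ, h, hh⟩ := H7Lim.ModHom.exists_hom hc hFp (H29Fitt.isQCoh_of_isFP G hGp) e.hom
  have hiso : IsIso ((Scheme.Modules.pullback (C.π.app j)).map h) := by
    have : IsIso (((H7Lim.ModStage.πIso φ).app F).inv ≫ (Scheme.Modules.pullback (C.π.app j)).map h ≫
        ((H7Lim.ModStage.πIso φ).app G).hom) := by rw [hh]; infer_instance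
    haveI := this
    haveI : IsIso ((Scheme.Modules.pullback (C.π.app j)).map h ≫ ((H7Lim.ModStage.πIso φ).app G).hom) :=
      IsIso.of_isIso_comp_left ((H7Lim.ModStage.πIso φ).app F).inv _
    exact IsIso.of_isIso_comp_right _ ((H7Lim.ModStage.πIso φ).app G).hom
  haveI := hcpt j
  haveI := hqs j
  have hFj := finPres_of_inv (H11Ample.isInvertible_pullback (E.map φ) hFi)
  have hGj := finPres_of_inv (H11Ample.isInvertible_pullback (E.map φ) hGi)
  obtain ⟨l, ψ, hl⟩ := (H7Lim.ModStage.isIso_iff hc (H29Fitt.isQCoh_of_isFP _ hFj)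
    (H29Fitt.isQCoh_of_isFP _ hGj) h (H29Fitt.isFT_of_isFP _ hFj) hGj).1 hiso
  obtain ⟨sect, hs⟩ := hsect l (ψ ≫ φ)
  rw [E.map_comp, Category.assoc] at hs
  haveI := hl
  let e' := (Scheme.Modules.pullback sect).mapIso (asIso ((Scheme.Modules.pullback (E.map ψ)).map h))
  have hFl := H11Ample.isInvertible_pullback (E.map φ) hFi
  have hGl := H11Ample.isInvertible_pullback (E.map φ) hGi
  have heq := (pc_eq_iff (H11Ample.isInvertible_pullback sect (H11Ample.isInvertible_pullback (E.map ψ) hFl))
    (H11Ample.isInvertible_pullback sect (H11Ample.isInvertible_pullback (E.map ψ) hGl))).2 ⟨e'⟩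
  rw [pullP_pc sect _ (H11Ample.isInvertible_pullback (E.map ψ) hFl), pullP_pc (E.map ψ) _ hFl,
    pullP_pc (E.map φ) F hFi, pullP_pc q _ H11Ample.isInvertible_structureModule,
    pullP_pc sect _ (H11Ample.isInvertible_pullback (E.map ψ) hGl), pullP_pc (E.map ψ) _ hGl,
    pullP_pc (E.map φ) G hGi, pullP_pc q M hM, pc_one] at heq
  simp only [pullP_pullP, map_zero] at heq
  rw [hs] at heq
  rw [← pullP_id (pc M hM)]
  exact heq.symm

set_option backward.isDefEq.respectTransparency false in
theorem compact_qs_stage {W : Scheme.{u}} (f : W ⟶ Spec (CommRingCat.of k)) [QuasiCompact f] [QuasiSeparated f]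
    (i : (Finset A)ᵒᵖ) :
    CompactSpace ((H8Props.FunDescent.xtDiag f (adD k A)).obj i) ∧
      QuasiSeparatedSpace ((H8Props.FunDescent.xtDiag f (adD k A)).obj i) := by
  let t := Spec.map (CommRingCat.ofHom (algebraMap k (Algebra.adjoin k (i.unop : Set A))))
  exact ⟨QuasiCompact.compactSpace_of_compactSpace (pullback.snd f t),
    quasiSeparatedSpace_of_quasiSeparated (pullback.snd f t)⟩

set_option backward.isDefEq.respectTransparency false in
theorem exists_stage_sect [IsAlgClosed k] [IsDomain A] {W : Scheme.{u}} (f : W ⟶ Spec (CommRingCat.of k))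
    (l : (Finset A)ᵒᵖ) :
    ∃ s : W ⟶ pullback f ((adD k A).obj l).hom, s ≫ pullback.fst _ _ = 𝟙 W := by
  haveI : Algebra.FiniteType k (Algebra.adjoin k (l.unop : Set A)) :=
    (Subalgebra.fg_iff_finiteType _).mp ⟨l.unop, rfl⟩
  obtain ⟨χ, -⟩ := H19Grp.exists_algHom_ne_zero (k := k) (A := Algebra.adjoin k (l.unop : Set A))
    (one_ne_zero)
  refine ⟨pullback.lift (𝟙 W) (f ≫ Spec.map (CommRingCat.ofHom χ.toRingHom)) (by
    rw [Category.id_comp, Category.assoc]
    show f = f ≫ Spec.map _ ≫ Spec.map _
    rw [← Spec.map_comp, ← CommRingCat.ofHom_comp]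
    erw [χ.comp_algebraMap]
    exact ((congrArg (f ≫ ·) (Spec.map_id _)).trans (Category.comp_id f)).symm), pullback.lift_fst _ _ _⟩

/-- Classes of invertible modules inject under extension from an algebraically closed field. -/
theorem pullP_injective_of_isAlgClosed [IsAlgClosed k] [IsDomain A] {W : Scheme.{u}}
    (f : W ⟶ Spec (CommRingCat.of k)) [QuasiCompact f] [QuasiSeparated f] :
    Function.Injective (pullP (pullback.fst f (Spec.map (CommRingCat.ofHom (algebraMap k A))))) := by
  classical
  rw [injective_iff_map_eq_zero]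
  intro u hu
  have haff : ∀ i, IsAffine ((adD k A).obj i).left := fun i => isAffine_Spec _
  haveI : ∀ (i j : (Finset A)ᵒᵖ) (g : i ⟶ j), IsAffineHom ((H8Props.FunDescent.xtDiag f (adD k A)).map g) :=
    H8Props.FunDescent.isAffineHom_xtDiag f (adD k A) haff
  refine eq_zero_of_limit (H8Props.FunDescent.isLimitXtCone f (adD k A) (adC k A) (adC_isLimit k A))
    (fun i => (compact_qs_stage k A f i).1) (fun i => (compact_qs_stage k A f i).2) (i₀ := op ∅)
    (pullback.fst f ((adD k A).obj (op ∅)).hom) (fun l φ => ?_) u ?_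
  · obtain ⟨s, hs⟩ := exists_stage_sect k A f l
    exact ⟨s, (congrArg (s ≫ ·) (FGA.XTmap_fst f ((adD k A).map φ))).trans hs⟩
  · exact (congrArg (fun r => pullP r u) (FGA.XTmap_fst f ((adC k A).π.app (op ∅)))).trans hu

end Groth.Agent.H25AbCube
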