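import Groth.Agent.H25AbCube.SeesawPoints
import Groth.Agent.H25AbCube.Descent
import Groth.Agent.H11Ample.Tensor
import Groth.Agent.H11Ample.Pullback
import Groth.Agent.S9223
import Groth.Agent.S3577
import Groth.Agent.S4381
import Groth.Agent.S1572
import Groth.Agent.H8Props.DivisorSection
import Groth.Agent.H28Alg.RegularUFD
import Groth.Agent.H19Grp.RegularSmooth
import Groth.Agent.H4Depth.Regular
import Mathlib.AlgebraicGeometry.Group.Smooth

/-!
# Divisors with affine complement on abelian varieties are ample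
-/

set_option autoImplicit false
set_option linter.style.haveILetI false
set_option backward.isDefEq.respectTransparency false
universe u

open CategoryTheory CategoryTheory.Limits MonoidalCategory CartesianMonoidalCategory MonObj GrpObj AlgebraicGeometry
  TopologicalSpace Opposite
open Groth.Agent Groth.Agent.H11Ample

noncomputable section

namespace Groth.Agent.H25AbCube

/-- A module whose square has affine loci of generation through every point is ample. -/
theorem isAmple_of_sq {X : Scheme.{u}} [CompactSpace X] {M : X.Modules} (hM : PicF.IsInvertible M)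
    (h : ∀ x : X, ∃ t : Γ(M, ⊤), x ∈ gen M t ∧ IsAffineOpen (gen M t)) : CohB1.IsAmple M := by
  rw [isAmple_iff]
  refine ⟨hM, inferInstance, fun x => ?_⟩
  obtain ⟨t, hx, ht⟩ := h x
  have hO : gen (Coh.structureModule X) (one ⊤) = ⊤ := eq_top_iff.2 fun y _ =>
    mem_gen_of_isGen (W := ⊤) (by rw [one_res]; exact isGen_one ⊤) (Set.mem_univ y)
  have he : gen (CohB1.tensorPow M 1) (tm (one ⊤) t) = gen M t := by
    show gen (CohB1.tensorMod (Coh.structureModule X) M) _ = _
    rw [gen_tm isInvertible_structureModule hM, hO, top_inf_eq]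
  exact ⟨1, tm (one ⊤) t, one_pos, by rw [he]; exact hx, by rw [he]; exact ht⟩

variable {k : Type u} [Field k]

section AlgClosed

variable [IsAlgClosed k] {A : Over (Spec (CommRingCat.of k))} [GrpObj A] [IsProper A.hom]
  [GeometricallyIntegral A.hom]

/-- The square of a module with a section with affine locus of generation is ample. -/
theorem isAmple_tensor_self (L : A.left.Modules) (hL : PicF.IsInvertible L) (s : Γ(L, ⊤))
    (haff : IsAffineOpen (gen L s)) (hne : ((gen L s : A.left.Opens) : Set A.left).Nonempty) :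
    CohB1.IsAmple (CohB1.tensorMod L L) := by
  haveI : IsIntegral A.left := GeometricallyIntegral.isIntegral_of_subsingleton A.hom
  haveI : CompactSpace A.left := QuasiCompact.compactSpace_of_compactSpace A.hom
  haveI : JacobsonSpace A.left := LocallyOfFiniteType.jacobsonSpace A.hom
  haveI : A.left.IsSeparated := ⟨by
    rw [← terminal.comp_from A.hom]
    infer_instance⟩
  refine isAmple_of_sq (isInvertible_tensor hL hL) fun x₀ => ?_
  obtain ⟨z, hz, hzc⟩ : ∃ z ∈ closure ({x₀} : Set A.left), IsClosed ({z} : Set A.left) :=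
    isClosed_closure.exists_closed_singleton ⟨x₀, subset_closure rfl⟩
  let x : 𝟙_ _ ⟶ A := Over.homMk _ ((pointEquivClosedPoint A.hom).symm ⟨z, hzc⟩).2
  have hx : x.left (IsLocalRing.closedPoint k) = z := pointOfClosedPoint_apply A.hom z hzc _
  let φ : A ⟶ A := (toUnit A ≫ x) * 𝟙 A
  let ψ : A ⟶ A := (toUnit A ≫ x⁻¹) * 𝟙 A
  have hψφ : ψ ≫ φ = 𝟙 A := by
    rw [MonObj.comp_mul, Category.comp_id, ← Category.assoc, comp_toUnit, ← _root_.mul_assoc, ← MonObj.comp_mul,
      mul_inv_cancel, MonObj.comp_one, _root_.one_mul]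
  have hinv : (𝟙 A)⁻¹ ≫ (𝟙 A)⁻¹ = 𝟙 A := by
    rw [GrpObj.comp_inv, Category.comp_id, _root_.inv_inv]
  have hsurj : ∀ (f g : A ⟶ A), g ≫ f = 𝟙 A → ((f.left ⁻¹ᵁ gen L s : A.left.Opens) : Set A.left).Nonempty := by
    intro f g h
    obtain ⟨y, hy⟩ := hne
    refine ⟨g.left y, ?_⟩
    show f.left (g.left y) ∈ gen L s
    rw [← Scheme.Hom.comp_apply, ← Over.comp_left, h]
    exact hy
  have hW : ((φ.left ⁻¹ᵁ gen L s ⊓ ((𝟙 A)⁻¹ ≫ φ).left ⁻¹ᵁ gen L s : A.left.Opens) : Set A.left).Nonempty :=
    nonempty_preirreducible_inter (φ.left ⁻¹ᵁ gen L s).isOpen (((𝟙 A)⁻¹ ≫ φ).left ⁻¹ᵁ gen L s).isOpen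
      (hsurj φ ψ hψφ) (hsurj ((𝟙 A)⁻¹ ≫ φ) (ψ ≫ (𝟙 A)⁻¹) (by
        rw [Category.assoc, ← Category.assoc (𝟙 A)⁻¹, hinv, Category.id_comp, hψφ]))
  obtain ⟨w, ⟨hw₁, hw₂⟩, hwc⟩ := nonempty_inter_closedPoints hW
    (φ.left ⁻¹ᵁ gen L s ⊓ ((𝟙 A)⁻¹ ≫ φ).left ⁻¹ᵁ gen L s).isOpen.isLocallyClosed
  let a : 𝟙_ _ ⟶ A := Over.homMk _ ((pointEquivClosedPoint A.hom).symm ⟨w, hwc⟩).2
  have ha : a.left (IsLocalRing.closedPoint k) = w := pointOfClosedPoint_apply A.hom w hwc _
  let τ : A ⟶ A := 𝟙 A * (toUnit A ≫ a)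
  let τ' : A ⟶ A := 𝟙 A * (toUnit A ≫ a⁻¹)
  have hu : toUnit (𝟙_ (Over (Spec (CommRingCat.of k)))) = 𝟙 _ := toUnit_unique _ _
  have hτ : ∀ (b : 𝟙_ _ ⟶ A), x ≫ (𝟙 A * (toUnit A ≫ b)) = x * b := fun b => by
    rw [MonObj.comp_mul, Category.comp_id, ← Category.assoc, comp_toUnit, hu, Category.id_comp]
  have hφa : ∀ (b : 𝟙_ _ ⟶ A), b ≫ φ = x * b := fun b => by
    rw [MonObj.comp_mul, Category.comp_id, ← Category.assoc, comp_toUnit, hu, Category.id_comp]
  have hm₁ : z ∈ τ.left ⁻¹ᵁ gen L s := by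
    show τ.left z ∈ gen L s
    rw [← hx, ← Scheme.Hom.comp_apply, ← Over.comp_left, hτ, ← hφa, Over.comp_left, Scheme.Hom.comp_apply, ha]
    exact hw₁
  have hm₂ : z ∈ τ'.left ⁻¹ᵁ gen L s := by
    show τ'.left z ∈ gen L s
    rw [← hx, ← Scheme.Hom.comp_apply, ← Over.comp_left, hτ,
      show a⁻¹ = a ≫ (𝟙 A)⁻¹ by rw [GrpObj.comp_inv, Category.comp_id], ← hφa, Category.assoc, Over.comp_left,
      Scheme.Hom.comp_apply, ha]
    exact hw₂
  have hiso : ∀ b : 𝟙_ _ ⟶ A, IsIso (𝟙 A * (toUnit A ≫ b)) := fun b => by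
    refine ⟨𝟙 A * (toUnit A ≫ b⁻¹), ?_, ?_⟩ <;>
      rw [MonObj.comp_mul, Category.comp_id, ← Category.assoc, comp_toUnit, _root_.mul_assoc, ← MonObj.comp_mul] <;>
      simp
  haveI : IsIso τ := hiso a
  haveI : IsIso τ' := hiso a⁻¹
  haveI : IsIso τ.left := inferInstanceAs (IsIso ((Over.forget _).map τ))
  haveI : IsIso τ'.left := inferInstanceAs (IsIso ((Over.forget _).map τ'))
  have hp := isInvertible_pullback τ.left hL
  have hp' := isInvertible_pullback τ'.left hL
  have hsq : pc _ (isInvertible_tensor hp hp') = pc _ (isInvertible_tensor hL hL) := by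
    rw [pc_tensor hp hp' _, pc_tensor hL hL _, pullP_pc τ.left L hL, pullP_pc τ'.left L hL]
    have h := square_transl (pc L hL) a a⁻¹
    rw [mul_inv_cancel] at h
    have h1 : transl (pc L hL) (1 : 𝟙_ _ ⟶ A) = pc L hL := by
      rw [transl, MonObj.comp_one, _root_.mul_one]
      exact pullP_id _
    rw [h1] at h
    exact h.symm
  obtain ⟨e⟩ := (pc_eq_iff _ _).1 hsq
  have hg : ∀ f : A ⟶ A, gen ((Scheme.Modules.pullback f.left).obj L) ((1 : Γ(A.left, ⊤)) • pullTop f.left s) =
      f.left ⁻¹ᵁ gen L s := fun f => gen_smul_pullSect f.left hL s isUnit_one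
  refine ⟨e.hom.app ⊤ (tm ((1 : Γ(A.left, ⊤)) • pullTop τ.left s) ((1 : Γ(A.left, ⊤)) • pullTop τ'.left s)), ?_, ?_⟩
  · rw [gen_iso, gen_tm hp hp', hg, hg]
    obtain ⟨h₁, h₂⟩ := And.intro hm₁ hm₂
    exact (specializes_iff_mem_closure.2 hz).mem_open
      (τ.left ⁻¹ᵁ gen L s ⊓ τ'.left ⁻¹ᵁ gen L s).isOpen ⟨h₁, h₂⟩
  · rw [gen_iso, gen_tm hp hp', hg, hg]
    exact IsAffineOpen.inf (haff.preimage_of_isIso τ.left) (haff.preimage_of_isIso τ'.left)

end AlgClosed

/-- An invertible module with a section with nonempty affine locus of generation on an abelian variety is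
ample. -/
theorem isAmple_of_affine_gen {A : Over (Spec (CommRingCat.of k))} [GrpObj A] [IsProper A.hom]
    [GeometricallyIntegral A.hom] (L : A.left.Modules) (hL : PicF.IsInvertible L) (s : Γ(L, ⊤))
    (haff : IsAffineOpen (gen L s)) (hne : ((gen L s : A.left.Opens) : Set A.left).Nonempty) : CohB1.IsAmple L := by
  classical
  let K := AlgebraicClosure k
  let σ : Spec (CommRingCat.of K) ⟶ Spec (CommRingCat.of k) := Spec.map (CommRingCat.ofHom (algebraMap k K))
  let B := (Over.pullback σ).obj A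
  letI : GrpObj B := Functor.grpObjObj
  haveI : IsProper B.hom := MorphismProperty.pullback_snd (P := @IsProper) _ _ inferInstance
  haveI : GeometricallyIntegral B.hom := MorphismProperty.pullback_snd (P := @GeometricallyIntegral) _ _ inferInstance
  let π := pullback.fst A.hom σ
  haveI : Surjective σ := ⟨fun z => ⟨IsLocalRing.closedPoint K, Subsingleton.elim (α := PrimeSpectrum k) _ _⟩⟩
  haveI : Surjective π := MorphismProperty.pullback_fst (P := @Surjective) _ _ inferInstance
  haveI : IsAffineHom π := MorphismProperty.pullback_fst (P := @IsAffineHom) _ _ inferInstance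
  have hL' : PicF.IsInvertible ((Scheme.Modules.pullback π).obj L) := isInvertible_pullback π hL
  have hgen : gen ((Scheme.Modules.pullback π).obj L) ((1 : Γ(B.left, ⊤)) • pullTop π s) = π ⁻¹ᵁ gen L s :=
    gen_smul_pullSect π hL s isUnit_one
  have hsq := isAmple_tensor_self (A := B) _ hL' ((1 : Γ(B.left, ⊤)) • pullTop π s)
    (by rw [hgen]; exact haff.preimage π)
    (by
      rw [hgen]
      obtain ⟨y, hy⟩ := hne
      obtain ⟨w, rfl⟩ := π.surjective y
      exact ⟨w, hy⟩)
  haveI : CompactSpace A.left := QuasiCompact.compactSpace_of_compactSpace A.hom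
  haveI : CompactSpace B.left := QuasiCompact.compactSpace_of_compactSpace B.hom
  haveI : QuasiSeparatedSpace A.left := quasiSeparatedSpace_of_quasiSeparated A.hom
  have hpow : CohB1.IsAmple ((Scheme.Modules.pullback π).obj L) := by
    refine (isAmple_tensorPow_iff hL' 2 two_pos).2 ?_
    have h1 : pc _ (isInvertible_tensor hL' hL') = pc _ (isInvertible_tensor
        (isInvertible_tensor isInvertible_structureModule hL') hL') := by
      rw [pc_tensor hL' hL' _, pc_tensor (isInvertible_tensor isInvertible_structureModule hL') hL' _,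
        pc_tensor isInvertible_structureModule hL' _, pc_one, zero_add]
    obtain ⟨e⟩ := (pc_eq_iff _ _).1 h1
    exact isAmple_of_iso e hsq
  haveI hS : ∀ (i j : (Finset K)ᵒᵖ) (g : i ⟶ j), IsAffineHom ((H8Props.FunDescent.xtDiag A.hom (adD k K)).map g) :=
    H8Props.FunDescent.isAffineHom_xtDiag A.hom (adD k K) fun i => isAffine_Spec _
  haveI : ∀ i, CompactSpace ((H8Props.FunDescent.xtDiag A.hom (adD k K)).obj i) := fun i =>
    (compact_qs_stage k K A.hom i).1
  haveI : ∀ i, QuasiSeparatedSpace ((H8Props.FunDescent.xtDiag A.hom (adD k K)).obj i) := fun i =>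
    (compact_qs_stage k K A.hom i).2
  let p : ∀ i : (Finset K)ᵒᵖ, (H8Props.FunDescent.xtDiag A.hom (adD k K)).obj i ⟶ A.left :=
    fun i => pullback.fst A.hom ((adD k K).obj i).hom
  obtain ⟨i, φ, hi⟩ := Groth.Agent.S9223.result _ _
    (H8Props.FunDescent.isLimitXtCone A.hom (adD k K) (adC k K) (adC_isLimit k K)) (op ∅)
    ((Scheme.Modules.pullback (p (op ∅))).obj L) (isInvertible_pullback _ hL)
    (isAmple_of_iso ((Scheme.Modules.pullbackCongr
        (FGA.XTmap_fst A.hom ((adC k K).π.app (op ∅)))).symm.app L ≪≫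
      ((Scheme.Modules.pullbackComp _ _).app L).symm) hpow)
  replace hi : CohB1.IsAmple ((Scheme.Modules.pullback (p i)).obj L) := isAmple_of_iso
    (((Scheme.Modules.pullbackComp _ _).app L) ≪≫
      (Scheme.Modules.pullbackCongr (FGA.XTmap_fst A.hom ((adD k K).map φ))).app L) hi
  let R := Algebra.adjoin k (i.unop : Set K)
  haveI : Module.Finite k R := by
    haveI : Algebra.FiniteType k R := (Subalgebra.fg_iff_finiteType _).mp ⟨i.unop, rfl⟩
    haveI : Algebra.IsIntegral k R := ⟨fun r =>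
      (isIntegral_algHom_iff R.val Subtype.val_injective).1 (Algebra.IsIntegral.isIntegral (r : K))⟩
    exact Algebra.IsIntegral.finite
  let t : Spec (CommRingCat.of R) ⟶ Spec (CommRingCat.of k) := Spec.map (CommRingCat.ofHom (algebraMap k R))
  haveI : IsFinite t := (IsFinite.SpecMap_iff _).2 (RingHom.finite_algebraMap.2 inferInstance)
  haveI : Surjective t := ⟨fun z => by
    obtain ⟨q⟩ : Nonempty (PrimeSpectrum R) := inferInstance
    exact ⟨q, Subsingleton.elim (α := PrimeSpectrum k) _ _⟩⟩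
  haveI : IsFinite (pullback.fst A.hom t) := MorphismProperty.pullback_fst (P := @IsFinite) _ _ inferInstance
  haveI : Surjective (pullback.fst A.hom t) := MorphismProperty.pullback_fst (P := @Surjective) _ _ inferInstance
  haveI : GrpObj (Over.mk A.hom) := inferInstanceAs (GrpObj A)
  haveI : Smooth A.hom := smooth_of_grpObj A.hom
  haveI : IsIntegral A.left := GeometricallyIntegral.isIntegral_of_subsingleton A.hom
  haveI : IsLocallyNoetherian A.left := LocallyOfFiniteType.isLocallyNoetherian A.hom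
  haveI : IsNoetherian A.left := ⟨⟩
  haveI : QuasiCompact (pullback.fst A.hom t ≫ A.hom) := inferInstance
  refine (Groth.Agent.S4381.result A.hom L).1 ((Groth.Agent.S3577.result A.hom (pullback.fst A.hom t)
    (fun x => Or.inl ?_) L hL).2 ((Groth.Agent.S4381.result _ _).2 hi))
  haveI := H19Grp.isRegularLocalRing_stalk_of_smooth A.hom x
  haveI := H4Depth.isDomain_of_isRegularLocalRing (A.left.presheaf.stalk x)
  haveI := H28Alg.ufd_of_regular (A.left.presheaf.stalk x)
  exact ⟨inferInstance, UniqueFactorizationMonoid.instIsIntegrallyClosed⟩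

/-- Abelian varieties have ample invertible modules, with affine complement through a given point. -/
theorem exists_isAmple (A : Over (Spec (CommRingCat.of k))) [GrpObj A] [IsProper A.hom]
    [GeometricallyIntegral A.hom] : ∃ L : A.left.Modules, CohB1.IsAmple L := by
  haveI : GrpObj (Over.mk A.hom) := inferInstanceAs (GrpObj A)
  haveI : Smooth A.hom := smooth_of_grpObj A.hom
  haveI : IsIntegral A.left := GeometricallyIntegral.isIntegral_of_subsingleton A.hom
  haveI : IsLocallyNoetherian A.left := LocallyOfFiniteType.isLocallyNoetherian A.hom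
  haveI : CompactSpace A.left := QuasiCompact.compactSpace_of_compactSpace A.hom
  haveI : IsNoetherian A.left := ⟨⟩
  haveI : A.left.IsSeparated := ⟨by
    rw [← terminal.comp_from A.hom]
    infer_instance⟩
  obtain ⟨U, hU, hηU, -⟩ := exists_isAffineOpen_mem_and_subset (U := (⊤ : A.left.Opens))
    (x := genericPoint A.left) trivial
  obtain ⟨D, hD, hsupp⟩ := Groth.Agent.S1572.result A.left U hU (U.isOpen.dense ⟨_, hηU⟩) fun x _ => by
    haveI := H19Grp.isRegularLocalRing_stalk_of_smooth A.hom x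
    haveI := H4Depth.isDomain_of_isRegularLocalRing (A.left.presheaf.stalk x)
    exact ⟨inferInstance, H28Alg.ufd_of_regular _⟩
  obtain ⟨M, t, hM, ht⟩ := H8Props.DivisorSection.exists_invertible_section hD
  have e : gen M t = U := by
    rw [ht]
    ext x
    show x ∈ (D.support : Set A.left)ᶜ ↔ _
    rw [hsupp, compl_compl]
  exact ⟨M, isAmple_of_affine_gen M hM t (e ▸ hU) (e ▸ ⟨_, hηU⟩)⟩

end Groth.Agent.H25AbCube
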