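import Groth.Agent.H25AbCube.SeesawPoints

/-!
# Invertible classes on proper varieties inject under field extensions
-/

set_option autoImplicit false
set_option linter.style.haveILetI false
set_option backward.isDefEq.respectTransparency false
universe u

open CategoryTheory CategoryTheory.Limits MonoidalCategory CartesianMonoidalCategory AlgebraicGeometry
open Groth.Agent

noncomputable section

namespace Groth.Agent.H25AbCube

/-- A class on a proper geometrically integral scheme over a field which vanishes over an extension vanishes. -/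
theorem pullP_injective_field {K : Type u} [Field K] {V : Scheme.{u}} (p : V ⟶ Spec (CommRingCat.of K))
    [IsProper p] [GeometricallyIntegral p] {K' : Type u} [Field K'] (σ : Spec (CommRingCat.of K') ⟶ Spec (CommRingCat.of K)) :
    Function.Injective (pullP (pullback.fst p σ)) := by
  rw [injective_iff_map_eq_zero]
  intro u hu
  obtain ⟨L, hL, rfl⟩ := exists_rep u
  haveI : LocallyOfFinitePresentation p := LocallyOfFinitePresentation.iff_locallyOfFiniteType.2 inferInstance
  have hint : ∀ s, IsIntegral (p.fiber s) := fun s => inferInstance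
  have hK : ∀ s, IsIso (p.fiberToSpecResidueField s).appTop := fun s =>
    H12Pic.isIso_appTop_fiber_of_geomIntegral p s
  obtain ⟨Z, ι, hι, hZ⟩ := H12Pic.exists_seesaw_subscheme p hint hK hL
  haveI := hι
  obtain ⟨u', -⟩ := (hZ _ σ).2 ⟨Coh.structureModule _, H11Ample.isInvertible_structureModule, by
    refine (pc_eq_iff (H11Ample.isInvertible_pullback _ hL)
      (H11Ample.isInvertible_pullback _ H11Ample.isInvertible_structureModule)).1 ?_
    rw [pullP_pc _ L hL, pullP_pc _ _ H11Ample.isInvertible_structureModule, pc_one, map_zero]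
    exact hu⟩
  haveI : Surjective ι := ⟨fun z => ⟨u' (IsLocalRing.closedPoint K'), Subsingleton.elim (α := PrimeSpectrum K) _ _⟩⟩
  haveI : IsIso ι := isIso_of_isClosedImmersion_of_surjective ι
  obtain ⟨N, hN, ⟨φ⟩⟩ := (hZ _ (𝟙 _)).1 ⟨inv ι, IsIso.inv_hom_id ι⟩
  have hφ := (pc_eq_iff (H11Ample.isInvertible_pullback _ hL) (H11Ample.isInvertible_pullback _ hN)).2 ⟨φ⟩
  haveI : Subsingleton (Spec (CommRingCat.of K)) := inferInstanceAs (Subsingleton (PrimeSpectrum K))
  haveI : Nonempty (Spec (CommRingCat.of K)) := inferInstanceAs (Nonempty (PrimeSpectrum K))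
  rw [pullP_pc _ L hL, pullP_pc _ N hN, eq_zero_of_subsingleton (pc N hN), map_zero] at hφ
  let j : V ⟶ pullback p (𝟙 _) := pullback.lift (𝟙 _) p (by simp)
  have h2 := congrArg (pullP j) hφ
  rw [map_zero, pullP_pullP, pullback.lift_fst] at h2
  exact (pullP_id _).symm.trans h2

end Groth.Agent.H25AbCube
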