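import Groth.Agent.H25AbCube.MulN
import Groth.Agent.H25AbCube.FieldInj

/-!
# Finiteness of the group of translations fixing an ample class
-/

set_option autoImplicit false
set_option linter.style.haveILetI false
set_option backward.isDefEq.respectTransparency false
universe u

open CategoryTheory CategoryTheory.Limits MonoidalCategory CartesianMonoidalCategory MonObj GrpObj AlgebraicGeometry
open Groth.Agent

noncomputable section

namespace Groth.Agent.H25AbCube

variable {k : Type u} [Field k] {A : Over (Spec (CommRingCat.of k))} [GrpObj A] [IsProper A.hom]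
  [GeometricallyIntegral A.hom]

/-- The obstruction of a class to being primitive. -/
def theta (L : PC A.left) : PC (A ⊗ A).left := ev L (fst A A * snd A A) - ev L (fst A A) - ev L (snd A A)

theorem ev_theta (L : PC A.left) {S : Over (Spec (CommRingCat.of k))} (p q : S ⟶ A) :
    ev (theta L) (lift p q) = ev L (p * q) - ev L p - ev L q := by
  show ev (ev L (fst A A * snd A A) - ev L (fst A A) - ev L (snd A A)) (lift p q) = _
  rw [show ∀ a b c : PC (A ⊗ A).left, ev (a - b - c) (lift p q) = ev a (lift p q) - ev b (lift p q) - ev c (lift p q)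
    from fun a b c => by simp [ev], ev_comp, ev_comp, ev_comp, MonObj.comp_mul, lift_fst, lift_snd]

theorem theta_one_left (L : PC A.left) {S : Over (Spec (CommRingCat.of k))} (q : S ⟶ A) :
    ev (theta L) (lift 1 q) = 0 := by
  have e1 : (toUnit S ≫ η[A] : S ⟶ A) = 1 := (MonObj.one_eq_one (M := A) ▸ MonObj.comp_one _)
  rw [ev_theta, _root_.one_mul, show ev L (1 : S ⟶ A) = 0 by rw [← e1]; exact ev_toUnit L _]
  abel

/-- If the class of an ample module is primitive along a closed subscheme, the subscheme is finite. -/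
theorem isFinite_of_theta_eq_zero (M : A.left.Modules) (hM : CohB1.IsAmple M)
    {Z : Over (Spec (CommRingCat.of k))} (j : Z ⟶ A) [IsClosedImmersion j.left]
    (h : ev (theta (pc M hM.1)) (lift (fst A Z) (snd A Z ≫ j)) = 0) : IsFinite Z.hom := by
  haveI : IsProper Z.hom := by rw [← Over.w j]; infer_instance
  haveI : CompactSpace Z.left := QuasiCompact.compactSpace_of_compactSpace Z.hom
  have hz : ∀ x : Z ⟶ A, ev (pc M hM.1) (x * j) - ev (pc M hM.1) x - ev (pc M hM.1) j = 0 := fun x => by
    have := congrArg (pullP (lift x (𝟙 Z)).left) h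
    rw [map_zero] at this
    change ev (ev (theta (pc M hM.1)) (lift (fst A Z) (snd A Z ≫ j))) (lift x (𝟙 Z)) = 0 at this
    rw [ev_comp, comp_lift, lift_fst, lift_snd_assoc, Category.id_comp, ev_theta] at this
    exact this
  have h1 := hz (j ≫ (𝟙 A)⁻¹)
  have e : (j ≫ (𝟙 A)⁻¹) * j = 1 := by rw [GrpObj.comp_inv, Category.comp_id, inv_mul_cancel]
  have e1 : (toUnit Z ≫ η[A] : Z ⟶ A) = 1 := (MonObj.one_eq_one (M := A) ▸ MonObj.comp_one _)
  rw [e, show ev (pc M hM.1) (1 : Z ⟶ A) = 0 by rw [← e1]; exact ev_toUnit _ _] at h1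
  have hinv : ((𝟙 A)⁻¹ : A ⟶ A) ≫ (𝟙 A)⁻¹ = 𝟙 A := by rw [GrpObj.comp_inv, Category.comp_id, _root_.inv_inv]
  haveI : IsIso ((𝟙 A)⁻¹ : A ⟶ A) := ⟨(𝟙 A)⁻¹, hinv, hinv⟩
  haveI : IsIso ((𝟙 A)⁻¹ : A ⟶ A).left := inferInstanceAs (IsIso ((Over.forget _).map ((𝟙 A)⁻¹ : A ⟶ A)))
  let i := ((𝟙 A)⁻¹ : A ⟶ A).left
  haveI : CompactSpace A.left := QuasiCompact.compactSpace_of_compactSpace A.hom
  have hM' : CohB1.IsAmple ((Scheme.Modules.pullback i).obj M) :=
    Groth.Agent.S9815.result i i.homeomorph.isEmbedding M hM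
  have hi := H11Ample.isInvertible_pullback i hM.1
  let S := CohB1.tensorMod M ((Scheme.Modules.pullback i).obj M)
  have hS : CohB1.IsAmple S := (Groth.Agent.S4381.result A.hom _).1 (Groth.Agent.S4384.result A.hom _ _
    ((Groth.Agent.S4381.result A.hom _).2 hM) ((Groth.Agent.S4381.result A.hom _).2 hM'))
  have hS' := H11Ample.isInvertible_pullback j.left hS.1
  refine isFinite_of_isAmple_structureModule Z.hom ?_
  obtain ⟨φ⟩ : Nonempty ((Scheme.Modules.pullback j.left).obj S ≅ Coh.structureModule Z.left) := by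
    refine (pc_eq_iff hS' H11Ample.isInvertible_structureModule).1 ?_
    rw [pullP_pc _ S hS.1, pc_tensor hM.1 hi, pullP_pc i M hM.1, map_add, pullP_pullP, pc_one]
    have e2 : pullP (j.left ≫ i) (pc M hM.1) = ev (pc M hM.1) (j ≫ (𝟙 A)⁻¹) := rfl
    rw [e2]
    show ev (pc M hM.1) j + _ = 0
    linear_combination (norm := abel) -h1
  exact H11Ample.isAmple_of_iso φ (Groth.Agent.S9815.result j.left j.left.isEmbedding S hS)

/-- The translations fixing an ample module form a finite set. -/
theorem finite_fixing [IsAlgClosed k] (M : A.left.Modules) (hM : CohB1.IsAmple M) :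
    Set.Finite {a : 𝟙_ (Over (Spec (CommRingCat.of k))) ⟶ A | transl (pc M hM.1) a = pc M hM.1} := by
  obtain ⟨Q, hQ, hθ⟩ := exists_rep (theta (pc M hM.1))
  let f := pullback.snd A.hom A.hom
  haveI : IsProper f := MorphismProperty.pullback_snd (P := @IsProper) _ _ inferInstance
  haveI : Flat f := MorphismProperty.pullback_snd (P := @Flat) _ _ inferInstance
  haveI : LocallyOfFinitePresentation A.hom :=
    LocallyOfFinitePresentation.iff_locallyOfFiniteType.2 inferInstance
  haveI : LocallyOfFinitePresentation f :=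
    MorphismProperty.pullback_snd (P := @LocallyOfFinitePresentation) _ _ inferInstance
  haveI : GeometricallyIntegral f := MorphismProperty.pullback_snd (P := @GeometricallyIntegral) _ _ inferInstance
  have hint : ∀ s, IsIntegral (f.fiber s) := fun s => inferInstance
  have hK : ∀ s, IsIso (f.fiberToSpecResidueField s).appTop := fun s =>
    H12Pic.isIso_appTop_fiber_of_geomIntegral f s
  obtain ⟨Z, ιZ, hι, hZ⟩ := H12Pic.exists_seesaw_subscheme f hint hK hQ
  haveI := hι
  let ZO : Over (Spec (CommRingCat.of k)) := Over.mk (ιZ ≫ A.hom)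
  let j : ZO ⟶ A := Over.homMk ιZ rfl
  haveI : IsClosedImmersion j.left := hι
  have h0 : ev (theta (pc M hM.1)) (lift (fst A ZO) (snd A ZO ≫ j)) = 0 := by
    obtain ⟨N, hN, ⟨φ⟩⟩ := (hZ Z ιZ).1 ⟨𝟙 Z, Category.id_comp _⟩
    have h := (pc_eq_iff (H11Ample.isInvertible_pullback _ hQ) (H11Ample.isInvertible_pullback _ hN)).2 ⟨φ⟩
    rw [pullP_pc _ Q hQ, pullP_pc _ N hN, hθ] at h
    have hl : (lift (fst A ZO) (snd A ZO ≫ j)).left ≫ f = (snd A ZO).left ≫ ιZ :=
      congrArg Over.Hom.left (lift_snd (fst A ZO) (snd A ZO ≫ j))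
    let m : (A ⊗ ZO).left ⟶ pullback f ιZ :=
      pullback.lift (lift (fst A ZO) (snd A ZO ≫ j)).left (snd A ZO).left hl
    have h2 := congrArg (pullP m) h
    rw [pullP_pullP, pullP_pullP, pullback.lift_fst, pullback.lift_snd] at h2
    have h3 : ev (theta (pc M hM.1)) (lift (fst A ZO) (snd A ZO ≫ j)) = ev (A := ZO) (pc N hN) (snd A ZO) := h2
    have h4 := congrArg (fun u => ev u (lift (1 : ZO ⟶ A) (𝟙 ZO))) h3
    simp only [ev_comp, comp_lift, lift_fst, lift_snd, lift_snd_assoc, Category.id_comp] at h4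
    rw [theta_one_left] at h4
    rw [h3, show (pc N hN : PC ZO.left) = 0 from ((pullP_id _).symm.trans h4.symm)]
    exact map_zero _
  haveI : IsFinite ZO.hom := isFinite_of_theta_eq_zero M hM j h0
  haveI : Subsingleton (Spec (CommRingCat.of k)) := inferInstanceAs (Subsingleton (PrimeSpectrum k))
  have hfin : Finite Z := by
    have h := ZO.hom.finite_preimage_singleton (IsLocalRing.closedPoint k)
    rw [show ZO.hom ⁻¹' {IsLocalRing.closedPoint k} = Set.univ from
      Set.eq_univ_of_forall fun _ => Subsingleton.elim _ _] at h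
    exact Set.finite_univ_iff.1 h
  refine Set.Finite.of_finite_image (f := fun a : 𝟙_ (Over (Spec (CommRingCat.of k))) ⟶ A =>
    a.left (IsLocalRing.closedPoint k)) ((Set.finite_range ιZ).subset ?_) ?_
  · rintro _ ⟨a, ha, rfl⟩
    obtain ⟨a', ha'⟩ := (hZ (Spec (CommRingCat.of k)) a.left).2 ⟨Coh.structureModule _,
      H11Ample.isInvertible_structureModule, by
      refine (pc_eq_iff (H11Ample.isInvertible_pullback _ hQ)
        (H11Ample.isInvertible_pullback _ H11Ample.isInvertible_structureModule)).1 ?_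
      rw [pullP_pc _ Q hQ, pullP_pc _ _ H11Ample.isInvertible_structureModule, pc_one, map_zero, hθ]
      let e : pullback f a.left ⟶ A.left := pullback.fst f a.left ≫ pullback.fst A.hom A.hom
      have he : pullback.fst f a.left = e ≫ (lift (𝟙 A) (toUnit A ≫ a)).left := by
        apply pullback.hom_ext
        · have : (lift (𝟙 A) (toUnit A ≫ a)).left ≫ (fst A A).left = 𝟙 _ :=
            congrArg Over.Hom.left (lift_fst (𝟙 A) (toUnit A ≫ a))
          show _ = (e ≫ _) ≫ (fst A A).left
          rw [Category.assoc, this, Category.comp_id]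
        · have : (lift (𝟙 A) (toUnit A ≫ a)).left ≫ (snd A A).left = A.hom ≫ a.left :=
            congrArg Over.Hom.left (lift_snd (𝟙 A) (toUnit A ≫ a))
          show pullback.fst f a.left ≫ f = (e ≫ _) ≫ (snd A A).left
          have h3 : pullback.snd f a.left = e ≫ A.hom := by
            show _ = (pullback.fst f a.left ≫ pullback.fst A.hom A.hom) ≫ A.hom
            rw [Category.assoc, pullback.condition, ← Category.assoc, pullback.condition, Category.assoc, Over.w a]
            exact (Category.comp_id _).symm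
          rw [Category.assoc, this, pullback.condition, h3, Category.assoc]
      rw [he, ← pullP_pullP]
      have h5 : ev (theta (pc M hM.1)) (lift (𝟙 A) (toUnit A ≫ a)) = 0 := by
        rw [ev_theta, ev_toUnit, show ev (pc M hM.1) (𝟙 A) = pc M hM.1 from pullP_id _, sub_zero,
          show ev (pc M hM.1) (𝟙 A * (toUnit A ≫ a)) = pc M hM.1 from ha, sub_self]
      exact (congrArg (pullP e) h5).trans (map_zero _)⟩
    exact ⟨a' (IsLocalRing.closedPoint k), by rw [← Scheme.Hom.comp_apply, ha']; rfl⟩
  · intro a _ b _ h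
    exact Over.OverMorphism.ext (ext_of_apply_closedPoint_eq A.hom (Over.w a) (Over.w b) h)

end Groth.Agent.H25AbCube
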