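import Groth.Agent.H25AbCube.Torsion

/-!
# The number of points of the kernel of an isogeny divides its degree
-/

set_option autoImplicit false
set_option linter.style.haveILetI false
set_option backward.isDefEq.respectTransparency false
universe u

open CategoryTheory CategoryTheory.Limits MonoidalCategory CartesianMonoidalCategory MonObj GrpObj AlgebraicGeometry
  TopologicalSpace
open Groth.Agent

noncomputable section

namespace Groth.Agent.H25AbCube

variable {k : Type u} [Field k] [IsAlgClosed k] {A B : Over (Spec (CommRingCat.of k))} [GrpObj A] [IsCommMonObj A]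
  [GrpObj B] [IsCommMonObj B]

/-- The rational point of the base. -/
abbrev pt1 (k : Type u) [Field k] : Over (Spec (CommRingCat.of k)) := Over.mk (𝟙 (Spec (CommRingCat.of k)))

/-- The kernel of a homomorphism on rational points. -/
def ptsKer (φ : A ⟶ B) [IsMonHom φ] : Subgroup (pt1 k ⟶ A) :=
  (MonoidHom.mk' (fun a : pt1 k ⟶ A => a ≫ φ) fun a b => MonObj.mul_comp a b φ).ker

theorem mem_ptsKer (φ : A ⟶ B) [IsMonHom φ] (a : pt1 k ⟶ A) : a ∈ ptsKer φ ↔ a ≫ φ = 1 := Iff.rfl

/-- Rational points of the kernel as sections. -/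
def ptsKerEquiv (φ : A ⟶ B) [IsMonHom φ] : ↥(ptsKer φ) ≃
    {p : Spec (CommRingCat.of k) ⟶ pullback φ.left (η[B]).left // p ≫ pullback.snd φ.left (η[B]).left = 𝟙 _} := by
  refine
    { toFun := fun a => ⟨pullback.lift a.1.left (𝟙 _) ?_, pullback.lift_snd _ _ _⟩
      invFun := fun p => ⟨Over.homMk (p.1 ≫ pullback.fst _ _) ?_, ?_⟩
      left_inv := fun a => Subtype.ext (Over.OverMorphism.ext (pullback.lift_fst _ _ _))
      right_inv := fun p => Subtype.ext ?_ }
  · rw [← Over.comp_left, (mem_ptsKer φ a.1).1 a.2]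
    exact H19Grp.one_left _
  · show (p.1 ≫ pullback.fst _ _) ≫ A.hom = 𝟙 _
    rw [Category.assoc, ← Over.w φ, reassoc_of% (pullback.condition (f := φ.left) (g := (η[B]).left)), Over.w η[B]]
    exact (congrArg (p.1 ≫ ·) (Category.comp_id _)).trans p.2
  · refine (mem_ptsKer φ _).2 (Over.OverMorphism.ext (Eq.trans ?_ (H19Grp.one_left _).symm))
    show (p.1 ≫ pullback.fst _ _) ≫ φ.left = 𝟙 _ ≫ (η[B]).left
    rw [Category.assoc, pullback.condition, ← Category.assoc, p.2]
    rfl
  · apply pullback.hom_ext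
    · exact pullback.lift_fst _ _ _
    · exact (pullback.lift_snd _ _ _).trans p.2.symm

/-- Translation of the kernel scheme by a point of the kernel. -/
def kerShift (φ : A ⟶ B) [IsMonHom φ] (a : pt1 k ⟶ A) (ha : a ≫ φ = 1) :
    pullback φ.left (η[B]).left ⟶ pullback φ.left (η[B]).left :=
  pullback.lift (pullback.fst _ _ ≫ ((𝟙 A) * (toUnit A ≫ a) : A ⟶ A).left) (pullback.snd _ _) (by
    have h : ((𝟙 A) * (toUnit A ≫ a) : A ⟶ A) ≫ φ = φ := by
      rw [MonObj.mul_comp, Category.id_comp, Category.assoc, ha, MonObj.comp_one, _root_.mul_one]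
    rw [Category.assoc, ← Over.comp_left, h, pullback.condition])

theorem kerShift_comp (φ : A ⟶ B) [IsMonHom φ] (a b : pt1 k ⟶ A) (ha : a ≫ φ = 1) (hb : b ≫ φ = 1) :
    kerShift φ a ha ≫ kerShift φ b hb =
      kerShift φ (a * b) (by rw [MonObj.mul_comp, ha, hb, _root_.mul_one]) := by
  apply pullback.hom_ext
  · simp only [kerShift, Category.assoc, pullback.lift_fst, pullback.lift_fst_assoc]
    congr 1
    rw [← Over.comp_left]
    congr 1
    rw [MonObj.comp_mul, Category.comp_id, ← Category.assoc, comp_toUnit, _root_.mul_assoc, ← MonObj.comp_mul]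
  · simp only [kerShift, Category.assoc, pullback.lift_snd]

theorem kerShift_one (φ : A ⟶ B) [IsMonHom φ] (h : (1 : pt1 k ⟶ A) ≫ φ = 1) : kerShift φ 1 h = 𝟙 _ := by
  apply pullback.hom_ext
  · simp only [kerShift, pullback.lift_fst, Category.id_comp, MonObj.comp_one, _root_.mul_one]
    exact Category.comp_id _
  · simp only [kerShift, pullback.lift_snd, Category.id_comp]

theorem isIso_kerShift (φ : A ⟶ B) [IsMonHom φ] (a : pt1 k ⟶ A) (ha : a ≫ φ = 1) : IsIso (kerShift φ a ha) := by
  have hi : a⁻¹ ≫ φ = 1 := (mem_ptsKer φ _).1 ((ptsKer φ).inv_mem ((mem_ptsKer φ a).2 ha))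
  refine ⟨⟨kerShift φ a⁻¹ hi, ?_, ?_⟩⟩ <;> rw [kerShift_comp] <;>
    simp only [mul_inv_cancel, inv_mul_cancel] <;> exact kerShift_one φ _

theorem ptsKerEquiv_shift (φ : A ⟶ B) [IsMonHom φ] (a : ↥(ptsKer φ)) (b : ↥(ptsKer φ)) :
    (ptsKerEquiv φ a).1 ≫ kerShift φ b.1 b.2 = (ptsKerEquiv φ (a * b)).1 := by
  apply pullback.hom_ext
  · simp only [kerShift, ptsKerEquiv, Equiv.coe_fn_mk, Category.assoc, pullback.lift_fst, pullback.lift_fst_assoc]
    rw [← Over.comp_left]
    congr 1
    rw [MonObj.comp_mul, Category.comp_id, ← Category.assoc, comp_toUnit]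
    have : toUnit (pt1 k) = 𝟙 _ := toUnit_unique _ _
    exact congrArg (a.1 * ·) ((congrArg (· ≫ b.1) this).trans (Category.id_comp b.1))
  · simp only [kerShift, ptsKerEquiv, Equiv.coe_fn_mk, Category.assoc, pullback.lift_snd]

/-- The number of rational points of the kernel divides the rank. -/
theorem card_ptsKer_dvd [IsProper A.hom] [IsProper B.hom] (φ : A ⟶ B) [IsMonHom φ] [IsFinite φ.left] [Flat φ.left]
    {d : ℕ} (hd : ∀ b, φ.left.finrank b = d) :
    Finite ↥(ptsKer φ) ∧ Nat.card ↥(ptsKer φ) ∣ d := by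
  let q := pullback.snd φ.left (η[B]).left
  haveI : IsFinite q := inferInstance
  haveI : Flat q := MorphismProperty.pullback_snd _ _ inferInstance
  haveI := discreteTopology_of_finite q
  let e₁ : closedPoints (pullback φ.left (η[B]).left : Scheme.{u}) ≃ (pullback φ.left (η[B]).left : Scheme.{u}) :=
    ⟨Subtype.val, fun z => ⟨z, isClosed_discrete _⟩, fun _ => rfl, fun _ => rfl⟩
  let e := (ptsKerEquiv φ).trans ((pointEquivClosedPoint q).trans e₁)
  obtain ⟨_, hsum⟩ := finrank_eq_sum_mult q (IsLocalRing.closedPoint k)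
  refine ⟨Finite.of_equiv _ e.symm, ?_⟩
  have hmult : ∀ z, H22Alg.FiniteDegree.mult q z = H22Alg.FiniteDegree.mult q (e 1) := by
    intro z
    let b := e.symm z
    haveI := isIso_kerShift φ b.1 b.2
    have hz : kerShift φ b.1 b.2 (e 1) = z := by
      have h1 : e 1 = (ptsKerEquiv φ 1).1 (IsLocalRing.closedPoint k) := rfl
      have h2 : z = (ptsKerEquiv φ b).1 (IsLocalRing.closedPoint k) := (e.apply_symm_apply z).symm
      rw [h1, h2, ← Scheme.Hom.comp_apply, ptsKerEquiv_shift, _root_.one_mul]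
    rw [mult_eq_length, mult_eq_length]
    let r := (asIso ((kerShift φ b.1 b.2).stalkMap (e 1))).commRingCatIsoToRingEquiv
    have hl : ∀ {R S : Type u} [CommRing R] [CommRing S] (r : R ≃+* S), Module.length R R = Module.length S S := by
      intro R S _ _ r
      apply WithBot.coe_injective
      rw [Module.coe_length, Module.coe_length]
      exact Order.krullDim_eq_of_orderIso (r.symm.idealComapOrderIso)
    have := congrArg ENat.toNat (hl r)
    rw [hz] at this
    exact this
  rw [← hd (η[B].left (IsLocalRing.closedPoint k)), ← Scheme.Hom.finrank_of_isPullback _ _ _ _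
    (IsPullback.of_hasPullback φ.left (η[B]).left) (IsLocalRing.closedPoint k), hsum,
    Finset.sum_congr rfl fun z _ => hmult z, Finset.sum_const, smul_eq_mul, Finset.card_univ,
    ← Nat.card_eq_fintype_card, Nat.card_congr e]
  exact dvd_mul_right _ _

end Groth.Agent.H25AbCube
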