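import Groth.Agent.H25AbCube.Connect
import Groth.Agent.H25AbCube.Descent
import Mathlib.AlgebraicGeometry.FunctionField
import Mathlib.RingTheory.NoetherNormalization

/-!
# The square relation for varieties which need not be proper
-/

set_option autoImplicit false
set_option linter.style.haveILetI false
set_option backward.isDefEq.respectTransparency false
universe u

open CategoryTheory CategoryTheory.Limits MonoidalCategory CartesianMonoidalCategory AlgebraicGeometry
open Groth.Agent
open scoped TensorProduct

noncomputable section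

namespace Groth.Agent.H25AbCube

variable {k : Type u} [Field k]

/-- A rational point, as a point with values in an extension. -/
def constPt (K : Type u) [Field K] [Algebra k K] {U : Over (Spec (CommRingCat.of k))} (a : 𝟙_ _ ⟶ U) :
    TK k K ⟶ U :=
  toUnit _ ≫ a

theorem res_constPt {K K' : Type u} [Field K] [Field K'] [Algebra k K] [Algebra k K'] (e : K →ₐ[k] K')
    {U : Over (Spec (CommRingCat.of k))} (a : 𝟙_ _ ⟶ U) : res e (constPt K a) = constPt K' a := by
  apply Over.OverMorphism.ext
  show Spec.map _ ≫ Spec.map _ ≫ a.left = Spec.map _ ≫ a.left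
  rw [← Category.assoc, ← Spec.map_comp, ← CommRingCat.ofHom_comp]
  erw [e.comp_algebraMap]

variable [IsAlgClosed k]

/-- A variety over an algebraically closed field has a rational point. -/
theorem exists_rat_point (W : Over (Spec (CommRingCat.of k))) [LocallyOfFiniteType W.hom] [Nonempty W.left] :
    Nonempty (𝟙_ (Over (Spec (CommRingCat.of k))) ⟶ W) := by
  haveI : JacobsonSpace W.left := LocallyOfFiniteType.jacobsonSpace W.hom
  obtain ⟨x, -, hx⟩ := nonempty_inter_closedPoints (Z := (Set.univ : Set W.left)) Set.univ_nonempty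
    isClosed_univ.isLocallyClosed
  exact ⟨Over.homMk _ ((pointEquivClosedPoint W.hom).symm ⟨x, hx⟩).2⟩

/-- Rational points of a variety are linked over one algebraically closed extension. -/
theorem exists_linked_field (U : Over (Spec (CommRingCat.of k))) [LocallyOfFiniteType U.hom]
    [GeometricallyIntegral U.hom] :
    ∃ (K : Type u) (_ : Field K) (_ : Algebra k K) (_ : IsAlgClosed K),
      ∀ a b : 𝟙_ _ ⟶ U, Relation.EqvGen (Linked (K := K) U) (constPt K a) (constPt K b) := by
  classical
  haveI : IsIntegral U.left := GeometricallyIntegral.isIntegral_of_subsingleton U.hom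
  let F := U.left.functionField
  let φF : CommRingCat.of k ⟶ CommRingCat.of F :=
    Spec.preimage (U.left.fromSpecStalk (genericPoint U.left) ≫ U.hom)
  letI : Algebra k F := φF.hom.toAlgebra
  let K := AlgebraicClosure F
  refine ⟨K, inferInstance, inferInstance, inferInstance, ?_⟩
  let θ : TK k K ⟶ U := Over.homMk (Spec.map (CommRingCat.ofHom (algebraMap F K)) ≫
      U.left.fromSpecStalk (genericPoint U.left)) (by
    show (Spec.map _ ≫ _) ≫ U.hom = tK k K
    rw [Category.assoc, ← Spec.map_preimage (U.left.fromSpecStalk (genericPoint U.left) ≫ U.hom)]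
    exact (Spec.map_comp _ _).symm.trans
      (congrArg (fun r => Spec.map (CommRingCat.ofHom r)) (IsScalarTower.algebraMap_eq k F K).symm))
  have key : ∀ a : 𝟙_ _ ⟶ U, Relation.EqvGen (Linked (K := K) U) (constPt K a) θ := by
    intro a
    let z₀ : U.left := a.left (IsLocalRing.closedPoint k)
    obtain ⟨_, ⟨V, hV, rfl⟩, hzV, -⟩ :=
      U.left.isBasis_affineOpens.exists_subset_of_mem_open (Set.mem_univ z₀) isOpen_univ
    haveI : Nonempty (V : Scheme.{u}) := ⟨⟨z₀, hzV⟩⟩
    let A := Γ(U.left, V)
    let φA : CommRingCat.of k ⟶ A := Spec.preimage (hV.fromSpec ≫ U.hom)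
    letI : Algebra k A := φA.hom.toAlgebra
    have hf : hV.fromSpec ≫ U.hom = Spec.map (CommRingCat.ofHom (algebraMap k A)) :=
      (Spec.map_preimage _).symm
    haveI : Algebra.FiniteType k A := by
      have : LocallyOfFiniteType (Spec.map (CommRingCat.ofHom (algebraMap k A))) := by
        rw [← hf]; infer_instance
      rw [HasRingHomProperty.Spec_iff (P := @LocallyOfFiniteType)] at this
      exact RingHom.finiteType_algebraMap.mp this
    obtain ⟨n, g, hg, hgfin⟩ := exists_finite_inj_algHom_of_fg k A
    have hη : genericPoint U.left ∈ V :=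
      ((genericPoint_spec U.left).mem_open_set_iff V.isOpen).mpr ⟨z₀, trivial, hzV⟩
    let gm := U.left.presheaf.germ V (genericPoint U.left) hη
    letI : Algebra A F := gm.hom.toAlgebra
    haveI : IsFractionRing A F := functionField_isFractionRing_of_isAffineOpen _ V hV
    have hgm : gm = CommRingCat.ofHom (algebraMap A F) := rfl
    have hφ : φA ≫ gm = φF := by
      apply Spec.map_injective
      rw [Spec.map_comp, Spec.map_preimage, Spec.map_preimage, ← Category.assoc]
      exact congrArg (· ≫ U.hom) (hV.fromSpecStalk_eq_fromSpecStalk hη)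
    let η : A →ₐ[k] K :=
      { (algebraMap F K).comp gm.hom with
        commutes' := fun c => by
          show algebraMap F K (gm (φA c)) = algebraMap k K c
          rw [IsScalarTower.algebraMap_apply k F K]
          exact congrArg (algebraMap F K) (congrArg (fun r => r.hom c) hφ) }
    have hηinj : Function.Injective η :=
      (algebraMap F K).injective.comp (IsFractionRing.injective A F)
    have halg : letI := η.toRingHom.toAlgebra; Algebra.IsAlgebraic A K := by
      have h0 : Algebra.IsAlgebraic A K :=
        (IsFractionRing.comap_isAlgebraic_iff (A := A) (K := F) (C := K)).2 inferInstance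
      have e : η.toRingHom.toAlgebra = (inferInstance : Algebra A K) := Algebra.algebra_ext _ _ fun _ => rfl
      show @Algebra.IsAlgebraic A K _ _ η.toRingHom.toAlgebra
      rw [e]
      exact h0
    have hmem : Set.range a.left ⊆ Set.range hV.fromSpec := by
      rintro _ ⟨x, rfl⟩
      rw [hV.range_fromSpec, Subsingleton.elim (α := PrimeSpectrum k) x (IsLocalRing.closedPoint k)]
      exact hzV
    let a' : Spec (CommRingCat.of k) ⟶ Spec A := IsOpenImmersion.lift hV.fromSpec a.left hmem
    have ha' : a' ≫ hV.fromSpec = a.left := IsOpenImmersion.lift_fac _ _ _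
    let αA : A →ₐ[k] k :=
      { (Spec.preimage a').hom with
        commutes' := fun c => by
          have : φA ≫ Spec.preimage a' = 𝟙 _ := by
            apply Spec.map_injective
            rw [Spec.map_comp, Spec.map_preimage, Spec.map_preimage, Spec.map_id, ← Category.assoc, ha']
            exact Over.w a
          exact congrArg (fun r => r.hom c) this }
    have h := eqvGen_generic hV.fromSpec hf g hg hgfin η hηinj halg αA
    have e1 : ptA hV.fromSpec hf ((Algebra.ofId k K).comp αA) = constPt K a := Over.OverMorphism.ext (by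
      show Spec.map _ ≫ hV.fromSpec = Spec.map _ ≫ a.left
      rw [← ha', ← Category.assoc]
      refine congrArg (· ≫ hV.fromSpec) ?_
      rw [← Spec.map_preimage a', ← Spec.map_comp]
      rfl)
    have e2 : ptA hV.fromSpec hf η = θ := Over.OverMorphism.ext (by
      show Spec.map _ ≫ hV.fromSpec = Spec.map _ ≫ U.left.fromSpecStalk _
      rw [← hV.fromSpecStalk_eq_fromSpecStalk hη]
      show _ = Spec.map _ ≫ Spec.map gm ≫ hV.fromSpec
      rw [← Category.assoc (Spec.map (CommRingCat.ofHom (algebraMap F K))), ← Spec.map_comp]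
      rfl)
    rwa [e1, e2] at h
  exact fun a b => .trans _ _ _ (key a) (.symm _ _ (key b))

/-- The value of a class at a pair of rational points. -/
def Qk {U V W : Over (Spec (CommRingCat.of k))} (L : PC (U ⊗ V ⊗ W).left) (a : 𝟙_ _ ⟶ U) (b : 𝟙_ _ ⟶ V) :
    PC W.left :=
  ev3 L (toUnit W ≫ a) (toUnit W ≫ b) (𝟙 W)

/-- The square relation for varieties. -/
theorem square (U V W : Over (Spec (CommRingCat.of k)))
    [LocallyOfFiniteType U.hom] [GeometricallyIntegral U.hom]
    [LocallyOfFiniteType V.hom] [GeometricallyIntegral V.hom]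
    [Smooth W.hom] [IsSeparated W.hom] [QuasiCompact W.hom] [GeometricallyIntegral W.hom]
    (L : PC (U ⊗ V ⊗ W).left) (a₀ a₁ : 𝟙_ _ ⟶ U) (b₀ b₁ : 𝟙_ _ ⟶ V) :
    Qk L a₀ b₀ - Qk L a₁ b₀ - Qk L a₀ b₁ + Qk L a₁ b₁ = 0 := by
  classical
  obtain ⟨K₁, iF₁, iA₁, iC₁, h₁⟩ := exists_linked_field U
  obtain ⟨K₂, iF₂, iA₂, iC₂, h₂⟩ := exists_linked_field V
  haveI : IsDomain (K₁ ⊗[k] K₂) := H19Grp.isDomain_tensorProduct K₁ K₂
  let K := AlgebraicClosure (FractionRing (K₁ ⊗[k] K₂))
  let e₁ : K₁ →ₐ[k] K := (IsScalarTower.toAlgHom k (K₁ ⊗[k] K₂) K).comp Algebra.TensorProduct.includeLeft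
  let e₂ : K₂ →ₐ[k] K := (IsScalarTower.toAlgHom k (K₁ ⊗[k] K₂) K).comp Algebra.TensorProduct.includeRight
  have hU : Relation.EqvGen (Linked (K := K) U) (constPt K a₀) (constPt K a₁) := by
    have := eqvGen_res e₁ (h₁ a₀ a₁)
    rwa [res_constPt, res_constPt] at this
  have hV : Relation.EqvGen (Linked (K := K) V) (constPt K b₀) (constPt K b₁) := by
    have := eqvGen_res e₂ (h₂ b₀ b₁)
    rwa [res_constPt, res_constPt] at this
  haveI : IsIntegral W.left := GeometricallyIntegral.isIntegral_of_subsingleton W.hom
  obtain ⟨w₀⟩ : Nonempty (𝟙_ (Over (Spec (CommRingCat.of k))) ⟶ W) := exists_rat_point W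
  have hQ : QK U V W L (constPt K a₀) (constPt K b₀) - QK U V W L (constPt K a₁) (constPt K b₀) -
      QK U V W L (constPt K a₀) (constPt K b₁) + QK U V W L (constPt K a₁) (constPt K b₁) = 0 := by
    have step : ∀ (x x' : TK k K ⟶ U) (y y' : TK k K ⟶ V), Linked U x x' → Relation.EqvGen (Linked V) y y' →
        QK U V W L x y - QK U V W L x' y - QK U V W L x y' + QK U V W L x' y' = 0 := by
      intro x x' y y' hl h
      obtain ⟨l⟩ := hl
      induction h with
      | rel a b h => obtain ⟨m⟩ := h; exact QK_link W w₀ L l m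
      | refl a => abel
      | symm a b _ ih => linear_combination (norm := abel) -ih
      | trans a b c _ _ ih ih' => linear_combination (norm := abel) ih + ih'
    have gen : ∀ (x x' : TK k K ⟶ U), Relation.EqvGen (Linked U) x x' → ∀ (y y' : TK k K ⟶ V), Relation.EqvGen (Linked V) y y' →
        QK U V W L x y - QK U V W L x' y - QK U V W L x y' + QK U V W L x' y' = 0 := by
      intro x x' h y y' h'
      induction h with
      | rel a b h => exact step a b _ _ h h'
      | refl a => abel
      | symm a b _ ih => linear_combination (norm := abel) -ih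
      | trans a b c _ _ ih ih' => linear_combination (norm := abel) ih + ih'
    exact gen _ _ hU _ _ hV
  have hQk : ∀ (a : 𝟙_ _ ⟶ U) (b : 𝟙_ _ ⟶ V),
      QK U V W L (constPt K a) (constPt K b) = ev (Qk L a b) (snd (TK k K) W) := by
    intro a b
    rw [Qk, ev_ev3, QK, constPt, constPt, ← Category.assoc, ← Category.assoc, Category.comp_id,
      ← Category.assoc (snd (TK k K) W), ← Category.assoc (snd (TK k K) W)]
    congr 2 <;> simp
  have hinj : Function.Injective (pullP (snd (TK k K) W).left) := by
    intro u v h
    refine pullP_injective_of_isAlgClosed k K W.hom ?_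
    have e : pullback.fst W.hom (tK k K) = (pullbackSymmetry _ _).hom ≫ (snd (TK k K) W).left :=
      (pullbackSymmetry_hom_comp_snd _ _).symm
    show pullP (pullback.fst W.hom (tK k K)) u = pullP (pullback.fst W.hom (tK k K)) v
    rw [e, ← pullP_pullP, ← pullP_pullP]
    exact congrArg _ h
  apply hinj
  rw [map_add, map_sub, map_sub, map_zero]
  simpa only [hQk, ev] using hQ

end Groth.Agent.H25AbCube
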