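import Groth.Agent.H25AbCube.EndAlgebra

/-!
# The Frobenius endomorphism is central and generates a semisimple algebra
-/

set_option autoImplicit false
set_option linter.style.haveILetI false
set_option linter.unusedSectionVars false
set_option backward.isDefEq.respectTransparency false
set_option synthInstance.maxHeartbeats 400000
set_option maxHeartbeats 1000000
universe u

open CategoryTheory CategoryTheory.Limits MonoidalCategory CartesianMonoidalCategory MonObj GrpObj AlgebraicGeometry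
  TopologicalSpace Polynomial
open Groth.Agent
open scoped TensorProduct

noncomputable section

namespace Groth.Agent.H25AbCube

/-- Maps which are the identity on points and a power map on sections commute with every morphism. -/
theorem pow_endo_comm {X Y : Scheme.{u}} (q : ℕ) (π : X ⟶ X) (hb : π.base = 𝟙 _) (hle : ∀ U : X.Opens, U ≤ π ⁻¹ᵁ U)
    (happ : ∀ (U : X.Opens) (s : Γ(X, U)), (π.appLE U U (hle U)).hom s = s ^ q)
    (π' : Y ⟶ Y) (hb' : π'.base = 𝟙 _) (hle' : ∀ U : Y.Opens, U ≤ π' ⁻¹ᵁ U)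
    (happ' : ∀ (U : Y.Opens) (s : Γ(Y, U)), (π'.appLE U U (hle' U)).hom s = s ^ q) (f : X ⟶ Y) :
    π ≫ f = f ≫ π' := by
  have hpre : ∀ U : Y.Opens, (π ≫ f) ⁻¹ᵁ U = f ⁻¹ᵁ U := fun U => by
    ext x
    show f (π x) ∈ U ↔ f x ∈ U
    rw [show π x = x from congrArg (fun b => b x) hb]
  refine Scheme.Hom.ext (by simp only [Scheme.Hom.comp_base, hb, hb', Category.id_comp, Category.comp_id]) (fun U => ?_)
  have h1 : (π ≫ f).appLE U (f ⁻¹ᵁ U) (hpre U).ge = (f ≫ π').appLE U (f ⁻¹ᵁ U) (fun x hx => hle' U hx) := by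
    rw [← Scheme.Hom.appLE_comp_appLE π f U (f ⁻¹ᵁ U) (f ⁻¹ᵁ U) le_rfl (hle _),
      ← Scheme.Hom.appLE_comp_appLE f π' U U (f ⁻¹ᵁ U) (hle' U) le_rfl]
    ext s
    show (π.appLE _ _ _).hom ((f.appLE U _ le_rfl).hom s) = (f.appLE U _ le_rfl).hom ((π'.appLE U U _).hom s)
    rw [happ, happ', map_pow]
  have key : ∀ (g : X ⟶ Y) (V : X.Opens) (e : g ⁻¹ᵁ U = V),
      g.app U = g.appLE U V e.ge ≫ X.presheaf.map (eqToHom e).op := fun g V e => by
    subst e; simp [Scheme.Hom.app_eq_appLE]
  have e2 : (f ≫ π') ⁻¹ᵁ U = f ⁻¹ᵁ U := by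
    ext x
    show π' (f x) ∈ U ↔ f x ∈ U
    rw [show π' (f x) = f x from congrArg (fun b => b (f x)) hb']
  rw [key _ _ (hpre U), key _ _ e2]
  simp only [Category.assoc, ← Functor.map_comp, h1]
  rfl

variable {k : Type u} [Field k] {A : Over (Spec (CommRingCat.of k))} [GrpObj A] [IsProper A.hom]
  [GeometricallyIntegral A.hom] [IsCommMonObj A]

section frob

variable (q : ℕ) (πA : A ⟶ A) [IsMonHom πA] (hb : πA.left.base = 𝟙 _) (hle : ∀ U : A.left.Opens, U ≤ πA.left ⁻¹ᵁ U)
  (happ : ∀ (U : A.left.Opens) (s : Γ(A.left, U)), (πA.left.appLE U U (hle U)).hom s = s ^ q)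

include hb hle happ

theorem frob_central (φ : EndAV.End A) : EndAV.End.of πA * φ = φ * EndAV.End.of πA :=
  EndAV.End.ext (Over.OverMorphism.ext (pow_endo_comm q πA.left hb hle happ πA.left hb hle happ φ.toHom.left).symm)

theorem frob_central0 (x : EndAV.End0 A) :
    EndAV.toEnd0 (EndAV.End.of πA) * x = x * EndAV.toEnd0 (EndAV.End.of πA) := by
  induction x using TensorProduct.induction_on with
  | zero => rw [mul_zero, zero_mul]
  | tmul a φ =>
    rw [EndAV.toEnd0_apply, Algebra.TensorProduct.tmul_mul_tmul, Algebra.TensorProduct.tmul_mul_tmul,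
      frob_central q πA hb hle happ φ, _root_.one_mul, _root_.mul_one]
  | add x y hx hy => rw [mul_add, add_mul, hx, hy]

/-- The algebra generated by the Frobenius is semisimple. -/
theorem isSemisimpleRing_qAdj : IsSemisimpleRing ↥(EndAV.QAdj (EndAV.End.of πA)) := by
  haveI : Module.Finite ℤ (EndAV.End A) := moduleFinite_hom
  haveI : Module.Finite ℚ (EndAV.End0 A) := Module.Finite.base_change ℤ ℚ (EndAV.End A)
  haveI : IsArtinianRing (EndAV.End0 A) := IsArtinianRing.of_finite ℚ (EndAV.End0 A)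
  let S := EndAV.QAdj (EndAV.End.of πA)
  haveI : Module.Finite ℚ ↥S := Module.Finite.of_injective S.val.toLinearMap Subtype.val_injective
  haveI : IsArtinianRing ↥S := IsArtinianRing.of_finite ℚ ↥S
  rw [IsArtinianRing.isSemisimpleRing_iff_jacobson, eq_bot_iff]
  intro c hc
  have hc' : c ∈ (⊥ : Ideal ↥S).jacobson := (Ideal.jacobson_bot (R := ↥S)).symm ▸ hc
  obtain ⟨n, hn⟩ := IsArtinianRing.isNilpotent_jacobson_bot (R := ↥S)
  have hcn : c.1 ^ n = 0 := by
    have h := Ideal.pow_mem_pow hc' n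
    rw [hn] at h
    exact congrArg Subtype.val (Submodule.mem_bot (R := ↥S) |>.1 h)
  have hcentral : ∀ x : EndAV.End0 A, c.1 * x = x * c.1 := fun x => by
    have h : S ≤ Subalgebra.centralizer ℚ {x} := Algebra.adjoin_le (Set.singleton_subset_iff.2
      (Subalgebra.mem_centralizer_iff ℚ |>.2 fun g hg => by
        rw [Set.mem_singleton_iff.1 hg]; exact (frob_central0 q πA hb hle happ x).symm))
    exact ((Subalgebra.mem_centralizer_iff ℚ).1 (h c.2) x rfl).symm
  obtain ⟨y, hy⟩ := end0_regular c.1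
  have h2 : ∀ m : ℕ, c.1 = c.1 ^ (m + 1) * y ^ m := by
    intro m
    induction m with
    | zero => rw [pow_one, pow_zero, _root_.mul_one]
    | succ m ih =>
      have e : c.1 * y * c.1 = c.1 ^ 2 * y := by rw [_root_.mul_assoc, ← hcentral y, ← _root_.mul_assoc, sq]
      calc c.1 = c.1 ^ (m + 1) * y ^ m := ih
        _ = c.1 ^ m * (c.1 ^ 2 * y) * y ^ m := by rw [← e, hy, ← pow_succ]
        _ = c.1 ^ (m + 1 + 1) * y ^ (m + 1) := by
          rw [show m + 1 + 1 = m + 2 from rfl, pow_add c.1 m 2, pow_succ' y m]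
          simp only [_root_.mul_assoc]
  refine (Submodule.mem_bot (R := ↥S)).2 (Subtype.ext ?_)
  have h3 := h2 n
  rwa [pow_succ, hcn, MulZeroClass.zero_mul, MulZeroClass.zero_mul] at h3

theorem frob_semisimple_poly : ∃ p : ℚ[X], Squarefree p ∧ aeval (EndAV.toEnd0 (EndAV.End.of πA)) p = 0 := by
  haveI : Module.Finite ℤ (EndAV.End A) := moduleFinite_hom
  haveI : Module.Finite ℚ (EndAV.End0 A) := Module.Finite.base_change ℤ ℚ (EndAV.End A)
  haveI := isSemisimpleRing_qAdj q πA hb hle happ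
  let S := EndAV.QAdj (EndAV.End.of πA)
  let x : ↥S := ⟨EndAV.toEnd0 (EndAV.End.of πA), Algebra.subset_adjoin rfl⟩
  haveI : Module.Finite ℚ ↥S := Module.Finite.of_injective S.val.toLinearMap Subtype.val_injective
  letI : CommRing ↥S := { (inferInstance : Ring ↥S) with
    mul_comm := fun a b => Subtype.ext (Algebra.commute_of_mem_adjoin_singleton_of_commute b.2
      (Algebra.commute_of_mem_adjoin_self a.2).symm) }
  haveI : IsReduced ↥S := inferInstance
  refine ⟨minpoly ℚ x, ?_, ?_⟩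
  · haveI : IsReduced (ℚ[X] ⧸ RingHom.ker (aeval x : ℚ[X] →ₐ[ℚ] ↥S)) :=
      isReduced_of_injective (Ideal.Quotient.lift _ (aeval x).toRingHom fun _ h => h)
        (RingHom.lift_injective_of_ker_le_ideal _ _ le_rfl)
    have hrad := (Ideal.isRadical_iff_quotient_reduced _).2 this
    rw [minpoly.ker_aeval_eq_span_minpoly, ← isRadical_iff_span_singleton] at hrad
    exact hrad.squarefree (minpoly.ne_zero (Algebra.IsIntegral.isIntegral x))
  · exact (aeval_algHom_apply S.val x _).trans (by rw [minpoly.aeval]; exact map_zero _)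

end frob

end Groth.Agent.H25AbCube
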