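import Groth.Agent.H25AbCube.FrobWeil
import Groth.Agent.H25AbCube.Ample
import Groth.Agent.H25AbCube.FrobEnd
import Groth.Agent.H25Grp.Isogeny

/-!
# The characteristic polynomial of the Frobenius of an abelian variety over a finite field
-/

set_option autoImplicit false
set_option linter.style.haveILetI false
set_option linter.unusedSectionVars false
set_option backward.isDefEq.respectTransparency false
set_option synthInstance.maxHeartbeats 400000
set_option maxHeartbeats 2000000
universe u

open CategoryTheory CategoryTheory.Limits MonoidalCategory CartesianMonoidalCategory MonObj GrpObj AlgebraicGeometry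
  FrobSch
open Groth.Agent
open Polynomial (X C aeval)

noncomputable section

namespace Groth.Agent.H25AbCube.FrobPoly

open GeomTate FrobPoints

attribute [local instance] Functor.grpObjObj

/-- The iterated absolute Frobenius is the identity on points and a power map on sections. -/
theorem fr_spec (p : ℕ) [Fact p.Prime] (X : Scheme.{u}) [IsCharP X p] : ∀ n,
    ∃ (_ : (H27Perf.Tower.fr p X n).base = 𝟙 _) (hle : ∀ U : X.Opens, U ≤ H27Perf.Tower.fr p X n ⁻¹ᵁ U),
      ∀ (U : X.Opens) (s : Γ(X, U)), ((H27Perf.Tower.fr p X n).appLE U U (hle U)).hom s = s ^ p ^ n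
  | 0 => by
    refine ⟨rfl, fun U => le_rfl, fun U s => ?_⟩
    rw [pow_zero, pow_one]
    show ((𝟙 X : X ⟶ X).appLE U U _).hom s = s
    simp only [Scheme.Hom.appLE, Scheme.Hom.id_app]
    erw [X.presheaf.map_id]
    rfl
  | n + 1 => by
    obtain ⟨hb, hle, happ⟩ := fr_spec p X n
    refine ⟨?_, fun U => ?_, fun U s => ?_⟩
    · show (H27Perf.Tower.fr p X n ≫ frob X p).base = _
      rw [Scheme.Hom.comp_base, hb, frob_base, Category.comp_id]
    · show U ≤ (H27Perf.Tower.fr p X n ≫ frob X p) ⁻¹ᵁ U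
      intro x hx
      exact hle U hx
    · show ((H27Perf.Tower.fr p X n ≫ frob X p).appLE U U _).hom s = _
      rw [← Scheme.Hom.appLE_comp_appLE _ (frob X p) U U U le_rfl (hle U)]
      show ((H27Perf.Tower.fr p X n).appLE U U _).hom (((frob X p).appLE U U le_rfl).hom s) = _
      rw [happ]
      have h : ((frob X p).appLE U U le_rfl).hom s = s ^ p := by
        rw [Scheme.Hom.appLE]
        show (X.presheaf.map (𝟙 _)).hom (((frob X p).app U).hom s) = _
        rw [X.presheaf.map_id]
        rfl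
      rw [h, ← pow_mul, pow_succ']

variable {k : Type u} [Field k] [Finite k] {A : Over (Spec (CommRingCat.of k))}
  (πA : A ⟶ A) (hb : πA.left.base = 𝟙 _) (hle : ∀ U : A.left.Opens, U ≤ πA.left ⁻¹ᵁ U)
  (happ : ∀ (U : A.left.Opens) (s : Γ(A.left, U)), (πA.left.appLE U U (hle U)).hom s = s ^ Nat.card k)

/-- The characteristic and the exponent of a finite field. -/
theorem exists_char (k : Type u) [Field k] [Finite k] :
    ∃ (p N : ℕ) (_ : Fact p.Prime) (_ : CharP k p), N ≠ 0 ∧ Nat.card k = p ^ N ∧ ∀ x : k, x ^ p ^ N = x := by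
  obtain ⟨p, hp⟩ := CharP.exists k
  haveI : Fintype k := Fintype.ofFinite k
  obtain ⟨N, hpp, hq⟩ := FiniteField.card k p
  exact ⟨p, N, ⟨hpp⟩, hp, N.ne_zero, by rw [Nat.card_eq_fintype_card, hq],
    fun x => by rw [← hq]; exact FiniteField.pow_card x⟩

include hb hle happ in
theorem eq_F (p N : ℕ) [Fact p.Prime] [CharP k p] (hq : Nat.card k = p ^ N) (hN : ∀ x : k, x ^ p ^ N = x) :
    πA = FrobPoints.F p A N hN 1 := by
  obtain ⟨hb', hle', happ'⟩ := fr_spec p A.left (N * 1)
  refine Over.OverMorphism.ext ?_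
  have := pow_endo_comm (Nat.card k) πA.left hb hle happ (H27Perf.Tower.fr p A.left (N * 1)) hb' hle'
    (fun U s => by rw [happ', hq, Nat.mul_one]) (𝟙 A.left)
  simpa [F_left] using this

variable [GrpObj A] [IsCommMonObj A] [IsProper A.hom] [GeometricallyIntegral A.hom] [IsMonHom πA]
  (Ω : Type u) [Field Ω] [Algebra k Ω] [IsAlgClosed Ω] [Algebra.IsAlgebraic k Ω]

include hb hle happ in
/-- The characteristic polynomial of the Frobenius: Riemann hypothesis, values and point counts. -/
theorem facts {g : ℕ} (hg : topologicalKrullDim A.left = g) (l : ℕ) [Fact l.Prime] (hl : (l : k) ≠ 0)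
    [Module.Free ℤ_[l] (AbDual.TateMod A l (SGA7.pt Ω))] [Module.Finite ℤ_[l] (AbDual.TateMod A l (SGA7.pt Ω))]
    (P : Polynomial ℤ) (hP : (AbDual.tateMapₗ (l := l) (T := SGA7.pt Ω) πA).charpoly = P.map (Int.castRingHom ℤ_[l])) :
    P.Monic ∧ P.natDegree = 2 * g ∧
      (∀ α ∈ (P.map (Int.castRingHom ℂ)).roots, Complex.normSq α = Nat.card k) ∧
      (∀ G : Polynomial ℤ, (degree (aeval (EndAV.End.of πA) G).toHom : ℂ) =
        (((P.map (Int.castRingHom ℂ)).roots.map fun α => aeval α G).prod)) ∧
      ∀ (k' : Type u) [Field k'] [Algebra k k'] [Finite k'],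
        (Nat.card (Over.mk (Spec.map (CommRingCat.ofHom (algebraMap k k'))) ⟶ A) : ℂ) =
          (((P.map (Int.castRingHom ℂ)).roots.map fun α => 1 - α ^ Module.finrank k k').prod) := by
  classical
  obtain ⟨p, N, _, _, hN0, hq, hN⟩ := exists_char k
  have hπ := eq_F πA hb hle happ p N hq hN
  obtain ⟨P0, hP0, hP0deg, hP0e, hP0l⟩ := exists_charpoly_pt (Ω := Ω) hg (EndAV.End.of πA)
  obtain rfl : P = P0 := Polynomial.map_injective (Int.castRingHom ℤ_[l]) Int.cast_injective
    (hP.symm.trans (hP0l l hl))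
  have hval : ∀ G : Polynomial ℤ, (degree (aeval (EndAV.End.of πA) G).toHom : ℂ) =
      (((P.map (Int.castRingHom ℂ)).roots.map fun α => aeval α G).prod) := by
    intro G
    obtain ⟨Q0, hQ0, hQ0deg, hQ0e, hQ0l⟩ := exists_charpoly_pt (Ω := Ω) hg (aeval (EndAV.End.of πA) G)
    obtain ⟨b⟩ := exists_tateBasis_pt (A := A) (Ω := Ω) l hl hg
    have hr := Groth.Agent.S15657.roots_of_tate b hP0 hQ0 G (EndAV.End.tateRep l (SGA7.pt Ω)) (EndAV.End.of πA)
      (hP0l l hl) (hQ0l l hl) ℂ
    have e := hQ0e 0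
    rw [Int.cast_zero, sub_zero] at e
    have e2 : ((Q0.eval 0 : ℤ) : ℂ) = (Q0.map (Int.castRingHom ℂ)).eval 0 := by
      rw [Polynomial.eval_zero_map]; rfl
    rw [← Int.cast_natCast, e, e2, (IsAlgClosed.splits _).eq_prod_roots_of_monic (hQ0.map _), hr,
      Polynomial.eval_multiset_prod, Multiset.map_map, Multiset.map_map]
    have hc : Multiset.card (P.map (Int.castRingHom ℂ)).roots = 2 * g := by
      rw [← (IsAlgClosed.splits _).natDegree_eq_card_roots, hP0.natDegree_map, hP0deg]
    calc _ = ((P.map (Int.castRingHom ℂ)).roots.map fun w => (-1) * aeval w G).prod := by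
          congr 1
          refine Multiset.map_congr rfl fun w _ => ?_
          simp
      _ = _ := by
          rw [Multiset.prod_map_mul, Multiset.map_const', Multiset.prod_replicate, hc, pow_mul, neg_one_sq, one_pow,
            _root_.one_mul]
  refine ⟨hP0, hP0deg, fun w hw => ?_, hval, ?_⟩
  · have hg1 : 1 ≤ g := by
      by_contra h
      have h0 := Polynomial.card_roots' (P.map (Int.castRingHom ℂ))
      rw [hP0.natDegree_map, hP0deg] at h0
      have := Multiset.card_pos_iff_exists_mem.2 ⟨w, hw⟩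
      omega
    have hg' := dim_bc (Ω := Ω) A hg
    let φ : EndAV.End ((bc k Ω).obj A) := frobEnd p N hN Ω
    obtain ⟨L0, hL0⟩ := exists_isAmple A
    haveI : IsAffineHom (pullback.fst A.hom (σ k Ω)) := MorphismProperty.pullback_fst _ _ inferInstance
    have hL := H11Ample.isAmple_pullback_of_isAffineHom (pullback.fst A.hom (σ k Ω)) hL0
    have hev : ev (pc _ hL.1) φ.toHom = (p ^ N) • pc _ hL.1 := by
      rw [pullP_pc _ L0 hL0.1 hL.1]
      show pullP ((bc k Ω).map (FrobPoints.F p A N hN 1)).left (pullP _ _) = _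
      obtain ⟨e⟩ := H27Perf.Tower.exists_iso_fr (p := p) hL0.1 (N * 1)
      obtain ⟨hq', eq⟩ := exists_pc_tensorPow hL0.1 (p ^ (N * 1))
      have hfr := H11Ample.isInvertible_pullback (H27Perf.Tower.fr p A.left (N * 1)) hL0.1
      have h1 : pullP (FrobPoints.F p A N hN 1).left (pc L0 hL0.1) = p ^ N • pc L0 hL0.1 := by
        rw [F_left, ← pullP_pc _ L0 hL0.1 hfr, (pc_eq_iff hfr hq').2 ⟨e⟩, eq, Nat.mul_one]
      rw [pullP_pullP, ← (isPullback_map (Ω := Ω) A (FrobPoints.F p A N hN 1)).w, ← pullP_pullP, h1, map_nsmul]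
      rfl
    haveI : IsFinite φ.toHom.left := by
      have := isFinite_frobEnd_pow (A := A) p N hN Ω 1
      rwa [pow_one] at this
    obtain ⟨b⟩ := exists_tateBasis (A := (bc k Ω).obj A) l (natCast_ne_zero_bc hl) g hg'
    haveI : Module.Free ℤ_[l] (AbDual.TateMod ((bc k Ω).obj A) l (pt1 Ω)) := Module.Free.of_basis b
    haveI : Module.Finite ℤ_[l] (AbDual.TateMod ((bc k Ω).obj A) l (pt1 Ω)) := Module.Finite.of_basis b
    have hch : (trep l φ).charpoly = P.map (Int.castRingHom ℤ_[l]) := by
      rw [← hP, show φ = EndAV.End.of ((bc k Ω).map πA) from EndAV.End.ext (by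
        rw [EndAV.End.toHom_of, hπ]; rfl)]
      show (AbDual.tateMapₗ (l := l) (T := pt1 Ω) ((bc k Ω).map πA)).charpoly = _
      rw [tateMap_conj A l πA, LinearEquiv.charpoly_conj]
    have h := FrobWeil.normSq_eq hg' hg1 hL φ (pow_pos (Fact.out : p.Prime).pos N) hev l b hP0 hch hw
    rw [h, hq]
  · intro k' _ _ _
    haveI : Module.Finite k k' := Module.Finite.of_finite
    haveI : Algebra.IsAlgebraic k k' := Algebra.IsAlgebraic.of_finite k k'
    set n := Module.finrank k k' with hn
    have hn0 : n ≠ 0 := Module.finrank_pos.ne'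
    have hcard : Nat.card k' = p ^ (N * n) := by
      rw [Module.natCard_eq_pow_finrank (K := k), hq, ← pow_mul]
    haveI : Fintype k' := Fintype.ofFinite k'
    have hK' : ∀ x : k', x ^ p ^ (N * n) = x := fun x => by
      rw [← hcard, Nat.card_eq_fintype_card]; exact FiniteField.pow_card x
    rw [Nat.card_congr (Equiv.ofBijective _ (bijective_toFixed p A N hN Ω k' (IsAlgClosed.lift) hK' hcard)),
      card_fixed p N hN Ω hg (Nat.mul_ne_zero hN0 hn0)]
    have hpow : ∀ m, ((EndAV.End.of πA) ^ m).toHom = FrobPoints.F p A N hN m := by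
      intro m
      induction m with
      | zero => rw [pow_zero, EndAV.End.toHom_one, F_zero]
      | succ m ih => rw [pow_succ, EndAV.End.toHom_mul, ih, EndAV.End.toHom_of, F_succ p A N hN m, hπ]
    have hd : degree (frobEnd p N hN Ω (A := A) ^ n - 1).toHom = degree ((EndAV.End.of πA) ^ n - 1).toHom := by
      have hg' := dim_bc (Ω := Ω) A hg
      rw [← degree_bc (Ω := Ω) A _ hg hg hg' hg']
      congr 1
      rw [EndAV.End.toHom_sub, toHom_frobEnd_pow, EndAV.End.toHom_one, EndAV.End.toHom_sub, hpow,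
        EndAV.End.toHom_one, div_eq_mul_inv, div_eq_mul_inv]
      refine Eq.symm ((map_mul (Functor.homMonoidHom (bc k Ω)) (FrobPoints.F p A N hN n) (𝟙 A)⁻¹).trans ?_)
      rw [map_inv]
      show (bc k Ω).map _ * ((bc k Ω).map (𝟙 A))⁻¹ = _
      rw [CategoryTheory.Functor.map_id]
    rw [hd, show ((EndAV.End.of πA) ^ n - 1) = aeval (EndAV.End.of πA) (X ^ n - 1 : Polynomial ℤ) by
      rw [map_sub, map_pow, Polynomial.aeval_X, map_one], hval]
    have hc : Multiset.card (P.map (Int.castRingHom ℂ)).roots = 2 * g := by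
      rw [← (IsAlgClosed.splits _).natDegree_eq_card_roots, hP0.natDegree_map, hP0deg]
    calc _ = ((P.map (Int.castRingHom ℂ)).roots.map fun w => (-1) * (1 - w ^ n)).prod := by
          congr 1
          refine Multiset.map_congr rfl fun w _ => ?_
          simp
      _ = _ := by
          rw [Multiset.prod_map_mul, Multiset.map_const', Multiset.prod_replicate, hc, pow_mul, neg_one_sq, one_pow,
            _root_.one_mul]

end Groth.Agent.H25AbCube.FrobPoly
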