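import Groth.Agent.H25AbCube.Ample
import Groth.Agent.S10868
import Groth.Agent.S2336
import Groth.Agent.S9815
import Groth.Agent.S4384
import Groth.Agent.H25Grp.Isogeny
import Mathlib.AlgebraicGeometry.ZariskisMainTheorem

/-!
# Multiplication by an integer on abelian varieties
-/

set_option autoImplicit false
set_option linter.style.haveILetI false
set_option backward.isDefEq.respectTransparency false
universe u

open CategoryTheory CategoryTheory.Limits MonoidalCategory CartesianMonoidalCategory MonObj GrpObj AlgebraicGeometry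
  TopologicalSpace
open Groth.Agent

noncomputable section

namespace Groth.Agent.H25AbCube

/-- A scheme over a field which is proper and whose structure module is ample is finite. -/
theorem isFinite_of_isAmple_structureModule {K : Type u} [Field K] {F : Scheme.{u}}
    (g : F ⟶ Spec (CommRingCat.of K)) [IsProper g] (h : CohB1.IsAmple (Coh.structureModule F)) : IsFinite g := by
  haveI : CompactSpace F := QuasiCompact.compactSpace_of_compactSpace g
  haveI : F.IsSeparated := ⟨by
    rw [← terminal.comp_from g]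
    infer_instance⟩
  have hq : F.IsQuasiAffine := (Groth.Agent.S2336.result F).2 h
  refine (Groth.Agent.S10868.result g).2 ⟨inferInstance, inferInstance, fun U hU => ?_⟩
  by_cases hne : (U : Set (Spec (CommRingCat.of K))).Nonempty
  · have e : g ⁻¹ᵁ U = ⊤ := by
      obtain ⟨p, hp⟩ := hne
      refine eq_top_iff.2 fun z _ => ?_
      show g z ∈ U
      rw [Subsingleton.elim (α := PrimeSpectrum K) (g z) p]
      exact hp
    rw [e]
    haveI : CompactSpace (⊤ : F.Opens) :=
      isCompact_iff_compactSpace.mp (show IsCompact (Set.univ : Set F) from isCompact_univ)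
    exact Scheme.IsQuasiAffine.of_isImmersion (⊤ : F.Opens).ι
  · have e : g ⁻¹ᵁ U = ⊥ := eq_bot_iff.2 fun z hz => (hne ⟨g z, hz⟩).elim
    rw [e]
    haveI : CompactSpace (⊥ : F.Opens) :=
      isCompact_iff_compactSpace.mp (show IsCompact (∅ : Set F) from isCompact_empty)
    exact Scheme.IsQuasiAffine.of_isImmersion (⊥ : F.Opens).ι

/-- A proper morphism along which a module pulls back to an ample one is finite. -/
theorem isFinite_of_isAmple_pullback {X Y : Scheme.{u}} (f : X ⟶ Y) [IsProper f] (M : Y.Modules)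
    (hM : PicF.IsInvertible M) (h : CohB1.IsAmple ((Scheme.Modules.pullback f).obj M)) : IsFinite f := by
  suffices LocallyQuasiFinite f from .of_isProper_of_locallyQuasiFinite f
  refine locallyQuasiFinite_iff_isFinite_fiber.2 fun y => ?_
  haveI : IsProper (f.fiberToSpecResidueField y) := MorphismProperty.pullback_snd (P := @IsProper) _ _ inferInstance
  refine isFinite_of_isAmple_structureModule (f.fiberToSpecResidueField y) ?_
  haveI : CompactSpace (f.fiber y) := QuasiCompact.compactSpace_of_compactSpace (f.fiberToSpecResidueField y)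
  have h1 := Groth.Agent.S9815.result (f.fiberι y) (f.fiberι y).isEmbedding _ h
  have hf := H11Ample.isInvertible_pullback f hM
  have hy : f.fiberι y ≫ f = f.fiberToSpecResidueField y ≫ Y.fromSpecResidueField y := pullback.condition
  haveI : Nonempty (Spec (Y.residueField y)) := ⟨IsLocalRing.closedPoint _⟩
  haveI : Subsingleton (Spec (Y.residueField y)) := inferInstanceAs (Subsingleton (PrimeSpectrum _))
  obtain ⟨e⟩ : Nonempty ((Scheme.Modules.pullback (f.fiberι y)).obj ((Scheme.Modules.pullback f).obj M) ≅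
      Coh.structureModule (f.fiber y)) := by
    refine (pc_eq_iff (H11Ample.isInvertible_pullback _ hf) H11Ample.isInvertible_structureModule).1 ?_
    rw [pullP_pc _ _ hf, pullP_pc _ _ hM, pullP_pullP, hy, ← pullP_pullP,
      eq_zero_of_subsingleton (pullP (Y.fromSpecResidueField y) (pc M hM)), map_zero, pc_one]
  exact H11Ample.isAmple_of_iso e h1

variable {k : Type u} [Field k] {A : Over (Spec (CommRingCat.of k))} [GrpObj A] [IsProper A.hom]
  [GeometricallyIntegral A.hom]

/-- The formula for the pullback of a symmetric class by multiplication by an integer. -/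
theorem ev_pow_of_symm (L : PC A.left) (hL : ev L ((𝟙 A)⁻¹) = L) (n : ℕ) :
    ev L ((𝟙 A) ^ n) = (n * n : ℕ) • L := by
  have e1 : (toUnit A ≫ η[A] : A ⟶ A) = 1 := (MonObj.one_eq_one (M := A) ▸ MonObj.comp_one _)
  have h0 : ev L (1 : A ⟶ A) = 0 := by rw [← e1]; exact ev_toUnit L _
  have h1 : ev L (𝟙 A) = L := pullP_id L
  induction n using Nat.strong_induction_on with
  | _ n ih =>
    match n with
    | 0 => rw [pow_zero, h0]; simp
    | 1 => rw [pow_one, h1]; simp
    | n + 2 =>
      have h := three L ((𝟙 A) ^ (n + 1)) (𝟙 A) ((𝟙 A)⁻¹)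
      rw [mul_inv_cancel_right, mul_inv_cancel, h0, ih (n + 1) (by omega), h1, hL, ← pow_succ,
        show ((𝟙 A : A ⟶ A) ^ (n + 1)) * (𝟙 A)⁻¹ = (𝟙 A) ^ n by rw [pow_succ, mul_inv_cancel_right],
        ih n (by omega)] at h
      have hn : (n + 2) * (n + 2) + n * n = ((n + 1) * (n + 1) + (n + 1) * (n + 1)) + (1 + 1) := by ring
      generalize (n + 2) * (n + 2) = c at hn ⊢
      generalize (n + 1) * (n + 1) = a at hn h
      generalize n * n = b at hn h
      have hn' := congrArg (fun m : ℕ => m • L) hn
      simp only [add_smul, one_smul] at hn'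
      linear_combination (norm := abel) -h - hn'

/-- An abelian variety has an ample symmetric class. -/
theorem exists_ample_symm :
    ∃ (M : A.left.Modules) (hM : PicF.IsInvertible M), CohB1.IsAmple M ∧ ev (pc M hM) ((𝟙 A)⁻¹) = pc M hM := by
  obtain ⟨L, hL⟩ := exists_isAmple A
  haveI : CompactSpace A.left := QuasiCompact.compactSpace_of_compactSpace A.hom
  have hinv : ((𝟙 A)⁻¹ : A ⟶ A) ≫ (𝟙 A)⁻¹ = 𝟙 A := by rw [GrpObj.comp_inv, Category.comp_id, _root_.inv_inv]
  haveI : IsIso ((𝟙 A)⁻¹ : A ⟶ A) := ⟨(𝟙 A)⁻¹, hinv, hinv⟩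
  haveI : IsIso ((𝟙 A)⁻¹ : A ⟶ A).left := inferInstanceAs (IsIso ((Over.forget _).map ((𝟙 A)⁻¹ : A ⟶ A)))
  let i := ((𝟙 A)⁻¹ : A ⟶ A).left
  have hL' : CohB1.IsAmple ((Scheme.Modules.pullback i).obj L) :=
    Groth.Agent.S9815.result i i.homeomorph.isEmbedding L hL
  have hi := H11Ample.isInvertible_pullback i hL.1
  refine ⟨CohB1.tensorMod L ((Scheme.Modules.pullback i).obj L), H11Ample.isInvertible_tensor hL.1 hi, ?_, ?_⟩
  · exact (Groth.Agent.S4381.result A.hom _).1 (Groth.Agent.S4384.result A.hom _ _
      ((Groth.Agent.S4381.result A.hom _).2 hL) ((Groth.Agent.S4381.result A.hom _).2 hL'))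
  · rw [pc_tensor hL.1 hi, pullP_pc i L hL.1]
    show pullP i (_ + _) = _
    rw [map_add, pullP_pullP, ← Over.comp_left, hinv, Over.id_left, pullP_id, add_comm]

/-- Multiplication by a positive integer is finite. -/
theorem isFinite_pow {n : ℕ} (hn : 0 < n) : IsFinite ((𝟙 A) ^ n : A ⟶ A).left := by
  obtain ⟨M, hM, hamp, hsymm⟩ := exists_ample_symm (A := A)
  haveI : IsProper ((𝟙 A) ^ n : A ⟶ A).left := by
    haveI : IsProper (((𝟙 A) ^ n : A ⟶ A).left ≫ A.hom) := by rw [Over.w]; infer_instance
    exact IsProper.of_comp _ A.hom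
  refine isFinite_of_isAmple_pullback _ M hM ?_
  have hp := H11Ample.isInvertible_pullback ((𝟙 A) ^ n : A ⟶ A).left hM
  have htp : ∀ m : ℕ, ∃ h, pc (CohB1.tensorPow M m) h = m • pc M hM := fun m => by
    induction m with
    | zero => exact ⟨H11Ample.isInvertible_structureModule, by rw [zero_smul]; exact pc_one⟩
    | succ m ih =>
      obtain ⟨hm, e⟩ := ih
      exact ⟨H11Ample.isInvertible_tensor hm hM, (pc_tensor hm hM _).trans (by rw [e, succ_nsmul])⟩
  obtain ⟨h2, e2⟩ := htp (n * n)
  have h3 : pc _ hp = pc _ h2 := by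
    rw [pullP_pc _ M hM, e2]
    exact ev_pow_of_symm _ hsymm n
  obtain ⟨e⟩ := (pc_eq_iff hp h2).1 h3
  exact H11Ample.isAmple_of_iso e.symm ((H11Ample.isAmple_tensorPow_iff hM (n * n) (by positivity)).1 hamp)

/-- Multiplication by a positive integer is surjective. -/
theorem surjective_pow {n : ℕ} (hn : 0 < n) : Surjective ((𝟙 A) ^ n : A ⟶ A).left := by
  haveI : IsIntegral A.left := GeometricallyIntegral.isIntegral_of_subsingleton A.hom
  haveI := isFinite_pow (A := A) hn
  exact H25Grp.surjective_of_finite A.hom A.hom ((𝟙 A) ^ n : A ⟶ A).left rfl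

/-- A homomorphism from an abelian variety killed by a positive integer is trivial. -/
theorem eq_one_of_pow_eq_one {B : Over (Spec (CommRingCat.of k))} [GrpObj B] [IsSeparated B.hom] (f : A ⟶ B) [IsMonHom f]
    {n : ℕ} (hn : 0 < n) (h : f ^ n = 1) : f = 1 := by
  have e : ∀ m : ℕ, ((𝟙 A) ^ m : A ⟶ A) ≫ f = f ^ m := fun m => by
    induction m with
    | zero => rw [pow_zero, pow_zero, MonObj.one_comp]
    | succ m ih => rw [pow_succ, pow_succ, MonObj.mul_comp, ih, Category.id_comp]
  haveI := surjective_pow (A := A) hn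
  haveI : IsIntegral A.left := GeometricallyIntegral.isIntegral_of_subsingleton A.hom
  apply Over.OverMorphism.ext
  refine ext_of_isDominant_of_isSeparated B.hom ((Over.w f).trans (Over.w (1 : A ⟶ B)).symm)
    ((𝟙 A) ^ n : A ⟶ A).left ?_
  rw [← Over.comp_left, ← Over.comp_left, e, h, MonObj.comp_one]

end Groth.Agent.H25AbCube
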