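import Groth.Agent.H25AbCube.MulN
import Groth.Agent.H12Pic.SectionCurve

/-!
# Degrees of invertible classes on curves in a variety
-/

set_option autoImplicit false
set_option linter.style.haveILetI false
set_option backward.isDefEq.respectTransparency false
universe u

open CategoryTheory CategoryTheory.Limits AlgebraicGeometry TopologicalSpace
open Groth.Agent

noncomputable section

namespace Groth.Agent.H25AbCube

variable {k : Type u} [Field k] {Y : Scheme.{u}} [Y.Over (Spec (CommRingCat.of k))]
  [IsProper (Y ↘ Spec (CommRingCat.of k))]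

theorem D_congr {A B : Y.Modules} (e : A ≅ B) :
    H28Int.D k [A] (Coh.structureModule Y) = H28Int.D k [B] (Coh.structureModule Y) := by
  show Curv2.euler k Y _ - Curv2.euler k Y _ = Curv2.euler k Y _ - Curv2.euler k Y _
  rw [H25Euler.euler_congr (PicGrp.tensorModIso e (Iso.refl (Coh.structureModule Y)))]

/-- A representative of a class. -/
def rep (u : PC Y) : Y.Modules := (exists_rep u).choose

theorem isInvertible_rep (u : PC Y) : PicF.IsInvertible (rep u) := (exists_rep u).choose_spec.choose

theorem pc_rep (u : PC Y) : pc (rep u) (isInvertible_rep u) = u := (exists_rep u).choose_spec.choose_spec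

/-- The degree of classes on a proper curve. -/
def degHom (hY : topologicalKrullDim Y = 1) : PC Y →+ ℤ :=
  AddMonoidHom.mk' (fun u => - H28Int.D k [rep u] (Coh.structureModule Y)) fun u v => by
    have hnil : ∀ B ∈ ([] : List Y.Modules), PicF.IsInvertible B := by simp
    haveI := H28Int.isNoetherian k (X := Y)
    have hO : Coh.IsCoh (Coh.structureModule Y) := H28Int.Surface.isCoh_structure k
    have hd : topologicalKrullDim (CohB1.support (Coh.structureModule Y)) ≤
        ((([] : List Y.Modules).length + 1 : ℕ) : WithBot ℕ∞) :=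
      (Topology.IsInducing.subtypeVal.topologicalKrullDim_le).trans (by simpa using hY.le)
    have hi := H11Ample.isInvertible_tensor (isInvertible_rep u) (isInvertible_rep v)
    obtain ⟨e⟩ := (pc_eq_iff (isInvertible_rep (u + v)) hi).1
      (by rw [pc_rep, pc_tensor (isInvertible_rep u) (isInvertible_rep v), pc_rep, pc_rep])
    rw [D_congr (k := k) e, H28Int.D_cons_tensor k hnil (isInvertible_rep u) (isInvertible_rep v) hO hd, neg_add]

theorem degHom_pc (hY : topologicalKrullDim Y = 1) (M : Y.Modules) (hM : PicF.IsInvertible M) [IsIntegral Y] :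
    degHom (k := k) hY (pc M hM) = Pic13.curveDeg k (Y ↘ Spec (CommRingCat.of k)) M := by
  obtain ⟨e⟩ := (pc_eq_iff (isInvertible_rep (pc M hM)) hM).1 (pc_rep _)
  rw [H28Int.Curves.curveDeg_eq k hY hM, ← D_congr (k := k) e]
  rfl

omit [Y.Over (Spec (CommRingCat.of k))] [IsProper (Y ↘ Spec (CommRingCat.of k))] in
theorem exists_pc_pow {M : Y.Modules} (hM : PicF.IsInvertible M) (m : ℕ) :
    ∃ h, pc (CohB1.tensorPow M m) h = m • pc M hM := by
  induction m with
  | zero => exact ⟨H11Ample.isInvertible_structureModule, by rw [zero_smul]; exact pc_one⟩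
  | succ m ih =>
    obtain ⟨hm, e⟩ := ih
    exact ⟨H11Ample.isInvertible_tensor hm hM, (pc_tensor hm hM _).trans (by rw [e, succ_nsmul])⟩

/-- A morphism which is not constant pulls ample classes back to positive degree on some curve. -/
theorem exists_curve_degHom_pos {X Z : Scheme.{u}} [X.Over (Spec (CommRingCat.of k))]
    [IsProper (X ↘ Spec (CommRingCat.of k))] [IsIntegral X] [CompactSpace Z] [QuasiSeparatedSpace Z] (f : X ⟶ Z)
    {x : X} (hx : IsClosed ({x} : Set X)) (hfx : IsClosed ({f x} : Set Z)) (hne : f (genericPoint X) ≠ f x)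
    {M : Z.Modules} (hM : CohB1.IsAmple M) :
    ∃ (C : Scheme.{u}) (i : C ⟶ X) (_ : C.Over (Spec (CommRingCat.of k)))
      (_ : IsProper (C ↘ Spec (CommRingCat.of k))) (hC : topologicalKrullDim C = 1),
      0 < degHom (k := k) hC (pullP i (pullP f (pc M hM.1))) := by
  let U : Z.Opens := ⟨({f x} : Set Z)ᶜ, hfx.isOpen_compl⟩
  obtain ⟨a, t, ha, hξt, htU, -⟩ := H11Ample.exists_affine_gen_le hM (U := U) (x := f (genericPoint X)) hne
  let N := CohB1.tensorPow M a
  have hN : PicF.IsInvertible N := H11Ample.isInvertible_tensorPow hM.1 a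
  have hfN := H11Ample.isInvertible_pullback f hN
  let g := H11Ample.pullTop f t
  have hgen : H11Ample.gen ((Scheme.Modules.pullback f).obj N) g = f ⁻¹ᵁ H11Ample.gen N t :=
    H8Props.ProjOpenAmple.gen_pullTop f (fun y => H11Ample.exists_gen hN (f y)) t
  have hgξ : genericPoint X ∈ H11Ample.gen ((Scheme.Modules.pullback f).obj N) g := by rw [hgen]; exact hξt
  have hgx : x ∉ H11Ample.gen ((Scheme.Modules.pullback f).obj N) g := by
    rw [hgen]; exact fun h => htU h rfl
  obtain ⟨w, hwg, hwx, hw⟩ := H12Pic.SectionCurve.exists_curve_through k hfN g hgξ (genericPoint_specializes x) hx hgx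
  let J := Scheme.IdealSheafData.vanishingIdeal (H22Alg.DevLength.cl w)
  let i := J.subschemeι
  obtain ⟨s, hs⟩ : w ∈ Set.range i := by
    rw [H17.range_vanishingIdeal_subschemeι]
    exact subset_closure rfl
  haveI : IrreducibleSpace J.subscheme := by
    have h1 : closure ({s} : Set J.subscheme) = Set.univ := Set.eq_univ_of_forall fun y => by
      refine (i.isEmbedding.isInducing.specializes_iff.1 ?_).mem_closure
      rw [hs, specializes_iff_mem_closure]
      have h' := Set.mem_range_self (f := i) y
      rw [H17.range_vanishingIdeal_subschemeι] at h'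
      exact h'
    exact (irreducibleSpace_def _).2 (by
      have h2 := (isIrreducible_singleton (x := s)).closure
      rw [h1] at h2
      exact h2)
  haveI : IsReduced J.subscheme := H17.isReduced_vanishingIdeal_subscheme _
  haveI : IsIntegral J.subscheme := isIntegral_of_irreducibleSpace_of_isReduced _
  letI : J.subscheme.Over (Spec (CommRingCat.of k)) := ⟨i ≫ (X ↘ Spec (CommRingCat.of k))⟩
  haveI : IsProper (J.subscheme ↘ Spec (CommRingCat.of k)) :=
    inferInstanceAs (IsProper (i ≫ (X ↘ Spec (CommRingCat.of k))))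
  have hJ : topologicalKrullDim J.subscheme = 1 := by
    rw [← hw, i.isClosedEmbedding.isEmbedding.toHomeomorph.isHomeomorph.topologicalKrullDim_eq,
      H17.range_vanishingIdeal_subschemeι]
    rfl
  let g' := H11Ample.pullTop i g
  have hgen' : H11Ample.gen ((Scheme.Modules.pullback i).obj ((Scheme.Modules.pullback f).obj N)) g' =
      i ⁻¹ᵁ H11Ample.gen ((Scheme.Modules.pullback f).obj N) g :=
    H8Props.ProjOpenAmple.gen_pullTop i (fun y => H11Ample.exists_gen hfN (i y)) g
  have hiN := H11Ample.isInvertible_pullback i hfN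
  have hsg : s ∈ H11Ample.gen ((Scheme.Modules.pullback i).obj ((Scheme.Modules.pullback f).obj N)) g' := by
    rw [hgen']
    show i s ∈ H11Ample.gen ((Scheme.Modules.pullback f).obj N) g
    rw [hs]; exact hwg
  have hg' : g' ≠ 0 := fun h0 => by
    have hb := (H11Ample.mem_gen_iff hiN g' s).1 hsg
    rw [h0, map_zero] at hb
    exact zero_ne_one (hb.1 (a₁ := (0 : J.subscheme.presheaf.stalk s)) (a₂ := 1) (by simp))
  obtain ⟨y, hy⟩ : x ∈ Set.range i := by
    rw [H17.range_vanishingIdeal_subschemeι]
    exact hwx.mem_closure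
  have hpos := H12Pic.SectionCurve.curveDeg_pos k hJ hiN hg' (w := y) fun h => hgx (by
    rw [hgen'] at h; rw [← hy]; exact h)
  refine ⟨J.subscheme, i, ⟨i ≫ (X ↘ Spec (CommRingCat.of k))⟩, ‹_›, hJ, ?_⟩
  obtain ⟨hN', eN⟩ := exists_pc_pow hM.1 a
  rw [← degHom_pc hJ _ hiN, pullP_pc i _ hfN, pullP_pc f N hN', eN, map_nsmul, map_nsmul, map_nsmul,
    nsmul_eq_mul] at hpos
  exact pos_of_mul_pos_right hpos (Nat.cast_nonneg a)

end Groth.Agent.H25AbCube
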