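import Groth.Agent.H25AbCube.Ample
import Groth.Agent.H25AbCube.PoincareSplit
import Groth.Agent.H06Red.Scheme
import Groth.Agent.H25Rig.Rigidity
import Groth.Agent.H22Alg.GenCurves
import Groth.Agent.H11Ample.Converse
import Groth.Agent.H11Ample.ToPn
import Groth.Agent.H28Top.Dim

/-!
# Effective nondegenerate classes are ample
-/

set_option autoImplicit false
set_option linter.style.haveILetI false
set_option linter.unusedSectionVars false
set_option backward.isDefEq.respectTransparency false
set_option synthInstance.maxHeartbeats 400000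
set_option maxHeartbeats 1000000
universe u

open CategoryTheory CategoryTheory.Limits MonoidalCategory CartesianMonoidalCategory MonObj GrpObj AlgebraicGeometry
  TopologicalSpace
open Groth.Agent Groth.Agent.H11Ample

noncomputable section

namespace Groth.Agent.H25AbCube

theorem pc_eq_zero_of_gen {X : Scheme.{u}} {M : X.Modules} (hM : PicF.IsInvertible M) (t : Γ(M, ⊤))
    (h : gen M t = ⊤) : pc M hM = 0 := by
  have he : Groth.Agent.H11Tilde.IsGen M t := by
    have := (isGen_gen t).res h.ge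
    rwa [H10Coh.mres_mres, H10Coh.mres_self] at this
  rw [← pc_one]
  refine (pc_eq_iff _ _).2 ?_
  obtain ⟨φ, -⟩ := exists_iso_of_gen (P := M) (Q := Coh.structureModule X) (fun _ : Unit => (⊤ : X.Opens))
    (fun x => ⟨(), trivial⟩) (fun _ => t) (fun _ => he) (fun _ => one ⊤) (fun _ => isGen_one ⊤) fun i j v hv => by
      have h1 := ((he.res (inf_le_right : (⊤ : X.Opens) ⊓ ⊤ ≤ ⊤)).bijective le_rfl).1
        (a₁ := v) (a₂ := 1) (by beta_reduce; rw [H10Coh.mres_self, ← hv, one_smul])
      subst h1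
      rw [one_smul]
  exact ⟨φ⟩

variable {k : Type u} [Field k]

/-- A section of a trivial module on a complete variety vanishes nowhere or everywhere. -/
theorem gen_eq_top_of_trivial {Z : Over (Spec (CommRingCat.of k))} [IsProper Z.hom] [GeometricallyIntegral Z.hom]
    {P : Z.left.Modules} (hP : PicF.IsInvertible P) (h0 : pc P hP = 0) (t : Γ(P, ⊤))
    (hne : ((gen P t : Z.left.Opens) : Set Z.left).Nonempty) : gen P t = ⊤ := by
  rw [← pc_one] at h0
  obtain ⟨φ⟩ := (pc_eq_iff _ _).1 h0
  have h : gen P t = gen (Coh.structureModule Z.left) (φ.hom.app ⊤ t) := (gen_iso φ.hom t).symm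
  let c : Γ(Z.left, ⊤) := φ.hom.app ⊤ t
  have hb := gen_inf_eq_basicOpen (isGen_one (X := Z.left) ⊤) (φ.hom.app ⊤ t) c (by
    rw [smul_one_eq]; exact H10Coh.mres_self _ _ _)
  rw [inf_top_eq, ← h] at hb
  rw [hb] at hne ⊢
  obtain ⟨a, ha⟩ := (H25Rig.bijective_appTop Z.hom).2 c
  by_cases ha0 : (Scheme.ΓSpecIso (CommRingCat.of k)).hom a = 0
  · exfalso
    have hc : c = 0 := by
      rw [← ha, show a = 0 from (ConcreteCategory.injective_of_mono_of_preservesPullback _)
        (ha0.trans (map_zero _).symm), map_zero]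
    rw [hc, Scheme.basicOpen_zero] at hne
    exact Set.not_nonempty_empty hne
  · have hu : IsUnit a := (isUnit_map_iff (Scheme.ΓSpecIso (CommRingCat.of k)).commRingCatIsoToRingEquiv a).1
      (isUnit_iff_ne_zero.2 ha0)
    exact Scheme.basicOpen_of_isUnit Z.left (ha ▸ hu.map _)

variable [IsAlgClosed k]

theorem geometricallyIntegral_of_isIntegral' (Z : Over (Spec (CommRingCat.of k))) [IsIntegral Z.left] :
    GeometricallyIntegral Z.hom := by
  haveI := H19Grp.geometricallyIrreducible_of_irreducibleSpace Z.hom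
  haveI := H06Red.geometricallyReduced_of_perfectField Z.hom
  exact GeometricallyIntegral.of_geometricallyReduced_of_geometricallyIrreducible Z.hom

theorem ev_const {T A : Over (Spec (CommRingCat.of k))} (L : PC A.left) (a : 𝟙_ _ ⟶ A) :
    ev L (toUnit T ≫ a) = 0 := ev_toUnit L a

/-- A generated module which is trivial on no curve is ample. -/
theorem isAmple_of_gen_of_curves (X : Over (Spec (CommRingCat.of k))) [IsProper X.hom] (M : X.left.Modules)
    (hM : PicF.IsInvertible M) (hgen : ∀ x, ∃ t : Γ(M, ⊤), x ∈ gen M t)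
    (hC : ∀ (Z : Over (Spec (CommRingCat.of k))) (i : Z ⟶ X), IsIntegral Z.left → IsClosedImmersion i.left →
      topologicalKrullDim Z.left = 1 → pullP i.left (pc M hM) ≠ 0) : CohB1.IsAmple M := by
  letI : X.left.Over (Spec (CommRingCat.of k)) := ⟨X.hom⟩
  haveI : IsProper (X.left ↘ Spec (CommRingCat.of k)) := ‹IsProper X.hom›
  haveI := H28Int.isNoetherian k (X := X.left)
  haveI : IsLocallyNoetherian X.left := inferInstance
  obtain ⟨n, v, hv⟩ : ∃ (n : ℕ) (v : Fin (n + 1) → Γ(M, ⊤)), ∀ x, ∃ i, x ∈ gen M (v i) := by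
    choose g hg using hgen
    obtain ⟨S, hS⟩ := CompactSpace.elim_nhds_subcover (fun x => (gen M (g x) : Set X.left))
      (fun x => (gen M (g x)).isOpen.mem_nhds (hg x))
    refine ⟨S.card, Fin.cons 0 fun i => g (S.equivFin.symm i).1, fun x => ?_⟩
    obtain ⟨y, hy, hxy⟩ := Set.mem_iUnion₂.1 (hS.ge (Set.mem_univ x))
    exact ⟨(S.equivFin ⟨y, hy⟩).succ, by simpa using hxy⟩
  haveI : IsProper (CohB1.ProjSpace n k ↘ Spec (CommRingCat.of k)) :=
    inferInstanceAs (IsProper (CohB1.ProjSpace.toSpec n k))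
  obtain ⟨r, hr, ⟨τ⟩, -⟩ := exists_toPn (X.left ↘ (Spec (CommRingCat.of k))) hM v hv
  let P := Over.mk (CohB1.ProjSpace n k ↘ Spec (CommRingCat.of k))
  haveI : IsProper (r ≫ (CohB1.ProjSpace n k ↘ Spec (CommRingCat.of k))) := hr.symm ▸ inferInstance
  haveI : IsProper r := IsProper.of_comp r (CohB1.ProjSpace n k ↘ Spec (CommRingCat.of k))
  suffices hqf : r.quasiFiniteLocus = ⊤ by
    haveI := r.quasiFiniteLocus_eq_top_iff.1 hqf
    haveI : IsFinite r := IsFinite.of_isProper_of_locallyQuasiFinite _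
    exact isAmple_of_iso τ (isAmple_pullback_of_isAffineHom r (isAmple_twistProjSpace n k))
  by_contra hne
  have hnon : ((r.quasiFiniteLocus : Set X.left)ᶜ).Nonempty := by
    rw [Set.nonempty_compl]
    exact fun e => hne (Opens.ext e)
  obtain ⟨x, hxc, hx⟩ := r.quasiFiniteLocus.isOpen.isClosed_compl.exists_closed_singleton hnon
  have hinf : (r ⁻¹' {r x}).Infinite := fun hfin => hxc (by
    have : Finite (r.fiber (r x)) := (r.fiberHomeo (r x)).finite_iff.mpr hfin.to_subtype
    exact Scheme.Hom.quasiFiniteAt_iff_isOpen_singleton_asFiber.mpr (isOpen_discrete _))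
  have hp : IsClosed ({r x} : Set (CohB1.ProjSpace n k)) := by
    have := r.isClosedMap _ hx
    rwa [Set.image_singleton] at this
  obtain ⟨w, hwS, hw⟩ := H22Alg.GenCurves.exists_curve (hp.preimage r.continuous) hinf
  let J := Scheme.IdealSheafData.vanishingIdeal (H22Alg.DevLength.cl w)
  haveI : IrreducibleSpace J.subscheme := by
    obtain ⟨t, ht⟩ : w ∈ Set.range J.subschemeι := by
      rw [H17.range_vanishingIdeal_subschemeι]
      exact subset_closure rfl
    have h1 : closure ({t} : Set J.subscheme) = Set.univ := Set.eq_univ_of_forall fun y => by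
      refine (J.subschemeι.isEmbedding.isInducing.specializes_iff.1 ?_).mem_closure
      rw [ht, specializes_iff_mem_closure]
      have h' := Set.mem_range_self (f := J.subschemeι) y
      rw [H17.range_vanishingIdeal_subschemeι] at h'
      exact h'
    have h' : IsIrreducible (Set.univ : Set J.subscheme) := h1 ▸ isIrreducible_singleton.closure
    exact (irreducibleSpace_def _).2 h'
  haveI : IsReduced J.subscheme := H17.isReduced_vanishingIdeal_subscheme _
  haveI : IsIntegral J.subscheme := isIntegral_of_irreducibleSpace_of_isReduced _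
  have hJdim : topologicalKrullDim J.subscheme = 1 := by
    rw [← hw, J.subschemeι.isClosedEmbedding.isEmbedding.toHomeomorph.isHomeomorph.topologicalKrullDim_eq,
      H17.range_vanishingIdeal_subschemeι]
    rfl
  let Z : Over (Spec (CommRingCat.of k)) := Over.mk (J.subschemeι ≫ X.hom)
  let i : Z ⟶ X := Over.homMk J.subschemeι rfl
  refine hC Z i (inferInstanceAs (IsIntegral J.subscheme)) (inferInstanceAs (IsClosedImmersion J.subschemeι)) hJdim ?_
  have hconst : ∀ y, r (J.subschemeι y) = r x := fun y => by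
    have : J.subschemeι y ∈ closure ({w} : Set X.left) := by
      have h' := Set.mem_range_self (f := J.subschemeι) y
      rw [H17.range_vanishingIdeal_subschemeι] at h'
      exact h'
    exact hwS this
  haveI : LocallyOfFiniteType P.hom := inferInstanceAs (LocallyOfFiniteType (CohB1.ProjSpace n k ↘ Spec (CommRingCat.of k)))
  haveI : IsSeparated P.hom := inferInstanceAs (IsSeparated (CohB1.ProjSpace n k ↘ Spec (CommRingCat.of k)))
  let p := (pointEquivClosedPoint P.hom).symm ⟨r x, hp⟩
  have hfac : J.subschemeι ≫ r = (J.subschemeι ≫ X.hom) ≫ p.1 := by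
    haveI : IsProper (J.subschemeι ≫ X.hom) := inferInstance
    have hh : (J.subschemeι ≫ r) ≫ P.hom = J.subschemeι ≫ X.hom := by
      rw [Category.assoc]; exact congrArg (J.subschemeι ≫ ·) hr
    haveI : LocallyOfFiniteType ((J.subschemeι ≫ r) ≫ P.hom) := by rw [hh]; infer_instance
    refine ext_of_apply_eq P.hom Set.univ isOpen_univ.isLocallyClosed dense_univ (fun y _ _ => ?_) ?_
    · rw [Scheme.Hom.comp_apply, Scheme.Hom.comp_apply, hconst]
      have h1 : p.1 (IsLocalRing.closedPoint k) = r x :=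
        congrArg Subtype.val ((pointEquivClosedPoint P.hom).apply_symm_apply ⟨r x, hp⟩)
      rw [show (J.subschemeι ≫ X.hom) y = IsLocalRing.closedPoint k from
        Subsingleton.elim (α := PrimeSpectrum k) _ _]
      exact h1.symm
    · rw [hh, Category.assoc, p.2, Category.comp_id]
  have hM' : pc M hM = pullP r (pc _ (isInvertible_twist (n := n) (R := k))) := by
    rw [← pullP_pc r _ (isInvertible_twist (n := n) (R := k)) (isInvertible_pullback r isInvertible_twist)]
    exact ((pc_eq_iff _ _).2 ⟨τ⟩).symm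
  show pullP J.subschemeι (pc M hM) = 0
  rw [hM', pullP_pullP, hfac, ← pullP_pullP]
  haveI : Subsingleton (Spec (CommRingCat.of k)) := inferInstanceAs (Subsingleton (PrimeSpectrum k))
  haveI : Nonempty (Spec (CommRingCat.of k)) := ⟨IsLocalRing.closedPoint k⟩
  exact (congrArg _ (eq_zero_of_subsingleton _)).trans (map_zero _)

variable {A : Over (Spec (CommRingCat.of k))} [GrpObj A] [IsProper A.hom] [GeometricallyIntegral A.hom]

theorem exists_translates [IsCommMonObj A] (U : A.left.Opens) (hne : (U : Set A.left).Nonempty) (x : 𝟙_ _ ⟶ A) :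
    ∃ V : A.left.Opens, (V : Set A.left).Nonempty ∧ ∀ a : 𝟙_ _ ⟶ A, a.left (IsLocalRing.closedPoint k) ∈ V →
      (x * a).left (IsLocalRing.closedPoint k) ∈ U ∧ (x * a⁻¹).left (IsLocalRing.closedPoint k) ∈ U := by
  haveI : IsIntegral A.left := GeometricallyIntegral.isIntegral_of_subsingleton A.hom
  let φ : A ⟶ A := (toUnit A ≫ x) * 𝟙 A
  let ψ : A ⟶ A := (toUnit A ≫ x⁻¹) * 𝟙 A
  have hψφ : ψ ≫ φ = 𝟙 A := by
    rw [MonObj.comp_mul, Category.comp_id, ← Category.assoc, comp_toUnit, ← _root_.mul_assoc, ← MonObj.comp_mul,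
      mul_inv_cancel, MonObj.comp_one, _root_.one_mul]
  have hinv : (𝟙 A)⁻¹ ≫ (𝟙 A)⁻¹ = 𝟙 A := by
    rw [GrpObj.comp_inv, Category.comp_id, _root_.inv_inv]
  have hsurj : ∀ (f g : A ⟶ A), g ≫ f = 𝟙 A → ((f.left ⁻¹ᵁ U : A.left.Opens) : Set A.left).Nonempty := by
    intro f g h
    obtain ⟨y, hy⟩ := hne
    refine ⟨g.left y, ?_⟩
    show f.left (g.left y) ∈ U
    rw [← Scheme.Hom.comp_apply, ← Over.comp_left, h]
    exact hy
  have hφa : ∀ (b : 𝟙_ _ ⟶ A), b ≫ φ = x * b := fun b => by
    rw [MonObj.comp_mul, Category.comp_id, ← Category.assoc, comp_toUnit, toUnit_unique (toUnit (𝟙_ _)) (𝟙 _),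
      Category.id_comp]
  refine ⟨φ.left ⁻¹ᵁ U ⊓ ((𝟙 A)⁻¹ ≫ φ).left ⁻¹ᵁ U,
    nonempty_preirreducible_inter (φ.left ⁻¹ᵁ U).isOpen (((𝟙 A)⁻¹ ≫ φ).left ⁻¹ᵁ U).isOpen
      (hsurj φ ψ hψφ) (hsurj ((𝟙 A)⁻¹ ≫ φ) (ψ ≫ (𝟙 A)⁻¹) (by
        rw [Category.assoc, ← Category.assoc (𝟙 A)⁻¹, hinv, Category.id_comp, hψφ])), fun a ha => ⟨?_, ?_⟩⟩
  · rw [← hφa]; exact ha.1
  · rw [← hφa, show a⁻¹ = a ≫ (𝟙 A)⁻¹ by rw [GrpObj.comp_inv, Category.comp_id], Category.assoc]
    exact ha.2

theorem exists_pt_mem (V : A.left.Opens) (hV : (V : Set A.left).Nonempty) :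
    ∃ a : 𝟙_ _ ⟶ A, a.left (IsLocalRing.closedPoint k) ∈ V := by
  haveI : JacobsonSpace A.left := LocallyOfFiniteType.jacobsonSpace A.hom
  obtain ⟨w, hw, hwc⟩ := nonempty_inter_closedPoints hV V.isOpen.isLocallyClosed
  refine ⟨Over.homMk _ ((pointEquivClosedPoint A.hom).symm ⟨w, hwc⟩).2, ?_⟩
  show (pointOfClosedPoint A.hom w hwc) (IsLocalRing.closedPoint k) ∈ V
  rw [pointOfClosedPoint_apply]
  exact hw

theorem transl_eq_add_th [IsCommMonObj A] (L : PC A.left) (a : 𝟙_ _ ⟶ A) :
    transl L a = L + th L (𝟙 A) (toUnit A ≫ a) := by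
  rw [th, ev_const, sub_zero, show ev L (𝟙 A) = L from pullP_id L, transl]
  abel

/-- An effective nondegenerate module is ample. -/
theorem isAmple_of_nondegenerate (L : A.left.Modules) (hL : PicF.IsInvertible L) (s : Γ(L, ⊤))
    (hne : ((gen L s : A.left.Opens) : Set A.left).Nonempty)
    (hnd : Set.Finite {a : 𝟙_ (Over (Spec (CommRingCat.of k))) ⟶ A | transl (pc L hL) a = pc L hL}) :
    CohB1.IsAmple L := by
  haveI : IsCommMonObj A := isCommMonObj_of_av
  haveI : IsIntegral A.left := GeometricallyIntegral.isIntegral_of_subsingleton A.hom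
  haveI : CompactSpace A.left := QuasiCompact.compactSpace_of_compactSpace A.hom
  haveI : JacobsonSpace A.left := LocallyOfFiniteType.jacobsonSpace A.hom
  haveI : QuasiSeparatedSpace A.left := quasiSeparatedSpace_of_quasiSeparated A.hom
  let U := gen L s
  let ℓ := pc L hL
  have hM := isInvertible_tensor hL hL
  have hgs : ∀ {T : Scheme.{u}} (f : T ⟶ A.left), gen ((Scheme.Modules.pullback f).obj L)
      ((1 : Γ(T, ⊤)) • pullTop f s) = f ⁻¹ᵁ U := fun f => gen_smul_pullSect f hL s isUnit_one
  suffices hsq : CohB1.IsAmple (CohB1.tensorMod L L) by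
    refine (isAmple_tensorPow_iff hL 2 two_pos).2 ?_
    have h1 : pc _ hM = pc _ (isInvertible_tensor (isInvertible_tensor isInvertible_structureModule hL) hL) := by
      rw [pc_tensor hL hL _, pc_tensor (isInvertible_tensor isInvertible_structureModule hL) hL _,
        pc_tensor isInvertible_structureModule hL _, pc_one, zero_add]
    obtain ⟨e⟩ := (pc_eq_iff _ _).1 h1
    exact isAmple_of_iso e hsq
  refine isAmple_of_gen_of_curves A _ hM ?_ ?_
  · -- the square is generated
    intro x₀
    obtain ⟨z, hz, hzc⟩ : ∃ z ∈ closure ({x₀} : Set A.left), IsClosed ({z} : Set A.left) :=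
      isClosed_closure.exists_closed_singleton ⟨x₀, subset_closure rfl⟩
    let x : 𝟙_ _ ⟶ A := Over.homMk _ ((pointEquivClosedPoint A.hom).symm ⟨z, hzc⟩).2
    have hx : x.left (IsLocalRing.closedPoint k) = z := pointOfClosedPoint_apply A.hom z hzc _
    obtain ⟨V, hVne, hV⟩ := exists_translates U hne x
    obtain ⟨a, ha⟩ := exists_pt_mem V hVne
    obtain ⟨h₁, h₂⟩ := hV a ha
    let τ : A ⟶ A := 𝟙 A * (toUnit A ≫ a)
    let τ' : A ⟶ A := 𝟙 A * (toUnit A ≫ a⁻¹)
    have hτ : ∀ (b : 𝟙_ _ ⟶ A), x ≫ (𝟙 A * (toUnit A ≫ b)) = x * b := fun b => by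
      rw [MonObj.comp_mul, Category.comp_id, ← Category.assoc, comp_toUnit, toUnit_unique (toUnit (𝟙_ _)) (𝟙 _),
        Category.id_comp]
    have hp := isInvertible_pullback τ.left hL
    have hp' := isInvertible_pullback τ'.left hL
    have hsq : pc _ (isInvertible_tensor hp hp') = pc _ hM := by
      rw [pc_tensor hp hp' _, pc_tensor hL hL _, pullP_pc τ.left L hL, pullP_pc τ'.left L hL]
      show transl ℓ a + transl ℓ a⁻¹ = ℓ + ℓ
      rw [transl_eq_add_th, transl_eq_add_th, GrpObj.comp_inv, th_inv_right]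
      abel
    obtain ⟨e⟩ := (pc_eq_iff _ _).1 hsq
    refine ⟨e.hom.app ⊤ (tm ((1 : Γ(A.left, ⊤)) • pullTop τ.left s) ((1 : Γ(A.left, ⊤)) • pullTop τ'.left s)), ?_⟩
    rw [gen_iso, gen_tm hp hp', hgs, hgs]
    refine (specializes_iff_mem_closure.2 hz).mem_open (τ.left ⁻¹ᵁ U ⊓ τ'.left ⁻¹ᵁ U).isOpen ⟨?_, ?_⟩
    · show τ.left z ∈ U
      rw [← hx, ← Scheme.Hom.comp_apply, ← Over.comp_left, hτ]
      exact h₁
    · show τ'.left z ∈ U
      rw [← hx, ← Scheme.Hom.comp_apply, ← Over.comp_left, hτ]
      exact h₂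
  · -- no curve is contracted
    intro Z i hZ hi hdim h0
    haveI := hZ; haveI := hi
    haveI : IsProper Z.hom := by rw [← Over.w i]; infer_instance
    haveI : GeometricallyIntegral Z.hom := geometricallyIntegral_of_isIntegral' Z
    haveI : Mono i := Over.mono_of_mono_left i
    haveI : JacobsonSpace Z.left := LocallyOfFiniteType.jacobsonSpace Z.hom
    haveI : IsNoetherianRing (CommRingCat.of k) := inferInstanceAs (IsNoetherianRing k)
    haveI : IsLocallyNoetherian Z.left := LocallyOfFiniteType.isLocallyNoetherian Z.hom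
    haveI : CompactSpace Z.left := QuasiCompact.compactSpace_of_compactSpace Z.hom
    haveI : IsNoetherian Z.left := {}
    -- infinitely many points on the curve
    have hinf : Infinite {p : Spec (CommRingCat.of k) ⟶ Z.left // p ≫ Z.hom = 𝟙 _} := by
      refine (Equiv.infinite_iff (pointEquivClosedPoint Z.hom)).2 ?_
      refine Set.infinite_coe_iff.2 fun hfin => ?_
      haveI : Finite (closedPoints Z.left) := hfin.to_subtype
      have huniv : closedPoints Z.left = Set.univ := by
        have hc : IsClosed (closedPoints Z.left) := by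
          rw [← Set.biUnion_of_singleton (closedPoints Z.left)]
          exact hfin.isClosed_biUnion fun x hx => hx
        rw [← hc.closure_eq]
        exact closure_closedPoints
      haveI : Finite Z.left := by
        rw [← Set.finite_univ_iff, ← huniv]; exact hfin
      haveI : DiscreteTopology Z.left := by
        refine discreteTopology_iff_forall_isClosed.2 fun S => ?_
        rw [← Set.biUnion_of_singleton S]
        exact (Set.toFinite S).isClosed_biUnion fun x _ => mem_closedPoints_iff.1 (huniv ▸ Set.mem_univ x)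
      have h := topologicalKrullDim_zero_of_discreteTopology Z.left
      rw [hdim] at h
      exact absurd h (not_le.2 zero_lt_one)
    obtain ⟨p₀⟩ : Nonempty {p : Spec (CommRingCat.of k) ⟶ Z.left // p ≫ Z.hom = 𝟙 _} := inferInstance
    let z₀ : 𝟙_ _ ⟶ Z := Over.homMk p₀.1 p₀.2
    obtain ⟨V, hVne, hV⟩ := exists_translates U hne (z₀ ≫ i)
    -- the translates by points of `V` are trivial on the curve
    have hzero : ∀ a : 𝟙_ _ ⟶ A, a.left (IsLocalRing.closedPoint k) ∈ V → ev ℓ (i * (toUnit Z ≫ a)) = 0 := by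
      intro a ha
      obtain ⟨h₁, h₂⟩ := hV a ha
      let f : Z ⟶ A := i * (toUnit Z ≫ a)
      let f' : Z ⟶ A := i * (toUnit Z ≫ a⁻¹)
      have hf : ∀ b : 𝟙_ _ ⟶ A, z₀ ≫ (i * (toUnit Z ≫ b)) = (z₀ ≫ i) * b := fun b => by
        rw [MonObj.comp_mul, ← Category.assoc, comp_toUnit, toUnit_unique (toUnit (𝟙_ _)) (𝟙 _), Category.id_comp]
      have hp := isInvertible_pullback f.left hL
      have hp' := isInvertible_pullback f'.left hL
      have hsum : pc _ (isInvertible_tensor hp hp') = 0 := by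
        rw [pc_tensor hp hp' _, pullP_pc f.left L hL, pullP_pc f'.left L hL]
        show ev ℓ f + ev ℓ f' = 0
        have e1 : ev ℓ f = ev ℓ i + th ℓ i (toUnit Z ≫ a) := by rw [th, ev_const]; abel
        have e2 : ev ℓ f' = ev ℓ i + th ℓ i (toUnit Z ≫ a⁻¹) := by rw [th, ev_const]; abel
        have e3 : ev ℓ i + ev ℓ i = 0 := by
          have := h0
          rw [pc_tensor hL hL _, map_add] at this
          exact this
        rw [e1, e2, GrpObj.comp_inv, th_inv_right]
        linear_combination (norm := abel) e3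
      let t := tm ((1 : Γ(Z.left, ⊤)) • pullTop f.left s) ((1 : Γ(Z.left, ⊤)) • pullTop f'.left s)
      have htop : gen _ t = ⊤ := gen_eq_top_of_trivial (isInvertible_tensor hp hp') hsum t ⟨z₀.left (IsLocalRing.closedPoint k), by
        rw [gen_tm hp hp', hgs, hgs]
        refine ⟨?_, ?_⟩
        · show f.left (z₀.left _) ∈ U
          rw [← Scheme.Hom.comp_apply, ← Over.comp_left, hf]; exact h₁
        · show f'.left (z₀.left _) ∈ U
          rw [← Scheme.Hom.comp_apply, ← Over.comp_left, hf]; exact h₂⟩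
      rw [gen_tm hp hp'] at htop
      have := pc_eq_zero_of_gen hp _ (inf_eq_top_iff.1 htop).1
      rwa [pullP_pc f.left L hL] at this
    -- hence all translates agree on the curve
    have hh : ∀ g : 𝟙_ _ ⟶ A, th ℓ i (toUnit Z ≫ g) = 0 := by
      intro g
      let φ : A ⟶ A := (toUnit A ≫ g) * 𝟙 A
      have hne2 : ((φ.left ⁻¹ᵁ V : A.left.Opens) : Set A.left).Nonempty := by
        obtain ⟨y, hy⟩ := hVne
        let ψ : A ⟶ A := (toUnit A ≫ g⁻¹) * 𝟙 A
        have hψφ : ψ ≫ φ = 𝟙 A := by
          rw [MonObj.comp_mul, Category.comp_id, ← Category.assoc, comp_toUnit, ← _root_.mul_assoc, ← MonObj.comp_mul,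
            mul_inv_cancel, MonObj.comp_one, _root_.one_mul]
        refine ⟨ψ.left y, ?_⟩
        show φ.left (ψ.left y) ∈ V
        rw [← Scheme.Hom.comp_apply, ← Over.comp_left, hψφ]
        exact hy
      obtain ⟨b, hb⟩ := exists_pt_mem (V ⊓ φ.left ⁻¹ᵁ V)
        (nonempty_preirreducible_inter V.isOpen (φ.left ⁻¹ᵁ V).isOpen hVne hne2)
      have hb2 : (g * b).left (IsLocalRing.closedPoint k) ∈ V := by
        have : b ≫ φ = g * b := by
          rw [MonObj.comp_mul, Category.comp_id, ← Category.assoc, comp_toUnit, toUnit_unique (toUnit (𝟙_ _)) (𝟙 _),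
            Category.id_comp]
        rw [← this]; exact hb.2
      have e1 : ∀ a, a.left (IsLocalRing.closedPoint k) ∈ V → th ℓ i (toUnit Z ≫ a) = - ev ℓ i := fun a ha => by
        rw [th, hzero a ha, ev_const]; abel
      have h1 := e1 _ hb2
      rw [MonObj.comp_mul, th_mul_right, e1 b hb.1] at h1
      linear_combination (norm := abel) h1
    -- so points of the curve translate equally
    let W : PC (Z ⊗ A).left := th ℓ (fst Z A ≫ i) (snd Z A)
    obtain ⟨N, hN⟩ := eq_ev_snd_of_slices Z A W fun g => by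
      show ev (th ℓ _ _) _ = 0
      rw [ev_th, lift_fst_assoc, lift_snd, Category.id_comp]
      exact hh g
    have hZeq : ∀ z : 𝟙_ _ ⟶ Z, transl ℓ (z ≫ i) = ℓ + N := by
      intro z
      rw [transl_eq_add_th, th_comm]
      congr 1
      have h := congrArg (fun u => ev u (lift (toUnit A ≫ z) (𝟙 A))) hN
      simp only [W, ev_th, lift_fst_assoc, lift_snd, Category.assoc, ev_comp] at h
      exact h.trans (pullP_id N)
    refine hinf.not_finite ?_
    haveI := hnd.to_subtype
    refine Finite.of_injective (fun p => (⟨(z₀ ≫ i)⁻¹ * ((Over.homMk p.1 p.2 : 𝟙_ _ ⟶ Z) ≫ i), ?_⟩ :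
      {a : 𝟙_ (Over (Spec (CommRingCat.of k))) ⟶ A | transl ℓ a = ℓ})) fun p q h => ?_
    · show transl ℓ _ = ℓ
      rw [← transl_transl, hZeq, ← hZeq z₀, transl_transl, inv_mul_cancel, transl_eq_add_th, MonObj.comp_one,
        th_one_right, _root_.add_zero]
    · exact Subtype.ext (congrArg Over.Hom.left ((cancel_mono i).1 (mul_left_cancel (congrArg Subtype.val h))))

end Groth.Agent.H25AbCube
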