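import Groth.Agent.H25AbCube.StabAmple
import Groth.Agent.H25AbCube.Nondegenerate
import Groth.Agent.H25Rig.GroupMaps
import Groth.Agent.H19Grp.Transporter
import Groth.Agent.H17.Image
import Groth.Agent.H22Alg.FibreCount

/-!
# The abelian subvariety generated by an irreducible subset
-/

set_option autoImplicit false
set_option linter.style.haveILetI false
set_option linter.unusedSectionVars false
set_option backward.isDefEq.respectTransparency false
set_option maxHeartbeats 1000000
universe u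

open CategoryTheory CategoryTheory.Limits MonoidalCategory CartesianMonoidalCategory MonObj GrpObj AlgebraicGeometry
  TopologicalSpace Opposite
open Groth.Agent

noncomputable section

namespace Groth.Agent.H25AbCube.Stab

variable {k : Type u} [Field k] [IsAlgClosed k]

local notation "Pts" X => 𝟙_ (Over (Spec (CommRingCat.of k))) ⟶ X

/-- The closed point of a rational point of any scheme. -/
abbrev pnt {T : Over (Spec (CommRingCat.of k))} (a : Pts T) : T.left := a.left (IsLocalRing.closedPoint k)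

theorem pnt_isClosed {T : Over (Spec (CommRingCat.of k))} [LocallyOfFiniteType T.hom] (a : Pts T) :
    IsClosed ({pnt a} : Set T.left) :=
  ((pointEquivClosedPoint T.hom) ⟨a.left, Over.w a⟩).2

theorem exists_pnt {T : Over (Spec (CommRingCat.of k))} [LocallyOfFiniteType T.hom] {y : T.left}
    (hy : IsClosed ({y} : Set T.left)) : ∃ a : Pts T, pnt a = y :=
  ⟨Over.homMk _ ((pointEquivClosedPoint T.hom).symm ⟨y, hy⟩).2, pointOfClosedPoint_apply T.hom y hy _⟩

theorem pnt_injective {T : Over (Spec (CommRingCat.of k))} [LocallyOfFiniteType T.hom] {a b : Pts T}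
    (h : pnt a = pnt b) : a = b :=
  Over.OverMorphism.ext (congrArg Subtype.val ((pointEquivClosedPoint T.hom).injective
    (a₁ := ⟨a.left, Over.w a⟩) (a₂ := ⟨b.left, Over.w b⟩) (Subtype.ext h)))

/-- A point in the image of a proper morphism comes from a point. -/
theorem exists_lift_pt {T G : Over (Spec (CommRingCat.of k))} [LocallyOfFiniteType G.hom] [IsProper T.hom] (h : T ⟶ G)
    (a : Pts G) (ha : pnt a ∈ Set.range h.left) : ∃ t : Pts T, t ≫ h = a := by
  haveI : CompactSpace T.left := QuasiCompact.compactSpace_of_compactSpace T.hom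
  obtain ⟨x, hx⟩ := ha
  obtain ⟨z, hz, hzc⟩ := ((pnt_isClosed a).preimage h.left.continuous).exists_closed_singleton ⟨x, hx⟩
  obtain ⟨t, rfl⟩ := exists_pnt hzc
  exact ⟨t, pnt_injective hz⟩

/-- A morphism from a reduced scheme with all rational points in a closed subscheme factors through it. -/
theorem exists_factor_of_points {T G N : Over (Spec (CommRingCat.of k))} [LocallyOfFiniteType T.hom] [IsReduced T.left]
    (n : N ⟶ G) [IsClosedImmersion n.left] (f : T ⟶ G) (h : ∀ t : Pts T, pnt (t ≫ f) ∈ Set.range n.left) :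
    ∃ z : T ⟶ N, z ≫ n = f := by
  haveI : JacobsonSpace T.left := LocallyOfFiniteType.jacobsonSpace T.hom
  have hsub : Set.range f.left ⊆ Set.range n.left := by
    rintro _ ⟨x, rfl⟩
    by_contra hx
    obtain ⟨z, hz, hzc⟩ := nonempty_inter_closedPoints (Z := f.left ⁻¹' (Set.range n.left)ᶜ) ⟨x, hx⟩
      (n.left.isClosedEmbedding.isClosed_range.isOpen_compl.preimage f.left.continuous).isLocallyClosed
    obtain ⟨t, rfl⟩ := exists_pnt hzc
    exact hz (h t)
  obtain ⟨g, hg⟩ := H17.exists_lift_of_range_subset f.left n.left hsub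
  exact ⟨Over.homMk g (by rw [← Over.w n, ← Category.assoc, hg, Over.w f]), Over.OverMorphism.ext hg⟩

variable {G : Over (Spec (CommRingCat.of k))}

/-- The integral closed subscheme on an irreducible closed subset. -/
theorem exists_closed_sub [LocallyOfFiniteType G.hom] (Z : Set G.left) (hZ : IsClosed Z) (hirr : IsIrreducible Z) :
    ∃ (N : Over (Spec (CommRingCat.of k))) (n : N ⟶ G), IsClosedImmersion n.left ∧ IsIntegral N.left ∧
      GeometricallyIntegral N.hom ∧ Set.range n.left = Z := by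
  let I := Scheme.IdealSheafData.vanishingIdeal (X := G.left) ⟨Z, hZ⟩
  have hrange : Set.range I.subschemeι = Z := by
    rw [Scheme.IdealSheafData.range_subschemeι]
    rfl
  haveI : IsReduced I.subscheme := H17.isReduced_vanishingIdeal_subscheme _
  haveI : IrreducibleSpace I.subscheme := by
    haveI : IrreducibleSpace Z := Subtype.irreducibleSpace hirr
    exact (I.subschemeι.isClosedEmbedding.isEmbedding.toHomeomorph.trans
      (Homeomorph.setCongr hrange)).irreducibleSpace_iff.2 inferInstance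
  let N : Over (Spec (CommRingCat.of k)) := Over.mk (I.subschemeι ≫ G.hom)
  haveI : IsReduced N.left := inferInstanceAs (IsReduced I.subscheme)
  haveI : IrreducibleSpace N.left := inferInstanceAs (IrreducibleSpace I.subscheme)
  haveI : IsIntegral N.left := isIntegral_of_irreducibleSpace_of_isReduced _
  haveI : LocallyOfFiniteType N.hom := inferInstanceAs (LocallyOfFiniteType (I.subschemeι ≫ G.hom))
  exact ⟨N, Over.homMk I.subschemeι rfl, inferInstanceAs (IsClosedImmersion I.subschemeι), inferInstance,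
    geometricallyIntegral_of_isIntegral' N, hrange⟩

variable [GrpObj G]

/-- An irreducible closed subset whose points form a subgroup underlies a subgroup scheme. -/
theorem exists_subgroup [IsSeparated G.hom] [LocallyOfFiniteType G.hom] (Z : Set G.left) (hZ : IsClosed Z) (hirr : IsIrreducible Z)
    (h1 : pnt (1 : Pts G) ∈ Z) (hmul : ∀ a b : Pts G, pnt a ∈ Z → pnt b ∈ Z → pnt (a * b) ∈ Z)
    (hinv : ∀ a : Pts G, pnt a ∈ Z → pnt a⁻¹ ∈ Z) :
    ∃ (B : Over (Spec (CommRingCat.of k))) (_ : GrpObj B) (i : B ⟶ G), IsMonHom i ∧ IsClosedImmersion i.left ∧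
      IsIntegral B.left ∧ GeometricallyIntegral B.hom ∧ Set.range i.left = Z := by
  obtain ⟨N, n, hn, hint, hgi, hrange⟩ := exists_closed_sub Z hZ hirr
  haveI := hn
  haveI := hgi
  haveI : Mono n := (Over.forget _).mono_of_mono_map (inferInstanceAs (Mono n.left))
  haveI : LocallyOfFiniteType N.hom := by rw [← Over.w n]; infer_instance
  haveI := hint
  haveI : LocallyOfFiniteType (N ⊗ N).hom := by
    rw [Over.tensorObj_hom]
    haveI : LocallyOfFiniteType (pullback.fst N.hom N.hom) :=
      MorphismProperty.pullback_fst (P := @LocallyOfFiniteType) _ _ inferInstance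
    infer_instance
  haveI : LocallyOfFiniteType (𝟙_ (Over (Spec (CommRingCat.of k)))).hom :=
    inferInstanceAs (LocallyOfFiniteType (𝟙 _))
  haveI : IsReduced (𝟙_ (Over (Spec (CommRingCat.of k)))).left :=
    inferInstanceAs (IsReduced (Spec (CommRingCat.of k)))
  haveI : IsLocallyNoetherian (N ⊗ N).left := LocallyOfFiniteType.isLocallyNoetherian (N ⊗ N).hom
  haveI : IsIntegral (N ⊗ N).left := GeometricallyIntegral.isIntegral_of_subsingleton (N ⊗ N).hom
  have hmem : ∀ t : Pts N, pnt (t ≫ n) ∈ Z := fun t => hrange.le ⟨_, rfl⟩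
  obtain ⟨e, he⟩ := exists_factor_of_points (T := 𝟙_ (Over (Spec (CommRingCat.of k)))) n 1 fun t => by
    rw [MonObj.comp_one, hrange]; exact h1
  obtain ⟨m, hm⟩ := exists_factor_of_points n ((fst N N ≫ n) * (snd N N ≫ n)) fun t => by
    rw [MonObj.comp_mul, hrange, ← Category.assoc, ← Category.assoc]
    exact hmul _ _ (hmem _) (hmem _)
  obtain ⟨j, hj⟩ := exists_factor_of_points n n⁻¹ fun t => by
    rw [GrpObj.comp_inv, hrange]
    exact hinv _ (hmem _)
  obtain ⟨inst, hi⟩ := H19Grp.exists_grpObj_of_closed n ⟨e, he⟩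
    (fun T a b => ⟨lift a b ≫ m, by
      rw [Category.assoc, hm, MonObj.comp_mul, lift_fst_assoc, lift_snd_assoc]⟩)
    (fun T a => ⟨a ≫ j, by rw [Category.assoc, hj, GrpObj.comp_inv]⟩)
  exact ⟨N, inst, n, hi, hn, hint, hgi, hrange⟩

omit [GrpObj G] in
/-- A closed subscheme covered by a proper scheme is proper. -/
theorem isProper_of_range {T B : Over (Spec (CommRingCat.of k))} [IsProper T.hom] [IsSeparated G.hom]
    [LocallyOfFiniteType G.hom] [QuasiCompact G.hom] (f : T ⟶ G) (i : B ⟶ G) [IsClosedImmersion i.left] [IsReduced B.left]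
    (h : Set.range i.left ⊆ Set.range f.left) : IsProper B.hom := by
  haveI : IsSeparated B.hom := by rw [← Over.w i]; infer_instance
  haveI : LocallyOfFiniteType B.hom := by rw [← Over.w i]; infer_instance
  haveI : IsProper (f.left ≫ G.hom) := by rw [Over.w f]; infer_instance
  haveI : IsProper f.left := IsProper.of_comp f.left G.hom
  let P := pullback f.left i.left
  haveI : IsProper (pullback.fst f.left i.left ≫ T.hom) := inferInstance
  have hw : pullback.fst f.left i.left ≫ T.hom = pullback.snd f.left i.left ≫ B.hom := by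
    rw [← Over.w f, ← Over.w i, pullback.condition_assoc]
  haveI : IsProper (pullback.snd f.left i.left ≫ B.hom) := hw ▸ ‹IsProper (pullback.fst f.left i.left ≫ T.hom)›
  haveI : Surjective (pullback.snd f.left i.left) := ⟨fun b => by
    obtain ⟨t, ht⟩ := h ⟨b, rfl⟩
    obtain ⟨z, -, hz⟩ := Scheme.Pullback.exists_preimage_pullback t b ht
    exact ⟨z, hz⟩⟩
  haveI : UniversallyClosed B.hom := UniversallyClosed.of_comp_surjective (pullback.snd f.left i.left) B.hom
  exact {}

/-- The abelian subvariety generated by a proper variety mapping to a separated group of finite type. -/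
theorem exists_generated_hom [IsSeparated G.hom] [LocallyOfFiniteType G.hom] [QuasiCompact G.hom]
    {N : Over (Spec (CommRingCat.of k))} [IsProper N.hom] [GeometricallyIntegral N.hom] (n : N ⟶ G)
    (o : Pts N) (ho : o ≫ n = 1) (K : Subgroup (Pts G)) (hnK : ∀ t : Pts N, t ≫ n ∈ K) :
    ∃ (B : Over (Spec (CommRingCat.of k))) (_ : GrpObj B) (i : B ⟶ G), IsMonHom i ∧ IsClosedImmersion i.left ∧
      IsIntegral B.left ∧ GeometricallyIntegral B.hom ∧ IsProper B.hom ∧ Set.range n.left ⊆ Set.range i.left ∧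
      ∀ b : Pts B, b ≫ i ∈ K := by
  haveI : IsProper (n.left ≫ G.hom) := by rw [Over.w n]; infer_instance
  haveI : IsProper n.left := IsProper.of_comp n.left G.hom
  haveI : JacobsonSpace G.left := LocallyOfFiniteType.jacobsonSpace G.hom
  let P : Set G.left → Prop := fun W => ∃ (T : Over (Spec (CommRingCat.of k))) (f : T ⟶ G),
    IsProper T.hom ∧ GeometricallyIntegral T.hom ∧ (∀ t : Pts T, t ≫ f ∈ K) ∧ (∃ t : Pts T, t ≫ f = 1) ∧
      Set.range f.left = W
  let d : N ⊗ N ⟶ G := (fst N N ≫ n) * (snd N N ≫ n)⁻¹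
  have hd : ∀ a b : Pts N, lift a b ≫ d = (a ≫ n) * (b ≫ n)⁻¹ := fun a b => by
    rw [MonObj.comp_mul, GrpObj.comp_inv, lift_fst_assoc, lift_snd_assoc]
  haveI : IsProper (N ⊗ N).hom := by
    rw [Over.tensorObj_hom]
    haveI : IsProper (pullback.fst N.hom N.hom) := MorphismProperty.pullback_fst (P := @IsProper) _ _ inferInstance
    infer_instance
  have hP0 : P (Set.range d.left) := by
    refine ⟨_, d, inferInstance, inferInstance, fun t => ?_, ⟨lift o o, by rw [hd, ho, inv_one, _root_.mul_one]⟩, rfl⟩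
    obtain ⟨a, b, rfl⟩ : ∃ a b : Pts N, t = lift a b := ⟨t ≫ fst N N, t ≫ snd N N, by ext <;> simp⟩
    rw [hd]
    exact K.mul_mem (hnK a) (K.inv_mem (hnK b))
  have hmk : ∀ W₁ W₂, P W₁ → P W₂ → ∃ W, P W ∧ W₁ ⊆ W ∧
      ∀ a b : Pts G, pnt a ∈ W₁ → pnt b ∈ W₂ → pnt (a * b⁻¹) ∈ W := by
    rintro _ _ ⟨T, f, hT, hTi, hf, ⟨t₀, ht₀⟩, rfl⟩ ⟨S, g, hS, hSi, hg, ⟨s₀, hs₀⟩, rfl⟩
    haveI := hT
    haveI := hTi
    haveI := hS
    haveI := hSi
    let m : T ⊗ S ⟶ G := (fst T S ≫ f) * (snd T S ≫ g)⁻¹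
    have hm : ∀ {U : Over (Spec (CommRingCat.of k))} (a : U ⟶ T) (b : U ⟶ S),
        lift a b ≫ m = (a ≫ f) * (b ≫ g)⁻¹ := fun a b => by
      rw [MonObj.comp_mul, GrpObj.comp_inv, lift_fst_assoc, lift_snd_assoc]
    haveI : IsProper (T ⊗ S).hom := by
      rw [Over.tensorObj_hom]
      haveI : IsProper (pullback.fst T.hom S.hom) := MorphismProperty.pullback_fst (P := @IsProper) _ _ inferInstance
      infer_instance
    haveI : IsSeparated G.hom := inferInstance
    have hpts : ∀ a b : Pts G, pnt a ∈ Set.range f.left → pnt b ∈ Set.range g.left →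
        pnt (a * b⁻¹) ∈ Set.range m.left := by
      intro a b ha hb
      obtain ⟨t, rfl⟩ := exists_lift_pt f a ha
      obtain ⟨s, rfl⟩ := exists_lift_pt g b hb
      exact ⟨pnt (lift t s), congrArg pnt (hm t s)⟩
    refine ⟨Set.range m.left, ⟨_, m, inferInstance, inferInstance, fun t => ?_, ⟨lift t₀ s₀, by
      rw [hm, ht₀, hs₀, inv_one, _root_.mul_one]⟩, rfl⟩, ?_, hpts⟩
    · obtain ⟨a, b, rfl⟩ : ∃ (a : Pts T) (b : Pts S), t = lift a b := ⟨t ≫ fst T S, t ≫ snd T S, by ext <;> simp⟩
      rw [hm]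
      exact K.mul_mem (hf a) (K.inv_mem (hg b))
    · rintro _ ⟨x, rfl⟩
      refine ⟨(lift (𝟙 T) (toUnit T ≫ s₀)).left x, ?_⟩
      rw [← Scheme.Hom.comp_apply, ← Over.comp_left, hm, Category.id_comp, Category.assoc, hs₀, MonObj.comp_one,
        inv_one, _root_.mul_one]
  obtain ⟨W, hW, hmax⟩ : ∃ W, P W ∧ ∀ W', P W' → W ⊆ W' → W' = W := by
    haveI : Nonempty G.left := ⟨pnt (1 : Pts G)⟩
    obtain ⟨z₀, -, hdim⟩ := H22Alg.FibreCount.exists_dim_eq G.hom
    obtain ⟨d, hd'⟩ := H22Alg.FibreCount.cdim_natCast G.hom z₀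
    have hic : ∀ W, P W → ∃ C : IrreducibleCloseds G.left, (C : Set G.left) = W := by
      rintro _ ⟨T, f, hT, hTi, -, -, rfl⟩
      haveI := hT
      haveI := hTi
      haveI : IsIntegral T.left := GeometricallyIntegral.isIntegral_of_subsingleton T.hom
      haveI : IsProper (f.left ≫ G.hom) := by rw [Over.w f]; infer_instance
      haveI : IsProper f.left := IsProper.of_comp f.left G.hom
      exact ⟨⟨_, Set.image_univ ▸ (IrreducibleSpace.isIrreducible_univ T.left).image f.left f.left.continuous.continuousOn, f.left.isClosedMap.isClosed_range⟩, rfl⟩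
    have hh : ∀ C : IrreducibleCloseds G.left, ∃ n : ℕ, n ≤ d ∧ Order.height C = n := fun C => by
      have h := (Order.height_le_krullDim C).trans_eq ((show Order.krullDim (IrreducibleCloseds G.left) =
        topologicalKrullDim G.left from rfl).trans (hdim.trans hd'))
      obtain ⟨n, hn⟩ : ∃ n : ℕ, Order.height C = n := by
        refine ⟨(Order.height C).toNat, (ENat.coe_toNat fun htop => ?_).symm⟩
        rw [htop] at h
        exact (ENat.coe_lt_top d).not_ge (WithBot.coe_le_coe.1 h)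
      rw [hn] at h
      exact ⟨n, by exact_mod_cast h, hn⟩
    obtain ⟨C₀, hC₀⟩ := hic _ hP0
    let S : Set ℕ := {n | ∃ C : IrreducibleCloseds G.left, P C ∧ Order.height C = n}
    have hS : S.Nonempty := by
      obtain ⟨n, -, hn⟩ := hh C₀
      exact ⟨n, C₀, hC₀ ▸ hP0, hn⟩
    have hSb : BddAbove S := ⟨d, by
      rintro n ⟨C, -, hC⟩
      obtain ⟨m, hm, hm'⟩ := hh C
      rw [hC] at hm'
      exact (show n = m by exact_mod_cast hm') ▸ hm⟩
    obtain ⟨C, hC, hCn⟩ := Nat.sSup_mem hS hSb
    refine ⟨C, hC, fun W' hW' hle => ?_⟩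
    obtain ⟨C', rfl⟩ := hic W' hW'
    by_contra hne
    obtain ⟨m, hm, hm'⟩ := hh C'
    have hlt := Order.height_strictMono (lt_of_le_of_ne (show C ≤ C' from hle) fun e => hne (e ▸ rfl))
      (by rw [hCn]; exact ENat.coe_lt_top _)
    rw [hCn, hm'] at hlt
    exact absurd (le_csSup hSb ⟨C', hW', hm'⟩) (not_le.2 (by exact_mod_cast hlt))
  obtain ⟨W', hW', hle₁, hmul'⟩ := hmk _ _ hW hW
  obtain ⟨W'', hW'', hle₁', hmul''⟩ := hmk _ _ hW hP0
  rw [hmax W' hW' hle₁] at hmul'
  rw [hmax W'' hW'' hle₁'] at hmul''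
  obtain ⟨T, f, hT, hTi, hf, ⟨t₀, ht₀⟩, rfl⟩ := hW
  haveI := hT
  haveI := hTi
  haveI : IsProper (f.left ≫ G.hom) := by rw [Over.w f]; infer_instance
  haveI : IsProper f.left := IsProper.of_comp f.left G.hom
  haveI : IsIntegral T.left := GeometricallyIntegral.isIntegral_of_subsingleton T.hom
  have hone : pnt (1 : Pts G) ∈ Set.range f.left := ⟨pnt t₀, congrArg pnt ht₀⟩
  have hinv : ∀ a : Pts G, pnt a ∈ Set.range f.left → pnt a⁻¹ ∈ Set.range f.left := fun a ha => by
    simpa using hmul' 1 a hone ha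
  obtain ⟨B, instB, i, hi, hci, hBint, hBgi, hBrange⟩ := exists_subgroup (Set.range f.left)
    f.left.isClosedMap.isClosed_range (Set.image_univ ▸ (IrreducibleSpace.isIrreducible_univ T.left).image f.left f.left.continuous.continuousOn) hone
    (fun a b ha hb => by simpa using hmul' a b⁻¹ ha (hinv b hb)) hinv
  haveI := hci
  have hBp : IsProper B.hom := isProper_of_range f i hBrange.le
  refine ⟨B, instB, i, hi, hci, hBint, hBgi, hBp, ?_, fun b => ?_⟩
  · rw [hBrange]
    intro y hy
    by_contra hy'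
    have hnc : IsClosed (Set.range n.left) := n.left.isClosedMap.isClosed_range
    obtain ⟨z, ⟨hz₁, hz₂⟩, hzc⟩ := nonempty_inter_closedPoints (Z := Set.range n.left ∩ (Set.range f.left)ᶜ) ⟨y, hy, hy'⟩
      (hnc.isLocallyClosed.inter f.left.isClosedMap.isClosed_range.isOpen_compl.isLocallyClosed)
    obtain ⟨a, rfl⟩ := exists_pnt hzc
    obtain ⟨x, hx⟩ := exists_lift_pt n a hz₁
    have h' : pnt a⁻¹ ∈ Set.range d.left :=
      ⟨pnt (lift o x), congrArg pnt ((hd o x).trans (by rw [ho, hx, _root_.one_mul]))⟩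
    exact hz₂ (by simpa using hmul'' 1 a⁻¹ hone h')
  obtain ⟨t, ht⟩ := exists_lift_pt f (b ≫ i) (hBrange.le ⟨_, rfl⟩)
  exact ht ▸ hf t


/-- The subgroup scheme generated by an irreducible closed subset through the origin, inside a given group
of points. -/
theorem exists_generated [IsProper G.hom] (V : Set G.left) (hV : IsClosed V) (hirr : IsIrreducible V)
    (h1 : pnt (1 : Pts G) ∈ V) (K : Subgroup (Pts G)) (hK : ∀ a : Pts G, pnt a ∈ V → a ∈ K) :
    ∃ (B : Over (Spec (CommRingCat.of k))) (_ : GrpObj B) (i : B ⟶ G), IsMonHom i ∧ IsClosedImmersion i.left ∧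
      IsIntegral B.left ∧ GeometricallyIntegral B.hom ∧ V ⊆ Set.range i.left ∧ ∀ b : Pts B, b ≫ i ∈ K := by
  obtain ⟨N, n, hn, hint, hgi, hrange⟩ := exists_closed_sub V hV hirr
  haveI := hn
  haveI := hgi
  haveI : IsProper N.hom := by rw [← Over.w n]; infer_instance
  obtain ⟨o, ho⟩ := exists_lift_pt n 1 (hrange ▸ h1)
  obtain ⟨B, gB, i, h₁, h₂, h₃, h₄, -, h₅, h₆⟩ :=
    exists_generated_hom n o ho K fun t => hK _ (hrange.le ⟨_, rfl⟩)
  exact ⟨B, gB, i, h₁, h₂, h₃, h₄, hrange ▸ h₅, h₆⟩

end Groth.Agent.H25AbCube.Stab
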