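import Groth.Agent.H25AbCube.Degree
import Groth.Agent.H22Alg.FiniteDegree
import Groth.Agent.S15003
import Groth.Agent.H19Grp.HomUnramified
import Groth.Prelude.Def_AbDual
import Mathlib.AlgebraicGeometry.AlgClosed.Basic

/-!
# The torsion points of an abelian variety
-/

set_option autoImplicit false
set_option linter.style.haveILetI false
set_option backward.isDefEq.respectTransparency false
universe u

open CategoryTheory CategoryTheory.Limits MonoidalCategory CartesianMonoidalCategory MonObj GrpObj AlgebraicGeometry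
  TopologicalSpace
open Groth.Agent

noncomputable section

namespace Groth.Agent.H25AbCube

theorem subsingleton_primeSpectrum {k : Type u} [Field k] : Subsingleton (PrimeSpectrum (TrivSqZeroExt k k)) := by
  refine ⟨fun P Q => PrimeSpectrum.ext ?_⟩
  have h : ∀ (R : PrimeSpectrum (TrivSqZeroExt k k)) (x : TrivSqZeroExt k k), x ∈ R.asIdeal ↔ x.fst = 0 := by
    intro R x
    constructor
    · intro hx
      by_contra hne
      exact R.2.ne_top (Ideal.eq_top_of_isUnit_mem _ hx (TrivSqZeroExt.isUnit_iff_isUnit_fst.2 (isUnit_iff_ne_zero.2 hne)))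
    · intro hx
      refine R.2.mem_of_pow_mem 2 ?_
      have : x ^ 2 = 0 := by
        rw [sq]
        ext <;> simp [hx]
      rw [this]; exact zero_mem _
  ext x
  rw [h P, h Q]

section finite

variable {k : Type u} [Field k] [IsAlgClosed k] {Z : Scheme.{u}} (q : Z ⟶ Spec (CommRingCat.of k))
  [IsFinite q] [Flat q]

include q in
omit [IsAlgClosed k] [Flat q] in
theorem discreteTopology_of_finite : DiscreteTopology Z := by
  have hd := (q.isDiscrete_preimage_singleton (IsLocalRing.closedPoint k)).to_subtype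
  have : q ⁻¹' {IsLocalRing.closedPoint k} = Set.univ :=
    Set.eq_univ_of_forall fun z => Subsingleton.elim (q z) _
  rw [this] at hd
  exact (Homeomorph.Set.univ Z).discreteTopology

omit [IsAlgClosed k] [Flat q] in
theorem mult_eq_length (z : Z) :
    H22Alg.FiniteDegree.mult q z = (Module.length (Z.presheaf.stalk z) (Z.presheaf.stalk z)).toNat := by
  have hF : IsField ((Spec (CommRingCat.of k)).presheaf.stalk (q z)) := by
    rw [show q z = genericPoint (Spec (CommRingCat.of k)) from Subsingleton.elim _ _]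
    exact H29Ref.isField_generic
  rw [H22Alg.FiniteDegree.mult, IsLocalRing.isField_iff_maximalIdeal_eq.1 hF, Ideal.map_bot,
    (Submodule.quotEquivOfEqBot ⊥ rfl).length_eq]

theorem one_le_mult (z : Z) : 1 ≤ H22Alg.FiniteDegree.mult q z := by
  haveI : IsLocallyNoetherian Z := LocallyOfFiniteType.isLocallyNoetherian q
  haveI := discreteTopology_of_finite q
  haveI : Ring.KrullDimLE 0 (Z.presheaf.stalk z) := by
    refine Ring.krullDimLE_zero_iff.2 fun P hP => ?_
    have hz : Z.fromSpecStalk z ⟨P, hP⟩ = Z.fromSpecStalk z (IsLocalRing.closedPoint _) := by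
      have h1 : Z.fromSpecStalk z ⟨P, hP⟩ ∈ Set.range (Z.fromSpecStalk z) := ⟨_, rfl⟩
      rw [Scheme.range_fromSpecStalk] at h1
      rw [Scheme.fromSpecStalk_closedPoint]
      exact h1.eq
    have := congrArg PrimeSpectrum.asIdeal ((Z.fromSpecStalk z).isEmbedding.injective hz)
    rw [show P = IsLocalRing.maximalIdeal (Z.presheaf.stalk z) from this]
    exact IsLocalRing.maximalIdeal.isMaximal _
  haveI : IsArtinianRing (Z.presheaf.stalk z) := isArtinianRing_iff_krullDimLE_zero.2 inferInstance
  rw [mult_eq_length]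
  have hfin : Module.length (Z.presheaf.stalk z) (Z.presheaf.stalk z) ≠ ⊤ :=
    Module.length_ne_top_iff.2 (isFiniteLength_iff_isNoetherian_isArtinian.2 ⟨inferInstance, inferInstance⟩)
  have hpos : Module.length (Z.presheaf.stalk z) (Z.presheaf.stalk z) ≠ 0 := fun h =>
    not_subsingleton _ (Module.length_eq_zero_iff.1 h)
  rcases hn : Module.length (Z.presheaf.stalk z) (Z.presheaf.stalk z) with _ | m
  · exact absurd hn hfin
  · rw [hn] at hpos
    exact Nat.pos_of_ne_zero fun h => hpos (by rw [show m = 0 from h]; rfl)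

theorem finrank_eq_sum_mult (x : Spec (CommRingCat.of k)) :
    ∃ _ : Fintype Z, q.finrank x = ∑ z : Z, H22Alg.FiniteDegree.mult q z := by
  haveI := discreteTopology_of_finite q
  haveI : Finite Z := by
    have := (q.finite_preimage_singleton (IsLocalRing.closedPoint k))
    refine Set.finite_univ_iff.1 ?_
    convert this using 1
    exact (Set.eq_univ_of_forall fun z => Subsingleton.elim (q z) _).symm
  letI : Fintype Z := Fintype.ofFinite Z
  refine ⟨inferInstance, ?_⟩
  rw [← H22Alg.FiniteDegree.finsum_fibre_eq_finrank q x,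
    show q ⁻¹' {x} = Set.univ from Set.eq_univ_of_forall fun z => Subsingleton.elim (q z) _, finsum_mem_univ,
    finsum_eq_sum_of_fintype]
  refine Finset.sum_congr rfl fun z _ => ?_
  rw [Groth.Agent.S15003.residueDegree_eq_one k (𝟙 _) q q (Category.comp_id _) (isClosed_discrete _), _root_.mul_one]

theorem card_le_finrank (x : Spec (CommRingCat.of k)) : Nat.card Z ≤ q.finrank x := by
  obtain ⟨_, h⟩ := finrank_eq_sum_mult q x
  rw [h, Nat.card_eq_fintype_card, ← Finset.card_univ, Finset.card_eq_sum_ones]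
  exact Finset.sum_le_sum fun z _ => one_le_mult q z

theorem card_eq_finrank [FormallyUnramified q] (x : Spec (CommRingCat.of k)) : Nat.card Z = q.finrank x := by
  obtain ⟨_, h⟩ := finrank_eq_sum_mult q x
  rw [h, Nat.card_eq_fintype_card, ← Finset.card_univ, Finset.card_eq_sum_ones]
  exact Finset.sum_congr rfl fun z _ => (Groth.Agent.S15003.mult_eq_one q z).symm

theorem isOpenImmersion_section_of_card_eq (x : Spec (CommRingCat.of k)) (h : Nat.card Z = q.finrank x)
    (σ : Spec (CommRingCat.of k) ⟶ Z) (hσ : σ ≫ q = 𝟙 _) : IsOpenImmersion σ := by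
  obtain ⟨_, hs⟩ := finrank_eq_sum_mult q x
  rw [hs, Nat.card_eq_fintype_card, ← Finset.card_univ, Finset.card_eq_sum_ones] at h
  have hone := (Finset.sum_eq_sum_iff_of_le fun z _ => one_le_mult q z).1 h
  haveI := discreteTopology_of_finite q
  haveI : IsClosedImmersion σ := isClosedImmersion_of_comp_eq_id _ _ hσ
  haveI : ∀ y, IsIso (σ.stalkMap y) := fun y => by
    have hl := (hone (σ y) (Finset.mem_univ _)).symm
    rw [mult_eq_length] at hl
    haveI : IsSimpleModule (Z.presheaf.stalk (σ y)) (Z.presheaf.stalk (σ y)) := by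
      rw [← Module.length_eq_one_iff]
      rcases hn : Module.length (Z.presheaf.stalk (σ y)) (Z.presheaf.stalk (σ y)) with _ | m
      · rw [hn] at hl; change (0 : ℕ) = 1 at hl; omega
      · rw [hn] at hl; exact congrArg _ hl
    haveI : IsSimpleOrder (Ideal (Z.presheaf.stalk (σ y))) := IsSimpleModule.toIsSimpleOrder
    letI : Field (Z.presheaf.stalk (σ y)) := (Ring.isField_iff_isSimpleOrder_ideal.2 inferInstance).toField
    rw [ConcreteCategory.isIso_iff_bijective]
    exact ⟨(σ.stalkMap y).hom.injective, σ.stalkMap_surjective y⟩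
  exact IsOpenImmersion.of_isIso_stalkMap σ ⟨σ.isClosedEmbedding.isEmbedding, isOpen_discrete _⟩

end finite

variable {k : Type u} [Field k] {A : Over (Spec (CommRingCat.of k))} [GrpObj A]

theorem comp_pow_id {T : Over (Spec (CommRingCat.of k))} (a : T ⟶ A) (n : ℕ) :
    a ≫ ((𝟙 A) ^ n : A ⟶ A) = a ^ n := by
  induction n with
  | zero => rw [pow_zero, pow_zero, MonObj.comp_one]
  | succ n ih => rw [pow_succ, pow_succ, MonObj.comp_mul, ih, Category.comp_id]

/-- The scheme theoretic kernel of multiplication by `n`. -/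
abbrev kerPow (A : Over (Spec (CommRingCat.of k))) [GrpObj A] (n : ℕ) : Scheme.{u} :=
  pullback ((𝟙 A) ^ n : A ⟶ A).left (η[A]).left

variable [IsAlgClosed k] [IsProper A.hom] [GeometricallyIntegral A.hom] [IsCommMonObj A]

/-- Torsion points are the points of the kernel. -/
theorem card_torsPts_eq_card {n : ℕ} (hn : 0 < n) :
    Nat.card ↥(AbDual.torsPts A n (Over.mk (𝟙 (Spec (CommRingCat.of k))))) = Nat.card (kerPow A n) := by
  haveI := isFinite_pow (A := A) hn
  let q := pullback.snd ((𝟙 A) ^ n : A ⟶ A).left (η[A]).left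
  haveI : IsFinite q := inferInstance
  haveI := discreteTopology_of_finite q
  let e₁ : closedPoints (kerPow A n) ≃ kerPow A n :=
    ⟨Subtype.val, fun z => ⟨z, isClosed_discrete _⟩, fun _ => rfl, fun _ => rfl⟩
  refine Nat.card_congr (Equiv.trans ?_ ((pointEquivClosedPoint q).trans e₁))
  refine
    { toFun := fun a => ⟨pullback.lift a.1.left (𝟙 _) ?_, pullback.lift_snd _ _ _⟩
      invFun := fun p => ⟨Over.homMk (p.1 ≫ pullback.fst _ _) ?_, ?_⟩
      left_inv := fun a => Subtype.ext (Over.OverMorphism.ext (pullback.lift_fst _ _ _))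
      right_inv := fun p => Subtype.ext ?_ }
  · rw [← Over.comp_left, comp_pow_id, show (a.1 : _ ⟶ A) ^ n = 1 from a.2]
    exact H19Grp.one_left _
  · show (p.1 ≫ pullback.fst _ _) ≫ A.hom = 𝟙 _
    rw [Category.assoc, ← Over.w ((𝟙 A) ^ n : A ⟶ A), reassoc_of% (pullback.condition
      (f := ((𝟙 A) ^ n : A ⟶ A).left) (g := (η[A]).left)), Over.w η[A]]
    exact (congrArg (p.1 ≫ ·) (Category.comp_id _)).trans p.2
  · refine (AbDual.mem_torsPts A _).2 ?_
    rw [← comp_pow_id]
    refine Over.OverMorphism.ext (Eq.trans ?_ (H19Grp.one_left _).symm)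
    show (p.1 ≫ pullback.fst _ _) ≫ ((𝟙 A) ^ n : A ⟶ A).left = 𝟙 _ ≫ (η[A]).left
    rw [Category.assoc, pullback.condition, ← Category.assoc, p.2]
    rfl
  · apply pullback.hom_ext
    · exact pullback.lift_fst _ _ _
    · exact (pullback.lift_snd _ _ _).trans p.2.symm

theorem finrank_kerPow {n : ℕ} (hn : 0 < n) (g : ℕ) (hg : topologicalKrullDim A.left = g)
    (x : Spec (CommRingCat.of k)) :
    (pullback.snd ((𝟙 A) ^ n : A ⟶ A).left (η[A]).left).finrank x = n ^ (2 * g) := by
  haveI := isFinite_pow (A := A) hn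
  haveI := flat_pow (A := A) hn
  haveI : IsLocallyNoetherian A.left := LocallyOfFiniteType.isLocallyNoetherian A.hom
  rw [Scheme.Hom.finrank_of_isPullback _ _ _ _ (IsPullback.of_hasPullback ((𝟙 A) ^ n : A ⟶ A).left (η[A]).left) x]
  exact finrank_pow hn g hg _

/-- There are at most `n^(2g)` points killed by `n`. -/
theorem card_torsPts_le {n : ℕ} (hn : 0 < n) (g : ℕ) (hg : topologicalKrullDim A.left = g) :
    Nat.card ↥(AbDual.torsPts A n (Over.mk (𝟙 (Spec (CommRingCat.of k))))) ≤ n ^ (2 * g) := by
  haveI := isFinite_pow (A := A) hn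
  haveI := flat_pow (A := A) hn
  rw [card_torsPts_eq_card hn, ← finrank_kerPow hn g hg (IsLocalRing.closedPoint k)]
  exact card_le_finrank _ _

theorem finite_torsPts {n : ℕ} (hn : 0 < n) :
    Finite ↥(AbDual.torsPts A n (Over.mk (𝟙 (Spec (CommRingCat.of k))))) := by
  haveI := isFinite_pow (A := A) hn
  haveI := flat_pow (A := A) hn
  obtain ⟨_, -⟩ := finrank_eq_sum_mult (pullback.snd ((𝟙 A) ^ n : A ⟶ A).left (η[A]).left)
    (IsLocalRing.closedPoint k)
  haveI := isMonHom_pow (A := A) n
  have hne : Nonempty (kerPow A n) :=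
    ⟨H19Grp.kerUnit ((𝟙 A) ^ n : A ⟶ A) (IsLocalRing.closedPoint k)⟩
  refine Nat.finite_of_card_ne_zero ?_
  rw [card_torsPts_eq_card hn]
  exact Nat.card_pos.ne'

/-- There are exactly `n^(2g)` points killed by `n` if `n` is invertible. -/
theorem card_torsPts {n : ℕ} (hn : (n : k) ≠ 0) (g : ℕ) (hg : topologicalKrullDim A.left = g) :
    Nat.card ↥(AbDual.torsPts A n (Over.mk (𝟙 (Spec (CommRingCat.of k))))) = n ^ (2 * g) := by
  have hn' : 0 < n := Nat.pos_of_ne_zero fun h => hn (by rw [h, Nat.cast_zero])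
  haveI := isFinite_pow (A := A) hn'
  haveI := flat_pow (A := A) hn'
  haveI : Etale ((𝟙 A) ^ n : A ⟶ A).left := by
    have := H19Grp.etale_zpow_field' A (n : ℤ) (by rwa [Int.cast_natCast])
    rwa [zpow_natCast] at this
  haveI : Etale (pullback.snd ((𝟙 A) ^ n : A ⟶ A).left (η[A]).left) := MorphismProperty.pullback_snd _ _ inferInstance
  haveI : FormallyUnramified (pullback.snd ((𝟙 A) ^ n : A ⟶ A).left (η[A]).left) := inferInstance
  rw [card_torsPts_eq_card hn', ← finrank_kerPow hn' g hg (IsLocalRing.closedPoint k)]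
  exact card_eq_finrank _ _

/-- In positive dimension the count drops at multiples of the characteristic. -/
theorem card_torsPts_ne {n : ℕ} (hn : 0 < n) (hnk : (n : k) = 0) (g : ℕ) (hg0 : 0 < g)
    (hg : topologicalKrullDim A.left = g) :
    Nat.card ↥(AbDual.torsPts A n (Over.mk (𝟙 (Spec (CommRingCat.of k))))) ≠ n ^ (2 * g) := by
  intro hcard
  let φ : A ⟶ A := (𝟙 A) ^ n
  haveI := isMonHom_pow (A := A) n
  haveI : IsFinite φ.left := isFinite_pow hn
  haveI : Flat φ.left := flat_pow hn
  rw [card_torsPts_eq_card hn, ← finrank_kerPow hn g hg (IsLocalRing.closedPoint k)] at hcard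
  haveI : IsOpenImmersion (H19Grp.kerUnit φ) :=
    isOpenImmersion_section_of_card_eq _ _ hcard _ (H19Grp.kerUnit_snd φ)
  -- no tangent vectors at the origin
  have htriv : ∀ x : H19Grp.TangentPow.sqz k k ⟶ A, H19Grp.TangentPow.red k k ≫ x = 1 → x = 1 := by
    intro x hx
    have hxn : x ≫ φ = 1 := by
      rw [show x ≫ φ = x ^ n from comp_pow_id x n, ← H19Grp.TangentPow.scale_natCast hx, hnk,
        H19Grp.TangentPow.scale_zero hx]
    let l := pullback.lift x.left (H19Grp.TangentPow.sqz k k).hom
      ((congrArg (·.left) hxn).trans (H19Grp.one_left _))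
    have hrange : Set.range l ⊆ Set.range (H19Grp.kerUnit φ) := by
      haveI := subsingleton_primeSpectrum (k := k)
      rintro _ ⟨t, rfl⟩
      refine ⟨IsLocalRing.closedPoint k, ?_⟩
      have hred : (H19Grp.TangentPow.red k k).left ≫ l = H19Grp.kerUnit φ := by
        apply pullback.hom_ext
        · rw [Category.assoc, pullback.lift_fst, H19Grp.kerUnit_fst, ← Over.comp_left, hx, H19Grp.one_left]
          exact Category.id_comp _
        · rw [Category.assoc, pullback.lift_snd, H19Grp.kerUnit_snd, Over.w]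
          rfl
      rw [← hred, Scheme.Hom.comp_apply]
      exact congrArg l (Subsingleton.elim (α := PrimeSpectrum (TrivSqZeroExt k k)) _ _)
    have hf := IsOpenImmersion.lift_fac (H19Grp.kerUnit φ) l hrange
    have h2 : IsOpenImmersion.lift (H19Grp.kerUnit φ) l hrange = (H19Grp.TangentPow.sqz k k).hom := by
      have h3 := congr($hf ≫ pullback.snd _ _)
      rw [Category.assoc, H19Grp.kerUnit_snd, pullback.lift_snd] at h3
      exact (Category.comp_id _).symm.trans h3
    refine Over.OverMorphism.ext (Eq.trans ?_ (H19Grp.one_left (Y := A) _).symm)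
    have h4 := congr($hf ≫ pullback.fst _ _)
    rw [Category.assoc, H19Grp.kerUnit_fst, pullback.lift_fst, h2] at h4
    exact h4.symm
  haveI : IsMonHom (1 : A ⟶ A) := by rw [← pow_zero (𝟙 A)]; exact isMonHom_pow 0
  haveI : Etale (1 : A ⟶ A).left := H19Grp.etale_endo_of_tangent_isAlgClosed _ fun x hx _ => htriv x hx
  haveI : IsSeparated A.hom := inferInstance
  let e := (η[A]).left (IsLocalRing.closedPoint k)
  haveI : Subsingleton (𝟙_ (Over (Spec (CommRingCat.of k)))).left := inferInstanceAs (Subsingleton (PrimeSpectrum k))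
  have hrange : Set.range (1 : A ⟶ A).left = {e} := by
    haveI : Nonempty A.left := ⟨e⟩
    ext y
    constructor
    · rintro ⟨t, rfl⟩
      rw [H19Grp.one_left, Scheme.Hom.comp_apply]
      exact congrArg (η[A]).left (Subsingleton.elim _ _)
    · rintro rfl
      refine ⟨e, ?_⟩
      rw [H19Grp.one_left, Scheme.Hom.comp_apply]
      exact congrArg (η[A]).left (Subsingleton.elim _ _)
  have hopen : IsOpen ({e} : Set A.left) := hrange ▸ (1 : A ⟶ A).left.isOpenMap.isOpen_range
  have hclosed : IsClosed ({e} : Set A.left) := by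
    haveI : IsClosedImmersion (η[A]).left := isClosedImmersion_of_comp_eq_id _ _ (Over.w η[A])
    have hr : Set.range (η[A]).left = {e} :=
      Set.Subset.antisymm (by rintro _ ⟨t, rfl⟩; exact congrArg (η[A]).left (Subsingleton.elim _ _))
        (by rintro _ rfl; exact ⟨_, rfl⟩)
    exact hr ▸ (η[A]).left.isClosedEmbedding.isClosed_range
  haveI : IsIntegral A.left := GeometricallyIntegral.isIntegral_of_subsingleton A.hom
  have huniv : ({e} : Set A.left) = Set.univ := IsClopen.eq_univ ⟨hclosed, hopen⟩ ⟨e, rfl⟩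
  haveI : Subsingleton A.left := Set.subsingleton_univ_iff.1 (huniv ▸ Set.subsingleton_singleton)
  haveI : Subsingleton (IrreducibleCloseds A.left) := ⟨fun a b => IrreducibleCloseds.ext (by
    rw [Subsingleton.eq_univ_of_nonempty a.isIrreducible.nonempty, Subsingleton.eq_univ_of_nonempty b.isIrreducible.nonempty])⟩
  have : topologicalKrullDim A.left ≤ 0 := Order.krullDim_nonpos_of_subsingleton
  rw [hg] at this
  exact absurd this (by simpa using hg0.ne')

end Groth.Agent.H25AbCube
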