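import Groth.Agent.H19Grp.SchemImage
import Groth.Agent.H19Grp.ImageGroup
import Groth.Agent.H19Grp.AffineQuotient
import Groth.Agent.H19Grp.GeomConnected
import Groth.Agent.H28NT.GoodReduction
import Groth.Agent.H25AbCube.TorsionStr
import Groth.Agent.H25AbCube.HomFG
import Groth.Agent.H25Cut
import Groth.Agent.H25Rig.GroupMaps
import Groth.Agent.H25Grp.Isogeny
import Groth.Agent.H8Props.FieldDimEquidim

/-!
# Images of abelian varieties in commutative group schemes and the largest one
-/

set_option autoImplicit false
set_option linter.style.haveILetI false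
set_option linter.unusedSectionVars false
set_option backward.isDefEq.respectTransparency false
universe u

open CategoryTheory CategoryTheory.Limits MonoidalCategory CartesianMonoidalCategory MonObj AlgebraicGeometry
open Groth.Agent Groth.Agent.H8Props.FieldDim

noncomputable section

namespace Groth.Agent.H25AbCube

variable {k : Type u} [Field k]

/-- A connected geometrically reduced proper group scheme over a field is geometrically integral. -/
theorem geometricallyIntegral_of_connected (A : Over (Spec (CommRingCat.of k))) [GrpObj A] [IsProper A.hom]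
    [GeometricallyReduced A.hom] [ConnectedSpace ↥A.left] : GeometricallyIntegral A.hom := by
  haveI : GeometricallyConnected A.hom :=
    H28NT.geometricallyConnected_of_section A.hom η[A].left (Over.w η[A])
  haveI : GrpObj (Over.mk A.hom) := inferInstanceAs (GrpObj A)
  haveI : Smooth A.hom := smooth_of_grpObj A.hom
  exact geometricallyIntegral_of_smooth A

variable {G : Over (Spec (CommRingCat.of k))} [GrpObj G] [LocallyOfFiniteType G.hom]

/-- The image of an abelian variety is an abelian variety. -/
theorem exists_abelian_image {A : Over (Spec (CommRingCat.of k))} [GrpObj A] [IsProper A.hom]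
    [GeometricallyIntegral A.hom] (f : A ⟶ G) [IsMonHom f] :
    ∃ (M : Over (Spec (CommRingCat.of k))) (_ : GrpObj M) (i : M ⟶ G) (g : A ⟶ M), IsMonHom i ∧
      IsClosedImmersion i.left ∧ IsProper M.hom ∧ GeometricallyIntegral M.hom ∧ g ≫ i = f ∧ IsMonHom g ∧
      Surjective g.left := by
  haveI : IsSeparated G.hom := H19Grp.AffineQuotient.isSeparated_of_grp G
  haveI : IsProper f.left := by
    haveI : IsProper (f.left ≫ G.hom) := by rw [Over.w f]; infer_instance
    exact IsProper.of_comp f.left G.hom
  obtain ⟨M, gM, i, g, hi, hg, hfac, hic, hdom, hqc⟩ := H19Grp.exists_schemImage f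
  haveI := hi; haveI := hg; haveI := hic; haveI := hdom; haveI := hqc
  haveI : IsProper g.left := by
    haveI : IsProper (g.left ≫ i.left) := by rw [← Over.comp_left, hfac]; infer_instance
    exact IsProper.of_comp g.left i.left
  haveI : Surjective g.left := ⟨fun x => by
    have h : IsClosed (Set.range g.left) := g.left.isClosedMap.isClosed_range
    have h2 := g.left.denseRange.closure_range
    rw [h.closure_eq] at h2
    exact h2.symm.subset (Set.mem_univ x)⟩
  haveI : IsSeparated M.hom := H19Grp.AffineQuotient.isSeparated_of_grp M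
  haveI : LocallyOfFiniteType M.hom := by rw [← Over.w i]; infer_instance
  haveI : IsProper M.hom := by
    haveI : UniversallyClosed (g.left ≫ M.hom) := by rw [Over.w g]; infer_instance
    haveI : UniversallyClosed M.hom := UniversallyClosed.of_comp_surjective g.left M.hom
    exact {}
  haveI : GeometricallyReduced (g.left ≫ M.hom) := by rw [Over.w g]; infer_instance
  haveI : GeometricallyReduced M.hom := H19Grp.geometricallyReduced_of_schDominant g.left M.hom
  haveI : IsIntegral A.left := GeometricallyIntegral.isIntegral_of_subsingleton A.hom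
  haveI : ConnectedSpace ↥M.left := g.left.surjective.connectedSpace g.left.continuous
  exact ⟨M, gM, i, g, hi, hic, inferInstance, geometricallyIntegral_of_connected M, hfac, hg, inferInstance⟩

/-- The dimension of an abelian subscheme is bounded by the local dimension at the origin. -/
theorem dim_le_localDim {M : Over (Spec (CommRingCat.of k))} [GrpObj M] [IsProper M.hom]
    [GeometricallyIntegral M.hom] (i : M ⟶ G) [IsMonHom i] [IsClosedImmersion i.left] :
    topologicalKrullDim M.left ≤ FlatMor.localDim G.left (η[G].left (IsLocalRing.closedPoint k)) := by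
  haveI : IsIntegral M.left := GeometricallyIntegral.isIntegral_of_subsingleton M.hom
  have he : i.left (η[M].left (IsLocalRing.closedPoint k)) = η[G].left (IsLocalRing.closedPoint k) := by
    rw [← Scheme.Hom.comp_apply, ← Over.comp_left, IsMonHom.one_hom i]
  rw [← localDim_eq_dim_of_irreducible M.hom (η[M].left (IsLocalRing.closedPoint k)), localDim_eq M.hom,
    localDim_eq G.hom, ← he]
  refine iSup_le fun z => ?_
  rw [← H25Cut.cdim_of_isImmersion G.hom i.left z.1]
  exact le_iSup (fun w : {w : G.left // w ⤳ _} => cdim w.1) ⟨i.left z.1, z.2.map i.left.continuous⟩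

theorem isIso_of_dim_eq {M N : Over (Spec (CommRingCat.of k))} [GrpObj M] [IsProper M.hom]
    [GeometricallyIntegral M.hom] [GrpObj N] [IsProper N.hom] [GeometricallyIntegral N.hom] (m : M ⟶ N)
    [IsClosedImmersion m.left] {d : ℕ} (hM : topologicalKrullDim M.left = d) (hN : topologicalKrullDim N.left = d) :
    IsIso m := by
  haveI : IsIntegral M.left := GeometricallyIntegral.isIntegral_of_subsingleton M.hom
  haveI : IsIntegral N.left := GeometricallyIntegral.isIntegral_of_subsingleton N.hom
  haveI : Surjective m.left := H25Grp.surjective_of_finite M.hom N.hom m.left (hM.trans hN.symm)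
  haveI : IsIso m.left := isIso_of_isClosedImmersion_of_surjective m.left
  haveI : IsIso ((Over.forget _).map m) := by assumption
  exact isIso_of_reflects_iso m (Over.forget _)

/-- The largest abelian subscheme of a commutative group scheme. -/
theorem exists_maximal_abelian [IsCommMonObj G] :
    ∃ (M : Over (Spec (CommRingCat.of k))) (_ : GrpObj M) (i : M ⟶ G), IsMonHom i ∧ IsClosedImmersion i.left ∧
      IsProper M.hom ∧ GeometricallyIntegral M.hom ∧
      ∀ (A : Over (Spec (CommRingCat.of k))) [GrpObj A] [IsProper A.hom] [GeometricallyIntegral A.hom]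
        (φ : A ⟶ G), IsMonHom φ → ∃ ψ : A ⟶ M, ψ ≫ i = φ := by
  classical
  let S : Set ℕ := {d | ∃ (M : Over (Spec (CommRingCat.of k))) (_ : GrpObj M) (i : M ⟶ G), IsMonHom i ∧
    IsClosedImmersion i.left ∧ IsProper M.hom ∧ GeometricallyIntegral M.hom ∧ topologicalKrullDim M.left = d}
  obtain ⟨b, hb⟩ := exists_nat_localDim G.hom (η[G].left (IsLocalRing.closedPoint k))
  have hS : BddAbove S := ⟨b, fun d ⟨M, _, i, h1, h2, h3, h4, h5⟩ => by
    haveI := h1; haveI := h2; haveI := h3; haveI := h4
    have h := dim_le_localDim i
    rw [h5, hb] at h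
    exact_mod_cast h⟩
  have hne : S.Nonempty := by
    let P : Over (Spec (CommRingCat.of k)) := 𝟙_ _
    haveI : IsProper P.hom := inferInstanceAs (IsProper (𝟙 (Spec (CommRingCat.of k))))
    haveI : GeometricallyIntegral P.hom :=
      ⟨fun K _ y Z fst snd h => by
        haveI : IsIso snd := MorphismProperty.of_isPullback h (inferInstance : IsIso (𝟙 (Spec (CommRingCat.of k))))
        haveI : Surjective snd := inferInstance
        haveI : Nonempty Z := by
          obtain ⟨z, -⟩ := snd.surjective (Classical.arbitrary _)
          exact ⟨z⟩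
        exact isIntegral_of_isOpenImmersion snd⟩
    obtain ⟨M, gM, i, g, h1, h2, h3, h4, -, -, -⟩ := (haveI : IsMonHom (η[G] : P ⟶ G) := inferInstance; exists_abelian_image (η[G] : P ⟶ G))
    haveI := h4
    haveI : IsIntegral M.left := GeometricallyIntegral.isIntegral_of_subsingleton M.hom
    obtain ⟨d, hd⟩ := H25Grp.exists_nat_dim M.hom
    exact ⟨d, M, gM, i, h1, h2, h3, h4, hd⟩
  obtain ⟨M, gM, i, h1, h2, h3, h4, h5⟩ := Nat.sSup_mem hne hS
  haveI := h1; haveI := h2; haveI := h3; haveI := h4
  refine ⟨M, gM, i, h1, h2, h3, h4, fun A _ _ _ φ hφ => ?_⟩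
  haveI := hφ
  haveI : IsProper (M ⊗ A).hom := inferInstanceAs (IsProper (pullback.fst M.hom A.hom ≫ M.hom))
  haveI : GeometricallyIntegral (M ⊗ A).hom := H25Rig.geometricallyIntegral_tensor M A
  let f : M ⊗ A ⟶ G := (fst M A ≫ i) * (snd M A ≫ φ)
  haveI : IsMonHom f := by
    haveI : IsMonHom (fst M A ≫ i) := inferInstance
    haveI : IsMonHom (snd M A ≫ φ) := inferInstance
    rw [show f = lift (fst M A ≫ i) (snd M A ≫ φ) ≫ μ[G] from rfl]
    infer_instance
  obtain ⟨N, gN, j, g, hj, hjc, hN1, hN2, hfac, hg, -⟩ := exists_abelian_image f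
  haveI := hj; haveI := hjc; haveI := hN1; haveI := hN2; haveI := hg
  haveI : Mono j := Over.mono_of_mono_left j
  let m : M ⟶ N := lift (𝟙 M) (1 : M ⟶ A) ≫ g
  have hm : m ≫ j = i := by
    simp only [m, Category.assoc, hfac, f, MonObj.comp_mul, lift_fst_assoc, lift_snd_assoc, Category.id_comp,
      MonObj.one_comp, _root_.mul_one]
  haveI : IsClosedImmersion m.left := by
    haveI : IsClosedImmersion (m.left ≫ j.left) := by rw [← Over.comp_left, hm]; infer_instance
    exact IsClosedImmersion.of_comp m.left j.left
  haveI : IsIntegral M.left := GeometricallyIntegral.isIntegral_of_subsingleton M.hom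
  haveI : IsIntegral N.left := GeometricallyIntegral.isIntegral_of_subsingleton N.hom
  obtain ⟨d, hd⟩ := H25Grp.exists_nat_dim N.hom
  have hdle : d ≤ sSup S := le_csSup hS ⟨N, gN, j, hj, hjc, hN1, hN2, hd⟩
  have hled : sSup S ≤ d := by
    have h := m.left.isClosedEmbedding.isInducing.topologicalKrullDim_le
    rw [h5, hd] at h
    exact_mod_cast h
  haveI : IsIso m := isIso_of_dim_eq m h5 (hd.trans (by rw [le_antisymm hdle hled]))
  refine ⟨lift (1 : A ⟶ M) (𝟙 A) ≫ g ≫ inv m, ?_⟩
  rw [← hm]
  simp only [Category.assoc, IsIso.inv_hom_id_assoc, hfac, f, MonObj.comp_mul, lift_fst_assoc, lift_snd_assoc,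
    Category.id_comp, MonObj.one_comp, _root_.one_mul]

end Groth.Agent.H25AbCube
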