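import Groth.Agent.H25AbCube.Basic

/-!
# The cube relation for three maps into an abelian variety
-/

set_option autoImplicit false
set_option linter.style.haveILetI false
universe u

open CategoryTheory CategoryTheory.Limits MonoidalCategory CartesianMonoidalCategory MonObj AlgebraicGeometry
open Groth.Agent

noncomputable section

namespace Groth.Agent.H25AbCube

/-- A geometrically irreducible morphism is geometrically connected. -/
theorem geometricallyConnected_of_irreducible {X Y : Scheme.{u}} (f : X ⟶ Y) [GeometricallyIrreducible f] :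
    GeometricallyConnected f := by
  refine ⟨fun K _ b s fst snd h => ?_⟩
  haveI : IrreducibleSpace s := GeometricallyIrreducible.geometrically_irreducibleSpace (f := f) _ _ _ h
  infer_instance

variable {k : Type u} [Field k] {A : Over (Spec (CommRingCat.of k))} [GrpObj A] [IsProper A.hom]
  [GeometricallyIntegral A.hom]

/-- The cube relation for three maps into an abelian variety. -/
theorem three (L : PC A.left) {T : Over (Spec (CommRingCat.of k))} (f g h : T ⟶ A) :
    ev L (f * g * h) + ev L f + ev L g + ev L h = ev L (f * g) + ev L (f * h) + ev L (g * h) := by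
  let μ₃ : A ⊗ A ⊗ A ⟶ A := fst A (A ⊗ A) * (snd A (A ⊗ A) ≫ fst A A) * (snd A (A ⊗ A) ≫ snd A A)
  have h3 : ∀ a b c : T ⟶ A, ev3 (ev L μ₃) a b c = ev L (a * b * c) := by
    intro a b c
    simp only [ev3, ev_comp, μ₃, MonObj.comp_mul, lift_fst, lift_snd_assoc, lift_snd]
  haveI := geometricallyConnected_of_irreducible A.hom
  have hc := alt_eq_zero A A A η[A] η[A] η[A] (ev L μ₃) f (toUnit T ≫ η[A]) g (toUnit T ≫ η[A]) h (toUnit T ≫ η[A])
  simp only [alt, h3] at hc
  have e1 : (toUnit T ≫ η[A] : T ⟶ A) = 1 := (MonObj.one_eq_one (M := A) ▸ MonObj.comp_one _)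
  rw [e1] at hc
  simp only [_root_.one_mul, _root_.mul_one] at hc
  have e0 : ev L (1 : T ⟶ A) = 0 := by rw [← e1]; exact ev_toUnit L _
  rw [e0] at hc
  rw [← sub_eq_zero]
  exact Eq.trans (by abel) hc

end Groth.Agent.H25AbCube
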