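import Groth.Agent.S12398
import Mathlib.RingTheory.Polynomial.ScaleRoots
import Mathlib.RingTheory.Polynomial.IsIntegral

/-!
# The characteristic polynomial of an endomorphism has integer coefficients and is that of the Tate module
-/

set_option autoImplicit false
set_option linter.style.haveILetI false
set_option backward.isDefEq.respectTransparency false
set_option synthInstance.maxHeartbeats 200000
set_option maxHeartbeats 1000000
universe u

open CategoryTheory CategoryTheory.Limits MonoidalCategory CartesianMonoidalCategory MonObj GrpObj AlgebraicGeometry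
  TopologicalSpace
open Groth.Agent

noncomputable section

namespace Groth.Agent.H25AbCube

open Polynomial in
/-- A monic divisor of a power of an integer polynomial has integer coefficients. -/
theorem exists_int_lift {R : ℚ[X]} (hR : R.Monic) {m : ℤ[X]} (hm : m.Monic) {n : ℕ}
    (h : R ∣ (m.map (Int.castRingHom ℚ)) ^ n) : ∃ P : ℤ[X], P.Monic ∧ P.map (Int.castRingHom ℚ) = R := by
  rw [← Polynomial.map_pow] at h
  obtain ⟨P, hP⟩ := IsIntegrallyClosed.eq_map_mul_C_of_dvd ℚ (hm.pow n) (g := R) h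
  rw [hR.leadingCoeff, C_1, _root_.mul_one] at hP
  exact ⟨P, monic_of_injective (f := Int.castRingHom ℚ) Int.cast_injective (hP ▸ hR), hP⟩

open Polynomial in
/-- A characteristic polynomial divides a power of every polynomial killing the matrix. -/
theorem charpoly_dvd_pow {K : Type*} [Field K] {d : ℕ} (T : Matrix (Fin d) (Fin d) K) {m : K[X]} (hm : m ≠ 0)
    (h : aeval T m = 0) : T.charpoly ∣ m ^ d := by
  classical
  let Ω := AlgebraicClosure K
  refine (map_dvd_map' (algebraMap K Ω)).1 ?_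
  rw [Polynomial.map_pow, ← Matrix.charpoly_map]
  let T' := T.map (algebraMap K Ω)
  have hT' : aeval T' (m.map (algebraMap K Ω)) = 0 := by
    rw [aeval_map_algebraMap]
    have := aeval_algHom_apply ((Algebra.ofId K Ω).mapMatrix (m := Fin d)) T m
    rw [h, map_zero] at this
    exact this
  refine (Splits.dvd_iff_roots_le_roots (IsAlgClosed.splits _) (Matrix.charpoly_monic T').ne_zero
    (pow_ne_zero _ (Polynomial.map_ne_zero hm))).2 ?_
  rw [roots_pow]
  refine Multiset.le_iff_count.2 fun a => ?_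
  rw [Multiset.count_nsmul]
  rcases Nat.eq_zero_or_pos (T'.charpoly.roots.count a) with h0 | hpos
  · rw [h0]; exact Nat.zero_le _
  have ha : (m.map (algebraMap K Ω)).IsRoot a := by
    by_contra hne
    have hev : Module.End.HasEigenvalue (Matrix.toLin' T') a := by
      rw [Module.End.hasEigenvalue_iff_isRoot_charpoly, Matrix.charpoly_toLin']
      exact isRoot_of_mem_roots (Multiset.count_pos.1 hpos)
    obtain ⟨v, hv⟩ := hev.exists_hasEigenvector
    have h1 := Module.End.aeval_apply_of_hasEigenvector (p := m.map (algebraMap K Ω)) hv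
    have h2 : aeval (Matrix.toLin' T') (m.map (algebraMap K Ω)) = 0 := by
      have := aeval_algHom_apply (Matrix.toLinAlgEquiv' (R := Ω) (n := Fin d)).toAlgHom T' (m.map (algebraMap K Ω))
      rw [hT', map_zero] at this
      exact this
    rw [h2, LinearMap.zero_apply] at h1
    exact (smul_ne_zero hne hv.2) h1.symm
  have hle : T'.charpoly.roots.count a ≤ d :=
    (Multiset.count_le_card _ _).trans ((card_roots' _).trans (by simp))
  refine hle.trans (Nat.le_mul_of_pos_right d ?_)
  exact Multiset.count_pos.2 (mem_roots'.2 ⟨Polynomial.map_ne_zero hm, ha⟩)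

theorem exists_prime_ne (k : Type u) [Field k] : ∃ l : ℕ, l.Prime ∧ (l : k) ≠ 0 := by
  by_cases h : ((2 : ℕ) : k) = 0
  · refine ⟨3, Nat.prime_three, fun h3 => one_ne_zero (α := k) ?_⟩
    have : (1 : k) = ((3 : ℕ) : k) - ((2 : ℕ) : k) := by norm_num
    rw [this, h, h3, sub_zero]
  · exact ⟨2, Nat.prime_two, h⟩

variable {k : Type u} [Field k] [IsAlgClosed k] {A : Over (Spec (CommRingCat.of k))} [GrpObj A] [IsProper A.hom]
  [GeometricallyIntegral A.hom] [IsCommMonObj A]

open Polynomial in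
/-- The degree polynomial, with rational coefficients, is the characteristic polynomial on the Tate modules. -/
theorem exists_charpoly_rat {g : ℕ} (hg : topologicalKrullDim A.left = g) (α : EndAV.End A) :
    ∃ R : ℚ[X], R.Monic ∧ R.natDegree = 2 * g ∧
      (∀ n : ℤ, (degree (α - (n : EndAV.End A)).toHom : ℚ) = R.eval (n : ℚ)) ∧
      ∀ (l : ℕ) [Fact l.Prime], (l : k) ≠ 0 → ∀ b : Module.Basis (Fin (2 * g)) ℤ_[l] (AbDual.TateMod A l (pt1 k)),
        ((LinearMap.toMatrix b b (trep l α)).map (PadicInt.Coe.ringHom : ℤ_[l] →+* ℚ_[l])).charpoly =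
          R.map (algebraMap ℚ ℚ_[l]) := by
  classical
  haveI : ∀ i, IsMonHom (![α.toHom, 𝟙 A] i) := fun i => by
    fin_cases i <;> (first | exact (inferInstance : IsMonHom α.toHom) | exact (inferInstanceAs (IsMonHom (𝟙 A))))
  obtain ⟨H, hH, hHe⟩ := exists_degree_form (A := A) (B := A) hg hg ![α.toHom, 𝟙 A]
  have hHe' : ∀ c n : ℤ, (degree ((c : EndAV.End A) * α - (n : EndAV.End A)).toHom : ℚ) =
      MvPolynomial.eval ![(c : ℚ), -(n : ℚ)] H := by
    intro c n
    have e := hHe ![c, -n]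
    rw [Fin.prod_univ_two] at e
    simp only [Matrix.cons_val_zero, Matrix.cons_val_one] at e
    rw [show (fun i => ((![c, -n] i : ℤ) : ℚ)) = ![(c : ℚ), -(n : ℚ)] from funext fun i => by fin_cases i <;> simp] at e
    rw [← e]
    refine congrArg (fun z : A ⟶ A => (degree z : ℚ)) ?_
    rw [← zsmul_eq_mul, EndAV.End.toHom_sub, EndAV.End.toHom_zsmul, EndAV.End.toHom_intCast, div_eq_mul_inv,
      zpow_neg]
  obtain ⟨R₀, hR₀, hR₀deg, hR₀e⟩ := Groth.Agent.S12010.result k A g hg α.toHom
  let R : ℚ[X] := R₀.comp (-X)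
  have hRm : R.Monic := by
    simp only [R]
    rw [Polynomial.Monic, leadingCoeff_comp (by simp), leadingCoeff_neg, leadingCoeff_X, hR₀.leadingCoeff, hR₀deg,
      pow_mul, neg_one_sq, one_pow, _root_.one_mul]
  have hRdeg : R.natDegree = 2 * g := by
    simp only [R]
    rw [natDegree_comp, natDegree_neg, natDegree_X, _root_.mul_one, hR₀deg]
  have hRe : ∀ n : ℤ, (degree (α - (n : EndAV.End A)).toHom : ℚ) = R.eval (n : ℚ) := by
    intro n
    have e : (α - (n : EndAV.End A)).toHom = α.toHom * 𝟙 A ^ (-n) := by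
      rw [EndAV.End.toHom_sub, EndAV.End.toHom_intCast, div_eq_mul_inv, zpow_neg]
    simp only [R]
    rw [eval_comp, eval_neg, eval_X, e, ← Int.cast_neg]
    haveI : IsMonHom (α.toHom * 𝟙 A ^ (-n)) := e ▸ (inferInstance : IsMonHom (α - (n : EndAV.End A)).toHom)
    by_cases hf : IsFinite (α.toHom * 𝟙 A ^ (-n)).left
    · haveI := hf
      haveI : IsIntegral A.left := GeometricallyIntegral.isIntegral_of_subsingleton A.hom
      rw [← (hR₀e (-n)).1 hf (genericPoint A.left), finrank_eq_degree _ hg hg]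
    · rw [(hR₀e (-n)).2 hf, degree_of_not_finite _ hf]; simp
  -- homogeneity
  have hres : aeval (1 : ℚ[X]) (1 : ℚ[X]) = 1 ∧ ∀ t : ℚ, MvPolynomial.eval ![1, -t] H = R.eval t := by
    refine ⟨map_one _, fun t => ?_⟩
    have e : MvPolynomial.aeval ![(1 : ℚ[X]), -X] H = R := eq_of_infinite_eval_eq _ _
      (Set.Infinite.mono (by
        rintro _ ⟨n, rfl⟩
        show Polynomial.eval ((n : ℤ) : ℚ) _ = R.eval ((n : ℤ) : ℚ)
        rw [← hRe, ← coe_evalRingHom, ← _root_.one_mul α, ← Int.cast_one (R := EndAV.End A), hHe', MvPolynomial.map_aeval]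
        refine congrFun (congrArg DFunLike.coe (MvPolynomial.ringHom_ext (fun q => ?_) fun i => ?_)) H
        · simp
        · fin_cases i <;> simp)
        (Set.infinite_range_of_injective (f := fun m : ℤ => (m : ℚ)) Int.cast_injective))
    rw [← e, ← coe_evalRingHom, MvPolynomial.map_aeval]
    refine congrFun (congrArg DFunLike.coe (MvPolynomial.ringHom_ext (fun q => ?_) fun i => ?_)) H
    · simp
    · fin_cases i <;> simp
  let c : ℕ := ∏ i ∈ Finset.range (2 * g), (R.coeff i).den
  have hc : 0 < c := Finset.prod_pos fun i _ => Rat.den_pos _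
  have hcq : (c : ℚ) ≠ 0 := Nat.cast_ne_zero.2 hc.ne'
  have hscale : ∀ n : ℤ, (degree (((c : ℤ) : EndAV.End A) * α - (n : EndAV.End A)).toHom : ℚ) =
      (scaleRoots R (c : ℚ)).eval (n : ℚ) := by
    intro n
    rw [hHe']
    have hhom : MvPolynomial.eval ![((c : ℤ) : ℚ), -(n : ℚ)] H =
        (c : ℚ) ^ (2 * g) * MvPolynomial.eval ![1, -((n : ℚ) / c)] H := by
      have h1 := H25Euler.eval_lineRes ![1, -((n : ℚ) / c)] H (c : ℚ)
      rw [H25Euler.lineRes_of_isHomogeneous _ hH, eval_monomial] at h1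
      rw [_root_.mul_comm, h1]
      refine congrArg (fun w => MvPolynomial.eval w H) (funext fun i => ?_)
      fin_cases i
      · simp
      · simp [div_mul_cancel₀ _ hcq]
    rw [hhom, hres.2]
    have h2 := scaleRoots_eval₂_mul (p := R) (RingHom.id ℚ) ((n : ℚ) / c) (c : ℚ)
    simp only [RingHom.id_apply, eval₂_id, hRdeg] at h2
    rw [mul_div_cancel₀ _ hcq] at h2
    exact h2.symm
  obtain ⟨P, hP, hPdeg, hPm⟩ := lifts_and_natDegree_eq_and_monic (f := Int.castRingHom ℚ) (p := scaleRoots R (c : ℚ))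
    ((lifts_iff_coeff_lifts _).2 fun i => by
      rw [coeff_scaleRoots, hRdeg]
      rcases lt_trichotomy i (2 * g) with hi | rfl | hi
      · obtain ⟨e, he⟩ : (R.coeff i).den ∣ c := Finset.dvd_prod_of_mem _ (Finset.mem_range.2 hi)
        refine ⟨(R.coeff i).num * e * (c : ℤ) ^ (2 * g - i - 1), ?_⟩
        rw [eq_intCast, show 2 * g - i = (2 * g - i - 1) + 1 by omega, pow_succ]
        push_cast
        rw [← Rat.mul_den_eq_num, he, Nat.cast_mul]
        ring
      · refine ⟨1, ?_⟩
        rw [map_one, Nat.sub_self, pow_zero, _root_.mul_one, ← hRdeg, hRm.coeff_natDegree]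
      · exact ⟨0, by rw [map_zero, coeff_eq_zero_of_natDegree_lt (hRdeg ▸ hi), zero_mul]⟩)
    ((monic_scaleRoots_iff _).2 hRm)
  refine ⟨R, hRm, hRdeg, hRe, fun l _ hl b => ?_⟩
  haveI : Module.Free ℤ_[l] (AbDual.TateMod A l (pt1 k)) := Module.Free.of_basis b
  haveI : Module.Finite ℤ_[l] (AbDual.TateMod A l (pt1 k)) := Module.Finite.of_basis b
  let β : EndAV.End A := ((c : ℤ) : EndAV.End A) * α
  have key := Groth.Agent.S12398.result k l hl A β.toHom P fun n => by
    have e : β.toHom * 𝟙 A ^ (-n) = (β - (n : EndAV.End A)).toHom := by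
      rw [EndAV.End.toHom_sub, EndAV.End.toHom_intCast, div_eq_mul_inv, zpow_neg]
    have hv : ((P.eval n : ℤ) : ℚ) = degree (β - (n : EndAV.End A)).toHom := by
      rw [hscale, ← hP, eval_intCast_map]; rfl
    rw [e]
    refine ⟨fun hf a => ?_, fun hf => ?_⟩
    · haveI := hf
      rw [finrank_eq_degree _ hg hg]
      exact_mod_cast hv.symm
    · rw [degree_of_not_finite _ hf, Nat.cast_zero] at hv
      exact_mod_cast hv
  let q : ℤ_[l] →+* ℚ_[l] := PadicInt.Coe.ringHom
  let M := (LinearMap.toMatrix b b (trep l α)).map q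
  have hM : ((c : ℚ_[l]) • M).charpoly = (scaleRoots R (c : ℚ)).map (algebraMap ℚ ℚ_[l]) := by
    have e : (LinearMap.toMatrix b b (AbDual.tateMapₗ (l := l) (T := pt1 k) β.toHom)).map q = (c : ℚ_[l]) • M := by
      have h0 : AbDual.tateMapₗ (l := l) (T := pt1 k) β.toHom = (c : ℤ_[l]) • trep l α := by
        show trep l β = _
        rw [map_mul, map_intCast, ← zsmul_eq_mul, natCast_zsmul, ← Nat.cast_smul_eq_nsmul ℤ_[l]]
      rw [h0, map_smul]
      ext i j
      simp [M, q]
    rw [← e, Matrix.charpoly_map, LinearMap.charpoly_toMatrix, key, Polynomial.map_map, ← hP, Polynomial.map_map]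
    exact congrArg (fun f => P.map f) (RingHom.ext_int _ _)
  have hcl : (c : ℚ_[l]) ≠ 0 := Nat.cast_ne_zero.2 hc.ne'
  refine Polynomial.funext fun x => mul_left_cancel₀ (pow_ne_zero (2 * g) hcl) ?_
  show (c : ℚ_[l]) ^ (2 * g) * M.charpoly.eval x = _
  have h3 := congrArg (Polynomial.eval ((c : ℚ_[l]) * x)) hM
  rw [map_scaleRoots _ _ _ (by rw [hRm.leadingCoeff, map_one]; exact one_ne_zero), map_natCast] at h3
  have h4 := scaleRoots_eval₂_mul (p := R.map (algebraMap ℚ ℚ_[l])) (RingHom.id ℚ_[l]) x (c : ℚ_[l])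
  simp only [RingHom.id_apply, eval₂_id, hRm.natDegree_map, hRdeg] at h4
  rw [h4] at h3
  rw [← h3, Matrix.eval_charpoly, Matrix.eval_charpoly]
  rw [show Matrix.scalar (Fin (2 * g)) ((c : ℚ_[l]) * x) - (c : ℚ_[l]) • M =
    (c : ℚ_[l]) • (Matrix.scalar (Fin (2 * g)) x - M) by
      ext i j; rcases eq_or_ne i j with rfl | h <;> simp [*, mul_sub],
    Matrix.det_smul, Fintype.card_fin]

open Polynomial in
/-- The characteristic polynomial of an endomorphism. -/
theorem exists_charpoly {g : ℕ} (hg : topologicalKrullDim A.left = g) (α : EndAV.End A) :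
    ∃ P : ℤ[X], P.Monic ∧ P.natDegree = 2 * g ∧
      (∀ n : ℤ, (degree (α - (n : EndAV.End A)).toHom : ℤ) = P.eval n) ∧
      ∀ (l : ℕ) [Fact l.Prime], (l : k) ≠ 0 → ∀ [Module.Free ℤ_[l] (AbDual.TateMod A l (pt1 k))]
        [Module.Finite ℤ_[l] (AbDual.TateMod A l (pt1 k))],
          (trep l α).charpoly = P.map (Int.castRingHom ℤ_[l]) := by
  classical
  obtain ⟨R, hRm, hRdeg, hRe, hRl⟩ := exists_charpoly_rat hg α
  obtain ⟨m, hm, hm0⟩ : _root_.IsIntegral ℤ α := by
    haveI := moduleFinite_end (A := A)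
    exact Algebra.IsIntegral.isIntegral α
  rw [← aeval_def] at hm0
  obtain ⟨l₀, hl₀, hlk⟩ := exists_prime_ne k
  haveI : Fact l₀.Prime := ⟨hl₀⟩
  obtain ⟨b⟩ := exists_tateBasis (A := A) l₀ hlk g hg
  let q : ℤ_[l₀] →+* ℚ_[l₀] := PadicInt.Coe.ringHom
  let M := (LinearMap.toMatrix b b (trep l₀ α)).map q
  have hkill : aeval M (m.map (Int.castRingHom ℚ_[l₀])) = 0 := by
    let Φ : EndAV.End A →+* Matrix (Fin (2 * g)) (Fin (2 * g)) ℚ_[l₀] :=
      (q.mapMatrix.comp (LinearMap.toMatrixAlgEquiv b).toRingEquiv.toRingHom).comp (trep l₀)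
    have h1 := congrArg Φ hm0
    rw [aeval_def, hom_eval₂, map_zero] at h1
    rw [aeval_def, eval₂_map]
    convert h1 using 2
    all_goals first
      | rfl
      | exact RingHom.ext fun n => by simp
  have hdvd : R ∣ (m.map (Int.castRingHom ℚ)) ^ (2 * g) := by
    refine (map_dvd_map' (algebraMap ℚ ℚ_[l₀])).1 ?_
    rw [← hRl l₀ hlk b, Polynomial.map_pow, Polynomial.map_map,
      show (algebraMap ℚ ℚ_[l₀]).comp (Int.castRingHom ℚ) = Int.castRingHom ℚ_[l₀] from RingHom.ext_int _ _]
    exact charpoly_dvd_pow M (hm.map _).ne_zero hkill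
  obtain ⟨P, hP, hPR⟩ := exists_int_lift hRm hm hdvd
  refine ⟨P, hP, by rw [← hRdeg, ← hPR, hP.natDegree_map], fun n => ?_, fun l _ hl _ _ => ?_⟩
  · have := hRe n
    rw [← hPR, eval_intCast_map] at this
    exact Int.cast_injective (α := ℚ) (by rw [Int.cast_natCast, this]; rfl)
  · obtain ⟨bl⟩ := exists_tateBasis (A := A) l hl g hg
    refine map_injective (PadicInt.Coe.ringHom : ℤ_[l] →+* ℚ_[l]) Subtype.val_injective ?_
    rw [← LinearMap.charpoly_toMatrix (trep l α) bl, ← Matrix.charpoly_map, hRl l hl bl, ← hPR, Polynomial.map_map,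
      Polynomial.map_map]
    exact congrArg (fun f => P.map f) (RingHom.ext_int _ _)

end Groth.Agent.H25AbCube
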