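import Groth.Agent.H25AbCube.TopDeg
import Groth.Agent.H25AbCube.PoincareSplit
import Groth.Agent.H25AbCube.Nondegenerate
import Groth.Agent.H25AbCube.CharPoly

/-!
# Homomorphisms adjoint for an ample class have the same degree
-/

set_option autoImplicit false
set_option linter.style.haveILetI false
set_option linter.unusedSectionVars false
set_option backward.isDefEq.respectTransparency false
set_option synthInstance.maxHeartbeats 400000
set_option maxHeartbeats 1000000
universe u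

open CategoryTheory CategoryTheory.Limits MonoidalCategory CartesianMonoidalCategory MonObj GrpObj AlgebraicGeometry
  TopologicalSpace MvPolynomial
open Groth.Agent

noncomputable section

namespace Groth.Agent.H25AbCube

attribute [local instance] overOf

variable {k : Type u} [Field k] {A : Over (Spec (CommRingCat.of k))} [GrpObj A] [IsProper A.hom]
  [GeometricallyIntegral A.hom] [IsCommMonObj A]

/-- The two pullbacks of a class to the square. -/
def prA (s : PC A.left) : Fin 2 → PC (A ⊗ A).left := ![ev s (fst A A), ev s (snd A A)]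

theorem isMonHom_sq (f h : A ⊗ A ⟶ A) [IsMonHom f] [IsMonHom h] :
    haveI : GeometricallyIntegral (A ⊗ A).hom := H25Rig.geometricallyIntegral_tensor A A
    IsMonHom (lift f h) := by
  haveI : GeometricallyIntegral (A ⊗ A).hom := H25Rig.geometricallyIntegral_tensor A A
  refine H25Rig.isMonHom_of_one_hom _ (CartesianMonoidalCategory.hom_ext _ _ ?_ ?_)
  · rw [Category.assoc, lift_fst, IsMonHom.one_hom (f := fst A A), IsMonHom.one_hom (f := f)]
  · rw [Category.assoc, lift_snd, IsMonHom.one_hom (f := snd A A), IsMonHom.one_hom (f := h)]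

theorem ev_pow_symm (s : PC A.left) (hs : ev s ((𝟙 A)⁻¹) = s) (a : ℕ) : ev s ((𝟙 A) ^ a) = (a ^ 2) • s := by
  rw [ev_pow, hs, ← two_nsmul, ← mul_smul, ← add_smul]
  congr 1
  rcases a with _ | a
  · simp
  rw [Nat.choose_two_right, Nat.div_mul_cancel (Nat.even_mul_pred_self _).two_dvd]
  simp only [Nat.succ_sub_one]
  ring

theorem degree_pow {g : ℕ} (hA : topologicalKrullDim A.left = g) (a : ℕ) :
    (degree ((𝟙 A) ^ a : A ⟶ A) : ℚ) = (a : ℚ) ^ (2 * g) := by
  have h := degree_zpow_id (A := A) hA (a : ℤ)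
  rw [zpow_natCast] at h
  exact_mod_cast h

/-- The top coefficient on the square of combinations of the two pullbacks of a symmetric ample class. -/
theorem exists_top_sq {r : ℕ} (hr : topologicalKrullDim A.left = r) {L : A.left.Modules} (hL : CohB1.IsAmple L)
    (hs : ev (pc L hL.1) ((𝟙 A)⁻¹) = pc L hL.1) :
    ∃ c : ℚ, 0 < c ∧ ∀ b : Fin 2 → ℤ, top k (r + r) (∑ i, b i • prA (pc L hL.1) i) =
      c * (b 0 : ℚ) ^ r * (b 1 : ℚ) ^ r := by
  classical
  haveI : GeometricallyIntegral (A ⊗ A).hom := H25Rig.geometricallyIntegral_tensor A A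
  haveI : IsCommMonObj (A ⊗ A) := isCommMonObj_of_av
  haveI : QuasiSeparatedSpace (Spec (CommRingCat.of k)) := inferInstance
  have hsum : CohB1.IsAmple (CohB1.tensorMod ((Scheme.Modules.pullback (fst A A).left).obj L)
      ((Scheme.Modules.pullback (snd A A).left).obj L)) := H8Props.Ample.isAmple_prod A.hom A.hom hL hL
  have hp := H11Ample.isInvertible_pullback (fst A A).left hL.1
  have hq := H11Ample.isInvertible_pullback (snd A A).left hL.1
  have e11 : pc _ hsum.1 = ∑ i, (1 : ℤ) • prA (pc L hL.1) i := by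
    rw [pc_tensor hp hq _, pullP_pc _ L hL.1 hp, pullP_pc _ L hL.1 hq]
    simp only [Fin.sum_univ_two, prA, Matrix.cons_val_zero, Matrix.cons_val_one, one_smul]
    rfl
  have hd := dim_tensor hr hr
  obtain ⟨Q, -, hQ⟩ := exists_top_form (k := k) hd hsum (prA (pc L hL.1))
  have hc := top_pos (k := k) hd hsum
  rw [e11, hQ fun _ => 1] at hc
  refine ⟨_, hc, fun b => ?_⟩
  have key : Q = MvPolynomial.C (eval (fun _ => ((1 : ℤ) : ℚ)) Q) * MvPolynomial.X 0 ^ r * MvPolynomial.X 1 ^ r := by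
    refine MvPolynomial.funext_set (fun _ => Set.range fun m : ℕ => ((m : ℚ) ^ 2))
      (fun _ => Set.infinite_range_of_injective fun a b h => by
        exact_mod_cast (pow_left_inj₀ (Nat.cast_nonneg a) (Nat.cast_nonneg b) two_ne_zero).1 h) fun x hx => ?_
    choose a ha using fun i => hx i trivial
    obtain rfl : x = fun i => (a i : ℚ) ^ 2 := funext fun i => (ha i).symm
    simp only [map_mul, map_pow, MvPolynomial.eval_C, MvPolynomial.eval_X]
    haveI := isMonHom_pow (A := A) (a 0)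
    haveI := isMonHom_pow (A := A) (a 1)
    let ξ₀ : A ⊗ A ⟶ A ⊗ A := lift (fst A A ≫ (𝟙 A) ^ a 0) (snd A A)
    let ξ₁ : A ⊗ A ⟶ A ⊗ A := lift (fst A A ≫ (𝟙 A) ^ a 1) (snd A A)
    let σ : A ⊗ A ⟶ A ⊗ A := lift (snd A A) (fst A A)
    haveI : IsMonHom ξ₀ := isMonHom_sq _ _
    haveI : IsMonHom ξ₁ := isMonHom_sq _ _
    haveI : IsMonHom σ := isMonHom_sq _ _
    let ξ : A ⊗ A ⟶ A ⊗ A := lift (fst A A ≫ (𝟙 A) ^ a 0) (snd A A ≫ (𝟙 A) ^ a 1)
    haveI : IsMonHom ξ := isMonHom_sq _ _
    have hξ : ξ = ξ₀ ≫ (σ ≫ ξ₁ ≫ σ) := CartesianMonoidalCategory.hom_ext _ _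
      (by simp [ξ, ξ₀, ξ₁, σ]) (by simp [ξ, ξ₀, ξ₁, σ])
    have hdeg : (degree ξ : ℚ) = (a 0 : ℚ) ^ (2 * r) * (a 1 : ℚ) ^ (2 * r) := by
      rw [hξ, degree_comp hd hd hd, degree_comp hd hd hd, degree_comp hd hd hd,
        show degree σ = 1 from degree_swap hr hr, show degree ξ₀ = _ from degree_map_id _ hr hr hr,
        show degree ξ₁ = _ from degree_map_id _ hr hr hr]
      push_cast
      rw [degree_pow hr, degree_pow hr]
      ring
    have h0 : ev (ev (pc L hL.1) (fst A A)) ξ = (a 0 ^ 2) • ev (pc L hL.1) (fst A A) := by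
      rw [ev_comp, lift_fst, ← ev_comp, ev_pow_symm _ hs]
      exact map_nsmul _ _ _
    have h1 : ev (ev (pc L hL.1) (snd A A)) ξ = (a 1 ^ 2) • ev (pc L hL.1) (snd A A) := by
      rw [ev_comp, lift_snd, ← ev_comp, ev_pow_symm _ hs]
      exact map_nsmul _ _ _
    have e := top_ev ξ hd hd (∑ i, (1 : ℤ) • prA (pc L hL.1) i)
    rw [hdeg, hQ fun _ => 1] at e
    have e' : ev (∑ i, (1 : ℤ) • prA (pc L hL.1) i) ξ = ∑ i, ((a i : ℤ) ^ 2) • prA (pc L hL.1) i := by
      simp only [Fin.sum_univ_two, prA, Matrix.cons_val_zero, Matrix.cons_val_one, one_smul]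
      refine (map_add (pullP ξ.left) _ _).trans ?_
      refine (congrArg₂ (· + ·) h0 h1).trans ?_
      simp only [← Nat.cast_pow, natCast_zsmul]
    rw [e', hQ] at e
    push_cast at e ⊢
    rw [e]
    ring
  rw [hQ b]
  conv_lhs => rw [key]
  simp only [map_mul, map_pow, MvPolynomial.eval_C, MvPolynomial.eval_X]

/-- Homomorphisms adjoint for the pairing of a symmetric ample class have the same degree. -/
theorem degree_eq_of_adjoint {r : ℕ} (hr : topologicalKrullDim A.left = r) {L : A.left.Modules} (hL : CohB1.IsAmple L)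
    (hs : ev (pc L hL.1) ((𝟙 A)⁻¹) = pc L hL.1) (f h : A ⟶ A) [IsMonHom f] [IsMonHom h]
    (hadj : th (pc L hL.1) (fst A A ≫ f) (snd A A) = th (pc L hL.1) (fst A A) (snd A A ≫ h)) :
    degree f = degree h := by
  haveI : GeometricallyIntegral (A ⊗ A).hom := H25Rig.geometricallyIntegral_tensor A A
  haveI : IsCommMonObj (A ⊗ A) := isCommMonObj_of_av
  obtain ⟨c, hc, hQ⟩ := exists_top_sq hr hL hs
  have hd := dim_tensor hr hr
  let s := pc L hL.1
  let u := th s (fst A A) (snd A A)
  let ξ₁ : A ⊗ A ⟶ A ⊗ A := lift (fst A A ≫ f) (snd A A)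
  let ξ₂ : A ⊗ A ⟶ A ⊗ A := lift (fst A A) (snd A A ≫ h)
  let ξ₂' : A ⊗ A ⟶ A ⊗ A := lift (fst A A ≫ h) (snd A A)
  let τ : A ⊗ A ⟶ A ⊗ A := lift (snd A A) (fst A A)
  haveI : IsMonHom ξ₁ := isMonHom_sq _ _
  haveI : IsMonHom ξ₂ := isMonHom_sq _ _
  haveI : IsMonHom ξ₂' := isMonHom_sq _ _
  haveI : IsMonHom τ := isMonHom_sq _ _
  have hξ₂ : degree ξ₂ = degree h := by
    rw [show ξ₂ = τ ≫ ξ₂' ≫ τ from CartesianMonoidalCategory.hom_ext _ _ (by simp [ξ₂, ξ₂', τ]) (by simp [ξ₂, ξ₂', τ]),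
      degree_comp hd hd hd, degree_comp hd hd hd, show degree τ = 1 from degree_swap hr hr,
      show degree ξ₂' = _ from degree_map_id _ hr hr hr]
    ring
  have e : (degree f : ℚ) * top k (r + r) u = (degree h : ℚ) * top k (r + r) u := by
    rw [← show degree ξ₁ = degree f from degree_map_id _ hr hr hr, ← hξ₂, ← top_ev ξ₁ hd hd, ← top_ev ξ₂ hd hd]
    congr 1
    rw [ev_th, ev_th, lift_fst, lift_snd, lift_fst, lift_snd]
    exact hadj
  have hu : top k (r + r) u ≠ 0 := by
    haveI : IsMonHom (fst A A * snd A A) := by rw [Hom.mul_def]; infer_instance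
    haveI : IsMonHom (fst A A * (snd A A)⁻¹) := by
      rw [Hom.mul_def]; infer_instance
    let σ : A ⊗ A ⟶ A ⊗ A := lift (fst A A * snd A A) (fst A A * (snd A A)⁻¹)
    haveI : IsMonHom σ := isMonHom_sq _ _
    have hdiag : ∀ p : A ⊗ A ⟶ A, th s p p = (2 : ℤ) • ev s p := fun p => by
      have h2 : ev s (p * p) = (4 : ℕ) • ev s p := by
        rw [← pow_two, show p ^ 2 = p ≫ ((𝟙 A) ^ 2 : A ⟶ A) by rw [MonObj.comp_pow, Category.comp_id], ← ev_comp,
          ev_pow_symm s hs 2]
        exact map_nsmul _ _ _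
      rw [th, h2]
      abel
    have hσ : ev u σ = ∑ i, (![2, -2] i : ℤ) • prA s i := by
      rw [ev_th, lift_fst, lift_snd, th_mul_left, th_mul_right, th_mul_right, th_inv_right, th_inv_right, hdiag, hdiag,
        th_comm s (snd A A) (fst A A)]
      simp only [Fin.sum_univ_two, prA, Matrix.cons_val_zero, Matrix.cons_val_one, neg_smul]
      abel
    intro h0
    have := top_ev σ hd hd u
    rw [h0, mul_zero, hσ, hQ] at this
    simp only [Matrix.cons_val_zero, Matrix.cons_val_one] at this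
    push_cast at this
    exact mul_ne_zero (mul_ne_zero hc.ne' (pow_ne_zero _ two_ne_zero)) (pow_ne_zero _ (by norm_num)) this
  exact_mod_cast mul_right_cancel₀ hu e

theorem th_pow_left (ℓ : PC A.left) {T : Over (Spec (CommRingCat.of k))} (p q : T ⟶ A) (n : ℕ) :
    th ℓ (p ^ n) q = n • th ℓ p q := by
  induction n with
  | zero => rw [pow_zero, th_comm, th_one_right, zero_smul]
  | succ n ih => rw [pow_succ, th_mul_left, ih, succ_nsmul]

theorem th_zpow_left (ℓ : PC A.left) {T : Over (Spec (CommRingCat.of k))} (p q : T ⟶ A) (j : ℤ) :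
    th ℓ (p ^ j) q = j • th ℓ p q := by
  obtain ⟨m, rfl | rfl⟩ := j.eq_nat_or_neg
  · rw [zpow_natCast, th_pow_left, natCast_zsmul]
  · rw [zpow_neg, zpow_natCast, th_comm, th_inv_right, th_comm, th_pow_left, neg_smul, natCast_zsmul]

/-- Homomorphisms adjoint for the pairing of an ample class have the same degree. -/
theorem degree_eq_of_adjoint' {r : ℕ} (hr : topologicalKrullDim A.left = r) {L : A.left.Modules}
    (hL : CohB1.IsAmple L) (f h : A ⟶ A) [IsMonHom f] [IsMonHom h]
    (hadj : th (pc L hL.1) (fst A A ≫ f) (snd A A) = th (pc L hL.1) (fst A A) (snd A A ≫ h)) :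
    degree f = degree h := by
  let ν : A ⟶ A := (𝟙 A)⁻¹
  have hν : ν ≫ ν = 𝟙 A := by rw [GrpObj.comp_inv, Category.comp_id, _root_.inv_inv]
  haveI : IsIso ν := ⟨ν, hν, hν⟩
  haveI : IsIso ν.left := inferInstanceAs (IsIso ((Over.forget _).map ν))
  have hp := H11Ample.isInvertible_pullback ν.left hL.1
  have hamp : CohB1.IsAmple (CohB1.tensorMod L ((Scheme.Modules.pullback ν.left).obj L)) :=
    H11Ample.isAmple_tensor_of_isAmple hL (H11Ample.isAmple_pullback_of_isAffineHom ν.left hL)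
  have e : pc _ hamp.1 = pc L hL.1 + ev (pc L hL.1) ν := by
    rw [pc_tensor hL.1 hp _, pullP_pc _ L hL.1 hp]; rfl
  have hth : ∀ {T : Over (Spec (CommRingCat.of k))} (p q : T ⟶ A),
      th (pc _ hamp.1) p q = th (pc L hL.1) p q + th (pc L hL.1) p q := by
    intro T p q
    have h2 : th (ev (pc L hL.1) ν) p q = th (pc L hL.1) p q := by
      rw [th, ev_comp, ev_comp, ev_comp, GrpObj.comp_inv, Category.comp_id, GrpObj.comp_inv, Category.comp_id,
        GrpObj.comp_inv, Category.comp_id, _root_.mul_inv]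
      show th (pc L hL.1) p⁻¹ q⁻¹ = _
      rw [th_inv_right, th_comm, th_inv_right, neg_neg, th_comm]
    have h3 : th (pc _ hamp.1) p q = th (pc L hL.1) p q + th (ev (pc L hL.1) ν) p q := by
      simp only [th, ev, e, map_add]
      abel
    rw [h3, h2]
  refine degree_eq_of_adjoint hr hamp ?_ f h (by rw [hth, hth, hadj])
  rw [e]
  refine (map_add (pullP ν.left) _ _).trans ?_
  show ev (pc L hL.1) ν + ev (ev (pc L hL.1) ν) ν = _
  rw [ev_comp, hν, show ev (pc L hL.1) (𝟙 A) = pc L hL.1 from pullP_id _, add_comm]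

section Closed

variable [IsAlgClosed k]

/-- A relation of translations is a relation of the pairing. -/
theorem adjoint_of_points (ℓ : PC A.left) (f g : A ⟶ A) [IsMonHom f] [IsMonHom g]
    (hx : ∀ x : 𝟙_ _ ⟶ A, th ℓ (𝟙 A) (toUnit A ≫ x ≫ f) = th ℓ g (toUnit A ≫ x)) :
    th ℓ (fst A A ≫ g) (snd A A) = th ℓ (fst A A) (snd A A ≫ f) := by
  haveI : IsIntegral A.left := GeometricallyIntegral.isIntegral_of_subsingleton A.hom
  let W : PC (A ⊗ A).left := th ℓ (fst A A ≫ g) (snd A A) - th ℓ (fst A A) (snd A A ≫ f)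
  obtain ⟨N, hN⟩ := eq_ev_snd_of_slices A A W fun t => by
    refine (map_sub (pullP _) _ _).trans ?_
    show ev (th ℓ _ _) _ - ev (th ℓ _ _) _ = 0
    rw [ev_th, ev_th, lift_fst_assoc, lift_snd, lift_fst, lift_snd_assoc, Category.id_comp, Category.assoc, hx,
      sub_self]
  have h0 : N = 0 := by
    have h := congrArg (fun u => ev u (lift (1 : A ⟶ A) (𝟙 A))) hN
    simp only [ev_comp, lift_snd] at h
    rw [show ev N (𝟙 A) = N from pullP_id N] at h
    rw [← h]
    refine (map_sub (pullP _) _ _).trans ?_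
    show ev (th ℓ _ _) _ - ev (th ℓ _ _) _ = 0
    rw [ev_th, ev_th, lift_fst_assoc, lift_snd, lift_fst, MonObj.one_comp, th_comm ℓ 1, th_one_right, th_comm ℓ 1,
      th_one_right, sub_zero]
  rw [h0] at hN
  exact sub_eq_zero.1 (hN.trans (map_zero _))

/-- The translation relation of a pair of homomorphisms with respect to a line bundle. -/
theorem th_of_iso {L : A.left.Modules} (hL : PicF.IsInvertible L) (α ρ : A ⟶ A) (n : ℕ) (x : 𝟙_ _ ⟶ A)
    (h : Nonempty (CohB1.tensorMod ((Scheme.Modules.pullback ((𝟙 A * (toUnit A ≫ x ≫ ρ))).left).obj L)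
      ((Scheme.Modules.pullback α.left).obj (CohB1.tensorPow L n)) ≅ CohB1.tensorMod L
      ((Scheme.Modules.pullback α.left).obj ((Scheme.Modules.pullback ((𝟙 A * (toUnit A ≫ x))).left).obj
        (CohB1.tensorPow L n))))) :
    th (pc L hL) (𝟙 A) (toUnit A ≫ x ≫ ρ) = th (pc L hL) (α ^ n) (toUnit A ≫ x) := by
  obtain ⟨hn, en⟩ := exists_pc_tensorPow hL n
  have h1 := H11Ample.isInvertible_pullback (𝟙 A * (toUnit A ≫ x ≫ ρ)).left hL
  have h2 := H11Ample.isInvertible_pullback α.left hn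
  have h3 := H11Ample.isInvertible_pullback (𝟙 A * (toUnit A ≫ x)).left hn
  have h4 := H11Ample.isInvertible_pullback α.left h3
  have e := (pc_eq_iff (H11Ample.isInvertible_tensor h1 h2) (H11Ample.isInvertible_tensor hL h4)).2 h
  rw [pc_tensor h1 h2 _, pc_tensor hL h4 _, pullP_pc _ L hL h1, pullP_pc _ _ hn h2, pullP_pc _ _ h3 h4,
    pullP_pc _ _ hn h3, en, map_nsmul, map_nsmul, map_nsmul, pullP_pullP] at e
  rw [← Over.comp_left, MonObj.comp_mul, Category.comp_id, ← Category.assoc α, comp_toUnit] at e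
  change ev _ _ + n • ev _ _ = _ + n • ev _ _ at e
  rw [th_pow_left, th, th, show ev (pc L hL) (𝟙 A) = pc L hL from pullP_id _, ev_const, ev_const, nsmul_sub, nsmul_sub,
    smul_zero]
  linear_combination (norm := abel) e

/-- The trace of a characteristic polynomial read off the values at the integers. -/
theorem coeff_eq_trace {g : ℕ} (hg : topologicalKrullDim A.left = g) (hg1 : 1 ≤ g) (α : EndAV.End A) (l : ℕ)
    [Fact l.Prime] (hl : (l : k) ≠ 0) (b : Module.Basis (Fin (2 * g)) ℤ_[l] (AbDual.TateMod A l (pt1 k)))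
    (P : Polynomial ℚ) (hP : ∀ j : ℤ, (degree (α + (j : EndAV.End A)).toHom : ℚ) = P.eval (j : ℚ)) :
    algebraMap ℚ ℚ_[l] (P.coeff (2 * g - 1)) =
      ((LinearMap.toMatrix b b (trep l α)).map (PadicInt.Coe.ringHom : ℤ_[l] →+* ℚ_[l])).trace := by
  obtain ⟨R, hR, hRd, hRe, hRl⟩ := exists_charpoly_rat hg α
  have hPR : P = R.comp (-Polynomial.X) := by
    refine Polynomial.eq_of_infinite_eval_eq _ _ ((Set.infinite_range_of_injective Int.cast_injective).mono ?_)
    rintro - ⟨j, rfl⟩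
    show P.eval (j : ℚ) = (R.comp (-Polynomial.X)).eval (j : ℚ)
    rw [← hP, Polynomial.eval_comp, Polynomial.eval_neg, Polynomial.eval_X, ← Int.cast_neg, ← hRe, Int.cast_neg,
      sub_neg_eq_add]
  have hc : P.coeff (2 * g - 1) = -R.nextCoeff := by
    rw [hPR, show -Polynomial.X = Polynomial.C (-1 : ℚ) * Polynomial.X by simp, Polynomial.comp_C_mul_X_coeff,
      Polynomial.nextCoeff, if_neg (by omega), hRd, Odd.neg_one_pow ⟨g - 1, by omega⟩]
    ring
  rw [Matrix.trace_eq_neg_charpoly_nextCoeff, hRl l hl b, Polynomial.nextCoeff_map (algebraMap ℚ ℚ_[l]).injective,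
    hc, map_neg]

end Closed

end Groth.Agent.H25AbCube
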