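import Mathlib

/-!
# The dimension of the centralizer of a semisimple operator
-/

set_option autoImplicit false
set_option linter.style.haveILetI false

open Polynomial Matrix Module

noncomputable section

namespace Groth.Agent.H25AbCube.Centralizer

/-- The sum of the squares of the multiplicities of the roots. -/
def sqMult {K : Type*} [Field K] (P : K[X]) : ℕ :=
  haveI := Classical.decEq K
  (P.roots.map fun w => P.roots.count w).sum

theorem rank_map {L K : Type*} [Field L] [Field K] (f : L →+* K) {m : Type*} [Fintype m] [DecidableEq m]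
    (A : Matrix m m L) : (A.map f).rank = A.rank := by
  classical
  obtain ⟨U, U', D, hA⟩ := Pivot.exists_list_transvec_mul_diagonal_mul_list_transvec A
  have h1 : IsUnit ((U.map TransvectionStruct.toMatrix).prod).det := by
    rw [TransvectionStruct.det_toMatrix_prod]; exact isUnit_one
  have h2 : IsUnit ((U'.map TransvectionStruct.toMatrix).prod).det := by
    rw [TransvectionStruct.det_toMatrix_prod]; exact isUnit_one
  have h1' : IsUnit (f.mapMatrix (U.map TransvectionStruct.toMatrix).prod).det := by
    rw [← RingHom.map_det]; exact h1.map f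
  have h2' : IsUnit (f.mapMatrix (U'.map TransvectionStruct.toMatrix).prod).det := by
    rw [← RingHom.map_det]; exact h2.map f
  show (f.mapMatrix A).rank = A.rank
  rw [hA, map_mul, map_mul, rank_mul_eq_left_of_isUnit_det _ _ h2', rank_mul_eq_right_of_isUnit_det _ _ h1',
    rank_mul_eq_left_of_isUnit_det _ _ h2, rank_mul_eq_right_of_isUnit_det _ _ h1, RingHom.mapMatrix_apply,
    diagonal_map (map_zero f), rank_diagonal, rank_diagonal]
  exact Fintype.card_congr (Equiv.subtypeEquivRight fun i => (map_ne_zero f).symm).symm

variable {L : Type*} [Field L] {n : Type*} [Fintype n] [DecidableEq n]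

/-- The commutator with a matrix. -/
def comm (M : Matrix n n L) : Matrix n n L →ₗ[L] Matrix n n L := LinearMap.mulRight L M - LinearMap.mulLeft L M

theorem comm_apply (M X : Matrix n n L) : comm M X = X * M - M * X := rfl

theorem finrank_ker_comm_map {K : Type*} [Field K] (f : L →+* K) (M : Matrix n n L) :
    finrank K (LinearMap.ker (comm (M.map f))) = finrank L (LinearMap.ker (comm M)) := by
  let b := Matrix.stdBasis L n n
  let b' := Matrix.stdBasis K n n
  have hmat : LinearMap.toMatrix b' b' (comm (M.map f)) = (LinearMap.toMatrix b b (comm M)).map f := by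
    ext p q
    rw [Matrix.map_apply, LinearMap.toMatrix_apply, LinearMap.toMatrix_apply]
    obtain ⟨i, j⟩ := q
    obtain ⟨a, c⟩ := p
    simp only [b, b', comm_apply, Matrix.stdBasis_eq_single]
    show ((Matrix.single i j (1 : K) * M.map f - M.map f * Matrix.single i j (1 : K)) : Matrix n n K) a c =
      f (((Matrix.single i j (1 : L) * M - M * Matrix.single i j (1 : L)) : Matrix n n L) a c)
    have e : (Matrix.single i j (1 : K)) = (Matrix.single i j (1 : L)).map f := by
      rw [Matrix.map_single]; simp
    rw [e, ← Matrix.map_mul, ← Matrix.map_mul, Matrix.sub_apply, Matrix.sub_apply, map_sub]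
    rfl
  have h1 := LinearMap.finrank_range_add_finrank_ker (comm M)
  have h2 := LinearMap.finrank_range_add_finrank_ker (comm (M.map f))
  rw [← Matrix.toLin_toMatrix b b (comm M), ← Matrix.rank_eq_finrank_range_toLin, Matrix.toLin_toMatrix] at h1
  rw [← Matrix.toLin_toMatrix b' b' (comm (M.map f)), ← Matrix.rank_eq_finrank_range_toLin, Matrix.toLin_toMatrix,
    hmat, rank_map] at h2
  rw [Module.finrank_matrix, Module.finrank_self, mul_one] at h1 h2
  omega

theorem finrank_ker_llcomp {V : Type*} [AddCommGroup V] [Module L V] (b : Basis n L V) (g : Module.End L V) :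
    finrank L (LinearMap.ker (LinearMap.lcomp L V g - LinearMap.llcomp L V V V g :
      Module.End L V →ₗ[L] Module.End L V)) =
      finrank L (LinearMap.ker (comm (LinearMap.toMatrix b b g))) := by
  let e : Module.End L V ≃ₗ[L] Matrix n n L := LinearMap.toMatrix b b
  let D : Module.End L V →ₗ[L] Module.End L V := LinearMap.lcomp L V g - LinearMap.llcomp L V V V g
  have h : Submodule.map e.toLinearMap (LinearMap.ker D) = LinearMap.ker (comm (e g)) := by
    ext X
    rw [Submodule.mem_map_equiv, LinearMap.mem_ker, LinearMap.mem_ker]
    have he : e (D (e.symm X)) = comm (e g) X := by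
      rw [comm_apply]
      show LinearMap.toMatrix b b (e.symm X ∘ₗ g - g ∘ₗ e.symm X) = _
      rw [map_sub, LinearMap.toMatrix_comp b b b, LinearMap.toMatrix_comp b b b,
        show LinearMap.toMatrix b b (e.symm X) = X from e.apply_symm_apply X]
    rw [← he, LinearEquiv.map_eq_zero_iff]
  show finrank L (LinearMap.ker D) = _
  rw [← h]
  exact (e.submoduleMap (LinearMap.ker D)).finrank_eq

theorem finrank_ker_comm_diagonal {K : Type*} [Field K] (d : n → K) :
    finrank K (LinearMap.ker (comm (diagonal d))) = sqMult (diagonal d).charpoly := by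
  classical
  let S := {p : n × n // d p.1 = d p.2}
  have hmem : ∀ X : Matrix n n K, X ∈ LinearMap.ker (comm (diagonal d)) ↔ ∀ i j, d i ≠ d j → X i j = 0 := by
    intro X
    rw [LinearMap.mem_ker, comm_apply, ← Matrix.ext_iff]
    refine forall_congr' fun i => forall_congr' fun j => ?_
    rw [Matrix.sub_apply, mul_diagonal, diagonal_mul, Matrix.zero_apply, sub_eq_zero]
    refine ⟨fun h hne => ?_, fun h => ?_⟩
    · by_contra hX
      exact hne (mul_left_cancel₀ hX (by rw [h, mul_comm])).symm
    · by_cases hd : d i = d j
      · rw [hd, mul_comm]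
      · rw [h hd, zero_mul, mul_zero]
  let e : LinearMap.ker (comm (diagonal d)) ≃ₗ[K] (S → K) :=
    { toFun := fun X p => X.1 p.1.1 p.1.2
      map_add' := fun _ _ => rfl
      map_smul' := fun _ _ => rfl
      invFun := fun v => ⟨Matrix.of fun i j => if h : d i = d j then v ⟨(i, j), h⟩ else 0,
        (hmem _).2 fun i j h => by simp [h]⟩
      left_inv := fun X => Subtype.ext (Matrix.ext fun i j => by
        by_cases h : d i = d j
        · simp [h]
        · simp [h, (hmem X.1).1 X.2 i j h])
      right_inv := fun v => funext fun p => by simp [p.2] }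
  have hr : (diagonal d).charpoly.roots = Finset.univ.val.map d := by
    rw [charpoly_diagonal, Finset.prod_eq_multiset_prod]
    rw [show (fun i => X - C (d i)) = (fun a => X - C a) ∘ d from rfl, ← Multiset.map_map,
      roots_multiset_prod_X_sub_C]
  rw [e.finrank_eq, Module.finrank_fintype_fun_eq_card, sqMult, hr, Multiset.map_map,
    show Fintype.card S = ∑ i, (Finset.univ.filter fun j => d i = d j).card from by
      rw [Fintype.card_congr (Equiv.subtypeProdEquivSigmaSubtype fun i j => d i = d j), Fintype.card_sigma]
      exact Finset.sum_congr rfl fun i _ => Fintype.card_subtype _]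
  rw [Finset.sum_eq_multiset_sum]
  refine congrArg Multiset.sum (Multiset.map_congr rfl fun i _ => ?_)
  simp only [Function.comp_apply, Multiset.count_map, Finset.card_def, Finset.filter_val]

/-- For a semisimple operator the centralizer has dimension the sum of the squares of the multiplicities. -/
theorem finrank_centralizer_of_semisimple {V : Type*} [AddCommGroup V] [Module L V] [FiniteDimensional L V]
    [PerfectField L] (g : Module.End L V) (hg : g.IsSemisimple) (K : Type*) [Field K] [IsAlgClosed K] [Algebra L K] :
    finrank L (LinearMap.ker (LinearMap.lcomp L V g - LinearMap.llcomp L V V V g :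
      Module.End L V →ₗ[L] Module.End L V)) = sqMult (g.charpoly.map (algebraMap L K)) := by
  classical
  let b := Module.finBasis L V
  rw [finrank_ker_llcomp b, ← finrank_ker_comm_map (algebraMap L K), ← LinearMap.charpoly_toMatrix g b,
    ← Matrix.charpoly_map]
  let M := (LinearMap.toMatrix b b g).map (algebraMap L K)
  show finrank K (LinearMap.ker (comm M)) = sqMult M.charpoly
  let G : Module.End K (Fin (finrank L V) → K) := Matrix.toLin' M
  have hGs : G.IsSemisimple := by
    let p := minpoly L g
    have hp : Squarefree p := hg.minpoly_squarefree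
    refine Module.End.isSemisimple_of_squarefree_aeval_eq_zero (p := p.map (algebraMap L K))
      (((separable_map _).2 (PerfectField.separable_iff_squarefree.2 hp)).squarefree) ?_
    let Φ : Module.End L V →ₐ[L] Module.End K (Fin (finrank L V) → K) :=
      ((Matrix.toLinAlgEquiv' (R := K)).toAlgHom.restrictScalars L).comp
        ((AlgHom.mapMatrix (Algebra.ofId L K)).comp (LinearMap.toMatrixAlgEquiv b).toAlgHom)
    rw [show G = Φ g from rfl, aeval_map_algebraMap, aeval_algHom_apply, minpoly.aeval, map_zero]
  have hspan : ⊤ ≤ Submodule.span K {v | ∃ c : K, G v = c • v} := by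
    rw [← hGs.iSup_eigenspace_eq_top]
    exact iSup_le fun c v hv => Submodule.subset_span ⟨c, Module.End.mem_eigenspace_iff.1 hv⟩
  let v := Basis.ofSpan hspan
  haveI := Module.Finite.finite_basis v
  letI := Fintype.ofFinite ↥((linearIndepOn_empty K id).extend
    (Set.empty_subset {v | ∃ c : K, G v = c • v}))
  have hv : ∀ i, ∃ c : K, G (v i) = c • v i := fun i => Basis.ofSpan_subset hspan (Set.mem_range_self i)
  choose d hd using hv
  have hdiag : LinearMap.toMatrix v v G = diagonal d := by
    ext i j
    rw [LinearMap.toMatrix_apply, hd, map_smul, v.repr_self, Finsupp.smul_apply, smul_eq_mul, diagonal_apply]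
    by_cases h : i = j
    · subst h; simp
    · rw [if_neg h, Finsupp.single_eq_of_ne h, mul_zero]
  have h1 := finrank_ker_llcomp (Pi.basisFun K (Fin (finrank L V))) G
  rw [show LinearMap.toMatrix (Pi.basisFun K _) (Pi.basisFun K _) G = M from LinearMap.toMatrix'_toLin' M] at h1
  rw [← h1, finrank_ker_llcomp v G, hdiag, finrank_ker_comm_diagonal, ← hdiag, LinearMap.charpoly_toMatrix,
    ← LinearMap.charpoly_toMatrix G (Pi.basisFun K _)]
  exact congrArg (fun X : Matrix _ _ K => sqMult X.charpoly) (LinearMap.toMatrix'_toLin' M)

/-- The invariant does not change along an embedding of algebraically closed fields. -/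
theorem sqMult_map {F E K : Type*} [CommRing F] [Field E] [Field K] [IsAlgClosed E] (i : E →+* K) (f : F →+* E)
    (P : F[X]) : sqMult (P.map (i.comp f)) = sqMult (P.map f) := by
  classical
  rw [sqMult, sqMult, ← Polynomial.map_map, Polynomial.Splits.roots_map (IsAlgClosed.splits _) i, Multiset.map_map]
  refine congrArg Multiset.sum (Multiset.map_congr rfl fun w _ => ?_)
  exact Multiset.count_map_eq_count' _ _ i.injective w

end Groth.Agent.H25AbCube.Centralizer
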