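import Mathlib

/-!
# The characteristic polynomial of a polynomial in a matrix
-/

set_option autoImplicit false

open Polynomial Matrix

namespace Groth.Agent.H25AbCube

variable {K : Type*} [Field K] [IsAlgClosed K] {n : Type*} [Fintype n] [DecidableEq n]

theorem det_aeval_eq (M : Matrix n n K) (G : K[X]) :
    (aeval M G).det = (M.charpoly.roots.map fun ω => G.eval ω).prod := by
  let φ : K[X] →* K := Matrix.detMonoidHom.comp (aeval M : K[X] →ₐ[K] Matrix n n K).toRingHom.toMonoidHom
  let ψ : K[X] →* K :=
    { toFun := fun G => (M.charpoly.roots.map fun ω => G.eval ω).prod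
      map_one' := by simp
      map_mul' := fun G H => by simp [Multiset.prod_map_mul] }
  have hcard : Multiset.card M.charpoly.roots = Fintype.card n := by
    rw [← (IsAlgClosed.splits M.charpoly).natDegree_eq_card_roots, Matrix.charpoly_natDegree_eq_dim]
  have hC : ∀ c : K, φ (C c) = ψ (C c) := fun c => by
    show (aeval M (C c)).det = (M.charpoly.roots.map fun ω => (C c).eval ω).prod
    simp [Algebra.algebraMap_eq_smul_one, Matrix.det_smul, hcard]
  have hX : ∀ a : K, φ (X - C a) = ψ (X - C a) := fun a => by
    show (aeval M (X - C a)).det = (M.charpoly.roots.map fun ω => (X - C a).eval ω).prod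
    have h1 : aeval M (X - C a) = -(Matrix.scalar n a - M) := by
      rw [map_sub, aeval_X, aeval_C, neg_sub]
      rfl
    have h2 : (M.charpoly.roots.map fun ω => (X - C a).eval ω) = M.charpoly.roots.map fun ω => (-1) * (a - ω) :=
      Multiset.map_congr rfl fun ω _ => by simp
    have h3 := congrArg (eval a)
      ((IsAlgClosed.splits M.charpoly).eq_prod_roots_of_monic M.charpoly_monic)
    rw [Matrix.eval_charpoly, eval_multiset_prod, Multiset.map_map] at h3
    rw [h1, Matrix.det_neg, h3, h2, Multiset.prod_map_mul, Multiset.map_const', Multiset.prod_replicate, hcard]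
    simp [Function.comp_def]
  show φ G = ψ G
  rw [(IsAlgClosed.splits G).eq_prod_roots, map_mul, map_mul, map_multiset_prod, map_multiset_prod, hC,
    Multiset.map_map, Multiset.map_map]
  congr 2
  exact Multiset.map_congr rfl fun a _ => hX a

/-- The eigenvalues of a polynomial in a matrix are the values at the eigenvalues, with multiplicity. -/
theorem roots_charpoly_aeval (M : Matrix n n K) (F : K[X]) :
    (aeval M F).charpoly.roots = M.charpoly.roots.map fun ω => F.eval ω := by
  have h : (aeval M F).charpoly = ((M.charpoly.roots.map fun ω => F.eval ω).map fun b => X - C b).prod := by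
    refine Polynomial.funext fun t => ?_
    have h1 : Matrix.scalar n t - aeval M F = aeval M (C t - F) := by
      rw [map_sub, aeval_C]
      rfl
    rw [Matrix.eval_charpoly, h1, det_aeval_eq, eval_multiset_prod, Multiset.map_map, Multiset.map_map]
    refine congrArg Multiset.prod (Multiset.map_congr rfl fun ω _ => ?_)
    simp
  rw [h, roots_multiset_prod_X_sub_C]

end Groth.Agent.H25AbCube
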