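import Groth.Agent.H25AbCube.GeomCharPoly
import Groth.Agent.H19Grp.Quotient

/-!
# Divisibility of homomorphisms over any field, and the group of homomorphisms
-/

set_option autoImplicit false
set_option linter.style.haveILetI false
set_option backward.isDefEq.respectTransparency false
set_option synthInstance.maxHeartbeats 200000
set_option maxHeartbeats 1000000
universe u

open CategoryTheory CategoryTheory.Limits MonoidalCategory CartesianMonoidalCategory MonObj GrpObj AlgebraicGeometry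
  TopologicalSpace
open Groth.Agent

noncomputable section

namespace Groth.Agent.H25AbCube

open GeomTate

variable {k Ω : Type u} [Field k] [Field Ω] [Algebra k Ω] [IsAlgClosed Ω] {A B : Over (Spec (CommRingCat.of k))}
  [GrpObj A] [IsProper A.hom] [GeometricallyIntegral A.hom] [IsCommMonObj A] [GrpObj B] [IsProper B.hom]
  [GeometricallyIntegral B.hom] [IsCommMonObj B]

attribute [local instance] Functor.grpObjObj

omit [IsProper A.hom] [GeometricallyIntegral A.hom] [IsProper B.hom] [GeometricallyIntegral B.hom] [IsCommMonObj A]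
  [IsCommMonObj B] in
theorem pow_id_comp_gen (φ : A ⟶ B) [IsMonHom φ] (m : ℕ) : ((𝟙 A) ^ m : A ⟶ A) ≫ φ = φ ^ m := by
  induction m with
  | zero => rw [pow_zero, pow_zero, MonObj.one_comp]
  | succ m ih => rw [pow_succ, pow_succ, MonObj.mul_comp, ih, Category.id_comp]

/-- A homomorphism whose Tate map at geometric points is divisible by a power of a prime is divisible by it. -/
theorem exists_eq_pow_comp_pt (l : ℕ) [Fact l.Prime] (hl : (l : k) ≠ 0) (φ : A ⟶ B) [IsMonHom φ] (n : ℕ)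
    (u : AbDual.TateMod A l (SGA7.pt Ω) →ₗ[ℤ_[l]] AbDual.TateMod B l (SGA7.pt Ω))
    (hu : AbDual.tateMapₗ (l := l) (T := SGA7.pt Ω) φ = ((l : ℤ_[l]) ^ n) • u) :
    ∃ φ' : A ⟶ B, IsMonHom φ' ∧ φ = ((𝟙 A) ^ (l ^ n) : A ⟶ A) ≫ φ' := by
  let F := bc k Ω
  haveI := surjective_σ k Ω
  haveI := flat_σ k Ω
  haveI : IsMonHom (F.map φ) := inferInstance
  have hln : 0 < l ^ n := pow_pos (Fact.out : l.Prime).pos n
  let q : A ⟶ A := (𝟙 A) ^ (l ^ n)
  haveI : IsMonHom q := isMonHom_pow (l ^ n)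
  haveI : IsFinite q.left := isFinite_pow hln
  haveI : Flat q.left := flat_pow hln
  haveI : Surjective q.left := surjective_pow hln
  let u' := (tateEquiv B l).toLinearMap ∘ₗ u ∘ₗ (tateEquiv A l).symm.toLinearMap
  have hu' : AbDual.tateMapₗ (l := l) (T := Over.mk (𝟙 (Spec (CommRingCat.of Ω)))) (F.map φ) =
      ((l : ℤ_[l]) ^ n) • u' := by
    refine LinearMap.ext fun y => ?_
    obtain ⟨x, rfl⟩ := (tateEquiv A l).surjective y
    rw [← tateEquiv_map, hu, LinearMap.smul_apply, LinearMap.smul_apply, map_smul]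
    show _ = _ • tateEquiv B l (u ((tateEquiv A l).symm (tateEquiv A l x)))
    rw [LinearEquiv.symm_apply_apply]
  obtain ⟨ψ, -, hψ⟩ := exists_eq_pow_comp (n := l ^ n)
    (by rw [Nat.cast_pow]; exact pow_ne_zero n (natCast_ne_zero_bc hl)) (F.map φ) fun a ha =>
      comp_eq_one_of_tate_dvd l (F.map φ) u' hu' a ha
  have hq : F.map q = (𝟙 (F.obj A)) ^ (l ^ n) :=
    (map_pow (Functor.homMonoidHom F (X := A) (M := A)) (𝟙 A) (l ^ n)).trans
      (congrArg (fun z => z ^ (l ^ n)) (F.map_id A))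
  obtain ⟨φ', hfac, -⟩ := H19Grp.existsUnique_desc_over q φ fun T a b hab =>
    map_pullback_injective (σ k Ω) (show F.map (a ≫ φ) = F.map (b ≫ φ) by
      rw [F.map_comp, F.map_comp, hψ, ← hq, ← Category.assoc, ← Category.assoc, ← F.map_comp, ← F.map_comp, hab])
  refine ⟨φ', ⟨?_, ?_⟩, hfac.symm⟩
  · rw [← IsMonHom.one_hom (f := q), Category.assoc, hfac, IsMonHom.one_hom]
  · have := H19Grp.epi_tensorHom_of_fpqc q q
    rw [← cancel_epi (q ⊗ₘ q), ← IsMonHom.mul_hom_assoc, hfac, tensorHom_comp_tensorHom_assoc,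
      hfac, IsMonHom.mul_hom]

/-- The span of the images of the homomorphisms is saturated. -/
theorem mem_span_of_smul_mem [Algebra.IsAlgebraic k Ω] (l : ℕ) [Fact l.Prime] (hl : (l : k) ≠ 0)
    (u : AbDual.TateMod A l (SGA7.pt Ω) →ₗ[ℤ_[l]] AbDual.TateMod B l (SGA7.pt Ω)) (n : ℕ)
    (hu : ((l : ℤ_[l]) ^ n) • u ∈
      Submodule.span ℤ_[l] (Set.range (EndAV.Hom.tateMap (A := A) (B := B) l (SGA7.pt Ω)))) :
    u ∈ Submodule.span ℤ_[l] (Set.range (EndAV.Hom.tateMap (A := A) (B := B) l (SGA7.pt Ω))) := by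
  classical
  obtain ⟨h, hh⟩ : ∃ h : ℕ, topologicalKrullDim B.left = h := by
    haveI : IsIntegral B.left := GeometricallyIntegral.isIntegral_of_subsingleton B.hom
    exact H25Grp.exists_nat_dim B.hom
  obtain ⟨bB⟩ := exists_tateBasis_pt (A := B) (Ω := Ω) l hl hh
  haveI : Module.Free ℤ_[l] (AbDual.TateMod B l (SGA7.pt Ω)) := Module.Free.of_basis bB
  let Φ := EndAV.Hom.tateMap (A := A) (B := B) l (SGA7.pt Ω)
  obtain ⟨r, c, g, hs⟩ := Submodule.mem_span_set'.1 hu
  choose e he using fun i => (g i).2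
  have hs' : ∑ i, c i • Φ (e i) = ((l : ℤ_[l]) ^ n) • u := by
    rw [← hs]
    exact Finset.sum_congr rfl fun i _ => by rw [← he i]
  have hdiv : ∀ i, ∃ d : ℤ_[l], c i = ((c i).appr n : ℤ_[l]) + (l : ℤ_[l]) ^ n * d := fun i => by
    obtain ⟨d, hd⟩ := Ideal.mem_span_singleton.1 (PadicInt.appr_spec n (c i))
    exact ⟨d, by rw [← hd]; ring⟩
  choose d hd using hdiv
  let s : EndAV.Hom A B := ∑ i, (c i).appr n • e i
  have hΦs : Φ s = ((l : ℤ_[l]) ^ n) • (u - ∑ i, d i • Φ (e i)) := by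
    rw [smul_sub, Finset.smul_sum, eq_sub_iff_add_eq, ← hs', map_sum, ← Finset.sum_add_distrib]
    refine Finset.sum_congr rfl fun i _ => ?_
    rw [map_nsmul, smul_smul, ← Nat.cast_smul_eq_nsmul ℤ_[l], ← add_smul, ← hd i]
  obtain ⟨φ', hφ', hfac⟩ := exists_eq_pow_comp_pt l hl s.toHom n _ hΦs
  haveI := hφ'
  have hs2 : s = (l ^ n) • EndAV.Hom.of φ' := by
    apply EndAV.Hom.ext
    rw [EndAV.Hom.toHom_nsmul, EndAV.Hom.toHom_of, hfac, pow_id_comp_gen]
  rw [hs2, map_nsmul, ← Nat.cast_smul_eq_nsmul ℤ_[l], Nat.cast_pow] at hΦs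
  have hu2 : u = Φ (EndAV.Hom.of φ') + ∑ i, d i • Φ (e i) :=
    eq_add_of_sub_eq (smul_right_injective _ (pow_ne_zero n (Nat.cast_ne_zero.2 (Fact.out : l.Prime).ne_zero))
      hΦs.symm)
  rw [hu2]
  exact Submodule.add_mem _ (Submodule.subset_span ⟨_, rfl⟩)
    (Submodule.sum_mem _ fun i _ => Submodule.smul_mem _ _ (Submodule.subset_span ⟨_, rfl⟩))

/-- The group of homomorphisms is finitely generated. -/
theorem moduleFinite_hom : Module.Finite ℤ (EndAV.Hom A B) := by
  haveI : AddGroup.FG (homs A B) := (AddGroup.fg_iff_addSubgroup_fg _).2 homs_fg'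
  haveI : Module.Finite ℤ (homs A B) := Module.Finite.iff_addGroup_fg.2 ‹_›
  let Ψ : EndAV.Hom A B →+ homs A B :=
    { toFun := fun x => ⟨Additive.ofMul x.toHom, (inferInstance : IsMonHom x.toHom)⟩
      map_zero' := rfl
      map_add' := fun _ _ => rfl }
  exact Module.Finite.of_injective Ψ.toIntLinearMap fun x y h =>
    EndAV.Hom.ext (congrArg (fun z : homs A B => z.1.toMul) h)

/-- The group of homomorphisms is torsion free. -/
theorem eq_zero_of_smul_hom (m : ℤ) (x : EndAV.Hom A B) (hm : m ≠ 0) (h : m • x = 0) : x = 0 := by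
  have h1 : m • Additive.ofMul x.toHom = 0 := by
    rw [← ofMul_zpow, ← EndAV.Hom.toHom_zsmul, h]
    rfl
  exact EndAV.Hom.ext (congrArg Additive.toMul
    (eq_zero_of_smul_homs (A := A) (B := B) (Additive.ofMul x.toHom) m (inferInstance : IsMonHom x.toHom) hm h1))

end Groth.Agent.H25AbCube
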