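import Groth.Agent.H25AbCube.DetDeg
import Groth.Agent.H25Grp.Isogeny
import Groth.Agent.H25Rig.GroupMaps
import Groth.Agent.S4643
import Mathlib.LinearAlgebra.Matrix.Permutation
import Mathlib.LinearAlgebra.FreeModule.Finite.Matrix

/-!
# Degrees of integer matrices acting on powers of an abelian variety
-/

set_option autoImplicit false
set_option linter.style.haveILetI false
set_option linter.unusedSectionVars false
set_option backward.isDefEq.respectTransparency false
set_option synthInstance.maxHeartbeats 400000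
set_option maxHeartbeats 1000000
universe u

open CategoryTheory CategoryTheory.Limits MonoidalCategory CartesianMonoidalCategory MonObj GrpObj AlgebraicGeometry
  TopologicalSpace
open Groth.Agent

noncomputable section

namespace Groth.Agent.H25AbCube

/-- A nonsingular integer matrix is equivalent to a diagonal one. -/
theorem exists_diagonal_int {r : ℕ} (α : Matrix (Fin r) (Fin r) ℤ) (h : α.det ≠ 0) :
    ∃ (U V : Matrix (Fin r) (Fin r) ℤ) (a : Fin r → ℤ), IsUnit U ∧ IsUnit V ∧
      α = U * Matrix.diagonal a * V := by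
  classical
  let b := Pi.basisFun ℤ (Fin r)
  let f := Matrix.toLin b b α
  have hf : Function.Injective f := by
    refine LinearMap.ker_eq_bot.1 (by_contra fun hk => h ?_)
    rw [← LinearMap.det_toLin b α]
    exact LinearMap.det_eq_zero_iff_ker_ne_bot.2 hk
  let N := LinearMap.range f
  let e0 : (Fin r → ℤ) ≃ₗ[ℤ] N := LinearEquiv.ofInjective f hf
  have hr : Module.finrank ℤ N = Module.finrank ℤ (Fin r → ℤ) := e0.finrank_eq.symm
  let bT := Submodule.smithNormalFormTopBasis b hr
  let bN := Submodule.smithNormalFormBotBasis b hr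
  let a := Submodule.smithNormalFormCoeffs b hr
  have hu : ∀ {M M' : Type} [AddCommGroup M] [Module ℤ M] [AddCommGroup M'] [Module ℤ M'] (e : M ≃ₗ[ℤ] M')
      (c : Module.Basis (Fin r) ℤ M) (c' : Module.Basis (Fin r) ℤ M'),
      IsUnit (LinearMap.toMatrix c c' e.toLinearMap) := fun e c c' => by
    refine isUnit_iff_exists.2 ⟨LinearMap.toMatrix c' c e.symm.toLinearMap, ?_, ?_⟩
    · rw [← LinearMap.toMatrix_comp, LinearEquiv.comp_coe, LinearEquiv.symm_trans_self]
      exact LinearMap.toMatrix_id c'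
    · rw [← LinearMap.toMatrix_comp, LinearEquiv.comp_coe, LinearEquiv.self_trans_symm]
      exact LinearMap.toMatrix_id c
  refine ⟨LinearMap.toMatrix bT b (LinearEquiv.refl ℤ (Fin r → ℤ)).toLinearMap,
    LinearMap.toMatrix b bN e0.toLinearMap, a, hu _ _ _, hu _ _ _, ?_⟩
  have hd : LinearMap.toMatrix bN bT N.subtype = Matrix.diagonal a := by
    ext i j
    rw [LinearMap.toMatrix_apply, Submodule.subtype_apply, Submodule.smithNormalFormBotBasis_def b hr j, map_smul,
      Finsupp.smul_apply, Module.Basis.repr_self, Finsupp.single_apply, Matrix.diagonal_apply, smul_eq_mul]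
    rcases eq_or_ne i j with rfl | hij
    · simp [a]
    · simp [hij, Ne.symm hij]
  rw [← hd, ← LinearMap.toMatrix_comp, ← LinearMap.toMatrix_comp]
  exact (LinearMap.toMatrix_toLin b b α).symm

variable {k : Type u} [Field k] {X : Over (Spec (CommRingCat.of k))} [GrpObj X] [IsCommMonObj X] [IsProper X.hom]
  [GeometricallyIntegral X.hom]

variable (X) in
/-- A power of an abelian variety. -/
theorem exists_power {g : ℕ} (hg : topologicalKrullDim X.left = g) (r : ℕ) :
    ∃ (Y : Over (Spec (CommRingCat.of k))) (_ : GrpObj Y) (_ : IsProper Y.hom) (_ : GeometricallyIntegral Y.hom)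
      (π : Fin r → (Y ⟶ X)), IsCommMonObj Y ∧ (∀ i, IsMonHom (π i)) ∧
      topologicalKrullDim Y.left = (r * g : ℕ) ∧
      (∀ {T : Over (Spec (CommRingCat.of k))} (f : Fin r → (T ⟶ X)), ∃! h : T ⟶ Y, ∀ i, h ≫ π i = f i) := by
  induction r with
  | zero =>
    haveI : IsProper (𝟙_ (Over (Spec (CommRingCat.of k)))).hom := inferInstanceAs (IsProper (𝟙 _))
    haveI : GeometricallyIntegral (𝟙_ (Over (Spec (CommRingCat.of k)))).hom := ⟨fun K _ y Z a b hab => by
      haveI : IsIso (𝟙_ (Over (Spec (CommRingCat.of k)))).hom := inferInstanceAs (IsIso (𝟙 _))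
      haveI : IsIso b := hab.isIso_snd_of_isIso
      exact IsIntegral.of_isIso (inv b)⟩
    refine ⟨𝟙_ _, inferInstance, inferInstance, inferInstance, Fin.elim0, isCommMonObj_of_av, fun i => i.elim0, ?_,
      fun f => ⟨toUnit _, fun i => i.elim0, fun h _ => toUnit_unique _ _⟩⟩
    rw [zero_mul]
    haveI : Nonempty (IrreducibleCloseds (𝟙_ (Over (Spec (CommRingCat.of k)))).left) :=
      ⟨⟨closure {IsLocalRing.closedPoint k}, isIrreducible_singleton.closure, isClosed_closure⟩⟩
    refine le_antisymm (topologicalKrullDim_zero_of_discreteTopology (PrimeSpectrum k)) ?_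
    exact Order.krullDim_nonneg
  | succ r ih =>
    obtain ⟨Y, gY, pY, iY, π, hc, hπ, hd, huniv⟩ := ih
    haveI := hc
    haveI : GeometricallyIntegral (X ⊗ Y).hom := H25Rig.geometricallyIntegral_tensor X Y
    haveI : IsProper (X ⊗ Y).hom := by
      show IsProper (pullback.fst X.hom Y.hom ≫ X.hom)
      infer_instance
    refine ⟨X ⊗ Y, inferInstance, inferInstance, inferInstance, Fin.cons (fst X Y) fun i => snd X Y ≫ π i,
      isCommMonObj_of_av, ?_, ?_, fun {T} f => ?_⟩
    · refine Fin.cases (inferInstanceAs (IsMonHom (fst X Y))) fun i => ?_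
      haveI := hπ i
      exact inferInstanceAs (IsMonHom (snd X Y ≫ π i))
    · change topologicalKrullDim ↥(pullback X.hom Y.hom) = _
      rw [Groth.Agent.S4643.result X.hom Y.hom, hg, hd]
      norm_cast
      ring
    · obtain ⟨h, hh, hu⟩ := huniv fun i => f i.succ
      refine ⟨lift (f 0) h, ?_, fun h' h'' => ?_⟩
      · refine Fin.cases (lift_fst _ _) fun i => ?_
        show lift (f 0) h ≫ snd X Y ≫ π i = f i.succ
        rw [← Category.assoc, lift_snd]
        exact hh i
      · refine CartesianMonoidalCategory.hom_ext _ _ ?_ ?_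
        · rw [lift_fst]; exact h'' 0
        · rw [lift_snd]
          refine hu _ fun i => ?_
          rw [Category.assoc]
          exact h'' i.succ

/-- An integer matrix with nonzero determinant induces an isogeny of degree `|det|^(2g)` of a power. -/
theorem degree_matrix {Y : Over (Spec (CommRingCat.of k))} [GrpObj Y] [IsCommMonObj Y] [IsProper Y.hom]
    [GeometricallyIntegral Y.hom] {g r : ℕ} (hd : topologicalKrullDim Y.left = (r * g : ℕ)) (π : Fin r → (Y ⟶ X))
    [∀ i, IsMonHom (π i)]
    (huniv : ∀ {T : Over (Spec (CommRingCat.of k))} (f : Fin r → (T ⟶ X)), ∃! h : T ⟶ Y, ∀ i, h ≫ π i = f i)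
    (α : Matrix (Fin r) (Fin r) ℤ) (hα : α.det ≠ 0) :
    ∃ φ : Y ⟶ Y, IsMonHom φ ∧ (∀ i, φ ≫ π i = ∏ j, π j ^ α i j) ∧ degree φ = α.det.natAbs ^ (2 * g) := by
  classical
  have hext : ∀ {T : Over (Spec (CommRingCat.of k))} {a b : T ⟶ Y}, (∀ i, a ≫ π i = b ≫ π i) → a = b :=
    fun {T a b} h => (huniv fun i => b ≫ π i).unique h fun i => rfl
  choose mat hmat _ using fun β : Matrix (Fin r) (Fin r) ℤ => huniv fun i => ∏ j, π j ^ β i j
  have hcomp : ∀ {T : Over (Spec (CommRingCat.of k))} (h : T ⟶ Y) (c : Fin r → ℤ),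
      h ≫ ∏ j, π j ^ c j = ∏ j, (h ≫ π j) ^ c j := by
    intro T h c
    let F : (Y ⟶ X) →* (T ⟶ X) :=
      { toFun := fun x => h ≫ x, map_one' := MonObj.comp_one _, map_mul' := fun a b => MonObj.comp_mul _ a b }
    show F (∏ j, π j ^ c j) = ∏ j, F (π j) ^ c j
    rw [map_prod]
    exact Finset.prod_congr rfl fun j _ => map_zpow F _ _
  have hhom : ∀ β, IsMonHom (mat β) := fun β => by
    refine H25Rig.isMonHom_of_one_hom _ (hext fun l => ?_)
    rw [IsMonHom.one_hom (f := π l), Category.assoc, hmat β l, hcomp]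
    simp only [IsMonHom.one_hom]
    rw [show (η[X] : 𝟙_ _ ⟶ X) = 1 by rw [Hom.one_def, toUnit_unique (toUnit (𝟙_ _)) (𝟙 _), Category.id_comp]]
    exact Finset.prod_eq_one fun j _ => one_zpow _
  have hmul : ∀ β ψ, mat (β * ψ) = mat ψ ≫ mat β := fun β ψ => hext fun i => by
    rw [Category.assoc, hmat, hmat, hcomp]
    simp only [Matrix.mul_apply, hmat]
    rw [Finset.prod_congr rfl fun l _ => (show π l ^ (∑ j, β i j * ψ j l) = ∏ j, π l ^ (β i j * ψ j l) from
      map_sum (AddMonoidHom.mk' (fun n : ℤ => Additive.ofMul (π l ^ n)) fun a b => congrArg _ (zpow_add (π l) a b))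
        _ _), Finset.prod_comm]
    refine Finset.prod_congr rfl fun j _ => ?_
    rw [← Finset.prod_zpow]
    exact Finset.prod_congr rfl fun l _ => by rw [← zpow_mul, mul_comm (ψ j l)]
  have hscalar : ∀ d : ℤ, mat (Matrix.diagonal fun _ => d) = (𝟙 Y) ^ d := fun d => hext fun i => by
    haveI := fun j => (inferInstance : IsMonHom (π j))
    rw [hmat, GrpObj.zpow_comp, Category.id_comp, Finset.prod_eq_single i]
    · rw [Matrix.diagonal_apply_eq]
    · intro j _ hj; rw [Matrix.diagonal_apply_ne _ hj.symm, zpow_zero]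
    · intro h; exact absurd (Finset.mem_univ i) h
  let D : Matrix (Fin r) (Fin r) ℤ → ℕ := fun β => degree (mat β)
  have hD : ∀ β ψ, D (β * ψ) = D β * D ψ := fun β ψ => by
    haveI := hhom β; haveI := hhom ψ
    simp only [D, hmul]
    rw [degree_comp hd hd hd, mul_comm]
  have hD1 : D 1 = 1 := by
    simp only [D]
    rw [← Matrix.diagonal_one, hscalar, zpow_one, degree_id]
  have hDu : ∀ β, IsUnit β → D β = 1 := by
    intro β hβ
    obtain ⟨ψ, hψ, -⟩ := isUnit_iff_exists.1 hβ
    exact Nat.eq_one_of_mul_eq_one_right (m := D β) (n := D ψ) (by rw [← hD, hψ, hD1])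
  have hDp : ∀ (v : Fin r → ℤ) (σ : Equiv.Perm (Fin r)), D (Matrix.diagonal (v ∘ σ)) = D (Matrix.diagonal v) := by
    intro v σ
    have h : σ.permMatrix ℤ * Matrix.diagonal v = Matrix.diagonal (v ∘ σ) * σ.permMatrix ℤ := by
      ext i j
      simp only [Matrix.mul_diagonal, Matrix.diagonal_mul, Equiv.Perm.permMatrix, PEquiv.toMatrix_apply,
        Equiv.toPEquiv_apply, Option.mem_def, Option.some.injEq, Function.comp_apply]
      split_ifs with e
      · subst e; ring
      · ring
    have hu : IsUnit (σ.permMatrix ℤ) := by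
      rw [Matrix.isUnit_iff_isUnit_det, Matrix.det_permutation]
      exact (Equiv.Perm.sign σ).isUnit
    have h2 := congrArg D h
    rw [hD, hD, hDu _ hu, _root_.mul_one, _root_.one_mul] at h2
    exact h2.symm
  rcases eq_or_ne r 0 with rfl | hr
  · refine ⟨mat α, hhom α, hmat α, ?_⟩
    show D α = _
    rw [Subsingleton.elim α 1, hD1, Matrix.det_one, Int.natAbs_one, one_pow]
  let i₀ : Fin r := ⟨0, Nat.pos_of_ne_zero hr⟩
  let single : Fin r → ℤ → (Fin r → ℤ) := fun i d => Function.update 1 i d
  let q : ℤ → ℕ := fun d => D (Matrix.diagonal (single i₀ d))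
  have hprod : ∀ v : Fin r → ℤ, D (Matrix.diagonal v) = ∏ i, q (v i) := by
    intro v
    let F : (Fin r → ℤ) →* ℕ :=
      { toFun := fun w => D (Matrix.diagonal w)
        map_one' := by rw [show (1 : Fin r → ℤ) = fun _ => 1 from rfl, Matrix.diagonal_one]; exact hD1
        map_mul' := fun a b => by rw [← hD, Matrix.diagonal_mul_diagonal]; rfl }
    show F v = _
    conv_lhs => rw [← Finset.univ_prod_mulSingle v, map_prod]
    refine Finset.prod_congr rfl fun i _ => ?_
    show D (Matrix.diagonal (Pi.mulSingle i (v i))) = D (Matrix.diagonal (single i₀ (v i)))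
    rw [← hDp (Pi.mulSingle i (v i)) (Equiv.swap i₀ i)]
    congr 2
    ext j
    by_cases hj : j = i₀
    · subst hj; simp [single]
    · rw [Function.comp_apply, Pi.mulSingle_eq_of_ne]
      · simp [single, hj]
      · intro e
        exact hj ((Equiv.swap i₀ i).injective (e.trans (Equiv.swap_apply_left i₀ i).symm))
  have hq : ∀ d, q d = d.natAbs ^ (2 * g) := by
    intro d
    have h := hprod fun _ => d
    rw [Finset.prod_const, Finset.card_univ, Fintype.card_fin] at h
    have h2 : (D (Matrix.diagonal fun _ => d) : ℤ) = d ^ (2 * (r * g)) := by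
      simp only [D, hscalar]
      exact_mod_cast degree_zpow_id hd d
    have h3 := congrArg Int.natAbs h2
    rw [Int.natAbs_natCast, Int.natAbs_pow, h, show 2 * (r * g) = 2 * g * r by ring, pow_mul] at h3
    exact Nat.pow_left_injective hr h3
  refine ⟨mat α, hhom α, hmat α, ?_⟩
  obtain ⟨U, V, a, hU, hV, he⟩ := exists_diagonal_int α hα
  show D α = _
  rw [he, hD, hD, hDu _ hU, hDu _ hV, _root_.one_mul, _root_.mul_one, hprod, Finset.prod_congr rfl fun i _ => hq (a i),
    Matrix.det_mul, Matrix.det_mul, Matrix.det_diagonal, Int.natAbs_mul, Int.natAbs_mul,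
    Int.isUnit_iff_natAbs_eq.1 ((Matrix.isUnit_iff_isUnit_det U).1 hU),
    Int.isUnit_iff_natAbs_eq.1 ((Matrix.isUnit_iff_isUnit_det V).1 hV), _root_.one_mul, _root_.mul_one,
    Finset.prod_pow]
  congr 1
  exact (map_prod Int.natAbsHom a Finset.univ).symm

end Groth.Agent.H25AbCube
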