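import Groth.Agent.H25AbCube.PoincareSplit
import Groth.Agent.H25AbCube.GeomDvd
import Groth.Agent.H19Grp.AffineQuotient
import Groth.Agent.H19Grp.CommOrder
import Groth.Agent.H19Grp.Quotient
import Groth.Prelude.Def_EndTate
import Mathlib.RingTheory.Artinian.Algebra

/-!
# Isogenies have inverses up to integers; endomorphism algebras are regular
-/

set_option autoImplicit false
set_option linter.style.haveILetI false
set_option linter.unusedSectionVars false
set_option backward.isDefEq.respectTransparency false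
set_option synthInstance.maxHeartbeats 400000
set_option maxHeartbeats 1000000
universe u

open CategoryTheory CategoryTheory.Limits MonoidalCategory CartesianMonoidalCategory MonObj GrpObj AlgebraicGeometry
  TopologicalSpace
open Groth.Agent

noncomputable section

namespace Groth.Agent.H25AbCube

open GeomTate

attribute [local instance] Functor.grpObjObj

variable {k : Type u} [Field k] {A X : Over (Spec (CommRingCat.of k))} [GrpObj A] [IsProper A.hom]
  [GeometricallyIntegral A.hom] [IsCommMonObj A] [GrpObj X] [IsProper X.hom] [GeometricallyIntegral X.hom]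
  [IsCommMonObj X]

/-- A homomorphism whose kernel has finitely many geometric points is finite. -/
theorem isFinite_of_finite_ker (f : X ⟶ A) [IsMonHom f]
    (hker : Set.Finite {x : SGA7.pt (AlgebraicClosure k) ⟶ X | x ≫ f = 1}) : IsFinite f.left := by
  let Ω := AlgebraicClosure k
  haveI := hker.to_subtype
  obtain ⟨n, hn, hn', hnΩ⟩ := exists_prime_gt Ω (Nat.card ↥{x : SGA7.pt Ω ⟶ X | x ≫ f = 1})
  let Kf : Subgroup (SGA7.pt Ω ⟶ X) := (MonoidHom.mk' (fun x : SGA7.pt Ω ⟶ X => x ≫ f)
    fun x y => MonObj.mul_comp x y f).ker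
  have h1 : ∀ x : SGA7.pt Ω ⟶ X, x ≫ f = 1 → x ^ n = 1 → x = 1 := by
    intro x hx hxn
    let y : ↥Kf := ⟨x, hx⟩
    haveI : Finite ↥Kf := hker.to_subtype
    have hy : y ^ n = 1 := Subtype.ext hxn
    rcases hn.eq_one_or_self_of_dvd _ (orderOf_dvd_of_pow_eq_one hy) with e | e
    · exact congrArg Subtype.val (orderOf_eq_one_iff.1 e)
    · have : orderOf y ≤ Nat.card ↥Kf := Nat.le_of_dvd Nat.card_pos (orderOf_dvd_natCard y)
      have hK : Nat.card ↥Kf = Nat.card ↥{x : SGA7.pt Ω ⟶ X | x ≫ f = 1} := rfl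
      omega
  haveI : IsFinite ((bc k Ω).map f).left := by
    by_contra hnf
    obtain ⟨W, gW, _, _, w, hw, d, hmono, hws, hd, hWdim⟩ := exists_abelian_in_kernel ((bc k Ω).map f) hnf
    haveI := hw; haveI := hmono
    haveI : IsCommMonObj W := isCommMonObj_of_av
    have hcard := card_torsPts (A := W) hnΩ d hWdim
    haveI : Subsingleton ↥(AbDual.torsPts W n (pt1 Ω)) := by
      refine ⟨fun x y => Subtype.ext ?_⟩
      have key : ∀ x : ↥(AbDual.torsPts W n (pt1 Ω)), x.1 = 1 := by
        intro x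
        refine (cancel_mono w).1 ?_
        rw [MonObj.one_comp, ← (ψ X).apply_symm_apply (x.1 ≫ w), ← map_one (ψ (Ω := Ω) X)]
        refine congrArg _ (h1 _ ?_ ?_)
        · refine (ψ A).injective ?_
          rw [ψ_comp, MulEquiv.apply_symm_apply, map_one, Category.assoc, hws, MonObj.comp_one]
        · rw [← map_pow, ← MonObj.pow_comp, (AbDual.mem_torsPts W x.1).1 x.2, MonObj.one_comp, map_one]
      rw [key x, key y]
    rw [Nat.card_unique] at hcard
    have := Nat.one_lt_pow (n := 2 * d) (by omega) hn.one_lt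
    omega
  haveI : IsProper (f.left ≫ A.hom) := by rw [Over.w f]; infer_instance
  haveI : IsProper f.left := IsProper.of_comp f.left A.hom
  haveI : LocallyQuasiFinite f.left := by
    refine LocallyQuasiFinite.of_finite_preimage_singleton f.left (fun y => ?_)
    haveI := surjective_σ k Ω
    haveI : Surjective (pullback.fst A.hom (σ k Ω)) := MorphismProperty.pullback_fst _ _ inferInstance
    obtain ⟨y', rfl⟩ := (pullback.fst A.hom (σ k Ω)).surjective y
    refine ((Scheme.Hom.finite_preimage_singleton ((bc k Ω).map f).left y').image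
      (pullback.fst X.hom (σ k Ω))).subset ?_
    intro x hx
    obtain ⟨o, ho1, ho2⟩ := Scheme.exists_preimage_of_isPullback (isPullback_map (Ω := Ω) X f) x y' hx
    exact ⟨o, ho2, ho1⟩
  exact IsFinite.of_isProper_of_locallyQuasiFinite f.left

/-- Isogenies have inverses up to a positive integer. -/
theorem exists_isogeny_inverse (s : X ⟶ A) [IsMonHom s] [IsFinite s.left] [Surjective s.left] :
    ∃ N : ℕ, 0 < N ∧ ∃ τ : A ⟶ X, IsMonHom τ ∧ s ≫ τ = (𝟙 X) ^ N ∧ τ ≫ s = (𝟙 A) ^ N := by
  haveI : IsIntegral A.left := GeometricallyIntegral.isIntegral_of_subsingleton A.hom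
  haveI : Smooth A.hom := by
    haveI : GrpObj (Over.mk A.hom) := inferInstanceAs (GrpObj A)
    exact smooth_of_grpObj A.hom
  haveI : Flat s.left := H19Grp.flat_of_surjective s
  obtain ⟨K, gK, i, hi, hic, hker⟩ := H19Grp.AffineQuotient.exists_kernel s
  haveI := hi; haveI := hic
  haveI : Mono i := Over.mono_of_mono_left i
  haveI : IsCommMonObj K := ⟨by
    rw [← cancel_mono i, Category.assoc, IsMonHom.mul_hom i, ← BraidedCategory.braiding_naturality_assoc,
      IsCommMonObj.mul_comm]⟩
  haveI : IsFinite K.hom := by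
    let m : K.left ⟶ pullback s.left (η[A]).left := pullback.lift i.left K.hom
      ((congrArg (·.left) (H19Grp.kernel_comp_eq_one hker)).trans (H19Grp.one_left K))
    haveI : IsClosedImmersion (m ≫ pullback.fst s.left (η[A]).left) := by
      rw [pullback.lift_fst]; infer_instance
    haveI : IsClosedImmersion m := IsClosedImmersion.of_comp m (pullback.fst s.left (η[A]).left)
    rw [show K.hom = m ≫ pullback.snd s.left (η[A]).left from (pullback.lift_snd _ _ _).symm]
    infer_instance
  haveI : IsNoetherianRing (CommRingCat.of k) := inferInstanceAs (IsNoetherianRing k)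
  haveI : Flat K.hom := inferInstance
  haveI : LocallyOfFinitePresentation K.hom := inferInstance
  let r := K.hom.finrank (IsLocalRing.closedPoint k)
  have hr : 0 < r := by
    have h := Scheme.Hom.one_le_finrank_map K.hom ((η[K]).left (IsLocalRing.closedPoint k))
    rwa [show K.hom ((η[K]).left (IsLocalRing.closedPoint k)) = IsLocalRing.closedPoint k from
      Subsingleton.elim (α := PrimeSpectrum k) _ _] at h
  have hK : (𝟙 K : K ⟶ K) ^ r = 1 := H19Grp.CommOrder.id_pow_eq_one K r fun x =>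
    congrArg K.hom.finrank (Subsingleton.elim (α := PrimeSpectrum k) x _)
  have hkill : i ≫ ((𝟙 X) ^ r : X ⟶ X) = 1 := by
    rw [MonObj.comp_pow, Category.comp_id, ← Category.id_comp i, ← MonObj.pow_comp, hK, MonObj.one_comp]
  haveI : IsMonHom ((𝟙 X) ^ r : X ⟶ X) := isMonHom_pow r
  obtain ⟨τ, hτ, hfac, -⟩ := H19Grp.exists_monHom_desc s hker ((𝟙 X) ^ r : X ⟶ X)
    (by rw [hkill, Hom.one_def])
  haveI := hτ
  haveI : Epi s := H19Grp.epi_over_of_fpqc s
  refine ⟨r, hr, τ, hτ, hfac, (cancel_epi s).1 ?_⟩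
  rw [← Category.assoc, hfac, MonObj.pow_comp, Category.id_comp, MonObj.comp_pow, Category.comp_id]

/-- Endomorphisms of an abelian variety are regular up to a positive integer. -/
theorem exists_regular (φ : A ⟶ A) [IsMonHom φ] :
    ∃ N : ℕ, 0 < N ∧ ∃ ψ : A ⟶ A, IsMonHom ψ ∧ φ ≫ ψ ≫ φ = φ ^ N := by
  let Ω := AlgebraicClosure k
  haveI : Smooth A.hom := by
    haveI : GrpObj (Over.mk A.hom) := inferInstanceAs (GrpObj A)
    exact smooth_of_grpObj A.hom
  obtain ⟨N₀, gN, iN, hiN, hiNc, hker⟩ := H19Grp.AffineQuotient.exists_kernel φ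
  haveI := hiN; haveI := hiNc
  haveI : IsProper N₀.hom := by rw [← Over.w iN]; infer_instance
  obtain ⟨C, gpC, _, _, c, Q, gQ, ρ, hc, hcc, hρ, hQf, hlift⟩ := exists_abelian_part N₀
  haveI := hc; haveI := hcc; haveI := hρ; haveI := hQf
  haveI : IsCommMonObj C := isCommMonObj_of_av
  let j₀ : C ⟶ A := c ≫ iN
  haveI : IsClosedImmersion j₀.left := by
    show IsClosedImmersion (c.left ≫ iN.left)
    infer_instance
  haveI : Mono j₀ := Over.mono_of_mono_left j₀
  obtain ⟨D, gD, jD, hDp, hDg, hjD, hjDc, hs, hsf⟩ := exists_complement A C j₀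
  haveI := hjD; haveI := hjDc; haveI := hDp; haveI := hDg; haveI := hs; haveI := hsf
  haveI : Mono jD := Over.mono_of_mono_left jD
  haveI : IsCommMonObj D := isCommMonObj_of_av
  let σ₁ : C ⊗ D ⟶ A := (fst C D ≫ j₀) * (snd C D ≫ jD)
  let f : D ⟶ A := jD ≫ φ
  haveI : IsMonHom σ₁ := by
    rw [show σ₁ = lift (fst C D ≫ j₀) (snd C D ≫ jD) ≫ μ[A] from rfl]
    infer_instance
  -- the endomorphism is finite on the complement
  haveI : IsFinite f.left := by
    refine isFinite_of_finite_ker f ?_
    haveI : Finite (SGA7.pt Ω ⟶ Q) := finite_pt_hom Q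
    have hsk : Set.Finite {x : SGA7.pt Ω ⟶ C ⊗ D | x ≫ σ₁ = 1} := by
      haveI : LocallyQuasiFinite σ₁.left := inferInstanceAs (LocallyQuasiFinite ((fst C D ≫ j₀) * (snd C D ≫ jD)).left)
      obtain ⟨K, gK, i, hi, hic, hk⟩ := H19Grp.AffineQuotient.exists_kernel σ₁
      haveI := hic
      haveI : IsFinite K.hom := by
        let m : K.left ⟶ pullback σ₁.left (η[A]).left := pullback.lift i.left K.hom
          ((congrArg (·.left) (H19Grp.kernel_comp_eq_one hk)).trans (H19Grp.one_left K))
        haveI : IsClosedImmersion (m ≫ pullback.fst σ₁.left (η[A]).left) := by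
          rw [pullback.lift_fst]; infer_instance
        haveI : IsClosedImmersion m := IsClosedImmersion.of_comp m (pullback.fst σ₁.left (η[A]).left)
        rw [show K.hom = m ≫ pullback.snd σ₁.left (η[A]).left from (pullback.lift_snd _ _ _).symm]
        haveI : IsFinite σ₁.left := hsf
        infer_instance
      haveI : Finite (SGA7.pt Ω ⟶ K) := finite_pt_hom K
      refine (Set.finite_range (fun z : SGA7.pt Ω ⟶ K => z ≫ i)).subset fun x hx => ?_
      exact H19Grp.kernel_lift hk x hx
    have hlift' : ∀ x : SGA7.pt Ω ⟶ D, x ≫ f = 1 → ∃ z : SGA7.pt Ω ⟶ N₀, z ≫ iN = x ≫ jD := fun x hx =>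
      H19Grp.kernel_lift hker _ ((Category.assoc x jD φ).trans hx)
    choose z hz using hlift'
    haveI : Finite ↥{x : SGA7.pt Ω ⟶ C ⊗ D | x ≫ σ₁ = 1} := hsk.to_subtype
    refine Set.finite_coe_iff.1 ?_
    -- choose one point in each class modulo the abelian part
    let S := ↥{x : SGA7.pt Ω ⟶ D | x ≫ f = 1}
    let F : S → (SGA7.pt Ω ⟶ Q) := fun x => z x.1 x.2 ≫ ρ
    have hfib : ∀ q, Finite {x : S // F x = q} := by
      intro q
      rcases isEmpty_or_nonempty {x : S // F x = q} with h | ⟨⟨x₀, hx₀⟩⟩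
      · infer_instance
      · have hd : ∀ x : {x : S // F x = q}, ∃ y : SGA7.pt Ω ⟶ C, y ≫ j₀ = (x.1.1 / x₀.1) ≫ jD := fun x => by
          obtain ⟨y, hy⟩ := hlift _ (z x.1.1 x.1.2 / z x₀.1 x₀.2) (by
            rw [GrpObj.div_comp]
            exact div_eq_one.2 (x.2.trans hx₀.symm))
          refine ⟨y, ?_⟩
          show y ≫ c ≫ iN = _
          rw [← Category.assoc, hy, GrpObj.div_comp, GrpObj.div_comp, hz, hz]
        choose y hy using hd
        refine Finite.of_injective (fun x => (⟨lift (y x) (x.1.1 / x₀.1)⁻¹, ?_⟩ :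
          ↥{x : SGA7.pt Ω ⟶ C ⊗ D | x ≫ σ₁ = 1})) ?_
        · show _ ≫ σ₁ = 1
          simp only [σ₁, MonObj.comp_mul, lift_fst_assoc, lift_snd_assoc, hy, GrpObj.inv_comp, mul_inv_cancel]
        · intro a b hab
          have h := congrArg (fun x : ↥{x : SGA7.pt Ω ⟶ C ⊗ D | x ≫ σ₁ = 1} => x.1 ≫ snd C D) hab
          simp only [lift_snd, inv_inj, div_left_inj] at h
          exact Subtype.ext (Subtype.ext h)
    exact Finite.of_equiv _ (Equiv.sigmaFiberEquiv F)
  obtain ⟨E, gE, jE, hEp, hEg, hjE, hjEc, hs', hsf'⟩ := exists_complement A D f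
  haveI := hjE; haveI := hEp; haveI := hEg; haveI := hs'; haveI := hsf'
  haveI : IsCommMonObj E := isCommMonObj_of_av
  let σ₂ : D ⊗ E ⟶ A := (fst D E ≫ f) * (snd D E ≫ jE)
  haveI : IsMonHom σ₂ := by
    rw [show σ₂ = lift (fst D E ≫ f) (snd D E ≫ jE) ≫ μ[A] from rfl]
    infer_instance
  haveI : IsProper (D ⊗ E).hom := by
    show IsProper (pullback.fst D.hom E.hom ≫ D.hom)
    infer_instance
  haveI : GeometricallyIntegral (D ⊗ E).hom := H25Rig.geometricallyIntegral_tensor D E
  haveI : IsCommMonObj (D ⊗ E) := isCommMonObj_of_av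
  haveI : IsFinite σ₂.left := hsf'
  haveI : Surjective σ₂.left := hs'
  obtain ⟨N, hN, τ, hτ, hsτ, -⟩ := exists_isogeny_inverse σ₂
  haveI := hτ
  refine ⟨N, hN, τ ≫ fst D E ≫ jD, inferInstance, ?_⟩
  -- the first summand is mapped into the image
  have hkey : f ≫ (τ ≫ fst D E ≫ jD) ≫ φ = f ^ N := by
    have h : f = lift (𝟙 D) (1 : D ⟶ E) ≫ σ₂ := by
      simp [σ₂, MonObj.comp_mul, MonObj.one_comp]
    conv_lhs => rw [h]
    simp only [Category.assoc]
    rw [reassoc_of% hsτ, MonObj.pow_comp, Category.id_comp, MonObj.comp_pow, lift_fst_assoc, Category.id_comp]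
  haveI : Smooth (C ⊗ D).hom := by
    haveI : GrpObj (Over.mk (C ⊗ D).hom) := inferInstanceAs (GrpObj (C ⊗ D))
    haveI : IsProper (C ⊗ D).hom := by
      show IsProper (pullback.fst C.hom D.hom ≫ C.hom)
      infer_instance
    haveI : GeometricallyIntegral (C ⊗ D).hom := H25Rig.geometricallyIntegral_tensor C D
    exact smooth_of_grpObj (C ⊗ D).hom
  haveI : Flat σ₁.left := by
    haveI : IsIntegral A.left := GeometricallyIntegral.isIntegral_of_subsingleton A.hom
    haveI : Surjective σ₁.left := hs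
    exact H19Grp.flat_of_surjective σ₁
  haveI : Surjective σ₁.left := hs
  haveI : Epi σ₁ := H19Grp.epi_over_of_fpqc σ₁
  refine (cancel_epi σ₁).1 ?_
  have hσ : σ₁ ≫ φ = snd C D ≫ f := by
    simp only [σ₁, f, MonObj.mul_comp, Category.assoc]
    rw [show j₀ ≫ φ = 1 from by simp [j₀, H19Grp.kernel_comp_eq_one hker, MonObj.comp_one], MonObj.comp_one,
      _root_.one_mul]
  rw [MonObj.comp_pow, ← Category.assoc, hσ, Category.assoc, hkey, MonObj.comp_pow]

end Groth.Agent.H25AbCube
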