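import Groth.Agent.H25AbCube.FrobPoints
import Groth.Agent.H25AbCube.DetPower
import Groth.Agent.H25Chow.Quot
import Groth.Prelude.Def_EndRing

/-!
# Cogenerated classes of abelian varieties over finite fields
-/

set_option autoImplicit false
set_option linter.style.haveILetI false
set_option linter.unusedSectionVars false
set_option backward.isDefEq.respectTransparency false
set_option synthInstance.maxHeartbeats 400000
set_option maxHeartbeats 1000000
universe u

open CategoryTheory CategoryTheory.Limits MonoidalCategory CartesianMonoidalCategory MonObj GrpObj AlgebraicGeometry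
  FrobSch
open Groth.Agent

noncomputable section

namespace Groth.Agent.H25AbCube.Cogen

open Groth.Agent.H27Perf.Tower (fr fr_add)
open FrobPoints

variable (p : ℕ) [Fact p.Prime]

theorem fr_data {X : Scheme.{u}} [IsCharP X p] : ∀ n,
    (fr p X n).base = 𝟙 _ ∧ ∀ (U : X.Opens) (e : U ≤ fr p X n ⁻¹ᵁ U) (s : Γ(X, U)),
      ((fr p X n).appLE U U e).hom s = s ^ p ^ n
  | 0 => ⟨rfl, fun U e s => by
      show (X.presheaf.map (homOfLE e).op).hom s = _
      rw [pow_zero, pow_one]
      exact congrArg (fun w => w.hom s) (X.presheaf.map_id (Opposite.op U))⟩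
  | n + 1 => by
    obtain ⟨hb, ha⟩ := fr_data (X := X) n
    refine ⟨?_, fun U e s => ?_⟩
    · show (fr p X n ≫ frob X p).base = _
      rw [Scheme.Hom.comp_base, hb, frob_base, Category.id_comp]
    · have e₁ : U ≤ fr p X n ⁻¹ᵁ U := e
      show ((fr p X n ≫ frob X p).appLE U U e).hom s = _
      rw [← Scheme.Hom.appLE_comp_appLE (fr p X n) (frob X p) U U U le_rfl e₁, CommRingCat.comp_apply]
      refine (ha U e₁ _).trans ?_
      have h1 : ((frob X p).appLE U U le_rfl).hom s = s ^ p := by
        show (X.presheaf.map (𝟙 (Opposite.op U))).hom (s ^ p) = s ^ p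
        rw [X.presheaf.map_id]; rfl
      rw [pow_succ' p n, pow_mul]
      exact congrArg (· ^ p ^ n) h1

theorem eq_fr {X : Scheme.{u}} [IsCharP X p] (g : X ⟶ X) (n : ℕ) (hb : g.base = 𝟙 _) (hle : ∀ U : X.Opens, U ≤ g ⁻¹ᵁ U)
    (ha : ∀ (U : X.Opens) (s : Γ(X, U)), (g.appLE U U (hle U)).hom s = s ^ p ^ n) : g = fr p X n := by
  obtain ⟨hb', ha'⟩ := fr_data (X := X) p n
  have hpre : ∀ U : X.Opens, g ⁻¹ᵁ U = U := fun U => by
    ext x
    show g.base x ∈ U ↔ x ∈ U
    rw [hb]; rfl
  refine Scheme.Hom.ext (hb.trans hb'.symm) fun U => ?_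
  have e' : U ≤ fr p X n ⁻¹ᵁ U := fun x hx => by
    show (fr p X n).base x ∈ U
    rw [hb']; exact hx
  have hpre' : fr p X n ⁻¹ᵁ U = U := by
    ext x
    show (fr p X n).base x ∈ U ↔ x ∈ U
    rw [hb']; rfl
  refine CommRingCat.hom_ext (RingHom.ext fun s => ?_)
  have h : (g.appLE U U (hle U)).hom s = ((fr p X n).appLE U U e').hom s := (ha U s).trans (ha' U e' s).symm
  have hj : Function.Injective (X.presheaf.map (homOfLE e').op).hom := by
    haveI : IsIso (homOfLE e') := ⟨homOfLE hpre'.le, rfl, rfl⟩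
    exact ((forget CommRingCat).mapIso (asIso (X.presheaf.map (homOfLE e').op))).toEquiv.injective
  apply hj
  refine Eq.trans ?_ h
  rw [CommRingCat.hom_comp, RingHom.comp_apply, ← RingHom.comp_apply (X.presheaf.map (homOfLE e').op).hom,
    ← CommRingCat.hom_comp, ← Functor.map_comp]
  rfl

variable {k : Type u} [Field k] {X Z : Over (Spec (CommRingCat.of k))} [GrpObj X] [IsCommMonObj X] [GrpObj Z] [IsCommMonObj Z]

theorem eval₂_intertwine (a : EndAV.End X) (b : EndAV.End Z) (h : X ⟶ Z) [IsMonHom h]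
    (hc : a.toHom ≫ h = h ≫ b.toHom) (P : Polynomial ℤ) :
    (Polynomial.eval₂ (Int.castRingHom (EndAV.End X)) a P).toHom ≫ h =
      h ≫ (Polynomial.eval₂ (Int.castRingHom (EndAV.End Z)) b P).toHom := by
  induction P using Polynomial.induction_on' with
  | add p q hp hq =>
    rw [Polynomial.eval₂_add, Polynomial.eval₂_add, EndAV.End.toHom_add, EndAV.End.toHom_add, MonObj.mul_comp,
      MonObj.comp_mul, hp, hq]
  | monomial n c =>
    rw [Polynomial.eval₂_monomial, Polynomial.eval₂_monomial, EndAV.End.toHom_mul, EndAV.End.toHom_mul,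
      eq_intCast, eq_intCast, EndAV.End.toHom_intCast, EndAV.End.toHom_intCast, Category.assoc]
    have hpow : ∀ m, (a ^ m).toHom ≫ h = h ≫ (b ^ m).toHom := fun m => by
      induction m with
      | zero => rw [pow_zero, pow_zero, EndAV.End.toHom_one, EndAV.End.toHom_one, Category.id_comp, Category.comp_id]
      | succ m ih =>
        rw [EndAV.End.toHom_pow_succ, EndAV.End.toHom_pow_succ, Category.assoc, hc, ← Category.assoc, ih,
          Category.assoc]
    rw [GrpObj.zpow_comp, Category.id_comp, ← Category.assoc h, ← hpow n, GrpObj.comp_zpow, GrpObj.comp_zpow,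
      Category.comp_id]

end Groth.Agent.H25AbCube.Cogen
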