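import Groth.Agent.H25AbCube.LinkCurve
import Groth.Agent.H06Conn.GoingDown

/-!
# Rational points of a variety are linked over the algebraic closure of the function field
-/

set_option autoImplicit false
set_option linter.style.haveILetI false
set_option backward.isDefEq.respectTransparency false
universe u

open CategoryTheory CategoryTheory.Limits MonoidalCategory CartesianMonoidalCategory AlgebraicGeometry
open Groth.Agent
open scoped TensorProduct

noncomputable section

namespace Groth.Agent.H25AbCube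

/-- An embedding into an algebraically closed field extends along an algebraic extension. -/
theorem exists_ext_hom {A L M : Type u} [CommRing A] [IsDomain A] [Field L] [Field M] [IsAlgClosed M]
    (η : A →+* L) (hη : Function.Injective η) (halg : letI := η.toAlgebra; Algebra.IsAlgebraic A L)
    (ψ : A →+* M) (hψ : Function.Injective ψ) : ∃ e : L →+* M, e.comp η = ψ := by
  letI := η.toAlgebra
  letI := ψ.toAlgebra
  haveI := halg
  haveI : FaithfulSMul A L := (faithfulSMul_iff_algebraMap_injective A L).2 hη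
  haveI : FaithfulSMul A M := (faithfulSMul_iff_algebraMap_injective A M).2 hψ
  exact ⟨(IsAlgClosed.lift (R := A) (S := L) (M := M)).toRingHom, RingHom.ext fun a =>
    AlgHom.commutes (IsAlgClosed.lift (R := A) (S := L) (M := M)) a⟩

variable {k K : Type u} [Field k] [Field K] [Algebra k K]

/-- The relation of being linked. -/
def Linked (U : Over (Spec (CommRingCat.of k))) (x x' : TK k K ⟶ U) : Prop := Nonempty (Link U x x')

theorem eqvGen_res {K' : Type u} [Field K'] [Algebra k K'] (e : K →ₐ[k] K') {U : Over (Spec (CommRingCat.of k))}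
    {x x' : TK k K ⟶ U} (h : Relation.EqvGen (Linked U) x x') : Relation.EqvGen (Linked U) (res e x) (res e x') := by
  induction h with
  | rel a b h => obtain ⟨l⟩ := h; exact .rel _ _ (link_res e l)
  | refl a => exact .refl _
  | symm a b _ ih => exact .symm _ _ ih
  | trans a b c _ _ ih ih' => exact .trans _ _ _ ih ih'

variable {U : Over (Spec (CommRingCat.of k))} {A : Type u} [CommRing A] [Algebra k A]
  (f : Spec (CommRingCat.of A) ⟶ U.left) (hf : f ≫ U.hom = Spec.map (CommRingCat.ofHom (algebraMap k A)))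

/-- The point of an algebra map. -/
def ptA (φ : A →ₐ[k] K) : TK k K ⟶ U :=
  Over.homMk (Spec.map (CommRingCat.ofHom φ.toRingHom) ≫ f) (by
    show (Spec.map (CommRingCat.ofHom φ.toRingHom) ≫ f) ≫ U.hom = tK k K
    rw [Category.assoc, hf, ← Spec.map_comp, ← CommRingCat.ofHom_comp]
    erw [φ.comp_algebraMap])

theorem res_ptA {K' : Type u} [Field K'] [Algebra k K'] (e : K →ₐ[k] K') (φ : A →ₐ[k] K) :
    res e (ptA f hf φ) = ptA f hf (e.comp φ) := by
  apply Over.OverMorphism.ext
  show Spec.map _ ≫ Spec.map _ ≫ f = Spec.map _ ≫ f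
  rw [← Category.assoc, ← Spec.map_comp]
  rfl

variable {n : ℕ}

/-- The extension of a normalisation map to `K`. -/
def lineG (g : MvPolynomial (Fin n) k →ₐ[k] A) : MvPolynomial (Fin n) K →ₐ[K] K ⊗[k] A :=
  MvPolynomial.aeval fun i => (1 : K) ⊗ₜ[k] g (MvPolynomial.X i)

theorem lineG_X (g : MvPolynomial (Fin n) k →ₐ[k] A) (i : Fin n) :
    lineG (K := K) g (MvPolynomial.X i) = (1 : K) ⊗ₜ[k] g (MvPolynomial.X i) := MvPolynomial.aeval_X _ i

theorem lineG_injective (g : MvPolynomial (Fin n) k →ₐ[k] A) (hg : Function.Injective g) :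
    Function.Injective (lineG (K := K) g) := by
  let G' : MvPolynomial (Fin n) K ≃ₐ[K] K ⊗[k] MvPolynomial (Fin n) k := (MvPolynomial.algebraTensorAlgEquiv k K).symm
  have e1 : lineG (K := K) g = (Algebra.TensorProduct.map (AlgHom.id K K) g).comp G'.toAlgHom := by
    refine MvPolynomial.algHom_ext fun i => ?_
    simp [lineG_X, G', MvPolynomial.algebraTensorAlgEquiv_symm_X]
  rw [e1]
  have h : Function.Injective (Algebra.TensorProduct.map (AlgHom.id K K) g) :=
    Module.Flat.lTensor_preserves_injective_linearMap (M := K) g.toLinearMap hg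
  exact h.comp G'.injective

theorem lineG_isIntegral (g : MvPolynomial (Fin n) k →ₐ[k] A) (hgfin : g.toRingHom.Finite) :
    (lineG (K := K) g).toRingHom.IsIntegral := by
  let S := MvPolynomial (Fin n) K
  letI := (lineG (K := K) g).toRingHom.toAlgebra
  haveI : IsScalarTower K S (K ⊗[k] A) := IsScalarTower.of_algHom (lineG g)
  intro z
  change IsIntegral S z
  induction z using TensorProduct.induction_on with
  | zero => exact isIntegral_zero
  | add x y hx hy => exact hx.add hy
  | tmul c a =>
    have h1 : IsIntegral S (algebraMap K (K ⊗[k] A) c) := by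
      rw [IsScalarTower.algebraMap_apply K S (K ⊗[k] A)]; exact isIntegral_algebraMap
    have h2 : IsIntegral S ((1 : K) ⊗ₜ[k] a) := by
      obtain ⟨P, hPm, hP⟩ := RingHom.Finite.to_isIntegral hgfin a
      refine ⟨P.map (MvPolynomial.map (algebraMap k K)), hPm.map _, ?_⟩
      rw [Polynomial.eval₂_map]
      have e2 : (algebraMap S (K ⊗[k] A)).comp (MvPolynomial.map (algebraMap k K)) =
          (Algebra.TensorProduct.includeRight : A →ₐ[k] K ⊗[k] A).toRingHom.comp g.toRingHom := by
        refine MvPolynomial.ringHom_ext (fun c => ?_) fun i => ?_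
        · show lineG g (MvPolynomial.map (algebraMap k K) (MvPolynomial.C c)) =
            (1 : K) ⊗ₜ[k] g (MvPolynomial.C c)
          rw [MvPolynomial.map_C, ← MvPolynomial.algebraMap_eq, AlgHom.commutes, ← MvPolynomial.algebraMap_eq,
            AlgHom.commutes, Algebra.TensorProduct.algebraMap_apply]
          exact Algebra.TensorProduct.tmul_one_eq_one_tmul c
        · show lineG g (MvPolynomial.map (algebraMap k K) (MvPolynomial.X i)) = (1 : K) ⊗ₜ[k] g (MvPolynomial.X i)
          rw [MvPolynomial.map_X]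
          exact lineG_X g i
      rw [e2]
      exact ((Polynomial.hom_eval₂ P g.toRingHom _ a).symm).trans ((congrArg _ hP).trans (map_zero _))
    have h4 := h1.mul h2
    rwa [Algebra.TensorProduct.algebraMap_apply, Algebra.TensorProduct.tmul_mul_tmul, one_mul,
      Algebra.algebraMap_self_apply, mul_one] at h4

theorem exists_quot [IsAlgClosed K] {R : Type u} [CommRing R] [IsDomain R] [Algebra K R] [Algebra.FiniteType K R]
    (G : MvPolynomial (Fin n) K →ₐ[K] R) (hG : Function.Injective G) (hint : G.toRingHom.IsIntegral)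
    (θ : MvPolynomial (Fin n) K →ₐ[K] Polynomial K) (hθ : Function.Surjective θ)
    (χ : R →ₐ[K] K) (e e' : K) (hχ : χ.comp G = (Polynomial.aeval e).comp θ) :
    ∃ (P : Ideal R) (_ : P.IsPrime) (χB χ' : (R ⧸ P) →ₐ[K] K),
      χB.comp (Ideal.Quotient.mkₐ K P) = χ ∧
      (χ'.comp (Ideal.Quotient.mkₐ K P)).comp G = (Polynomial.aeval e').comp θ ∧
      ∀ {U : Over (Spec (CommRingCat.of k))} (f : Spec (CommRingCat.of (R ⧸ P)) ⟶ U.left)
        (hf : f ≫ U.hom = Spec.map (CommRingCat.ofHom (algebraMap K (R ⧸ P))) ≫ tK k K),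
        Linked U (ptOfAlg f hf χB) (ptOfAlg f hf χ') := by
  classical
  let S := MvPolynomial (Fin n) K
  letI := G.toRingHom.toAlgebra
  haveI : IsScalarTower K S R := IsScalarTower.of_algHom G
  haveI : Algebra.IsIntegral S R := ⟨hint⟩
  haveI : FaithfulSMul S R := (faithfulSMul_iff_algebraMap_injective S R).2 hG
  haveI : IsIntegrallyClosed S := UniqueFactorizationMonoid.instIsIntegrallyClosed
  haveI : Algebra.HasGoingDown S R := H06Conn.hasGoingDown S R
  haveI : (RingHom.ker θ).IsPrime := RingHom.ker_isPrime θ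
  haveI : (RingHom.ker χ).IsPrime := RingHom.ker_isPrime χ
  haveI : (RingHom.ker χ).LiesOver ((RingHom.ker χ).under S) := ⟨rfl⟩
  obtain ⟨P, hP, hPprime, hPover⟩ := Ideal.exists_ideal_le_liesOver_of_le (S := R) (RingHom.ker χ)
    (show RingHom.ker θ ≤ (RingHom.ker χ).under S from fun z hz => by
      show χ (G z) = 0
      rw [← AlgHom.comp_apply, hχ, AlgHom.comp_apply, (RingHom.mem_ker (f := θ)).1 hz, map_zero])
  haveI := hPprime
  let θ' : (S ⧸ RingHom.ker θ) ≃ₐ[K] Polynomial K := Ideal.quotientKerAlgEquivOfSurjective hθ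
  have hle : RingHom.ker θ ≤ P.comap G := fun z hz => (congrArg (z ∈ ·) hPover.over).mp hz
  let η : Polynomial K →ₐ[K] R ⧸ P :=
    (Ideal.quotientMapₐ P G hle).comp θ'.symm.toAlgHom
  have hη : ∀ z, η (θ z) = Ideal.Quotient.mk P (G z) := by
    intro z
    show Ideal.quotientMapₐ P G hle (θ'.symm (θ z)) = _
    rw [show θ'.symm (θ z) = Ideal.Quotient.mk _ z from θ'.symm_apply_eq.2 rfl]
    rfl
  letI := η.toRingHom.toAlgebra
  haveI : IsScalarTower K (Polynomial K) (R ⧸ P) := IsScalarTower.of_algHom η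
  haveI : Algebra.IsIntegral (Polynomial K) (R ⧸ P) := by
    refine ⟨fun z => ?_⟩
    obtain ⟨z, rfl⟩ := Ideal.Quotient.mk_surjective z
    obtain ⟨Q, hQm, hQ⟩ := hint z
    refine ⟨Q.map θ.toRingHom, hQm.map _, ?_⟩
    rw [Polynomial.eval₂_map, show (algebraMap (Polynomial K) (R ⧸ P)).comp θ.toRingHom =
      (Ideal.Quotient.mk P).comp G.toRingHom from RingHom.ext hη]
    exact ((Polynomial.hom_eval₂ Q _ _ z).symm).trans ((congrArg _ hQ).trans (map_zero _))
  haveI : Algebra.FiniteType K (R ⧸ P) :=
    Algebra.FiniteType.of_surjective (Ideal.Quotient.mkₐ K P) Ideal.Quotient.mk_surjective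
  haveI : Algebra.FiniteType (Polynomial K) (R ⧸ P) := Algebra.FiniteType.of_restrictScalars_finiteType K _ _
  haveI : Module.Finite (Polynomial K) (R ⧸ P) := Algebra.IsIntegral.finite
  haveI : FaithfulSMul (Polynomial K) (R ⧸ P) := by
    refine (faithfulSMul_iff_algebraMap_injective _ _).2 ?_
    show Function.Injective η
    refine (injective_iff_map_eq_zero η).2 fun z hz => ?_
    obtain ⟨z, rfl⟩ := hθ z
    rw [hη, Ideal.Quotient.eq_zero_iff_mem] at hz
    exact (RingHom.mem_ker (f := θ)).1 ((congrArg (z ∈ ·) hPover.over).mpr hz)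
  let χB : (R ⧸ P) →ₐ[K] K := Ideal.Quotient.liftₐ P χ fun z hz => hP hz
  let m : Ideal (Polynomial K) := RingHom.ker (Polynomial.aeval (R := K) e')
  haveI : m.IsMaximal := RingHom.ker_isMaximal_of_surjective _ fun c => ⟨Polynomial.C c, Polynomial.aeval_C _ _⟩
  obtain ⟨Q, hQ, hQover⟩ := Ideal.exists_maximal_ideal_liesOver_of_isIntegral (S := R ⧸ P) m
  haveI : Q.IsMaximal := hQ
  letI := Ideal.Quotient.field Q
  haveI : Algebra.FiniteType K ((R ⧸ P) ⧸ Q) :=
    Algebra.FiniteType.of_surjective (Ideal.Quotient.mkₐ K Q) Ideal.Quotient.mk_surjective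
  haveI : Module.Finite K ((R ⧸ P) ⧸ Q) := finite_of_finite_type_of_isJacobsonRing K _
  let ε : K ≃ₐ[K] ((R ⧸ P) ⧸ Q) := AlgEquiv.ofBijective (Algebra.ofId K _)
    ⟨(Algebra.ofId K _).toRingHom.injective, IsAlgClosed.algebraMap_bijective_of_isIntegral.2⟩
  let χ' : (R ⧸ P) →ₐ[K] K := ε.symm.toAlgHom.comp (Ideal.Quotient.mkₐ K Q)
  have hχ' : χ'.comp η = Polynomial.aeval e' := by
    refine Polynomial.algHom_ext ?_
    have h0 : Polynomial.X - Polynomial.C e' ∈ m :=
      RingHom.mem_ker.2 (show Polynomial.aeval e' (Polynomial.X - Polynomial.C e' : Polynomial K) = 0 by simp)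
    replace h0 : algebraMap (Polynomial K) (R ⧸ P) (Polynomial.X - Polynomial.C e') ∈ Q := by
      rw [hQover.over] at h0; exact h0
    have h1 : χ' (η (Polynomial.X - Polynomial.C e')) = 0 := by
      show ε.symm (Ideal.Quotient.mk Q (algebraMap (Polynomial K) (R ⧸ P) _)) = 0
      rw [Ideal.Quotient.eq_zero_iff_mem.2 h0, map_zero]
    rw [map_sub, map_sub, sub_eq_zero] at h1
    simp only [AlgHom.comp_apply, h1, Polynomial.aeval_X]
    rw [← Polynomial.algebraMap_eq, AlgHom.commutes, AlgHom.commutes]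
    rfl
  refine ⟨P, hPprime, χB, χ', AlgHom.ext fun z => rfl, AlgHom.ext fun z => ?_, ?_⟩
  · show χ' (Ideal.Quotient.mk P (G z)) = Polynomial.aeval e' (θ z)
    rw [← hη, ← hχ']; rfl
  · intro U f hf
    exact link_of_curve (R ⧸ P) f hf χB χ'

/-- The line through two points. -/
def lineθ (α t : Fin n → K) : MvPolynomial (Fin n) K →ₐ[K] Polynomial K :=
  MvPolynomial.aeval fun i => Polynomial.C (α i) + Polynomial.X * Polynomial.C (t i - α i)

theorem lineθ_X (α t : Fin n → K) (i : Fin n) :
    lineθ α t (MvPolynomial.X i) = Polynomial.C (α i) + Polynomial.X * Polynomial.C (t i - α i) :=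
  MvPolynomial.aeval_X _ i

theorem lineθ_surjective (α t : Fin n → K) (hne : α ≠ t) : Function.Surjective (lineθ α t) := by
  have hθC : ∀ r, lineθ α t (MvPolynomial.C r) = Polynomial.C r := fun r => MvPolynomial.aeval_C _ r
  obtain ⟨i, hi⟩ := Function.ne_iff.1 hne
  rw [← AlgHom.range_eq_top, eq_top_iff, ← Polynomial.adjoin_X, Algebra.adjoin_le_iff, Set.singleton_subset_iff]
  refine ⟨MvPolynomial.C (t i - α i)⁻¹ * (MvPolynomial.X i - MvPolynomial.C (α i)), ?_⟩
  have h0 : t i - α i ≠ 0 := sub_ne_zero.2 (Ne.symm hi)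
  show lineθ α t _ = _
  rw [map_mul, map_sub, hθC, hθC, lineθ_X, add_sub_cancel_left, mul_left_comm, ← Polynomial.C_mul,
    inv_mul_cancel₀ h0, map_one, mul_one]

variable [IsAlgClosed k] [IsAlgClosed K] [IsDomain A] (g : MvPolynomial (Fin n) k →ₐ[k] A)
  (hg : Function.Injective g) (hgfin : g.toRingHom.Finite)

include hgfin hg in
theorem exists_linked_over_line (α t : Fin n → K) (hne : α ≠ t) (e e' : K) (φ : A →ₐ[k] K)
    (hφ : ∀ i, φ (g (MvPolynomial.X i)) = α i + e * (t i - α i)) :
    ∃ φ' : A →ₐ[k] K, (∀ i, φ' (g (MvPolynomial.X i)) = α i + e' * (t i - α i)) ∧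
      Linked U (ptA f hf φ) (ptA f hf φ') := by
  haveI : IsDomain (K ⊗[k] A) := H19Grp.isDomain_tensorProduct K A
  haveI : Algebra.FiniteType k A := by
    letI := g.toRingHom.toAlgebra
    haveI : Module.Finite (MvPolynomial (Fin n) k) A := hgfin
    haveI : IsScalarTower k (MvPolynomial (Fin n) k) A := IsScalarTower.of_algHom g
    exact Algebra.FiniteType.trans (S := MvPolynomial (Fin n) k) inferInstance inferInstance
  let χ : K ⊗[k] A →ₐ[K] K := Algebra.TensorProduct.lift (AlgHom.id K K) φ fun _ _ => Commute.all _ _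
  have hχ : χ.comp (lineG g) = (Polynomial.aeval e).comp (lineθ α t) := by
    refine MvPolynomial.algHom_ext fun i => ?_
    rw [AlgHom.comp_apply, AlgHom.comp_apply, lineG_X, lineθ_X]
    simp [χ, hφ]
  obtain ⟨P, hP, χB, χ', h1, h2, h3⟩ := exists_quot (k := k) (lineG g) (lineG_injective g hg)
    (lineG_isIntegral g hgfin) (lineθ α t) (lineθ_surjective α t hne) χ e e' hχ
  haveI := hP
  let iA : A →ₐ[k] (K ⊗[k] A) ⧸ P :=
    ((Ideal.Quotient.mkₐ K P).restrictScalars k).comp Algebra.TensorProduct.includeRight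
  let fB : Spec (CommRingCat.of ((K ⊗[k] A) ⧸ P)) ⟶ U.left := Spec.map (CommRingCat.ofHom iA.toRingHom) ≫ f
  have hfB : fB ≫ U.hom = Spec.map (CommRingCat.ofHom (algebraMap K ((K ⊗[k] A) ⧸ P))) ≫ tK k K := by
    show (Spec.map _ ≫ f) ≫ U.hom = _ ≫ Spec.map _
    rw [Category.assoc, hf, ← Spec.map_comp, ← Spec.map_comp, ← CommRingCat.ofHom_comp, ← CommRingCat.ofHom_comp]
    erw [iA.comp_algebraMap]
    exact congrArg (fun r => Spec.map (CommRingCat.ofHom r)) (IsScalarTower.algebraMap_eq k K _)
  refine ⟨(χ'.restrictScalars k).comp iA, fun i => ?_, ?_⟩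
  · have := congrArg (fun r : MvPolynomial (Fin n) K →ₐ[K] K => r (MvPolynomial.X i)) h2
    simp only [AlgHom.comp_apply, lineG_X, lineθ_X] at this
    exact this.trans (by simp)
  · obtain ⟨l⟩ := h3 fB hfB
    have e1 : ptOfAlg fB hfB χB = ptA f hf φ := Over.OverMorphism.ext (by
      show Spec.map _ ≫ Spec.map _ ≫ f = Spec.map _ ≫ f
      rw [← Category.assoc, ← Spec.map_comp]
      refine congrArg (fun r => Spec.map r ≫ f) (CommRingCat.hom_ext (RingHom.ext fun a => ?_))
      show χB.comp (Ideal.Quotient.mkₐ K P) ((1 : K) ⊗ₜ[k] a) = φ a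
      rw [h1]
      simp [χ])
    have e2 : ptOfAlg fB hfB χ' = ptA f hf ((χ'.restrictScalars k).comp iA) := Over.OverMorphism.ext (by
      show Spec.map _ ≫ Spec.map _ ≫ f = Spec.map _ ≫ f
      rw [← Category.assoc, ← Spec.map_comp]
      rfl)
    exact ⟨e1 ▸ e2 ▸ l⟩

include hgfin hg in
/-- Every rational point is linked to an algebraic generic point. -/
theorem eqvGen_generic (η : A →ₐ[k] K) (hη : Function.Injective η)
    (halg : letI := η.toRingHom.toAlgebra; Algebra.IsAlgebraic A K) (a : A →ₐ[k] k) :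
    Relation.EqvGen (Linked U) (ptA f hf ((Algebra.ofId k K).comp a)) (ptA f hf η) := by
  classical
  rcases Nat.eq_zero_or_pos n with hn | hn
  · subst hn
    have : (Algebra.ofId k K).comp a = η := by
      letI := g.toRingHom.toAlgebra
      haveI : Module.Finite (MvPolynomial (Fin 0) k) A := hgfin
      haveI : IsScalarTower k (MvPolynomial (Fin 0) k) A := IsScalarTower.of_algHom g
      haveI : Module.Finite k (MvPolynomial (Fin 0) k) :=
        Module.Finite.equiv (MvPolynomial.isEmptyAlgEquiv k (Fin 0)).symm.toLinearEquiv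
      haveI : Module.Finite k A := Module.Finite.trans (MvPolynomial (Fin 0) k) A
      ext z
      obtain ⟨c, rfl⟩ := (IsAlgClosed.algebraMap_bijective_of_isIntegral (k := k) (K := A)).2 z
      simp
    rw [this]
    exact .refl _
  let α : Fin n → K := fun i => algebraMap k K (a (g (MvPolynomial.X i)))
  let t : Fin n → K := fun i => η (g (MvPolynomial.X i))
  have hne : α ≠ t := by
    intro h
    have h0 := congrFun h ⟨0, hn⟩
    simp only [α, t] at h0
    rw [← η.commutes] at h0
    have h1 := hg ((g.commutes _).trans (hη h0))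
    have h2 := congrArg MvPolynomial.totalDegree h1
    rw [MvPolynomial.algebraMap_eq, MvPolynomial.totalDegree_C, MvPolynomial.totalDegree_X] at h2
    exact zero_ne_one h2
  -- from the generic point to a rational point over `α`
  obtain ⟨c, hc, lc⟩ := exists_linked_over_line f hf g hg hgfin α t hne 1 0 η (fun i => by simp [t])
  have hc' : ∀ σ : K →ₐ[k] K, σ.comp c = c := by
    intro σ
    letI := g.toRingHom.toAlgebra
    haveI : Module.Finite (MvPolynomial (Fin n) k) A := hgfin
    ext z
    obtain ⟨P, hPm, hP⟩ := Algebra.IsIntegral.isIntegral (R := MvPolynomial (Fin n) k) z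
    have e1 : (c.toRingHom.comp g.toRingHom) = (algebraMap k K).comp
        (MvPolynomial.aeval fun i => a (g (MvPolynomial.X i))).toRingHom := by
      refine MvPolynomial.ringHom_ext (fun r => ?_) fun i => ?_
      · simp [← MvPolynomial.algebraMap_eq]
      · simp [hc, α]
    have hint : IsIntegral k (c z) := by
      refine ⟨P.map (MvPolynomial.aeval fun i => a (g (MvPolynomial.X i))).toRingHom, hPm.map _, ?_⟩
      rw [Polynomial.eval₂_map, ← e1]
      exact ((Polynomial.hom_eval₂ P g.toRingHom c.toRingHom z).symm).trans ((congrArg c hP).trans (map_zero c))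
    obtain ⟨r, hr⟩ : ∃ r : k, algebraMap k K r = c z := by
      have := IntermediateField.adjoin.finiteDimensional hint
      obtain ⟨r, hr⟩ := (IsAlgClosed.algebraMap_bijective_of_isIntegral (k := k)
        (K := IntermediateField.adjoin k {c z})).2 ⟨c z, IntermediateField.mem_adjoin_simple_self k _⟩
      exact ⟨r, congrArg Subtype.val hr⟩
    show σ (c z) = c z
    rw [← hr, σ.commutes]
  -- from the given point to a conjugate of the generic point
  obtain ⟨ψ, hψ, la⟩ := exists_linked_over_line f hf g hg hgfin α t hne 0 1 ((Algebra.ofId k K).comp a)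
    (fun i => by simp [α])
  have hψg : ψ.comp g = η.comp g := MvPolynomial.algHom_ext fun i => by simp [hψ, t]
  have hψi : Function.Injective ψ := by
    rw [injective_iff_map_eq_zero]
    intro z hz
    letI := g.toRingHom.toAlgebra
    haveI : Module.Finite (MvPolynomial (Fin n) k) A := hgfin
    have hker : RingHom.ker ψ = ⊥ := by
      haveI : (RingHom.ker ψ).IsPrime := RingHom.ker_isPrime ψ
      refine Ideal.eq_bot_of_comap_eq_bot (R := MvPolynomial (Fin n) k) ?_
      rw [eq_bot_iff]
      intro w hw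
      have : η (g w) = 0 := (congrArg (fun r : MvPolynomial (Fin n) k →ₐ[k] K => r w) hψg).symm.trans hw
      exact (Submodule.mem_bot _).2 (hg ((hη (this.trans (map_zero η).symm)).trans (map_zero g).symm))
    exact (Submodule.mem_bot A).1 (hker ▸ hz)
  obtain ⟨σ₀, hσ₀⟩ := exists_ext_hom η.toRingHom hη halg ψ.toRingHom hψi
  let σ : K →ₐ[k] K := ⟨σ₀, fun r => by
    have := congrArg (fun q : A →+* K => q (algebraMap k A r)) hσ₀
    simpa using this⟩
  have hσ : σ.comp η = ψ := AlgHom.ext fun z => congrArg (fun q : A →+* K => q z) hσ₀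
  have h1 : Relation.EqvGen (Linked U) (ptA f hf η) (ptA f hf c) := .rel _ _ lc
  have h2 := eqvGen_res σ h1
  rw [res_ptA, res_ptA, hσ, hc'] at h2
  exact .trans _ _ _ (.trans _ _ _ (.rel _ _ la) h2) (.symm _ _ h1)

end Groth.Agent.H25AbCube
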