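import Groth.Agent.H25AbCube.Basic
import Groth.Agent.H19Grp.RegularSmooth
import Groth.Agent.H28Alg.RegularUFD
import Groth.Agent.H29Ref.DenseExt
import Groth.Agent.H4Depth.Regular

/-!
# The alternating relation along a pair of curves over an extension field
-/

set_option autoImplicit false
set_option linter.style.haveILetI false
set_option backward.isDefEq.respectTransparency false
universe u

open CategoryTheory CategoryTheory.Limits MonoidalCategory CartesianMonoidalCategory AlgebraicGeometry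
open Groth.Agent

noncomputable section

namespace Groth.Agent.H25AbCube

/-- A class on an open subscheme of a smooth scheme extends. -/
theorem exists_extend_pc {K : Type u} [Field K] {P : Scheme.{u}} (f : P ⟶ Spec (CommRingCat.of K)) [Smooth f]
    (O : P.Opens) (u : PC (O : Scheme.{u})) : ∃ v : PC P, pullP O.ι v = u := by
  haveI : IsLocallyNoetherian P := LocallyOfFiniteType.isLocallyNoetherian f
  obtain ⟨L, hL, rfl⟩ := exists_rep u
  obtain ⟨L', hL', ⟨e⟩⟩ := H29Ref.exists_invertible_extension O L hL fun x _ => by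
    haveI := H19Grp.isRegularLocalRing_stalk_of_smooth f x
    haveI := H4Depth.isDomain_of_isRegularLocalRing (P.presheaf.stalk x)
    exact H28Alg.ufd_of_regular _
  refine ⟨pc L' hL', ?_⟩
  rw [← pullP_pc O.ι L' hL' (H11Ample.isInvertible_pullback _ hL')]
  exact (pc_eq_iff _ hL).2 ⟨((Scheme.Modules.restrictFunctorIsoPullback O.ι).app L').symm ≪≫ e⟩

variable (k K : Type u) [Field k] [Field K] [Algebra k K]

/-- The map of spectra of an extension. -/
abbrev tK : Spec (CommRingCat.of K) ⟶ Spec (CommRingCat.of k) := Spec.map (CommRingCat.ofHom (algebraMap k K))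

/-- The spectrum of an extension over the ground field. -/
abbrev TK : Over (Spec (CommRingCat.of k)) := Over.mk (tK k K)

variable {k K}

/-- Two points with values in `K` lie on the image of an open piece of a smooth proper curve over `K`. -/
structure Link (U : Over (Spec (CommRingCat.of k))) (x x' : TK k K ⟶ U) where
  C : Over (Spec (CommRingCat.of K))
  smooth : Smooth C.hom
  proper : IsProper C.hom
  geomIntegral : GeometricallyIntegral C.hom
  O : C.left.Opens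
  ψ : Over.mk ((O.ι ≫ C.hom) ≫ tK k K) ⟶ U
  p : Spec (CommRingCat.of K) ⟶ O
  p' : Spec (CommRingCat.of K) ⟶ O
  hp : p ≫ O.ι ≫ C.hom = 𝟙 _
  hp' : p' ≫ O.ι ≫ C.hom = 𝟙 _
  hx : p ≫ ψ.left = x.left
  hx' : p' ≫ ψ.left = x'.left

variable (U V W : Over (Spec (CommRingCat.of k)))

/-- The base change of `W` to `K`. -/
abbrev WK : Over (Spec (CommRingCat.of K)) := Over.mk (fst (TK k K) W).left

/-- The restriction of a class to a pair of points with values in `K`. -/
def QK (L : PC (U ⊗ V ⊗ W).left) (x : TK k K ⟶ U) (y : TK k K ⟶ V) : PC (TK k K ⊗ W).left :=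
  ev3 L (fst _ W ≫ x) (fst _ W ≫ y) (snd (TK k K) W)

section Pieces

variable {C D W' : Over (Spec (CommRingCat.of K))} (O : C.left.Opens) (O' : D.left.Opens)

/-- The open box over two opens of the factors. -/
def box (W' : Over (Spec (CommRingCat.of K))) : (C ⊗ D ⊗ W').left.Opens :=
  ((fst C (D ⊗ W')).left ⁻¹ᵁ O) ⊓ ((snd C (D ⊗ W') ≫ fst D W').left ⁻¹ᵁ O')

variable {O O'}

/-- A point of an open over `K`. -/
abbrev ptO (r : Spec (CommRingCat.of K) ⟶ O) (hr : r ≫ O.ι ≫ C.hom = 𝟙 _) : 𝟙_ _ ⟶ C :=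
  Over.homMk (r ≫ O.ι) ((Category.assoc _ _ _).trans hr)

theorem exists_sect (r : Spec (CommRingCat.of K) ⟶ O) (hr : r ≫ O.ι ≫ C.hom = 𝟙 _)
    (s : Spec (CommRingCat.of K) ⟶ O') (hs : s ≫ O'.ι ≫ D.hom = 𝟙 _) :
    ∃ g : W'.left ⟶ (box O O' W' : Scheme.{u}), g ≫ (box O O' W').ι =
        (lift (toUnit W' ≫ ptO r hr) (lift (toUnit W' ≫ ptO s hs) (𝟙 W'))).left ∧
      g ≫ (box O O' W').ι ≫ (fst C (D ⊗ W')).left = W'.hom ≫ r ≫ O.ι ∧
      g ≫ (box O O' W').ι ≫ (snd C (D ⊗ W') ≫ fst D W').left = W'.hom ≫ s ≫ O'.ι ∧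
      g ≫ (box O O' W').ι ≫ (snd C (D ⊗ W') ≫ snd D W').left = 𝟙 _ := by
  let g := lift (toUnit W' ≫ ptO r hr) (lift (toUnit W' ≫ ptO s hs) (𝟙 W'))
  have hgC : g.left ≫ (fst C (D ⊗ W')).left = W'.hom ≫ r ≫ O.ι :=
    congrArg Over.Hom.left (lift_fst _ _ : g ≫ fst C (D ⊗ W') = toUnit W' ≫ ptO r hr)
  have hgD : g.left ≫ (snd C (D ⊗ W') ≫ fst D W').left = W'.hom ≫ s ≫ O'.ι :=
    congrArg Over.Hom.left (show g ≫ snd C (D ⊗ W') ≫ fst D W' = toUnit W' ≫ ptO s hs by simp [g])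
  have hgW : g.left ≫ (snd C (D ⊗ W') ≫ snd D W').left = 𝟙 _ :=
    congrArg Over.Hom.left (show g ≫ snd C (D ⊗ W') ≫ snd D W' = 𝟙 W' by simp [g])
  have hmem : Set.range g.left ⊆ Set.range (box O O' W').ι := by
    rintro _ ⟨z, rfl⟩
    rw [Scheme.Opens.range_ι]
    refine ⟨?_, ?_⟩
    · show (g.left ≫ (fst C (D ⊗ W')).left) z ∈ O
      rw [hgC]; exact ((W'.hom ≫ r) z).2
    · show (g.left ≫ (snd C (D ⊗ W') ≫ fst D W').left) z ∈ O'
      rw [hgD]; exact ((W'.hom ≫ s) z).2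
  refine ⟨IsOpenImmersion.lift _ g.left hmem, IsOpenImmersion.lift_fac _ _ _, ?_, ?_, ?_⟩
  · rw [← Category.assoc, IsOpenImmersion.lift_fac]; exact hgC
  · rw [← Category.assoc, IsOpenImmersion.lift_fac]; exact hgD
  · rw [← Category.assoc, IsOpenImmersion.lift_fac]; exact hgW

variable [IsProper C.hom] [GeometricallyIntegral C.hom] [Smooth C.hom]
  [IsProper D.hom] [GeometricallyIntegral D.hom] [Smooth D.hom]
  [Smooth W'.hom] [QuasiCompact W'.hom] [GeometricallyIntegral W'.hom]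

omit [IsProper C.hom] [GeometricallyIntegral C.hom] [IsProper D.hom] [GeometricallyIntegral D.hom]
  [QuasiCompact W'.hom] [GeometricallyIntegral W'.hom] in
theorem smooth_triple : Smooth (C ⊗ D ⊗ W').hom := by
  haveI : Smooth (D ⊗ W').hom := by
    show Smooth (pullback.fst D.hom W'.hom ≫ D.hom)
    haveI : Smooth (pullback.fst D.hom W'.hom) := MorphismProperty.pullback_fst (P := @Smooth) _ _ inferInstance
    infer_instance
  show Smooth (pullback.fst C.hom (D ⊗ W').hom ≫ C.hom)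
  haveI : Smooth (pullback.fst C.hom (D ⊗ W').hom) := MorphismProperty.pullback_fst (P := @Smooth) _ _ inferInstance
  infer_instance

/-- The alternating relation on four slices of a box. -/
theorem four_zero (w : 𝟙_ _ ⟶ W') (u : PC (box O O' W' : Scheme.{u}))
    (p p' : Spec (CommRingCat.of K) ⟶ O) (hp : p ≫ O.ι ≫ C.hom = 𝟙 _) (hp' : p' ≫ O.ι ≫ C.hom = 𝟙 _)
    (q q' : Spec (CommRingCat.of K) ⟶ O') (hq : q ≫ O'.ι ≫ D.hom = 𝟙 _) (hq' : q' ≫ O'.ι ≫ D.hom = 𝟙 _) :
    pullP (exists_sect p hp q hq).choose u - pullP (exists_sect p' hp' q hq).choose u -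
      pullP (exists_sect p hp q' hq').choose u + pullP (exists_sect p' hp' q' hq').choose u = 0 := by
  haveI := smooth_triple (C := C) (D := D) (W' := W')
  haveI : GeometricallyConnected D.hom := by
    refine ⟨fun E _ b s f g h => ?_⟩
    haveI : IrreducibleSpace s := GeometricallyIrreducible.geometrically_irreducibleSpace (f := D.hom) _ _ _ h
    infer_instance
  obtain ⟨v, hv⟩ := exists_extend_pc (C ⊗ D ⊗ W').hom (box O O' W') u
  have key : ∀ (r : Spec (CommRingCat.of K) ⟶ O) (hr : r ≫ O.ι ≫ C.hom = 𝟙 _)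
      (s : Spec (CommRingCat.of K) ⟶ O') (hs : s ≫ O'.ι ≫ D.hom = 𝟙 _),
      pullP (exists_sect (W' := W') r hr s hs).choose u =
        ev3 v (toUnit W' ≫ ptO r hr) (toUnit W' ≫ ptO s hs) (𝟙 W') := by
    intro r hr s hs
    rw [← hv, pullP_pullP, (exists_sect (W' := W') r hr s hs).choose_spec.1]
    rfl
  rw [key, key, key, key]
  have h := alt_eq_zero C D W' (ptO p hp) (ptO q hq) w v (toUnit W' ≫ ptO p hp) (toUnit W' ≫ ptO p' hp')
    (toUnit W' ≫ ptO q hq) (toUnit W' ≫ ptO q' hq') (𝟙 W') (toUnit W' ≫ w)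
  have hc : ∀ (p : 𝟙_ _ ⟶ C) (q : 𝟙_ _ ⟶ D), ev3 v (toUnit W' ≫ p) (toUnit W' ≫ q) (toUnit W' ≫ w) = 0 := by
    intro p q
    rw [ev3, ← comp_lift, ← comp_lift, ev_toUnit]
  simp only [alt, hc] at h
  simpa using h

end Pieces

variable [Smooth W.hom] [QuasiCompact W.hom] [GeometricallyIntegral W.hom]

section Phi

variable {U V W}
variable {C D : Over (Spec (CommRingCat.of K))} {O : C.left.Opens} {O' : D.left.Opens}
  (ψ : Over.mk ((O.ι ≫ C.hom) ≫ tK k K) ⟶ U) (φ : Over.mk ((O'.ι ≫ D.hom) ≫ tK k K) ⟶ V)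

omit [Smooth W.hom] [QuasiCompact W.hom] [GeometricallyIntegral W.hom] in
theorem exists_box_map : ∃ Φ : Over.mk (((box O O' (WK (k := k) (K := K) W)).ι ≫
      (C ⊗ D ⊗ WK (k := k) (K := K) W).hom) ≫ tK k K) ⟶ U ⊗ V ⊗ W,
    ∀ (r : Spec (CommRingCat.of K) ⟶ O) (hr : r ≫ O.ι ≫ C.hom = 𝟙 _)
      (s : Spec (CommRingCat.of K) ⟶ O') (hs : s ≫ O'.ι ≫ D.hom = 𝟙 _)
      (x : TK k K ⟶ U) (y : TK k K ⟶ V), r ≫ ψ.left = x.left → s ≫ φ.left = y.left →
      (exists_sect (W' := WK (k := k) (K := K) W) r hr s hs).choose ≫ Φ.left =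
        (lift (fst (TK k K) W ≫ x) (lift (fst (TK k K) W ≫ y) (snd (TK k K) W))).left := by
  let W' := WK (k := k) (K := K) W
  let OP := box O O' W'
  let Pk : Over (Spec (CommRingCat.of k)) := Over.mk ((OP.ι ≫ (C ⊗ D ⊗ W').hom) ≫ tK k K)
  let πC := fst C (D ⊗ W')
  let πD := snd C (D ⊗ W') ≫ fst D W'
  let πW := snd C (D ⊗ W') ≫ snd D W'
  let aC : (OP : Scheme.{u}) ⟶ O := IsOpenImmersion.lift O.ι (OP.ι ≫ πC.left) (by
    rintro _ ⟨z, rfl⟩; rw [Scheme.Opens.range_ι]; exact z.2.1)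
  let aD : (OP : Scheme.{u}) ⟶ O' := IsOpenImmersion.lift O'.ι (OP.ι ≫ πD.left) (by
    rintro _ ⟨z, rfl⟩; rw [Scheme.Opens.range_ι]; exact z.2.2)
  have haC : aC ≫ O.ι = OP.ι ≫ πC.left := IsOpenImmersion.lift_fac _ _ _
  have haD : aD ≫ O'.ι = OP.ι ≫ πD.left := IsOpenImmersion.lift_fac _ _ _
  let a : Pk ⟶ U := (Over.homMk aC (by
    show aC ≫ (O.ι ≫ C.hom) ≫ tK k K = (OP.ι ≫ (C ⊗ D ⊗ W').hom) ≫ tK k K
    rw [← Category.assoc, ← Category.assoc, haC, Category.assoc OP.ι, Over.w πC]) :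
    Pk ⟶ Over.mk ((O.ι ≫ C.hom) ≫ tK k K)) ≫ ψ
  let b : Pk ⟶ V := (Over.homMk aD (by
    show aD ≫ (O'.ι ≫ D.hom) ≫ tK k K = (OP.ι ≫ (C ⊗ D ⊗ W').hom) ≫ tK k K
    rw [← Category.assoc, ← Category.assoc, haD, Category.assoc OP.ι, Over.w πD]) :
    Pk ⟶ Over.mk ((O'.ι ≫ D.hom) ≫ tK k K)) ≫ φ
  let c : Pk ⟶ W := Over.homMk (OP.ι ≫ πW.left ≫ (snd (TK k K) W).left) (by
    show (OP.ι ≫ πW.left ≫ (snd (TK k K) W).left) ≫ W.hom = (OP.ι ≫ (C ⊗ D ⊗ W').hom) ≫ tK k K
    have hs : (snd (TK k K) W).left ≫ W.hom = W'.hom ≫ tK k K :=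
      (pullback.condition (f := tK k K) (g := W.hom)).symm
    rw [Category.assoc, Category.assoc, hs, ← Category.assoc πW.left, Over.w πW, Category.assoc])
  refine ⟨lift a (lift b c), fun r hr s hs x y hx hy => ?_⟩
  obtain ⟨-, h1, h2, h3⟩ := (exists_sect (W' := W') r hr s hs).choose_spec
  generalize (exists_sect (W' := W') r hr s hs).choose = g at h1 h2 h3 ⊢
  have eC : g ≫ aC = W'.hom ≫ r := by
    rw [← cancel_mono O.ι, Category.assoc, haC, h1, Category.assoc]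
  have eD : g ≫ aD = W'.hom ≫ s := by
    rw [← cancel_mono O'.ι, Category.assoc, haD, h2, Category.assoc]
  let G : TK k K ⊗ W ⟶ Pk := Over.homMk g (by
    show g ≫ (OP.ι ≫ (C ⊗ D ⊗ W').hom) ≫ tK k K = W'.hom ≫ tK k K
    rw [← Over.w πW, ← Category.assoc, ← Category.assoc OP.ι, ← Category.assoc g, h3, Category.id_comp])
  have ea : G ≫ a = fst (TK k K) W ≫ x := Over.OverMorphism.ext (by
    show g ≫ aC ≫ ψ.left = W'.hom ≫ x.left
    rw [← Category.assoc, eC, Category.assoc, hx])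
  have eb : G ≫ b = fst (TK k K) W ≫ y := Over.OverMorphism.ext (by
    show g ≫ aD ≫ φ.left = W'.hom ≫ y.left
    rw [← Category.assoc, eD, Category.assoc, hy])
  have ec : G ≫ c = snd (TK k K) W := Over.OverMorphism.ext (by
    show g ≫ OP.ι ≫ πW.left ≫ (snd (TK k K) W).left = _
    rw [← Category.assoc OP.ι, ← Category.assoc g, h3, Category.id_comp])
  have e : G ≫ lift a (lift b c) = lift (fst (TK k K) W ≫ x) (lift (fst (TK k K) W ≫ y) (snd (TK k K) W)) := by
    rw [comp_lift, comp_lift, ea, eb, ec]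
  exact congrArg Over.Hom.left e

end Phi

variable {U V} in
/-- The alternating relation along a pair of links. -/
theorem QK_link (w₀ : 𝟙_ _ ⟶ W) (L : PC (U ⊗ V ⊗ W).left) {x x' : TK k K ⟶ U} {y y' : TK k K ⟶ V}
    (l : Link U x x') (m : Link V y y') :
    QK U V W L x y - QK U V W L x' y - QK U V W L x y' + QK U V W L x' y' = 0 := by
  haveI := l.smooth; haveI := l.proper; haveI := l.geomIntegral
  haveI := m.smooth; haveI := m.proper; haveI := m.geomIntegral
  haveI : Smooth (WK (k := k) (K := K) W).hom :=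
    MorphismProperty.pullback_fst (P := @Smooth) (tK k K) W.hom inferInstance
  haveI : QuasiCompact (WK (k := k) (K := K) W).hom :=
    MorphismProperty.pullback_fst (P := @QuasiCompact) (tK k K) W.hom inferInstance
  haveI : GeometricallyIntegral (WK (k := k) (K := K) W).hom :=
    MorphismProperty.pullback_fst (P := @GeometricallyIntegral) (tK k K) W.hom inferInstance
  let w : 𝟙_ _ ⟶ WK (k := k) (K := K) W := Over.homMk (lift (𝟙 (TK k K)) (toUnit _ ≫ w₀)).left
    (congrArg Over.Hom.left (lift_fst (𝟙 (TK k K)) (toUnit _ ≫ w₀)))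
  obtain ⟨Φ, hΦ⟩ := exists_box_map (W := W) l.ψ m.ψ
  have h := four_zero w (ev L Φ) l.p l.p' l.hp l.hp' m.p m.p' m.hp m.hp'
  have e : ∀ r hr s hs (x : TK k K ⟶ U) (y : TK k K ⟶ V), r ≫ l.ψ.left = x.left → s ≫ m.ψ.left = y.left →
      pullP (exists_sect (W' := WK (k := k) (K := K) W) r hr s hs).choose (ev L Φ) = QK U V W L x y :=
    fun r hr s hs x y hx hy => (pullP_pullP _ _ L).trans (congrArg (fun f => pullP f L) (hΦ r hr s hs x y hx hy))
  rw [e _ _ _ _ x y l.hx m.hx, e _ _ _ _ x' y l.hx' m.hx, e _ _ _ _ x y' l.hx m.hx',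
    e _ _ _ _ x' y' l.hx' m.hx'] at h
  exact h

end Groth.Agent.H25AbCube
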