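import Mathlib

/-!
# Bounded denominators from separating functionals
-/

set_option autoImplicit false
set_option linter.style.haveILetI false

namespace Groth.Agent.H25AbCube

/-- If integral functionals separate the span of `e`, the denominators of elements with a multiple in the span are
bounded. -/
theorem exists_dvd_of_separating {G : Type*} [AddCommGroup G] {r : ℕ} (e : Fin r → G)
    (hsep : ∀ a : Fin r → ℤ, a ≠ 0 → ∃ f : G →+ ℤ, f (∑ i, a i • e i) ≠ 0) :
    ∃ d : ℕ, 0 < d ∧ ∀ (m : ℤ) (x : G) (a : Fin r → ℤ), m • x = ∑ i, a i • e i → ∀ i, m ∣ (d : ℤ) * a i := by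
  classical
  let S : Set (Fin r → ℚ) := {v | ∃ f : G →+ ℤ, ∀ i, v i = (f (e i) : ℚ)}
  have hspan : Submodule.span ℚ S = ⊤ := by
    by_contra hne
    obtain ⟨φ, hφ, hker⟩ := Submodule.exists_le_ker_of_lt_top _ (lt_top_iff_ne_top.2 hne)
    let x : Fin r → ℚ := fun i => φ (Pi.single i 1)
    have hx : ∀ v : Fin r → ℚ, φ v = ∑ i, v i * x i := fun v => by
      conv_lhs => rw [pi_eq_sum_univ' v]
      rw [map_sum]
      exact Finset.sum_congr rfl fun i _ => by rw [map_smul, smul_eq_mul]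
    let D : ℕ := ∏ i, (x i).den
    have hD : 0 < D := Finset.prod_pos fun i _ => (x i).pos
    have hint : ∀ i, ∃ z : ℤ, (z : ℚ) = D * x i := fun i => by
      obtain ⟨c, hc⟩ : (x i).den ∣ D := Finset.dvd_prod_of_mem _ (Finset.mem_univ i)
      refine ⟨c * (x i).num, ?_⟩
      rw [hc, Nat.cast_mul, Int.cast_mul, Int.cast_natCast, mul_comm ((x i).den : ℚ) (c : ℚ), mul_assoc,
        mul_comm ((x i).den : ℚ), Rat.mul_den_eq_num]
    choose a ha using hint
    have ha0 : a ≠ 0 := fun h => hφ (LinearMap.ext fun v => by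
      rw [hx]
      refine Finset.sum_eq_zero fun i _ => ?_
      have h1 := ha i
      rw [h, Pi.zero_apply, Int.cast_zero, eq_comm, mul_eq_zero] at h1
      rw [h1.resolve_left (by exact_mod_cast hD.ne'), mul_zero])
    obtain ⟨f, hf⟩ := hsep a ha0
    refine hf ?_
    have hv : φ (fun i => (f (e i) : ℚ)) = 0 := LinearMap.mem_ker.1 (hker (Submodule.subset_span ⟨f, fun _ => rfl⟩))
    rw [hx] at hv
    have : ((f (∑ i, a i • e i) : ℤ) : ℚ) = 0 := by
      rw [map_sum]
      push_cast [map_zsmul, smul_eq_mul]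
      rw [show ∑ i, (a i : ℚ) * (f (e i) : ℚ) = (D : ℚ) * ∑ i, (f (e i) : ℚ) * x i by
        rw [Finset.mul_sum]; exact Finset.sum_congr rfl fun i _ => by rw [ha]; ring, hv, mul_zero]
    exact_mod_cast this
  have hclear : ∀ v ∈ Submodule.span ℚ S, ∃ d : ℤ, d ≠ 0 ∧ ((d : ℚ) • v) ∈ S := by
    intro v hv
    induction hv using Submodule.span_induction with
    | mem v hv => exact ⟨1, one_ne_zero, by simpa using hv⟩
    | zero => exact ⟨1, one_ne_zero, 0, fun i => by simp⟩
    | add v w _ _ h₁ h₂ =>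
      obtain ⟨d₁, hd₁, f₁, hf₁⟩ := h₁
      obtain ⟨d₂, hd₂, f₂, hf₂⟩ := h₂
      refine ⟨d₁ * d₂, mul_ne_zero hd₁ hd₂, d₂ • f₁ + d₁ • f₂, fun i => ?_⟩
      simp only [Pi.smul_apply, Pi.add_apply, smul_eq_mul, AddMonoidHom.add_apply, AddMonoidHom.smul_apply,
        Int.cast_add, Int.cast_mul, ← hf₁ i, ← hf₂ i]
      ring
    | smul q v _ h =>
      obtain ⟨d, hd, f, hf⟩ := h
      refine ⟨d * q.den, mul_ne_zero hd (by exact_mod_cast q.den_ne_zero), q.num • f, fun i => ?_⟩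
      simp only [Pi.smul_apply, smul_eq_mul, AddMonoidHom.smul_apply, Int.cast_mul, ← hf i, Int.cast_natCast]
      linear_combination ((d : ℚ) * v i) * Rat.mul_den_eq_num q
  have h1 : ∀ j, ∃ d : ℤ, d ≠ 0 ∧ ∃ f : G →+ ℤ, ∀ i, f (e i) = if i = j then d else 0 := fun j => by
    obtain ⟨d, hd, f, hf⟩ := hclear (Pi.single j 1) (hspan ▸ Submodule.mem_top)
    refine ⟨d, hd, f, fun i => ?_⟩
    have h2 := hf i
    rw [Pi.smul_apply, Pi.single_apply, smul_eq_mul, mul_ite, mul_one, mul_zero] at h2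
    split_ifs at h2 ⊢ <;> exact_mod_cast h2.symm
  choose d hd f hf using h1
  refine ⟨(∏ j, d j).natAbs, Int.natAbs_pos.2 (Finset.prod_ne_zero_iff.2 fun j _ => hd j), fun m x a hm i => ?_⟩
  have h3 := congrArg (f i) hm
  simp only [map_zsmul, map_sum, smul_eq_mul, hf, mul_ite, mul_zero, Finset.sum_ite_eq', Finset.mem_univ,
    if_true] at h3
  have h4 : m ∣ d i * a i := ⟨f i x, by rw [mul_comm (d i), ← h3]⟩
  refine h4.trans (mul_dvd_mul_right ?_ _)
  exact Int.dvd_natAbs.2 (Finset.dvd_prod_of_mem _ (Finset.mem_univ i))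

end Groth.Agent.H25AbCube
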