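import Groth.Agent.H25AbCube.HomTate
import Groth.Agent.H25AbCube.Separation

/-!
# Independent homomorphisms stay independent on Tate modules
-/

set_option autoImplicit false
set_option linter.style.haveILetI false
set_option linter.unusedSectionVars false
set_option backward.isDefEq.respectTransparency false
universe u

open CategoryTheory CategoryTheory.Limits MonoidalCategory CartesianMonoidalCategory MonObj GrpObj AlgebraicGeometry
  TopologicalSpace
open Groth.Agent

noncomputable section

namespace Groth.Agent.H25AbCube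

variable {k : Type u} [Field k] [IsAlgClosed k] {A B : Over (Spec (CommRingCat.of k))} [GrpObj A] [IsProper A.hom]
  [GeometricallyIntegral A.hom] [IsCommMonObj A] [GrpObj B] [IsProper B.hom] [GeometricallyIntegral B.hom]
  [IsCommMonObj B]

theorem isMonHom_mul' (φ ψ : A ⟶ B) [IsMonHom φ] [IsMonHom ψ] : IsMonHom (φ * ψ) := by
  rw [Hom.mul_def]; infer_instance

theorem isMonHom_one' : IsMonHom (1 : A ⟶ B) := by
  rw [Hom.one_def]; infer_instance

theorem pow_id_comp (φ : A ⟶ B) [IsMonHom φ] (m : ℕ) : ((𝟙 A) ^ m : A ⟶ A) ≫ φ = φ ^ m := by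
  induction m with
  | zero => rw [pow_zero, pow_zero, MonObj.one_comp]
  | succ m ih => rw [pow_succ, pow_succ, MonObj.mul_comp, ih, Category.id_comp]

theorem isMonHom_comb {r : ℕ} (e : Fin r → (A ⟶ B)) [∀ i, IsMonHom (e i)] (a : Fin r → ℤ) :
    IsMonHom (Additive.toMul (∑ i, a i • Additive.ofMul (e i))) :=
  Finset.sum_induction (fun i => a i • Additive.ofMul (e i)) (fun x => IsMonHom x.toMul)
    (fun x y hx hy => by
      haveI := hx; haveI := hy
      rw [toMul_add]; exact isMonHom_mul' _ _)
    isMonHom_one'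
    (fun i _ => by rw [toMul_zsmul, toMul_ofMul]; exact H19Grp.isMonHom_zpow (e i) (a i))

/-- Functionals separate nontrivial homomorphisms from zero. -/
theorem exists_functional (φ : A ⟶ B) [IsMonHom φ] (h : φ ≠ 1) :
    ∃ f : Additive (A ⟶ B) →+ ℤ, f (Additive.ofMul φ) ≠ 0 := by
  haveI : IsIntegral A.left := GeometricallyIntegral.isIntegral_of_subsingleton A.hom
  letI : A.left.Over (Spec (CommRingCat.of k)) := ⟨A.hom⟩
  haveI : IsProper (A.left ↘ Spec (CommRingCat.of k)) := ‹IsProper A.hom›
  haveI : CompactSpace B.left := QuasiCompact.compactSpace_of_compactSpace B.hom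
  haveI : QuasiSeparatedSpace B.left := quasiSeparatedSpace_of_quasiSeparated B.hom
  obtain ⟨M, hM, hamp, hsymm⟩ := exists_ample_symm (A := B)
  have h0 : φ.left (zeroPt A) = zeroPt B := by
    rw [← Scheme.Hom.comp_apply, ← Over.comp_left, IsMonHom.one_hom]
  obtain ⟨C, i, _, _, hC, hpos⟩ := exists_curve_degHom_pos (k := k) φ.left (x := zeroPt A) isClosed_zeroPt
    (h0 ▸ isClosed_zeroPt) (by rw [h0]; exact map_genericPoint_ne φ h) hamp
  let q : (A ⟶ B) → ℤ := fun χ => degHom (k := k) hC (pullP i (ev (pc M hM) χ))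
  have hthree : ∀ x y z : A ⟶ B, q (x * y * z) + q x + q y + q z = q (x * y) + q (x * z) + q (y * z) := fun x y z => by
    have := congrArg (fun u => degHom (k := k) hC (pullP i u)) (three (pc M hM) x y z)
    simpa [q, map_add] using this
  let f : Additive (A ⟶ B) →+ ℤ := AddMonoidHom.mk' (fun χ => q (χ.toMul * φ) - q χ.toMul - q φ) fun x y => by
    have := hthree x.toMul y.toMul φ
    rw [toMul_add]
    linarith
  refine ⟨f, ?_⟩
  have h2 : q (φ ^ 2) = 4 * q φ := by
    show degHom (k := k) hC (pullP i (ev (pc M hM) (φ ^ 2))) = _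
    rw [← comp_pow_id (A := B) φ 2, ← ev_comp, ev_pow_of_symm (pc M hM) hsymm 2]
    simp only [ev, map_nsmul, nsmul_eq_mul, Nat.cast_mul, Nat.cast_ofNat]
    rfl
  show q (φ * φ) - q φ - q φ ≠ 0
  rw [← pow_two, h2]
  have : 0 < q φ := hpos
  linarith

/-- Independent homomorphisms induce independent maps on Tate modules. -/
theorem linearIndependent_tateMap (l : ℕ) [Fact l.Prime] (hl : (l : k) ≠ 0) {r : ℕ} (e : Fin r → (A ⟶ B))
    [∀ i, IsMonHom (e i)] (he : LinearIndependent ℤ (fun i => Additive.ofMul (e i))) :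
    LinearIndependent ℤ_[l] (fun i => AbDual.tateMapₗ (l := l) (T := Over.mk (𝟙 (Spec (CommRingCat.of k)))) (e i)) := by
  classical
  let T := Over.mk (𝟙 (Spec (CommRingCat.of k)))
  obtain ⟨d, hd, hdvd⟩ := exists_dvd_of_separating (fun i => Additive.ofMul (e i)) fun a ha => by
    haveI := isMonHom_comb e a
    refine exists_functional (Additive.toMul (∑ i, a i • Additive.ofMul (e i))) fun h1 => ha ?_
    exact funext (Fintype.linearIndependent_iff.1 he a (Additive.toMul.injective h1))
  rw [Fintype.linearIndependent_iff]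
  intro c hc i
  have key : ∀ n : ℕ, PadicInt.toZModPow n ((d : ℤ_[l]) * c i) = 0 := by
    intro n
    let a : Fin r → ℤ := fun j => ((c j).appr n : ℤ)
    haveI := isMonHom_comb e a
    let ψ : A ⟶ B := Additive.toMul (∑ j, a j • Additive.ofMul (e j))
    obtain ⟨φ', hφ', hfac⟩ := exists_eq_pow_comp (n := l ^ n) (by rw [Nat.cast_pow]; exact pow_ne_zero n hl) ψ fun b hb => by
      obtain ⟨x, hx⟩ := exists_tate_component l b hb
      let K : Additive (A ⟶ B) →+ Additive (T ⟶ B) :=
        AddMonoidHom.mk' (fun χ => Additive.ofMul (b ≫ χ.toMul)) fun p q => congrArg Additive.ofMul (MonObj.comp_mul b _ _)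
      have h := congrArg (fun z : AbDual.TateMod B l T => AbDual.TateMod.component B l T n z) (LinearMap.congr_fun hc x)
      simp only [LinearMap.sum_apply, LinearMap.smul_apply, map_sum, LinearMap.zero_apply, map_zero] at h
      have h' : K (∑ j, a j • Additive.ofMul (e j)) = 0 := by
        rw [map_sum]
        refine Eq.trans (Finset.sum_congr rfl fun j _ => ?_) h
        rw [map_zsmul, natCast_zsmul]
        show (c j).appr n • Additive.ofMul (b ≫ e j) = (c j).appr n • Additive.ofMul _
        rw [← hx]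
        rfl
      exact congrArg Additive.toMul h'
    haveI := hφ'
    have hm : ((l ^ n : ℕ) : ℤ) • Additive.ofMul φ' = ∑ j, a j • Additive.ofMul (e j) := by
      rw [natCast_zsmul]
      apply Additive.toMul.injective
      rw [toMul_nsmul, toMul_ofMul, ← pow_id_comp]
      exact hfac.symm
    have h1 := hdvd _ _ _ hm i
    rw [map_mul, map_natCast, AbDual.toZModPow_eq_appr, ← Nat.cast_mul, ZMod.natCast_eq_zero_iff]
    exact Int.natCast_dvd_natCast.1 (by push_cast at h1 ⊢; exact h1)
  have h0 : (d : ℤ_[l]) * c i = 0 := PadicInt.ext_of_toZModPow.1 fun n => by rw [key n, map_zero]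
  exact (mul_eq_zero.1 h0).resolve_left (by exact_mod_cast hd.ne')

end Groth.Agent.H25AbCube
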