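import Groth.Agent.H25AbCube.TopForm
import Groth.Agent.H25Euler.KillMap
import Groth.Agent.H25AbCube.HomIndep
import Groth.Agent.H25AbCube.HomFG
import Groth.Agent.H12AlgSp.LqfDim

/-!
# The degree of homomorphisms of abelian varieties is a form in the homomorphism
-/

set_option autoImplicit false
set_option linter.style.haveILetI false
set_option backward.isDefEq.respectTransparency false
universe u

open CategoryTheory CategoryTheory.Limits MonoidalCategory CartesianMonoidalCategory MonObj GrpObj AlgebraicGeometry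
  TopologicalSpace
open Groth.Agent

attribute [local instance 10000] Groth.Agent.H10Coh.hasSheafifyAb Groth.Agent.H10Coh.hasWeakSheafifyAb Groth.Agent.H10Coh.hasExtAb Groth.Agent.H10Coh.enoughInjAb

noncomputable section

namespace Groth.Agent.H25AbCube

variable {k : Type u} [Field k] {A B : Over (Spec (CommRingCat.of k))} [GrpObj A] [IsProper A.hom]
  [GeometricallyIntegral A.hom] [IsCommMonObj A] [GrpObj B] [IsProper B.hom] [GeometricallyIntegral B.hom]
  [IsCommMonObj B]

/-- A proper subset which is closed in an irreducible space has smaller dimension. -/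
theorem dim_lt_of_ne_univ {Y : Scheme.{u}} [IrreducibleSpace Y] {S : Set Y} (hS : IsClosed S) (hne : S ≠ Set.univ)
    {g : ℕ} (hg : topologicalKrullDim Y = g) : topologicalKrullDim S < (g : WithBot ℕ∞) :=
  H25Euler.dim_lt_of_forall_ne S hS (fun y _ => ⟨genericPoint Y, genericPoint_specializes y, fun h =>
    hne (Set.eq_univ_of_forall fun z => (genericPoint_specializes z).mem_closed hS h)⟩)
    (by rw [hg]; exact_mod_cast Nat.lt_succ_self g)

/-- A finite morphism between irreducible schemes of the same dimension is surjective. -/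
theorem surjective_of_finite {X Y : Scheme.{u}} [IrreducibleSpace Y] (f : X ⟶ Y) [IsFinite f] {g : ℕ}
    (hX : topologicalKrullDim X = g) (hY : topologicalKrullDim Y = g) : Surjective f := by
  by_contra h
  have hc : IsClosed (Set.range f) := f.isClosedMap.isClosed_range
  haveI : QuasiSober (Set.range f) := hc.isClosedEmbedding_subtypeVal.quasiSober
  have hlt := dim_lt_of_ne_univ hc (fun e => h ⟨Set.range_eq_univ.1 e⟩) hY
  refine absurd hlt (not_lt.2 ?_)
  rw [← hX]
  exact H17.topologicalKrullDim_le_of_noSpecializationsInFibres (Set.rangeFactorization f)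
    (f.continuous.subtype_mk _) fun x y hxy e => H12AlgSp.eq_of_specializes_of_lqf f hxy (congrArg Subtype.val e)

open Classical in
/-- The degree: the rank when finite, and zero otherwise. -/
def degree (ξ : A ⟶ B) : ℕ :=
  haveI : IsIntegral B.left := GeometricallyIntegral.isIntegral_of_subsingleton B.hom
  if IsFinite ξ.left then ξ.left.finrank (genericPoint B.left) else 0

theorem flat_of_finite (ξ : A ⟶ B) [IsMonHom ξ] [IsFinite ξ.left] {g : ℕ}
    (hA : topologicalKrullDim A.left = g) (hB : topologicalKrullDim B.left = g) : Flat ξ.left := by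
  haveI : IsIntegral B.left := GeometricallyIntegral.isIntegral_of_subsingleton B.hom
  haveI := surjective_of_finite ξ.left hA hB
  exact (Groth.Agent.S19572.result k A B ξ (hA.trans hB.symm)).2

theorem finrank_eq_degree (ξ : A ⟶ B) [IsMonHom ξ] [IsFinite ξ.left] {g : ℕ}
    (hA : topologicalKrullDim A.left = g) (hB : topologicalKrullDim B.left = g) (b : B.left) :
    ξ.left.finrank b = degree ξ := by
  haveI : IsIntegral B.left := GeometricallyIntegral.isIntegral_of_subsingleton B.hom
  haveI := flat_of_finite ξ hA hB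
  haveI : IsLocallyNoetherian B.left := LocallyOfFiniteType.isLocallyNoetherian B.hom
  rw [degree, if_pos ‹IsFinite ξ.left›]
  exact (Scheme.Hom.isLocallyConstant_finrank ξ.left).apply_eq_of_preconnectedSpace _ _

theorem degree_of_not_finite (ξ : A ⟶ B) (h : ¬ IsFinite ξ.left) : degree ξ = 0 := by
  rw [degree, if_neg h]

/-- The top coefficient of the Euler characteristics of a pulled back ample class. -/
theorem coeff_eq_degree_mul [B.left.Over (Spec (CommRingCat.of k))] [A.left.Over (Spec (CommRingCat.of k))]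
    (hoA : (A.left ↘ Spec (CommRingCat.of k)) = A.hom) (hoB : (B.left ↘ Spec (CommRingCat.of k)) = B.hom)
    (ξ : A ⟶ B) [IsMonHom ξ] {g : ℕ} (hA : topologicalKrullDim A.left = g) (hB : topologicalKrullDim B.left = g)
    {M : B.left.Modules} (hM : CohB1.IsAmple M) {P₀ P : Polynomial ℚ}
    (hP₀ : ShStab.IsHilbPoly k B.left M (Coh.structureModule B.left) P₀)
    (hP : ∀ m : ℕ, P.eval (m : ℚ) = (chiCls k (m • ev (pc M hM.1) ξ) : ℚ)) :
    P.coeff g = degree ξ * P₀.coeff g := by
  haveI : IsProper (A.left ↘ Spec (CommRingCat.of k)) := hoA ▸ ‹IsProper A.hom›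
  haveI : IsProper (B.left ↘ Spec (CommRingCat.of k)) := hoB ▸ ‹IsProper B.hom›
  haveI : IsIntegral A.left := GeometricallyIntegral.isIntegral_of_subsingleton A.hom
  haveI : IsIntegral B.left := GeometricallyIntegral.isIntegral_of_subsingleton B.hom
  haveI : IsLocallyNoetherian A.left := LocallyOfFiniteType.isLocallyNoetherian A.hom
  haveI : IsLocallyNoetherian B.left := LocallyOfFiniteType.isLocallyNoetherian B.hom
  haveI : CompactSpace B.left := QuasiCompact.compactSpace_of_compactSpace B.hom
  haveI : IsNoetherian B.left := {}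
  haveI : IsProper (ξ.left ≫ B.hom) := by rw [Over.w ξ]; infer_instance
  haveI : IsProper ξ.left := IsProper.of_comp ξ.left B.hom
  let φ := ξ.left
  let L := (Scheme.Modules.pullback φ).obj M
  have hL := H11Ample.isInvertible_pullback φ hM.1
  let OA := Coh.structureModule A.left
  have hOA : Coh.IsCoh OA := H11Ample.isCoh_of_isInvertible H11Ample.isInvertible_structureModule
  have hchi : ∀ m : ℕ, (H25Euler.chi k L OA m : ℚ) = P.eval (m : ℚ) := fun m => by
    rw [hP, chi_eq_chiCls L OA hL H11Ample.isInvertible_structureModule m, pc_one, zero_add]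
    refine congrArg (fun z : PC A.left => (chiCls k (m • z) : ℚ)) ?_
    exact pullP_pc φ M hM.1 hL
  by_cases hf : IsFinite ξ.left
  · haveI := hf
    haveI : IsFinite φ := hf
    haveI : Flat φ := flat_of_finite ξ hA hB
    have hE : Coh.IsCoh ((Coh.push φ).obj OA) := H10Coh.isCoh_push_of_isFinite φ OA hOA
    have hQ : ShStab.IsHilbPoly k B.left M ((Coh.push φ).obj OA) P := fun m => by
      haveI : OA.IsQuasicoherent := hOA.1
      have hm := H11Ample.isInvertible_tensorPow hM.1 m
      have hp := H11Ample.isInvertible_pullback φ hm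
      obtain ⟨e⟩ := H11Ample.exists_iso_pullback_tensorPow φ hM.1 m
      haveI := H10Coh.PF.isIso_ψ_of_isFinLocFree φ (H22Alg.PnVan.finLocFree_of_inv hm) OA
      haveI : (CohB1.tensorMod OA ((Scheme.Modules.pullback φ).obj (CohB1.tensorPow M m))).IsQuasicoherent :=
        (H11Ample.isCoh_tensor hOA hp).1
      rw [← hchi m]
      refine congrArg (fun z : ℤ => (z : ℚ)) ?_
      refine (H25Euler.euler_congr (asIso (H16Derived.ProjFormula.ψ φ OA (CohB1.tensorPow M m)))).trans ?_
      refine (H28Int.Push.euler_push k φ (by rw [hoA, hoB]; exact Over.w ξ)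
        (CohB1.tensorMod OA ((Scheme.Modules.pullback φ).obj (CohB1.tensorPow M m)))).trans ?_
      exact H25Euler.euler_congr (eqToIso (H25Euler.tensorBi_obj_obj OA _).symm ≪≫
        ((DCoh.tensorBi (X := A.left)).obj OA).mapIso e ≪≫ eqToIso (H25Euler.tensorBi_obj_obj OA _))
    rw [H25Euler.coeff_hilbPoly_eq_genRank_mul k hM hB hP₀ hE hQ, H25Euler.genRank_push φ,
      finrank_eq_degree ξ hA hB]
  · rw [degree_of_not_finite ξ hf, Nat.cast_zero, zero_mul]
    have hdim : topologicalKrullDim (φ '' CohB1.support OA) < (g : WithBot ℕ∞) := by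
      refine dim_lt_of_ne_univ (φ.isClosedMap _ (H10Coh.isClosed_support OA hOA.2)) (fun e => hf ?_) hB
      haveI : Surjective φ := ⟨fun y => by
        obtain ⟨x, -, hx⟩ := e.symm ▸ Set.mem_univ y
        exact ⟨x, hx⟩⟩
      exact (Groth.Agent.S19572.result k A B ξ (hA.trans hB.symm)).1
    exact H25Euler.coeff_eq_zero_of_kill g _ P (H25Euler.kill_chi_pullback (k := k) φ φ.isClosedMap hM g OA hOA hdim)
      (fun m => (hchi m).symm) g le_rfl

/-- The biadditive form attached to a class by the theorem of the cube. -/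
def cubeForm (L : PC B.left) (x y : A ⟶ B) : PC A.left := ev L (x * y) - ev L x - ev L y

theorem ev_one_eq (L : PC B.left) : ev L (1 : A ⟶ B) = 0 := by
  have e : (toUnit A ≫ η[B] : A ⟶ B) = 1 := (MonObj.one_eq_one (M := B) ▸ MonObj.comp_one _)
  rw [← e]; exact ev_toUnit L _

theorem sub_rearrange {G : Type*} [AddCommGroup G] (p q r x y z : G) :
    p + q + r - z - y - x - p - z = (q - x - z) + (r - y - z) := by abel

/-- Twice the pullback of a symmetric class is a quadratic form in the morphism. -/
theorem two_smul_ev (L : PC B.left) (hL : ev L ((𝟙 B)⁻¹) = L) {m : ℕ} (f : Fin m → (A ⟶ B)) (a : Fin m → ℤ) :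
    2 • ev L (∏ i, f i ^ a i) = ∑ p : Fin m × Fin m, (a p.1 * a p.2) • cubeForm L (f p.1) (f p.2) := by
  let C : (A ⟶ B) → Additive (A ⟶ B) →+ PC A.left := fun z =>
    AddMonoidHom.mk' (fun x => cubeForm L x.toMul z) fun x y => by
      have := three L x.toMul y.toMul z
      rw [toMul_add]
      simp only [cubeForm]
      have e := eq_sub_of_add_eq (eq_sub_of_add_eq (eq_sub_of_add_eq this))
      rw [e]
      exact sub_rearrange _ _ _ _ _ _
  have hcomm : ∀ x y : A ⟶ B, cubeForm L x y = cubeForm L y x := fun x y => by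
    rw [cubeForm, cubeForm, mul_comm x y, sub_right_comm]
  let g := Additive.ofMul (∏ i, f i ^ a i)
  have hg : g = ∑ i, a i • Additive.ofMul (f i) := (ofMul_prod _ _).trans (Finset.sum_congr rfl fun i _ => rfl)
  have h2 : 2 • ev L (∏ i, f i ^ a i) = cubeForm L g.toMul g.toMul := by
    show 2 • ev L g.toMul = _
    rw [cubeForm, ← pow_two, ← comp_pow_id (A := B) g.toMul 2, ← ev_comp, ev_pow_of_symm L hL 2, two_nsmul]
    simp only [ev, map_nsmul]
    show _ = (4 : ℕ) • _ - _ - _
    rw [show (4 : ℕ) = 2 + 1 + 1 from rfl, add_nsmul, add_nsmul, one_nsmul, two_nsmul]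
    abel
  rw [h2, Fintype.sum_prod_type_right]
  have hleft : ∀ z, cubeForm L g.toMul z = ∑ i, a i • cubeForm L (f i) z := fun z => by
    show C z g = _
    rw [hg, map_sum]
    exact Finset.sum_congr rfl fun i _ => map_zsmul (C z) _ _
  rw [hleft]
  refine Finset.sum_congr rfl fun j _ => ?_
  rw [hcomm, hleft, Finset.smul_sum]
  exact Finset.sum_congr rfl fun i _ => by rw [← mul_smul, mul_comm]

/-- The degree is a form of degree `2g`. -/
theorem exists_degree_form {g : ℕ} (hA : topologicalKrullDim A.left = g) (hB : topologicalKrullDim B.left = g)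
    {m : ℕ} (f : Fin m → (A ⟶ B)) [∀ i, IsMonHom (f i)] :
    ∃ P : MvPolynomial (Fin m) ℚ, P.IsHomogeneous (2 * g) ∧
      ∀ a : Fin m → ℤ, (degree (∏ i, f i ^ a i) : ℚ) = MvPolynomial.eval (fun i => (a i : ℚ)) P := by
  classical
  letI : A.left.Over (Spec (CommRingCat.of k)) := ⟨A.hom⟩
  letI : B.left.Over (Spec (CommRingCat.of k)) := ⟨B.hom⟩
  haveI : IsProper (A.left ↘ Spec (CommRingCat.of k)) := ‹IsProper A.hom›
  haveI : IsProper (B.left ↘ Spec (CommRingCat.of k)) := ‹IsProper B.hom›
  obtain ⟨M, hM, hamp, hsymm⟩ := exists_ample_symm (A := B)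
  obtain ⟨H, hHi, hH, -⟩ := exists_ample_symm (A := A)
  let M2 := CohB1.tensorMod M M
  have h2 : CohB1.IsAmple M2 := H11Ample.isAmple_tensor_of_isAmple hamp hamp
  obtain ⟨Q, hQ, hQe⟩ := exists_topForm (k := k) hA hH (fun p : Fin m × Fin m => cubeForm (pc M hM) (f p.1) (f p.2))
  let O := Coh.structureModule B.left
  have hO : Coh.IsCoh O := H11Ample.isCoh_of_isInvertible H11Ample.isInvertible_structureModule
  haveI : IsIntegral B.left := GeometricallyIntegral.isIntegral_of_subsingleton B.hom
  haveI : CompactSpace B.left := QuasiCompact.compactSpace_of_compactSpace B.hom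
  have hsupp : topologicalKrullDim (CohB1.support O) = (g : WithBot ℕ∞) := by
    rw [H25Euler.support_invertible H11Ample.isInvertible_structureModule]
    exact ((Homeomorph.Set.univ B.left).isHomeomorph.topologicalKrullDim_eq).trans hB
  obtain ⟨P₀, hP₀⟩ := H25Euler.exists_hilbPoly (k := k) h2 hO (d := g + 1)
    (hsupp ▸ (by exact_mod_cast Nat.lt_succ_self g))
  obtain ⟨-, -, hpos⟩ := H10Coh.Stab.degree_hilbPoly h2 hO hsupp hP₀
  refine ⟨MvPolynomial.C (P₀.coeff g)⁻¹ *
    MvPolynomial.aeval (fun p : Fin m × Fin m => MvPolynomial.X p.1 * MvPolynomial.X p.2) Q, ?_, fun a => ?_⟩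
  · simpa using (MvPolynomial.isHomogeneous_C _ (P₀.coeff g)⁻¹).mul
      (hQ.aeval (n := 2) (fun p : Fin m × Fin m => (MvPolynomial.X p.1 * MvPolynomial.X p.2 : MvPolynomial (Fin m) ℚ))
        fun p => (MvPolynomial.isHomogeneous_X ℚ p.1).mul (MvPolynomial.isHomogeneous_X ℚ p.2))
  let ξ := ∏ i, f i ^ a i
  haveI : IsMonHom ξ := Finset.prod_induction (fun i => f i ^ a i) (fun x => IsMonHom x)
    (fun x y hx hy => by haveI := hx; haveI := hy; rw [Hom.mul_def]; infer_instance)
    (by rw [Hom.one_def]; infer_instance) fun i _ => H19Grp.isMonHom_zpow (f i) (a i)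
  have hsum : ev (pc M2 h2.1) ξ = ∑ p : Fin m × Fin m, (a p.1 * a p.2) • cubeForm (pc M hM) (f p.1) (f p.2) := by
    rw [← two_smul_ev (pc M hM) hsymm f a, two_nsmul]
    rw [show pc M2 h2.1 = pc M hM + pc M hM from pc_tensor hM hM h2.1]
    exact map_add (pullP ξ.left) _ _
  obtain ⟨P, hP, hPQ⟩ := hQe (fun p => a p.1 * a p.2)
  rw [← hsum] at hP
  have e1 := coeff_eq_degree_mul rfl rfl ξ hA hB h2 hP₀ hP
  rw [hPQ] at e1
  rw [map_mul, MvPolynomial.eval_C]
  refine (eq_inv_mul_iff_mul_eq₀ hpos.ne').2 ((mul_comm _ _).trans (e1.symm.trans ?_))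
  rw [show MvPolynomial.eval (fun i => (a i : ℚ)) = (MvPolynomial.aeval (R := ℚ) fun i => (a i : ℚ)).toRingHom from rfl]
  simp only [AlgHom.toRingHom_eq_coe, RingHom.coe_coe, MvPolynomial.comp_aeval_apply, map_mul, MvPolynomial.aeval_X]
  push_cast
  rfl

end Groth.Agent.H25AbCube
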