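import Mathlib.LinearAlgebra.FreeModule.Finite.Quotient
import Mathlib.LinearAlgebra.Determinant
import Mathlib.NumberTheory.Padics.RingHoms

/-!
# The index of the image of an injective endomorphism of a lattice
-/

set_option autoImplicit false

namespace Groth.Agent.H25AbCube

open Module

variable {l : ℕ} [Fact l.Prime]

theorem valuation_eq_of_associated {a b : ℤ_[l]} (h : Associated a b) : a.valuation = b.valuation := by
  obtain ⟨u, rfl⟩ := h
  rcases eq_or_ne a 0 with rfl | ha
  · simp
  rw [PadicInt.valuation_mul ha u.ne_zero]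
  have h1 : (u : ℤ_[l]).valuation = 0 := by
    have := PadicInt.valuation_mul (x := (u : ℤ_[l])) (y := ((u⁻¹ : ℤ_[l]ˣ) : ℤ_[l])) u.ne_zero (Units.ne_zero _)
    rw [← Units.val_mul, mul_inv_cancel, Units.val_one, PadicInt.valuation_one] at this
    omega
  omega

theorem natCard_quotient_span {a : ℤ_[l]} (ha : a ≠ 0) :
    Nat.card (ℤ_[l] ⧸ Ideal.span {a}) = l ^ a.valuation := by
  have h : Ideal.span {a} = RingHom.ker (PadicInt.toZModPow (p := l) a.valuation) := by
    rw [PadicInt.ker_toZModPow]
    conv_lhs => rw [PadicInt.unitCoeff_spec ha]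
    exact Ideal.span_singleton_mul_left_unit (PadicInt.unitCoeff ha).isUnit _
  rw [h, Nat.card_congr (RingHom.quotientKerEquivOfSurjective
    (ZMod.ringHom_surjective (PadicInt.toZModPow (p := l) a.valuation))).toEquiv, Nat.card_zmod]

/-- The index of the image is the power of `l` given by the valuation of the determinant. -/
theorem natCard_quotient_range {M : Type*} [AddCommGroup M] [Module ℤ_[l] M] [Module.Free ℤ_[l] M]
    [Module.Finite ℤ_[l] M] (f : M →ₗ[ℤ_[l]] M) (hf : Function.Injective f) :
    Nat.card (M ⧸ LinearMap.range f) = l ^ (LinearMap.det f).valuation := by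
  classical
  let b := Module.Free.chooseBasis ℤ_[l] M
  let N := LinearMap.range f
  let e0 : M ≃ₗ[ℤ_[l]] N := LinearEquiv.ofInjective f hf
  have h : Module.finrank ℤ_[l] N = Module.finrank ℤ_[l] M := e0.finrank_eq.symm
  rw [Nat.card_congr (Submodule.quotientEquivPiSpan N b h).toEquiv, Nat.card_pi,
    Finset.prod_congr rfl fun i _ => natCard_quotient_span (Submodule.smithNormalFormCoeffs_ne_zero b h i),
    Finset.prod_pow_eq_pow_sum]
  congr 1
  let bT := Submodule.smithNormalFormTopBasis b h
  let bN := Submodule.smithNormalFormBotBasis b h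
  let a := Submodule.smithNormalFormCoeffs b h
  let eB : M ≃ₗ[ℤ_[l]] N := bT.equiv bN (Equiv.refl _)
  have hass : Associated (LinearMap.det f) (∏ i, a i) := by
    have h1 := LinearMap.associated_det_comp_equiv N.subtype e0 eB
    rw [show N.subtype ∘ₗ (e0 : M →ₗ[ℤ_[l]] N) = f from LinearMap.ext fun x => rfl] at h1
    refine h1.trans (Associated.of_eq ?_)
    rw [← LinearMap.det_toMatrix bT, show LinearMap.toMatrix bT bT (N.subtype ∘ₗ (eB : M →ₗ[ℤ_[l]] N)) =
      Matrix.diagonal a from ?_, Matrix.det_diagonal]
    ext i j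
    rw [LinearMap.toMatrix_apply]
    simp only [LinearMap.comp_apply, LinearEquiv.coe_coe, eB, Basis.equiv_apply, Equiv.refl_apply,
      Submodule.subtype_apply]
    rw [Submodule.smithNormalFormBotBasis_def b h j, map_smul, Finsupp.smul_apply, Basis.repr_self,
      Finsupp.single_apply, Matrix.diagonal_apply, smul_eq_mul]
    rcases eq_or_ne i j with rfl | hij
    · simp [a]
    · simp [hij, Ne.symm hij]
  rw [valuation_eq_of_associated hass]
  clear hass
  have hne : ∀ i, a i ≠ 0 := fun i => Submodule.smithNormalFormCoeffs_ne_zero b h i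
  show ∑ i, (a i).valuation = _
  generalize (Finset.univ : Finset (Module.Free.ChooseBasisIndex ℤ_[l] M)) = s
  induction s using Finset.induction_on with
  | empty => simp
  | insert i s hi ih =>
    rw [Finset.sum_insert hi, Finset.prod_insert hi,
      PadicInt.valuation_mul (hne i) (Finset.prod_ne_zero_iff.2 fun j _ => hne j), ih]

end Groth.Agent.H25AbCube
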