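import Groth.Agent.H25AbCube.DegreePoly
import Groth.Agent.H25AbCube.DetIndex
import Groth.Agent.H25AbCube.KerCard
import Groth.Agent.H25AbCube.HomTate
import Groth.Agent.H25AbCube.HomDescent
import Groth.Prelude.Def_EndTate

/-!
# The degree and the determinant on the Tate module have the same valuation
-/

set_option autoImplicit false
set_option linter.style.haveILetI false
set_option backward.isDefEq.respectTransparency false
set_option synthInstance.maxHeartbeats 200000
set_option maxHeartbeats 1000000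
universe u

open CategoryTheory CategoryTheory.Limits MonoidalCategory CartesianMonoidalCategory MonObj GrpObj AlgebraicGeometry
  TopologicalSpace
open Groth.Agent

noncomputable section

namespace Groth.Agent.H25AbCube

theorem exists_mul_eq' {R : Type*} [Ring R] (hfin : Module.Finite ℤ R) (β : R) (hz : ∀ x, β * x = 0 → x = 0) :
    ∃ (c : ℤ) (δ : R), c ≠ 0 ∧ β * δ = c ∧ δ * β = c := by
  haveI := hfin
  obtain ⟨p, hp, hp0⟩ : _root_.IsIntegral ℤ β := Algebra.IsIntegral.isIntegral β
  rw [← Polynomial.aeval_def] at hp0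
  obtain ⟨q, hq, hq0⟩ : ∃ q : Polynomial ℤ, Polynomial.aeval β q = 0 ∧ q.coeff 0 ≠ 0 := by
    obtain ⟨q, hpq, hq⟩ := Polynomial.exists_eq_pow_rootMultiplicity_mul_and_not_dvd p hp.ne_zero 0
    simp only [map_zero, sub_zero] at hpq hq
    refine ⟨q, ?_, fun h => hq (Polynomial.X_dvd_iff.2 h)⟩
    rw [hpq, map_mul, map_pow, Polynomial.aeval_X] at hp0
    generalize Polynomial.rootMultiplicity 0 p = j at hp0
    induction j with
    | zero => rwa [pow_zero, _root_.one_mul] at hp0
    | succ j ih => exact ih (hz _ (by rwa [← _root_.mul_assoc, ← pow_succ']))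
  refine ⟨q.coeff 0, -Polynomial.aeval β q.divX, hq0, ?_, ?_⟩
  · rw [← Polynomial.X_mul_divX_add q, map_add, map_mul, Polynomial.aeval_X, Polynomial.aeval_C] at hq
    rw [_root_.mul_neg, eq_neg_of_add_eq_zero_left hq, neg_neg]
    exact eq_intCast _ _
  · rw [← Polynomial.divX_mul_X_add q, map_add, map_mul, Polynomial.aeval_X, Polynomial.aeval_C] at hq
    rw [neg_mul, eq_neg_of_add_eq_zero_left hq, neg_neg]
    exact eq_intCast _ _

section AnyField

variable {k : Type u} [Field k] {A B D : Over (Spec (CommRingCat.of k))} [GrpObj A] [IsProper A.hom]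
  [GeometricallyIntegral A.hom] [IsCommMonObj A] [GrpObj B] [IsProper B.hom] [GeometricallyIntegral B.hom]
  [IsCommMonObj B] [GrpObj D] [IsProper D.hom] [GeometricallyIntegral D.hom] [IsCommMonObj D]

/-- The degree is multiplicative. -/
theorem degree_comp {g : ℕ} (hA : topologicalKrullDim A.left = g) (hB : topologicalKrullDim B.left = g)
    (hD : topologicalKrullDim D.left = g) (β : A ⟶ B) [IsMonHom β] (δ : B ⟶ D) [IsMonHom δ] :
    degree (β ≫ δ) = degree β * degree δ := by
  haveI : IsProper (β.left ≫ B.hom) := by rw [Over.w β]; infer_instance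
  haveI : IsProper β.left := IsProper.of_comp β.left B.hom
  haveI : IsProper (δ.left ≫ D.hom) := by rw [Over.w δ]; infer_instance
  haveI : IsProper δ.left := IsProper.of_comp δ.left D.hom
  by_cases hβ : IsFinite β.left
  swap
  · have : ¬ IsFinite (β ≫ δ).left := fun h => hβ (by
      haveI : IsFinite (β.left ≫ δ.left) := h
      exact IsFinite.of_comp β.left δ.left)
    rw [degree_of_not_finite _ this, degree_of_not_finite _ hβ, zero_mul]
  by_cases hδ : IsFinite δ.left
  swap
  · have : ¬ IsFinite (β ≫ δ).left := fun h => hδ (by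
      haveI := h
      haveI : IsIntegral D.left := GeometricallyIntegral.isIntegral_of_subsingleton D.hom
      haveI := surjective_of_finite (β ≫ δ).left hA hD
      haveI : Surjective δ.left := ⟨fun y => by
        obtain ⟨x, hx⟩ := (β ≫ δ).left.surjective y
        exact ⟨β.left x, hx⟩⟩
      exact (Groth.Agent.S19572.result k B D δ (hB.trans hD.symm)).1)
    rw [degree_of_not_finite _ this, degree_of_not_finite _ hδ, mul_zero]
  letI : A.left.Over (Spec (CommRingCat.of k)) := ⟨A.hom⟩
  letI : B.left.Over (Spec (CommRingCat.of k)) := ⟨B.hom⟩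
  letI : D.left.Over (Spec (CommRingCat.of k)) := ⟨D.hom⟩
  haveI : IsProper (A.left ↘ Spec (CommRingCat.of k)) := ‹IsProper A.hom›
  haveI : IsProper (B.left ↘ Spec (CommRingCat.of k)) := ‹IsProper B.hom›
  haveI : IsProper (D.left ↘ Spec (CommRingCat.of k)) := ‹IsProper D.hom›
  haveI : IsIntegral B.left := GeometricallyIntegral.isIntegral_of_subsingleton B.hom
  haveI : IsIntegral D.left := GeometricallyIntegral.isIntegral_of_subsingleton D.hom
  haveI : CompactSpace B.left := QuasiCompact.compactSpace_of_compactSpace B.hom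
  haveI : CompactSpace D.left := QuasiCompact.compactSpace_of_compactSpace D.hom
  haveI : QuasiSeparatedSpace D.left := quasiSeparatedSpace_of_quasiSeparated D.hom
  haveI := hδ
  obtain ⟨M, hM, hamp, -⟩ := exists_ample_symm (A := D)
  obtain ⟨H, hHi, hH, -⟩ := exists_ample_symm (A := A)
  let N := (Scheme.Modules.pullback δ.left).obj M
  have hN : CohB1.IsAmple N := H11Ample.isAmple_pullback δ.left hamp fun x =>
    ⟨⊤, trivial, fun W hW _ => hW.preimage δ.left⟩
  have hilb : ∀ {E : Over (Spec (CommRingCat.of k))} [GeometricallyIntegral E.hom] [IsProper E.hom]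
      [E.left.Over (Spec (CommRingCat.of k))] [IsProper (E.left ↘ Spec (CommRingCat.of k))],
      topologicalKrullDim E.left = g → ∀ {L : E.left.Modules}, CohB1.IsAmple L →
        ∃ P : Polynomial ℚ, ShStab.IsHilbPoly k E.left L (Coh.structureModule E.left) P ∧ 0 < P.coeff g := by
    intro E _ _ _ _ hE L hL
    haveI : IsIntegral E.left := GeometricallyIntegral.isIntegral_of_subsingleton E.hom
    have hO : Coh.IsCoh (Coh.structureModule E.left) :=
      H11Ample.isCoh_of_isInvertible H11Ample.isInvertible_structureModule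
    have hsupp : topologicalKrullDim (CohB1.support (Coh.structureModule E.left)) = (g : WithBot ℕ∞) := by
      rw [H25Euler.support_invertible H11Ample.isInvertible_structureModule]
      exact ((Homeomorph.Set.univ E.left).isHomeomorph.topologicalKrullDim_eq).trans hE
    obtain ⟨P₀, hP₀⟩ := H25Euler.exists_hilbPoly (k := k) hL hO (d := g + 1)
      (hsupp ▸ (by exact_mod_cast Nat.lt_succ_self g))
    exact ⟨P₀, hP₀, (H10Coh.Stab.degree_hilbPoly hL hO hsupp hP₀).2.2⟩
  obtain ⟨P₀, hP₀, hpos⟩ := hilb hD hamp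
  obtain ⟨P₁, hP₁, -⟩ := hilb hB hN
  obtain ⟨Q, -, hQe⟩ := exists_topForm (k := k) hA hH (fun _ : Fin 1 => ev (pc N hN.1) β)
  obtain ⟨P, hP, -⟩ := hQe fun _ => 1
  simp only [Finset.univ_unique, Finset.sum_singleton, one_smul] at hP
  have hNM : pc N hN.1 = ev (pc M hamp.1) δ := pullP_pc δ.left M hamp.1 hN.1
  have e1 := coeff_eq_degree_mul rfl rfl β hA hB hN hP₁ hP
  have e2 := coeff_eq_degree_mul rfl rfl δ hB hD hamp hP₀ (P := P₁) fun m => by
    rw [← hNM]
    refine (hP₁ m).symm.trans ?_
    rw [show (Curv2.euler k B.left (ShStab.twist B.left N (Coh.structureModule B.left) m)) =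
      H25Euler.chi k N (Coh.structureModule B.left) m from rfl,
      chi_eq_chiCls N _ hN.1 H11Ample.isInvertible_structureModule m, pc_one, zero_add]
  have e3 := coeff_eq_degree_mul rfl rfl (β ≫ δ) hA hD hamp hP₀ (P := P) fun m => by
    rw [hP m, hNM, ev_comp]
  rw [e1, e2, ← _root_.mul_assoc] at e3
  exact_mod_cast (mul_right_cancel₀ hpos.ne' e3).symm

theorem degree_id : degree (𝟙 A) = 1 := by
  haveI : IsFinite (𝟙 A : A ⟶ A).left := inferInstanceAs (IsFinite (𝟙 A.left))
  haveI : IsIso (𝟙 A : A ⟶ A).left := inferInstanceAs (IsIso (𝟙 A.left))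
  rw [degree, if_pos ‹IsFinite (𝟙 A : A ⟶ A).left›, Scheme.Hom.finrank_eq_one_of_isIso, Pi.one_apply]

/-- The degree of multiplication by an integer. -/
theorem degree_zpow_id {g : ℕ} (hA : topologicalKrullDim A.left = g) (c : ℤ) :
    (degree ((𝟙 A) ^ c : A ⟶ A) : ℚ) = (c : ℚ) ^ (2 * g) := by
  obtain ⟨P, hP, hPe⟩ := exists_degree_form hA hA (fun _ : Fin 1 => 𝟙 A)
  have key : ∀ c : ℤ, (degree ((𝟙 A) ^ c : A ⟶ A) : ℚ) = (c : ℚ) ^ (2 * g) * MvPolynomial.eval (fun _ => 1) P := by
    intro c
    have h := hPe fun _ => c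
    rw [Fin.prod_univ_one] at h
    have h2 := H25Euler.eval_lineRes (fun _ : Fin 1 => (1 : ℚ)) P (c : ℚ)
    rw [H25Euler.lineRes_of_isHomogeneous _ hP, Polynomial.eval_monomial] at h2
    rw [h, _root_.mul_comm, h2]
    simp
  have h1 := key 1
  rw [zpow_one, degree_id, Int.cast_one, one_pow, _root_.one_mul, Nat.cast_one] at h1
  rw [key, ← h1, _root_.mul_one]

end AnyField

variable {k : Type u} [Field k] [IsAlgClosed k] {A : Over (Spec (CommRingCat.of k))} [GrpObj A] [IsProper A.hom]
  [GeometricallyIntegral A.hom] [IsCommMonObj A]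

/-- The representation on the Tate module of rational points. -/
abbrev trep (l : ℕ) [Fact l.Prime] : EndAV.End A →+* Module.End ℤ_[l] (AbDual.TateMod A l (pt1 k)) :=
  EndAV.End.tateRep l (pt1 k)

theorem moduleFinite_end : Module.Finite ℤ (EndAV.End A) := by
  haveI : AddGroup.FG (homs A A) := (AddGroup.fg_iff_addSubgroup_fg _).2 homs_fg'
  haveI : Module.Finite ℤ (homs A A) := Module.Finite.iff_addGroup_fg.2 ‹_›
  let Ψ : EndAV.End A →+ homs A A :=
    { toFun := fun x => ⟨Additive.ofMul x.toHom, (inferInstance : IsMonHom x.toHom)⟩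
      map_zero' := rfl
      map_add' := fun _ _ => rfl }
  exact Module.Finite.of_injective Ψ.toIntLinearMap fun x y h =>
    EndAV.End.ext (congrArg (fun z : homs A A => z.1.toMul) h)

/-- An endomorphism which is finite is not a zero divisor on the left. -/
theorem eq_zero_of_mul_eq_zero (β x : EndAV.End A) [IsFinite β.toHom.left] (h : β * x = 0) : x = 0 := by
  refine EndAV.End.ext (by_contra fun hne => ?_)
  haveI : IsIntegral A.left := GeometricallyIntegral.isIntegral_of_subsingleton A.hom
  refine map_genericPoint_ne x.toHom hne ?_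
  have h1 : x.toHom ≫ β.toHom = 1 := congrArg EndAV.End.toHom h
  have hs : x.toHom.left (genericPoint A.left) ⤳ x.toHom.left (zeroPt A) :=
    (genericPoint_specializes _).map x.toHom.left.continuous
  have h0 : x.toHom.left (zeroPt A) = zeroPt A := by
    rw [← Scheme.Hom.comp_apply, ← Over.comp_left, IsMonHom.one_hom]
  rw [h0] at hs
  refine H12AlgSp.eq_of_specializes_of_lqf β.toHom.left hs ?_
  rw [← Scheme.Hom.comp_apply, ← Over.comp_left, h1, ← Scheme.Hom.comp_apply, ← Over.comp_left, IsMonHom.one_hom,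
    H19Grp.one_left, Scheme.Hom.comp_apply]
  exact congrArg (η[A]).left (Subsingleton.elim (α := PrimeSpectrum k) _ _)

/-- A finite endomorphism divides a positive multiple of the identity. -/
theorem exists_mul_eq (β : EndAV.End A) [IsFinite β.toHom.left] :
    ∃ (c : ℤ) (δ : EndAV.End A), c ≠ 0 ∧ β * δ = c ∧ δ * β = c :=
  exists_mul_eq' (moduleFinite_end (A := A)) β (fun x => eq_zero_of_mul_eq_zero β x)

/-- Components vanish exactly on multiples. -/
theorem exists_eq_smul_of_component (l : ℕ) [Fact l.Prime] (x : AbDual.TateMod A l (pt1 k)) (n : ℕ)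
    (h : AbDual.TateMod.component A l (pt1 k) n x = 0) : ∃ z, x = (l ^ n : ℕ) • z := by
  refine ⟨⟨fun m => (x : ℕ → Additive (pt1 k ⟶ A)) (m + n), fun m => ?_, fun m => ?_⟩, AbDual.TateMod.ext fun m => ?_⟩
  · have key : ∀ j, (l ^ j) • (x : ℕ → Additive (pt1 k ⟶ A)) (j + n) = (x : ℕ → Additive (pt1 k ⟶ A)) n := by
      intro j
      induction j with
      | zero => simp
      | succ j ih => rw [pow_succ, mul_nsmul', add_right_comm, x.compat, ih]
    rw [key]; exact h
  · show l • (x : ℕ → Additive (pt1 k ⟶ A)) (m + 1 + n) = (x : ℕ → Additive (pt1 k ⟶ A)) (m + n)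
    rw [add_right_comm]; exact x.compat _
  · show _ = (l ^ n) • (x : ℕ → Additive (pt1 k ⟶ A)) (m + n)
    induction n with
    | zero => simp
    | succ n ih => rw [pow_succ, mul_nsmul', ← add_assoc, x.compat]; exact ih (by
        show (x : ℕ → Additive (pt1 k ⟶ A)) n = 0
        rw [← x.compat n, show (x : ℕ → Additive (pt1 k ⟶ A)) (n + 1) = 0 from h, smul_zero])

variable (l : ℕ) [Fact l.Prime] [Module.Free ℤ_[l] (AbDual.TateMod A l (pt1 k))]
  [Module.Finite ℤ_[l] (AbDual.TateMod A l (pt1 k))]

/-- The index of the image on the Tate module divides the degree. -/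
theorem pow_valuation_dvd_degree {g : ℕ} (hg : topologicalKrullDim A.left = g) (β : EndAV.End A)
    [IsFinite β.toHom.left] {c : ℤ} {δ : EndAV.End A} (hc : c ≠ 0) (hδ : δ * β = c) :
    Function.Injective (trep l β) ∧ l ^ (LinearMap.det (trep l β)).valuation ∣ degree β.toHom := by
  haveI := flat_of_finite β.toHom hg hg
  have hinj : Function.Injective (trep l β) := by
    intro x y h
    have h2 := congrArg (trep l δ) h
    rw [← Module.End.mul_apply, ← Module.End.mul_apply, ← map_mul, hδ, map_intCast, Module.End.intCast_apply,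
      Module.End.intCast_apply] at h2
    rw [← Int.cast_smul_eq_zsmul ℤ_[l], ← Int.cast_smul_eq_zsmul ℤ_[l]] at h2
    exact smul_right_injective _ (Int.cast_ne_zero.2 hc) h2
  refine ⟨hinj, ?_⟩
  let T := AbDual.TateMod A l (pt1 k)
  have hidx := natCard_quotient_range (trep l β) hinj
  obtain ⟨hfin, hdvd⟩ := card_ptsKer_dvd β.toHom fun b => finrank_eq_degree β.toHom hg hg b
  set v := (LinearMap.det (trep l β)).valuation
  haveI : Finite (T ⧸ LinearMap.range (trep l β)) :=
    Nat.finite_of_card_ne_zero (by rw [hidx]; exact pow_ne_zero _ (Fact.out : l.Prime).ne_zero)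
  have hkill : ∀ y : T, ∃ x : T, trep l β x = (l ^ v : ℕ) • y := fun y => by
    have h0 : (l ^ v : ℕ) • (Submodule.Quotient.mk y : T ⧸ LinearMap.range (trep l β)) = 0 := by
      rw [← hidx]; exact card_nsmul_eq_zero'
    rw [← Submodule.Quotient.mk_smul, Submodule.Quotient.mk_eq_zero] at h0
    exact h0
  choose pre hpre using hkill
  have hlin : ∀ y y', pre (y + y') = pre y + pre y' := fun y y' => hinj (by rw [map_add, hpre, hpre, hpre, nsmul_add])
  let Ψ : T →+ Additive (pt1 k ⟶ A) := (AbDual.TateMod.component A l (pt1 k) v).comp (AddMonoidHom.mk' pre hlin)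
  have hrange : ∀ y, (Ψ y).toMul ≫ β.toHom = 1 := fun y => by
    show (AbDual.TateMod.component A l (pt1 k) v (pre y)).toMul ≫ β.toHom = 1
    rw [← AbDual.tateMap_component]
    show (AbDual.TateMod.component A l (pt1 k) v (trep l β (pre y))).toMul = 1
    rw [hpre, map_nsmul]
    exact congrArg Additive.toMul (AbDual.TateMod.torsion y v)
  have hker : ∀ y, Ψ y = 0 ↔ y ∈ LinearMap.range (trep l β) := fun y => by
    constructor
    · intro h
      obtain ⟨z, hz⟩ := exists_eq_smul_of_component l (pre y) v h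
      refine ⟨z, ?_⟩
      have h3 := hpre y
      rw [hz, map_nsmul] at h3
      have := congrArg (fun q => q) h3
      rw [← Nat.cast_smul_eq_nsmul ℤ_[l], ← Nat.cast_smul_eq_nsmul ℤ_[l]] at h3
      exact smul_right_injective T (by exact_mod_cast pow_ne_zero v (Fact.out : l.Prime).ne_zero) h3
    · rintro ⟨z, rfl⟩
      have : pre (trep l β z) = (l ^ v : ℕ) • z := hinj (by rw [hpre, map_nsmul])
      show AbDual.TateMod.component A l (pt1 k) v (pre _) = 0
      rw [this, map_nsmul]
      exact AbDual.TateMod.torsion z v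
  let Φ : T →+ Additive ↥(ptsKer β.toHom) :=
    { toFun := fun y => Additive.ofMul ⟨(Ψ y).toMul, hrange y⟩
      map_zero' := congrArg Additive.ofMul (Subtype.ext (congrArg Additive.toMul (map_zero Ψ)))
      map_add' := fun y y' => congrArg Additive.ofMul (Subtype.ext (congrArg Additive.toMul (map_add Ψ y y'))) }
  have hkerΦ : Φ.ker = (LinearMap.range (trep l β)).toAddSubgroup := by
    ext y
    refine Iff.trans ?_ (hker y)
    exact ⟨fun h => congrArg (fun z : Additive ↥(ptsKer β.toHom) => Additive.ofMul z.toMul.1) h,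
      fun h => congrArg Additive.ofMul (Subtype.ext (congrArg Additive.toMul h))⟩
  have h4 : Nat.card (T ⧸ LinearMap.range (trep l β)) ∣ Nat.card ↥(ptsKer β.toHom) := by
    have := AddSubgroup.card_addSubgroup_dvd_card Φ.range
    rw [← Nat.card_congr (QuotientAddGroup.quotientKerEquivRange Φ).toEquiv, hkerΦ] at this
    exact this
  rw [← hidx]
  exact h4.trans hdvd

/-- The degree and the determinant on the Tate module have the same valuation. -/
theorem norm_det_eq {g : ℕ} (hg : topologicalKrullDim A.left = g)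
    (hrank : Module.finrank ℤ_[l] (AbDual.TateMod A l (pt1 k)) = 2 * g) (β : EndAV.End A) [IsFinite β.toHom.left] :
    ‖(degree β.toHom : ℤ_[l])‖ = ‖LinearMap.det (trep l β)‖ := by
  obtain ⟨c, δ, hc, hβδ, hδβ⟩ := exists_mul_eq β
  have hdeg : (degree β.toHom : ℚ) * (degree δ.toHom : ℚ) = (c : ℚ) ^ (2 * g) := by
    rw [← degree_zpow_id (A := A) hg c, ← EndAV.End.toHom_intCast, ← hδβ, EndAV.End.toHom_mul,
      degree_comp hg hg hg, Nat.cast_mul]
  have hδfin : IsFinite δ.toHom.left := by
    by_contra h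
    rw [degree_of_not_finite _ h, Nat.cast_zero, mul_zero] at hdeg
    exact pow_ne_zero _ (Int.cast_ne_zero.2 hc) hdeg.symm
  haveI := hδfin
  have hdet : LinearMap.det (trep l β) * LinearMap.det (trep l δ) = (c : ℤ_[l]) ^ (2 * g) := by
    rw [← map_mul, ← map_mul, hβδ, map_intCast]
    have : ((c : ℤ) : Module.End ℤ_[l] (AbDual.TateMod A l (pt1 k))) = (c : ℤ_[l]) • LinearMap.id := by
      refine LinearMap.ext fun x => ?_
      rw [Module.End.intCast_apply, LinearMap.smul_apply, LinearMap.id_apply, Int.cast_smul_eq_zsmul]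
    rw [this, LinearMap.det_smul, LinearMap.det_id, _root_.mul_one, hrank]
  have hdeg' : (degree β.toHom : ℤ_[l]) * (degree δ.toHom : ℤ_[l]) = (c : ℤ_[l]) ^ (2 * g) := by
    have : ((degree β.toHom * degree δ.toHom : ℕ) : ℤ) = c ^ (2 * g) := by exact_mod_cast hdeg
    have h2 := congrArg (fun z : ℤ => (z : ℤ_[l])) this
    push_cast at h2
    exact h2
  have hle : ∀ (β δ : EndAV.End A) [IsFinite β.toHom.left], δ * β = c → LinearMap.det (trep l β) ≠ 0 →
      ‖(degree β.toHom : ℤ_[l])‖ ≤ ‖LinearMap.det (trep l β)‖ := by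
    intro β δ _ h hne
    obtain ⟨-, hd⟩ := pow_valuation_dvd_degree l hg β hc h
    rw [PadicInt.norm_eq_zpow_neg_valuation hne]
    refine (PadicInt.norm_le_pow_iff_mem_span_pow _ _).2 (Ideal.mem_span_singleton.2 ?_)
    exact_mod_cast (Nat.cast_dvd_cast (α := ℤ_[l]) hd)
  have hne : (c : ℤ_[l]) ^ (2 * g) ≠ 0 := pow_ne_zero _ (Int.cast_ne_zero.2 hc)
  have h1 := hle β δ hδβ (left_ne_zero_of_mul (hdet ▸ hne))
  have h2 := hle δ β hβδ (right_ne_zero_of_mul (hdet ▸ hne))
  have h3 : ‖(degree β.toHom : ℤ_[l])‖ * ‖(degree δ.toHom : ℤ_[l])‖ =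
      ‖LinearMap.det (trep l β)‖ * ‖LinearMap.det (trep l δ)‖ := by rw [← norm_mul, ← norm_mul, hdeg', hdet]
  have hpos : 0 < ‖LinearMap.det (trep l δ)‖ := norm_pos_iff.2 (right_ne_zero_of_mul (hdet ▸ hne))
  refine le_antisymm h1 (le_of_mul_le_mul_right ?_ hpos)
  rw [← h3]
  exact mul_le_mul_of_nonneg_left h2 (norm_nonneg _)

end Groth.Agent.H25AbCube
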