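import Groth.Agent.H25AbCube.PoincareRegular
import Mathlib.RingTheory.Artinian.Module
import Mathlib.RingTheory.Jacobson.Radical

/-!
# The rational endomorphism algebra: semisimple, and a division algebra for simple varieties
-/

set_option autoImplicit false
set_option linter.style.haveILetI false
set_option linter.unusedSectionVars false
set_option backward.isDefEq.respectTransparency false
set_option synthInstance.maxHeartbeats 400000
set_option maxHeartbeats 1000000
universe u

open CategoryTheory CategoryTheory.Limits MonoidalCategory CartesianMonoidalCategory MonObj GrpObj AlgebraicGeometry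
  TopologicalSpace
open Groth.Agent
open scoped TensorProduct

noncomputable section

namespace Groth.Agent.H25AbCube

variable {k : Type u} [Field k] {A : Over (Spec (CommRingCat.of k))} [GrpObj A] [IsProper A.hom]
  [GeometricallyIntegral A.hom] [IsCommMonObj A]

/-- Every element of the rational algebra has a single denominator. -/
theorem exists_tmul_eq (x : EndAV.End0 A) : ∃ (a : ℚ) (φ : EndAV.End A), a ≠ 0 ∧ x = a ⊗ₜ[ℤ] φ := by
  induction x using TensorProduct.induction_on with
  | zero => exact ⟨1, 0, one_ne_zero, (TensorProduct.tmul_zero _ _).symm⟩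
  | tmul a φ =>
    by_cases h : a = 0
    · exact ⟨1, 0, one_ne_zero, by rw [h, TensorProduct.zero_tmul, TensorProduct.tmul_zero]⟩
    · exact ⟨a, φ, h, rfl⟩
  | add x y hx hy =>
    obtain ⟨a, φ, ha, rfl⟩ := hx
    obtain ⟨b, ψ, hb, rfl⟩ := hy
    refine ⟨((a.den * b.den : ℕ) : ℚ)⁻¹, (a.num * b.den) • φ + (b.num * a.den) • ψ,
      inv_ne_zero (Nat.cast_ne_zero.2 (Nat.mul_ne_zero a.den_ne_zero b.den_ne_zero)), ?_⟩
    rw [TensorProduct.tmul_add, ← TensorProduct.smul_tmul, ← TensorProduct.smul_tmul, zsmul_eq_mul, zsmul_eq_mul]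
    congr 2
    · push_cast
      rw [← div_eq_mul_inv, mul_div_mul_right _ _ (Nat.cast_ne_zero.2 b.den_ne_zero), Rat.num_div_den]
    · push_cast
      rw [← div_eq_mul_inv, mul_comm (a.den : ℚ), mul_div_mul_right _ _ (Nat.cast_ne_zero.2 a.den_ne_zero),
        Rat.num_div_den]

theorem end_toHom_eq_pow (φ : EndAV.End A) (N : ℕ) : (N • φ).toHom = φ.toHom ^ N := EndAV.End.toHom_nsmul N φ

/-- The rational endomorphism algebra is regular. -/
theorem end0_regular (x : EndAV.End0 A) : ∃ y, x * y * x = x := by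
  obtain ⟨a, φ, ha, rfl⟩ := exists_tmul_eq x
  obtain ⟨N, hN, ψ, hψ, h⟩ := exists_regular φ.toHom
  haveI := hψ
  refine ⟨(a * N)⁻¹ ⊗ₜ[ℤ] EndAV.End.of ψ, ?_⟩
  rw [Algebra.TensorProduct.tmul_mul_tmul, Algebra.TensorProduct.tmul_mul_tmul]
  have e : φ * EndAV.End.of ψ * φ = N • φ := EndAV.End.ext (by
    rw [end_toHom_eq_pow]
    exact h)
  rw [e, ← TensorProduct.smul_tmul, nsmul_eq_mul]
  congr 1
  have hN' : (N : ℚ) ≠ 0 := Nat.cast_ne_zero.2 hN.ne'
  field_simp

/-- The rational endomorphism algebra is semisimple. -/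
theorem isSemisimpleRing_end0 : IsSemisimpleRing (EndAV.End0 A) := by
  haveI : Module.Finite ℤ (EndAV.End A) := moduleFinite_hom
  haveI : Module.Finite ℚ (EndAV.End0 A) := Module.Finite.base_change ℤ ℚ (EndAV.End A)
  haveI : IsArtinianRing (EndAV.End0 A) := IsArtinianRing.of_finite ℚ (EndAV.End0 A)
  rw [IsArtinianRing.isSemisimpleRing_iff_jacobson, eq_bot_iff]
  intro x hx
  obtain ⟨y, hy⟩ := end0_regular x
  have h : -(x * y) ∈ Ring.jacobson (EndAV.End0 A) := neg_mem (Ideal.mul_mem_right y _ hx)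
  rw [← Ideal.jacobson_bot, Ideal.mem_jacobson_iff] at h
  obtain ⟨z, hz⟩ := h 1
  rw [Submodule.mem_bot, _root_.mul_one] at hz
  have h1 : z * (1 - x * y) = 1 := sub_eq_zero.1 (by rw [← hz]; noncomm_ring)
  refine Submodule.mem_bot (R := EndAV.End0 A) |>.2 ?_
  calc x = z * (1 - x * y) * x := by rw [h1, _root_.one_mul]
    _ = z * (x - x * y * x) := by rw [_root_.mul_assoc, sub_mul, _root_.one_mul]
    _ = 0 := by rw [hy, sub_self, MulZeroClass.mul_zero]

/-- An endomorphism of a simple variety is trivial or an isogeny. -/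
theorem simple_cases (hsimple : ∀ (B : Over (Spec (CommRingCat.of k))) [GrpObj B] [GeometricallyIntegral B.hom] (i : B ⟶ A)
    [IsMonHom i] [IsClosedImmersion i.left], Subsingleton B.left ∨ IsIso i) (φ : A ⟶ A) [IsMonHom φ] :
    φ = 1 ∨ (IsFinite φ.left ∧ Surjective φ.left) := by
  let Ω := AlgebraicClosure k
  obtain ⟨N₀, gN, iN, hiN, hiNc, hker⟩ := H19Grp.AffineQuotient.exists_kernel φ
  haveI := hiN; haveI := hiNc
  haveI : IsProper N₀.hom := by rw [← Over.w iN]; infer_instance
  obtain ⟨C, gpC, _, _, c, Q, gQ, ρ, hc, hcc, hρ, hQf, hlift⟩ := exists_abelian_part N₀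
  haveI := hc; haveI := hcc; haveI := hρ; haveI := hQf
  let j₀ : C ⟶ A := c ≫ iN
  haveI : IsClosedImmersion j₀.left := by
    show IsClosedImmersion (c.left ≫ iN.left)
    infer_instance
  haveI : Mono c := Over.mono_of_mono_left c
  haveI : Mono iN := Over.mono_of_mono_left iN
  rcases hsimple C j₀ with hC | hC
  · right
    haveI := hC
    haveI : Finite C.left := Finite.of_subsingleton
    haveI : IsFinite C.hom := by
      haveI : LocallyQuasiFinite C.hom :=
        LocallyQuasiFinite.of_finite_preimage_singleton C.hom fun _ => Set.toFinite _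
      exact IsFinite.of_isProper_of_locallyQuasiFinite C.hom
    haveI : Finite (SGA7.pt Ω ⟶ C) := finite_pt_hom C
    haveI : Finite (SGA7.pt Ω ⟶ Q) := finite_pt_hom Q
    let ρ' : (SGA7.pt Ω ⟶ N₀) →* (SGA7.pt Ω ⟶ Q) := MonoidHom.mk' (fun z => z ≫ ρ) fun a b => MonObj.mul_comp a b ρ
    haveI : Finite ↥ρ'.ker := by
      refine Finite.of_injective (fun z : ↥ρ'.ker => (hlift _ z.1 z.2).choose) fun a b h => Subtype.ext ?_
      rw [← (hlift _ a.1 a.2).choose_spec, ← (hlift _ b.1 b.2).choose_spec]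
      exact congrArg (· ≫ c) h
    haveI : Finite ↥ρ'.range := Finite.of_injective _ Subtype.val_injective
    haveI : Finite (SGA7.pt Ω ⟶ N₀) := Finite.of_subgroup_quotient ρ'.ker
    haveI : IsFinite φ.left := isFinite_of_finite_ker φ
      ((Set.finite_range (fun z : SGA7.pt Ω ⟶ N₀ => z ≫ iN)).subset fun x hx => H19Grp.kernel_lift hker x hx)
    haveI : IsIntegral A.left := GeometricallyIntegral.isIntegral_of_subsingleton A.hom
    obtain ⟨g, hg⟩ := H25Grp.exists_nat_dim A.hom
    exact ⟨inferInstance, surjective_of_finite φ.left hg hg⟩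
  · left
    haveI := hC
    refine (cancel_epi j₀).1 ?_
    rw [Category.assoc, H19Grp.kernel_comp_eq_one hker, MonObj.comp_one, MonObj.comp_one]

/-- The rational endomorphism algebra of a simple variety is a division algebra. -/
theorem isUnit_end0 (hsimple : ∀ (B : Over (Spec (CommRingCat.of k))) [GrpObj B] [GeometricallyIntegral B.hom] (i : B ⟶ A)
    [IsMonHom i] [IsClosedImmersion i.left], Subsingleton B.left ∨ IsIso i) (x : EndAV.End0 A) (hx : x ≠ 0) :
    IsUnit x := by
  obtain ⟨a, φ, ha, rfl⟩ := exists_tmul_eq x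
  rcases simple_cases hsimple φ.toHom with h | ⟨hf, hs⟩
  · exact absurd (by rw [show φ = 0 from EndAV.End.ext h, TensorProduct.tmul_zero]) hx
  · haveI := hf; haveI := hs
    obtain ⟨N, hN, τ, hτ, h1, h2⟩ := exists_isogeny_inverse φ.toHom
    haveI := hτ
    have e1 : EndAV.End.of τ * φ = N • (1 : EndAV.End A) := EndAV.End.ext (by rw [end_toHom_eq_pow]; exact h1)
    have e2 : φ * EndAV.End.of τ = N • (1 : EndAV.End A) := EndAV.End.ext (by rw [end_toHom_eq_pow]; exact h2)
    have hN' : (N : ℚ) ≠ 0 := Nat.cast_ne_zero.2 hN.ne'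
    refine ⟨⟨a ⊗ₜ[ℤ] φ, (a * N)⁻¹ ⊗ₜ[ℤ] EndAV.End.of τ, ?_, ?_⟩, rfl⟩
    · rw [Algebra.TensorProduct.tmul_mul_tmul, e2, ← TensorProduct.smul_tmul, nsmul_eq_mul,
        Algebra.TensorProduct.one_def]
      congr 1
      field_simp
    · rw [Algebra.TensorProduct.tmul_mul_tmul, e1, ← TensorProduct.smul_tmul, nsmul_eq_mul,
        Algebra.TensorProduct.one_def]
      congr 1
      field_simp

end Groth.Agent.H25AbCube
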