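import Mathlib

/-!
# The rational endomorphism algebra of an object isogenous to a sum of orthogonal objects
-/

set_option autoImplicit false
set_option linter.style.haveILetI false
universe v u w

open CategoryTheory
open scoped TensorProduct

noncomputable section

namespace Groth.Agent.H25AbCube.EndMatrix

variable {C : Type u} [Category.{v} C] [Preadditive C] {A : C} {I : Type w} [Fintype I] [DecidableEq I]
  {B : I → C} {F : I → Type w} [∀ i, Fintype (F i)] [∀ i, DecidableEq (F i)]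
  (e : ∀ i, F i → (B i ⟶ A)) (π : ∀ i, F i → (A ⟶ B i)) (N : ℕ)

/-- The matrix entry of an endomorphism. -/
def entry (i : I) (p q : F i) : CategoryTheory.End A →+ ℚ ⊗[ℤ] CategoryTheory.End (B i) :=
  AddMonoidHom.mk' (fun φ => ((N : ℚ)⁻¹) ⊗ₜ[ℤ] ((e i q ≫ φ ≫ π i p : B i ⟶ B i) : CategoryTheory.End (B i))) fun φ ψ => by
    rw [← TensorProduct.tmul_add]
    congr 1
    show e i q ≫ (φ + ψ : A ⟶ A) ≫ π i p = _
    rw [Preadditive.add_comp, Preadditive.comp_add]

variable (hN : N ≠ 0) (h1 : ∀ i p, e i p ≫ π i p = N • 𝟙 (B i)) (h2 : ∀ i (p q : F i), p ≠ q → e i q ≫ π i p = 0)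
  (h3 : ∑ i, ∑ p, π i p ≫ e i p = N • 𝟙 A) (hort : ∀ i j, i ≠ j → ∀ f : B i ⟶ B j, f = 0)

include hN h1 h2 h3 hort

/-- The matrix representation. -/
theorem exists_algEquiv :
    Nonempty (ℚ ⊗[ℤ] CategoryTheory.End A ≃ₐ[ℚ] (∀ i, Matrix (F i) (F i) (ℚ ⊗[ℤ] CategoryTheory.End (B i)))) := by
  have hN' : (N : ℚ) ≠ 0 := Nat.cast_ne_zero.2 hN
  have hcancel : ∀ {R : Type v} [AddCommGroup R] (c : ℚ) (m : ℕ) (x : R), c ⊗ₜ[ℤ] (m • x) = (c * m) ⊗ₜ[ℤ] x := by
    intro R _ c m x
    rw [← TensorProduct.smul_tmul, nsmul_eq_mul, mul_comm]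
  let Ψ0 : CategoryTheory.End A →+* (∀ i, Matrix (F i) (F i) (ℚ ⊗[ℤ] CategoryTheory.End (B i))) :=
    { toFun := fun φ i => Matrix.of fun p q => entry e π N i p q φ
      map_zero' := funext fun i => Matrix.ext fun p q => map_zero (entry e π N i p q)
      map_add' := fun φ ψ => funext fun i => Matrix.ext fun p q => map_add (entry e π N i p q) φ ψ
      map_one' := funext fun i => Matrix.ext fun p q => by
        show ((N : ℚ)⁻¹) ⊗ₜ[ℤ] ((e i q ≫ 𝟙 A ≫ π i p : B i ⟶ B i) : CategoryTheory.End (B i)) = _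
        rw [Category.id_comp, Pi.one_apply, Matrix.one_apply]
        split_ifs with h
        · subst h
          rw [h1, hcancel (R := CategoryTheory.End (B i)), inv_mul_cancel₀ hN']
          rfl
        · rw [h2 i p q h]
          exact TensorProduct.tmul_zero _ _
      map_mul' := fun φ ψ => funext fun i => Matrix.ext fun p q => by
        show ((N : ℚ)⁻¹) ⊗ₜ[ℤ] ((e i q ≫ (ψ ≫ φ) ≫ π i p : B i ⟶ B i) : CategoryTheory.End (B i)) = _
        rw [Pi.mul_apply, Matrix.mul_apply]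
        have hterm : ∀ r : F i, entry e π N i p r φ * entry e π N i r q ψ =
            ((N : ℚ)⁻¹ * (N : ℚ)⁻¹) ⊗ₜ[ℤ] ((e i q ≫ ψ ≫ (π i r ≫ e i r) ≫ φ ≫ π i p : B i ⟶ B i) :
              CategoryTheory.End (B i)) := fun r => by
          show (_ ⊗ₜ[ℤ] _) * (_ ⊗ₜ[ℤ] _) = _
          rw [Algebra.TensorProduct.tmul_mul_tmul]
          congr 1
          show (e i q ≫ ψ ≫ π i r) ≫ (e i r ≫ φ ≫ π i p) = _
          simp only [Category.assoc]
        simp only [Matrix.of_apply]
        rw [Finset.sum_congr rfl fun r _ => hterm r, ← TensorProduct.tmul_sum]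
        have hs : ∑ r : F i, e i q ≫ ψ ≫ (π i r ≫ e i r) ≫ φ ≫ π i p = N • (e i q ≫ (ψ ≫ φ) ≫ π i p) := by
          have hall : ∑ j, ∑ r : F j, e i q ≫ ψ ≫ (π j r ≫ e j r) ≫ φ ≫ π i p =
              ∑ r : F i, e i q ≫ ψ ≫ (π i r ≫ e i r) ≫ φ ≫ π i p := by
            refine Finset.sum_eq_single i (fun j _ hj => Finset.sum_eq_zero fun r _ => ?_) (by simp)
            rw [show e i q ≫ ψ ≫ (π j r ≫ e j r) ≫ φ ≫ π i p = (e i q ≫ ψ ≫ π j r) ≫ e j r ≫ φ ≫ π i p by
              simp only [Category.assoc], hort i j (Ne.symm hj) (e i q ≫ ψ ≫ π j r), Limits.zero_comp]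
          rw [← hall]
          simp only [← Preadditive.comp_sum, ← Preadditive.sum_comp, h3]
          simp only [Preadditive.nsmul_comp, Preadditive.comp_nsmul, Category.id_comp, Category.assoc]
        refine Eq.trans ?_ (congrArg (fun x : CategoryTheory.End (B i) => ((N : ℚ)⁻¹ * (N : ℚ)⁻¹) ⊗ₜ[ℤ] x) hs.symm)
        rw [hcancel (R := CategoryTheory.End (B i))]
        congr 1
        field_simp }
  let Ψ0' : CategoryTheory.End A →ₐ[ℤ] (∀ i, Matrix (F i) (F i) (ℚ ⊗[ℤ] CategoryTheory.End (B i))) := { Ψ0 with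
    commutes' := fun n => by
      show Ψ0 (algebraMap ℤ (CategoryTheory.End A) n) = _
      rw [Algebra.algebraMap_eq_smul_one, map_zsmul, map_one, Algebra.algebraMap_eq_smul_one] }
  let Ψ : ℚ ⊗[ℤ] CategoryTheory.End A →ₐ[ℚ] (∀ i, Matrix (F i) (F i) (ℚ ⊗[ℤ] CategoryTheory.End (B i))) :=
    Algebra.TensorProduct.lift (Algebra.ofId ℚ _) Ψ0' fun r x => Algebra.commutes r (Ψ0' x)
  have hΨ : ∀ (a : ℚ) (φ : CategoryTheory.End A) i (p q : F i), Ψ (a ⊗ₜ[ℤ] φ) i p q =
      (a * (N : ℚ)⁻¹) ⊗ₜ[ℤ] ((e i q ≫ φ ≫ π i p : B i ⟶ B i) : CategoryTheory.End (B i)) := by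
    intro a φ i p q
    rw [show Ψ (a ⊗ₜ[ℤ] φ) = a • Ψ0' φ from
      (Algebra.TensorProduct.lift_tmul _ _ _ a φ).trans (Algebra.smul_def a _).symm]
    show a • (((N : ℚ)⁻¹) ⊗ₜ[ℤ] _) = _
    rw [TensorProduct.smul_tmul', smul_eq_mul]
  let g : ∀ (i : I) (p q : F i), CategoryTheory.End (B i) →+ CategoryTheory.End A := fun i p q =>
    AddMonoidHom.mk' (fun χ => (π i q ≫ χ ≫ e i p : A ⟶ A)) fun χ χ' => by
      show π i q ≫ (χ + χ' : B i ⟶ B i) ≫ e i p = _
      rw [Preadditive.add_comp, Preadditive.comp_add]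
  let G : ∀ (i : I) (p q : F i), ℚ ⊗[ℤ] CategoryTheory.End (B i) →ₗ[ℤ] ℚ ⊗[ℤ] CategoryTheory.End A := fun i p q =>
    TensorProduct.map ((LinearMap.mulLeft ℚ ((N : ℚ)⁻¹)).restrictScalars ℤ) (g i p q).toIntLinearMap
  let Γ : (∀ i, Matrix (F i) (F i) (ℚ ⊗[ℤ] CategoryTheory.End (B i))) →+ ℚ ⊗[ℤ] CategoryTheory.End A :=
    AddMonoidHom.mk' (fun M => ∑ i, ∑ p, ∑ q, G i p q (M i p q)) fun M M' => by
      simp only [Pi.add_apply, Matrix.add_apply, map_add, Finset.sum_add_distrib]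
  have hinj : Function.LeftInverse Γ Ψ := by
    intro x
    induction x using TensorProduct.induction_on with
    | zero => rw [map_zero, map_zero]
    | add x y hx hy => rw [map_add, map_add, hx, hy]
    | tmul a φ =>
      show ∑ i, ∑ p, ∑ q, G i p q (Ψ (a ⊗ₜ[ℤ] φ) i p q) = _
      have hterm : ∀ i (p q : F i), G i p q (Ψ (a ⊗ₜ[ℤ] φ) i p q) = ((N : ℚ)⁻¹ * (a * (N : ℚ)⁻¹)) ⊗ₜ[ℤ]
          ((π i q ≫ (e i q ≫ φ ≫ π i p) ≫ e i p : A ⟶ A) : CategoryTheory.End A) := fun i p q => by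
        rw [hΨ]; rfl
      simp only [hterm, ← TensorProduct.tmul_sum]
      have hs : ∑ i, ∑ p : F i, ∑ q : F i, π i q ≫ (e i q ≫ φ ≫ π i p) ≫ e i p = (N * N) • (φ : A ⟶ A) := by
        have hall : ∀ i (p : F i), ∑ q : F i, π i q ≫ (e i q ≫ φ ≫ π i p) ≫ e i p =
            (N • φ) ≫ π i p ≫ e i p := by
          intro i p
          have : ∑ j, ∑ q : F j, π j q ≫ e j q ≫ φ ≫ π i p = ∑ q : F i, π i q ≫ e i q ≫ φ ≫ π i p := by
            refine Finset.sum_eq_single i (fun j _ hj => Finset.sum_eq_zero fun q _ => ?_) (by simp)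
            rw [hort j i hj (e j q ≫ φ ≫ π i p), Limits.comp_zero]
          have h' := congrArg (· ≫ e i p) this
          simp only [Preadditive.sum_comp, Category.assoc] at h' ⊢
          rw [← h', show ∑ j, ∑ q : F j, π j q ≫ e j q ≫ φ ≫ π i p ≫ e i p =
            (∑ j, ∑ q : F j, π j q ≫ e j q) ≫ φ ≫ π i p ≫ e i p by simp only [Preadditive.sum_comp, Category.assoc], h3]
          simp only [Preadditive.nsmul_comp, Category.id_comp]
          exact (Preadditive.nsmul_comp (f := (φ : A ⟶ A)) (g := π i p ≫ e i p) N).symm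
        simp only [hall, ← Preadditive.comp_sum, h3]
        simp only [Preadditive.nsmul_comp, Preadditive.comp_nsmul, Category.comp_id, mul_smul]
      refine (congrArg (fun x : CategoryTheory.End A => ((N : ℚ)⁻¹ * (a * (N : ℚ)⁻¹)) ⊗ₜ[ℤ] x) hs).trans ?_
      rw [hcancel (R := CategoryTheory.End A)]
      congr 1
      push_cast
      field_simp
  have hsurj : Function.RightInverse Γ Ψ := by
    intro M
    funext i
    refine Matrix.ext fun p q => ?_
    show (Ψ (∑ j, ∑ p', ∑ q', G j p' q' (M j p' q'))) i p q = M i p q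
    simp only [map_sum, Finset.sum_apply, Matrix.sum_apply]
    have hG : ∀ (j : I) (p' q' : F j) (x : ℚ ⊗[ℤ] CategoryTheory.End (B j)),
        (j ≠ i → Ψ (G j p' q' x) i p q = 0) := by
      intro j p' q' x hji
      induction x using TensorProduct.induction_on with
      | zero => simp
      | add x y hx hy => rw [map_add, map_add, Pi.add_apply, Matrix.add_apply, hx, hy, add_zero]
      | tmul b χ =>
        rw [show G j p' q' (b ⊗ₜ[ℤ] χ) = ((N : ℚ)⁻¹ * b) ⊗ₜ[ℤ] ((π j q' ≫ χ ≫ e j p' : A ⟶ A) :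
          CategoryTheory.End A) from rfl, hΨ]
        rw [show e i q ≫ (π j q' ≫ χ ≫ e j p') ≫ π i p = (e i q ≫ π j q') ≫ χ ≫ e j p' ≫ π i p by
          simp only [Category.assoc], hort i j (Ne.symm hji) (e i q ≫ π j q'), Limits.zero_comp]
        exact TensorProduct.tmul_zero _ _
    have hG' : ∀ (p' q' : F i) (x : ℚ ⊗[ℤ] CategoryTheory.End (B i)),
        Ψ (G i p' q' x) i p q = if p' = p ∧ q' = q then x else 0 := by
      intro p' q' x
      induction x using TensorProduct.induction_on with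
      | zero => simp
      | add x y hx hy =>
        rw [map_add, map_add, Pi.add_apply, Matrix.add_apply, hx, hy]
        split_ifs <;> simp
      | tmul b χ =>
        rw [show G i p' q' (b ⊗ₜ[ℤ] χ) = ((N : ℚ)⁻¹ * b) ⊗ₜ[ℤ] ((π i q' ≫ χ ≫ e i p' : A ⟶ A) :
          CategoryTheory.End A) from rfl, hΨ]
        rw [show e i q ≫ (π i q' ≫ χ ≫ e i p') ≫ π i p = (e i q ≫ π i q') ≫ χ ≫ e i p' ≫ π i p by
          simp only [Category.assoc]]
        by_cases hq : q' = q
        · subst hq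
          by_cases hp : p' = p
          · subst hp
            rw [if_pos ⟨rfl, rfl⟩, h1, h1]
            have e0 : ((N • 𝟙 (B i)) ≫ χ ≫ (N • 𝟙 (B i)) : B i ⟶ B i) = (N * N) • (χ : B i ⟶ B i) := by
              simp only [Preadditive.nsmul_comp, Preadditive.comp_nsmul, Category.id_comp, Category.comp_id, mul_smul]
            rw [e0]
            refine (hcancel (R := CategoryTheory.End (B i)) _ _ _).trans ?_
            congr 1
            push_cast
            field_simp
          · rw [if_neg (fun h => hp h.1), h2 i p p' (Ne.symm hp), Limits.comp_zero, Limits.comp_zero]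
            exact TensorProduct.tmul_zero _ _
        · rw [if_neg (fun h => hq h.2), h2 i q' q hq, Limits.zero_comp]
          exact TensorProduct.tmul_zero _ _
    refine (Finset.sum_eq_single i (fun j _ hj => Finset.sum_eq_zero fun p' _ => Finset.sum_eq_zero fun q' _ =>
      hG j p' q' _ hj) (fun h => absurd (Finset.mem_univ i) h)).trans ?_
    refine (Finset.sum_eq_single p (fun p' _ hp' => Finset.sum_eq_zero fun q' _ => ?_)
      (fun h => absurd (Finset.mem_univ p) h)).trans ?_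
    · rw [hG', if_neg fun h => hp' h.1]
    refine (Finset.sum_eq_single q (fun q' _ hq' => ?_) (fun h => absurd (Finset.mem_univ q) h)).trans ?_
    · rw [hG', if_neg fun h => hq' h.2]
    rw [hG', if_pos ⟨rfl, rfl⟩]
  exact ⟨AlgEquiv.ofBijective Ψ ⟨hinj.injective, hsurj.surjective⟩⟩

end Groth.Agent.H25AbCube.EndMatrix
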