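import Mathlib

/-!
# Orbits of rational points over algebraic extensions of finite fields
-/

set_option autoImplicit false
set_option linter.style.haveILetI false
set_option linter.unusedSectionVars false
set_option backward.isDefEq.respectTransparency false
universe u

open CategoryTheory CategoryTheory.Limits AlgebraicGeometry TopologicalSpace

noncomputable section

namespace Groth.Agent.H25AbCube

variable {p : ℕ} [hp : Fact p.Prime] {k : Type u} [Field k] [CharP k p]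

/-- The fixed field of a power of Frobenius. -/
def frobFixed (p : ℕ) [Fact p.Prime] (k : Type u) [Field k] [CharP k p] (N : ℕ) : Subring k :=
  RingHom.eqLocus (iterateFrobenius k p N) (RingHom.id k)

theorem mem_frobFixed {N : ℕ} {x : k} : x ∈ frobFixed p k N ↔ x ^ p ^ N = x := Iff.rfl

theorem finite_frobFixed {N : ℕ} (hN : N ≠ 0) : (frobFixed p k N : Set k).Finite := by
  classical
  have h1 : 1 < p ^ N := Nat.one_lt_pow hN hp.out.one_lt
  have h : (Polynomial.X ^ p ^ N - Polynomial.X : Polynomial k) ≠ 0 := FiniteField.X_pow_card_sub_X_ne_zero k h1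
  refine (Polynomial.X ^ p ^ N - Polynomial.X : Polynomial k).roots.toFinset.finite_toSet.subset fun x hx => ?_
  simp only [Finset.mem_coe, Multiset.mem_toFinset, Polynomial.mem_roots h, Polynomial.IsRoot, Polynomial.eval_sub,
    Polynomial.eval_pow, Polynomial.eval_X, sub_eq_zero]
  exact hx

theorem mem_frobFixed_of_dvd {n N : ℕ} (h : n ∣ N) {x : k} (hx : x ^ p ^ n = x) : x ∈ frobFixed p k N := by
  obtain ⟨m, rfl⟩ := h
  rw [mem_frobFixed]
  induction m with
  | zero => simp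
  | succ m ih => rw [Nat.mul_succ, pow_add, pow_mul, ih, hx]

theorem div_mem_frobFixed {N : ℕ} {a b : k} (ha : a ∈ frobFixed p k N) (hb : b ∈ frobFixed p k N) :
    a / b ∈ frobFixed p k N := by
  rw [mem_frobFixed] at ha hb ⊢
  rw [div_pow, ha, hb]

theorem exists_finite_of_mem_closure {R : Type*} [CommRing R] (c : k →+* R) (G : Set R) {r : R}
    (hr : r ∈ Subring.closure (Set.range c ∪ G)) : ∃ T : Finset k, r ∈ Subring.closure (c '' (T : Set k) ∪ G) := by
  classical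
  induction hr using Subring.closure_induction with
  | mem x hx =>
    rcases hx with ⟨a, rfl⟩ | hx
    · exact ⟨{a}, Subring.subset_closure (Or.inl ⟨a, by simp, rfl⟩)⟩
    · exact ⟨∅, Subring.subset_closure (Or.inr hx)⟩
  | zero => exact ⟨∅, zero_mem _⟩
  | one => exact ⟨∅, one_mem _⟩
  | add x y _ _ hx hy =>
    obtain ⟨S, hS⟩ := hx; obtain ⟨T, hT⟩ := hy
    refine ⟨S ∪ T, add_mem (Subring.closure_mono ?_ hS) (Subring.closure_mono ?_ hT)⟩ <;>
      exact Set.union_subset_union_left _ (Set.image_mono (by simp))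
  | neg x _ hx => obtain ⟨S, hS⟩ := hx; exact ⟨S, neg_mem hS⟩
  | mul x y _ _ hx hy =>
    obtain ⟨S, hS⟩ := hx; obtain ⟨T, hT⟩ := hy
    refine ⟨S ∪ T, mul_mem (Subring.closure_mono ?_ hS) (Subring.closure_mono ?_ hT)⟩ <;>
      exact Set.union_subset_union_left _ (Set.image_mono (by simp))

variable {X : Scheme.{u}} (π : X ⟶ Spec (CommRingCat.of k))

/-- Scalars on an open. -/
def scalars (U : X.Opens) : k →+* Γ(X, U) :=
  ((Scheme.ΓSpecIso (CommRingCat.of k)).inv ≫ π.appLE ⊤ U le_top).hom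

/-- The value of a function at a rational point. -/
def evalPt (U : X.Opens) (q : Spec (CommRingCat.of k) ⟶ X) (h : ⊤ ≤ q ⁻¹ᵁ U) : Γ(X, U) →+* k :=
  (q.appLE U ⊤ h ≫ (Scheme.ΓSpecIso (CommRingCat.of k)).hom).hom

omit hp [CharP k p] in
theorem le_preimage {U : X.Opens} {q : Spec (CommRingCat.of k) ⟶ X} (h : q (IsLocalRing.closedPoint k) ∈ U) :
    ⊤ ≤ q ⁻¹ᵁ U := fun y _ => by
  show q y ∈ U
  rwa [show y = IsLocalRing.closedPoint k from Subsingleton.elim (α := PrimeSpectrum k) _ _]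

omit hp [CharP k p] in
theorem evalPt_scalars {U : X.Opens} {q : Spec (CommRingCat.of k) ⟶ X} (hq : q ≫ π = 𝟙 _) (h : ⊤ ≤ q ⁻¹ᵁ U) (r : k) :
    evalPt U q h (scalars π U r) = r := by
  have h2 : π.appLE ⊤ U le_top ≫ q.appLE U ⊤ h = 𝟙 _ := by
    rw [Scheme.Hom.appLE_comp_appLE]
    simp only [hq]
    simp [Scheme.Hom.appLE]
  show (((Scheme.ΓSpecIso (CommRingCat.of k)).inv ≫ π.appLE ⊤ U le_top) ≫
    (q.appLE U ⊤ h ≫ (Scheme.ΓSpecIso (CommRingCat.of k)).hom)) r = r
  rw [Category.assoc, reassoc_of% h2, Iso.inv_hom_id]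
  rfl

include π in
/-- Orbits of rational points of a scheme of finite type over an algebraic extension of a finite field are finite. -/
theorem finite_orbit [LocallyOfFiniteType π] [CompactSpace X]
    (halg : ∀ x : k, ∃ n : ℕ, 0 < n ∧ x ^ (p ^ n) = x) (f : X ⟶ X) (hf : f ≫ π = π)
    (q : ℕ → (Spec (CommRingCat.of k) ⟶ X)) (hq : ∀ n, q n ≫ π = 𝟙 _) (hqs : ∀ n, q (n + 1) = q n ≫ f) :
    (Set.range q).Finite := by
  classical
  obtain ⟨S, hS, hScov⟩ : ∃ S : Finset X.affineOpens, (∀ U ∈ S, IsAffineOpen U.1) ∧ ∀ x, ∃ U ∈ S, x ∈ U.1 := by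
    choose U hU hxU hle using fun x : X => exists_isAffineOpen_mem_and_subset (U := (⊤ : X.Opens)) (x := x) trivial
    obtain ⟨t, ht⟩ := CompactSpace.elim_nhds_subcover (fun x => (U x : Set X))
      (fun x => (U x).isOpen.mem_nhds (hxU x))
    refine ⟨t.image fun x => ⟨U x, hU x⟩, fun V _ => V.2, fun x => ?_⟩
    obtain ⟨y, hy, hxy⟩ := Set.mem_iUnion₂.1 (ht.ge (Set.mem_univ x))
    exact ⟨_, Finset.mem_image_of_mem _ hy, hxy⟩
  have hgen : ∀ U : X.affineOpens, ∃ G : Finset Γ(X, U.1), Subring.closure (Set.range (scalars π U.1) ∪ G) = ⊤ := by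
    intro U
    have h1 : (π.appLE ⊤ U.1 le_top).hom.FiniteType := π.finiteType_appLE (isAffineOpen_top _) U.2 le_top
    have h2 : (scalars π U.1).FiniteType := by
      refine RingHom.FiniteType.comp h1 (RingHom.FiniteType.of_surjective _ ?_)
      exact (ConcreteCategory.bijective_of_isIso (Scheme.ΓSpecIso (CommRingCat.of k)).inv).2
    letI := (scalars π U.1).toAlgebra
    obtain ⟨G, hG⟩ := h2.out
    refine ⟨G, ?_⟩
    have := congrArg Subalgebra.toSubring hG
    rw [Algebra.adjoin_eq_ring_closure] at this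
    exact this.trans Algebra.top_toSubring
  choose G hG using hgen
  -- basic opens mapped into the charts
  have hbasic : ∀ U : X.affineOpens, ∀ x : U.1, ∃ (V : X.affineOpens) (h : Γ(X, U.1)),
      V ∈ S ∧ x.1 ∈ X.basicOpen h ∧ X.basicOpen h ≤ f ⁻¹ᵁ V.1 := by
    intro U x
    obtain ⟨V, hV, hxV⟩ := hScov (f x.1)
    obtain ⟨h, hle, hxh⟩ := U.2.exists_basicOpen_le (V := f ⁻¹ᵁ V.1) ⟨x.1, hxV⟩ x.2
    exact ⟨V, h, hV, hxh, hle⟩
  choose V hel hVS hxh hle using hbasic
  have hcov : ∀ U : X.affineOpens, ∃ t : Finset U.1, ∀ x : X, x ∈ U.1 → ∃ y ∈ t, x ∈ X.basicOpen (hel U y) := by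
    intro U
    obtain ⟨t, ht⟩ := U.2.isCompact.elim_finite_subcover (fun y : U.1 => (X.basicOpen (hel U y) : Set X))
      (fun y => (X.basicOpen _).isOpen) fun x hx => Set.mem_iUnion.2 ⟨⟨x, hx⟩, hxh U ⟨x, hx⟩⟩
    refine ⟨t, fun x hx => ?_⟩
    obtain ⟨y, hy, hxy⟩ := Set.mem_iUnion₂.1 (ht hx)
    exact ⟨y, hy, hxy⟩
  choose t ht using hcov
  -- the fractions
  have hfrac : ∀ (U : X.affineOpens) (y : U.1) (g : Γ(X, (V U y).1)), ∃ (n : ℕ) (r : Γ(X, U.1)),
      f.appLE (V U y).1 (X.basicOpen (hel U y)) (hle U y) g *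
        X.presheaf.map (homOfLE (X.basicOpen_le (hel U y))).op (hel U y) ^ n =
        X.presheaf.map (homOfLE (X.basicOpen_le (hel U y))).op r := by
    intro U y g
    haveI := U.2.isLocalization_basicOpen (hel U y)
    obtain ⟨⟨r, ⟨_, n, rfl⟩⟩, hr⟩ := IsLocalization.surj (Submonoid.powers (hel U y))
      (f.appLE (V U y).1 (X.basicOpen (hel U y)) (hle U y) g)
    exact ⟨n, r, by rw [← map_pow]; exact hr⟩
  choose nf rf hrf using hfrac
  -- the finite set of coefficients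
  have hcoef : ∀ (U : X.affineOpens) (r : Γ(X, U.1)), ∃ T : Finset k,
      r ∈ Subring.closure (scalars π U.1 '' (T : Set k) ∪ G U) := fun U r =>
    exists_finite_of_mem_closure (scalars π U.1) _ (by rw [hG]; trivial)
  choose T hT using hcoef
  obtain ⟨U₀, hU₀, hq₀⟩ := hScov (q 0 (IsLocalRing.closedPoint k))
  let E : Finset k := (S.biUnion fun U => (t U).biUnion fun y => T U (hel U y) ∪
      (G (V U y)).biUnion fun g => T U (rf U y g)) ∪ (G U₀).image fun g => evalPt U₀.1 (q 0) (le_preimage hq₀) g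
  choose d hd hdx using halg
  let N := ∏ x ∈ E, d x
  have hN : N ≠ 0 := Finset.prod_ne_zero_iff.2 fun x _ => (hd x).ne'
  have hEK : ∀ x ∈ E, x ∈ frobFixed p k N := fun x hx => mem_frobFixed_of_dvd (Finset.dvd_prod_of_mem d hx) (hdx x)
  have hval : ∀ (U : X.affineOpens) (r : Γ(X, U.1)) (a : Spec (CommRingCat.of k) ⟶ X) (ha : a ≫ π = 𝟙 _)
      (h : ⊤ ≤ a ⁻¹ᵁ U.1), (∀ g ∈ G U, evalPt U.1 a h g ∈ frobFixed p k N) → T U r ⊆ E →
      evalPt U.1 a h r ∈ frobFixed p k N := by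
    intro U r a ha h hg hTr
    refine (Subring.closure_le (t := (frobFixed p k N).comap (evalPt U.1 a h))).2 ?_ (hT U r)
    rintro _ (⟨c, hc, rfl⟩ | hx)
    · refine Subring.mem_comap.2 ?_
      rw [evalPt_scalars π ha]
      exact hEK c (hTr hc)
    · exact Subring.mem_comap.2 (hg _ hx)
  let Good : (Spec (CommRingCat.of k) ⟶ X) → Prop := fun a =>
    ∃ U ∈ S, ∃ h : ⊤ ≤ a ⁻¹ᵁ U.1, ∀ g ∈ G U, evalPt U.1 a h g ∈ frobFixed p k N
  have hgood : ∀ n, Good (q n) := by
    intro n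
    induction n with
    | zero => exact ⟨U₀, hU₀, le_preimage hq₀, fun g hg => hEK _ (Finset.mem_union_right _
        (Finset.mem_image_of_mem _ hg))⟩
    | succ n ih =>
      obtain ⟨U, hU, h, hg⟩ := ih
      obtain ⟨y, hy, hxy⟩ := ht U _ (h (x := IsLocalRing.closedPoint k) trivial)
      have hD : ⊤ ≤ q n ⁻¹ᵁ X.basicOpen (hel U y) := le_preimage hxy
      have hV : ⊤ ≤ q (n + 1) ⁻¹ᵁ (V U y).1 := by
        rw [hqs]; exact hD.trans ((q n).preimage_mono (hle U y))
      refine ⟨V U y, hVS U y, hV, fun g hgG => ?_⟩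
      have h1 := congrArg (evalPt (X.basicOpen (hel U y)) (q n) hD) (hrf U y g)
      have hres : ∀ r, evalPt (X.basicOpen (hel U y)) (q n) hD (X.presheaf.map (homOfLE (X.basicOpen_le (hel U y))).op r) =
          evalPt U.1 (q n) h r := fun r => by
        show ((X.presheaf.map (homOfLE (X.basicOpen_le (hel U y))).op ≫ (q n).appLE _ ⊤ hD) ≫ _) r = _
        rw [Scheme.Hom.map_appLE]
        rfl
      have hfg : evalPt (X.basicOpen (hel U y)) (q n) hD (f.appLE (V U y).1 (X.basicOpen (hel U y)) (hle U y) g) =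
          evalPt (V U y).1 (q (n + 1)) hV g := by
        show ((f.appLE _ _ (hle U y) ≫ (q n).appLE _ ⊤ hD) ≫ _) g = _
        rw [Scheme.Hom.appLE_comp_appLE]
        simp only [evalPt, hqs]
      rw [map_mul, map_pow, hres, hres, hfg] at h1
      have hunit : evalPt U.1 (q n) h (hel U y) ≠ 0 := by
        rw [← hres]
        exact (IsUnit.map _ (RingedSpace.isUnit_res_basicOpen _ _)).ne_zero
      rw [show evalPt (V U y).1 (q (n + 1)) hV g = evalPt U.1 (q n) h (rf U y g) / evalPt U.1 (q n) h (hel U y) ^ nf U y g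
        from (eq_div_iff (pow_ne_zero _ hunit)).2 h1]
      refine div_mem_frobFixed (hval U _ _ (hq n) h hg ?_) (pow_mem (hval U _ _ (hq n) h hg ?_) _)
      · exact fun c hc => Finset.mem_union_left _ (Finset.mem_biUnion.2 ⟨U, hU, Finset.mem_biUnion.2
          ⟨y, hy, Finset.mem_union_right _ (Finset.mem_biUnion.2 ⟨g, hgG, hc⟩)⟩⟩)
      · exact fun c hc => Finset.mem_union_left _ (Finset.mem_biUnion.2 ⟨U, hU, Finset.mem_biUnion.2
          ⟨y, hy, Finset.mem_union_left _ hc⟩⟩)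
  haveI : Finite (frobFixed p k N) := (finite_frobFixed hN).to_subtype
  let Idx := Σ U : {U // U ∈ S}, ({g // g ∈ G U.1} → frobFixed p k N)
  choose UU hUS hh hK using hgood
  let code : ℕ → Idx := fun n => ⟨⟨UU n, hUS n⟩, fun g => ⟨_, hK n g.1 g.2⟩⟩
  have hcode : ∀ m n, code m = code n → q m = q n := by
    intro m n e
    have key : ∀ (U : X.affineOpens) (a b : Spec (CommRingCat.of k) ⟶ X) (ha : a ≫ π = 𝟙 _) (hb : b ≫ π = 𝟙 _)
        (h : ⊤ ≤ a ⁻¹ᵁ U.1) (h' : ⊤ ≤ b ⁻¹ᵁ U.1), (∀ g ∈ G U, evalPt U.1 a h g = evalPt U.1 b h' g) → a = b := by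
      intro U a b ha hb h h' hg
      have he : evalPt U.1 a h = evalPt U.1 b h' := by
        refine RingHom.ext fun r => RingHom.eqOn_set_closure (s := Set.range (scalars π U.1) ∪ (G U : Set Γ(X, U.1)))
          ?_ (by rw [hG]; trivial)
        rintro x (⟨c, rfl⟩ | hx)
        · rw [evalPt_scalars π ha, evalPt_scalars π hb]
        · exact hg x hx
      have he2 : a.appLE U.1 ⊤ h = b.appLE U.1 ⊤ h' :=
        (cancel_mono (Scheme.ΓSpecIso (CommRingCat.of k)).hom).1 (CommRingCat.hom_ext he)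
      have e1 := U.2.SpecMap_appLE_fromSpec a (isAffineOpen_top _) h
      have e2 := U.2.SpecMap_appLE_fromSpec b (isAffineOpen_top _) h'
      rw [he2, e2] at e1
      exact ((cancel_epi _).1 e1).symm
    obtain ⟨e1, e2⟩ := Sigma.mk.inj_iff.1 e
    have eU : UU m = UU n := congrArg Subtype.val e1
    obtain ⟨h', e'⟩ : ∃ h' : ⊤ ≤ q n ⁻¹ᵁ (UU m).1, ∀ g ∈ G (UU m), evalPt (UU m).1 (q m) (hh m) g =
        evalPt (UU m).1 (q n) h' g := by
      have gen : ∀ (U U' : {U // U ∈ S}) (_ : U = U') (a : {g // g ∈ G U.1} → frobFixed p k N)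
          (b : {g // g ∈ G U'.1} → frobFixed p k N) (_ : HEq a b) (h' : ⊤ ≤ q n ⁻¹ᵁ U'.1.1)
          (_ : ∀ g, (b g : k) = evalPt U'.1.1 (q n) h' g.1),
          ∃ h'' : ⊤ ≤ q n ⁻¹ᵁ U.1.1, ∀ g, (a g : k) = evalPt U.1.1 (q n) h'' g.1 := by
        rintro U _ rfl a b hab h' hb'
        cases hab
        exact ⟨h', hb'⟩
      obtain ⟨h'', he⟩ := gen _ _ e1 _ _ e2 (hh n) fun g => rfl
      exact ⟨h'', fun g hg => he ⟨g, hg⟩⟩
    exact key _ _ _ (hq m) (hq n) (hh m) h' e'
  haveI : Finite Idx := inferInstance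
  refine ((Set.range code).toFinite.image fun c => if hc : ∃ n, code n = c then q hc.choose else q 0).subset ?_
  rintro _ ⟨n, rfl⟩
  refine ⟨code n, ⟨n, rfl⟩, ?_⟩
  simp only [dif_pos (show ∃ m, code m = code n from ⟨n, rfl⟩)]
  exact hcode _ _ (show ∃ m, code m = code n from ⟨n, rfl⟩).choose_spec

end Groth.Agent.H25AbCube
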