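import Groth.Agent.H1HK.Basic
import Groth.Agent.H27Weil.FrobField
import Groth.Agent.S2680

/-!
# The colength of the Frobenius power of a maximal ideal
-/

set_option autoImplicit false
set_option linter.style.haveILetI false
set_option linter.unusedSectionVars false
set_option backward.isDefEq.respectTransparency false
universe u

open Groth.Agent

noncomputable section

namespace Groth.Agent.H25AbCube.FrobLength

variable (p : ℕ) [Fact p.Prime] {k : Type u} [Field k] [IsAlgClosed k] [CharP k p]
  {B : Type u} [CommRing B] [IsDomain B] [Algebra k B] [Algebra.FiniteType k B] [CharP B p]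

theorem exists_root (c : k) : ∃ d : k, d ^ p = c :=
  ⟨_, frobeniusEquiv_symm_pow_p k p c⟩

variable (k) in
include k in
theorem finite_frobenius : (frobenius B p).Finite := by
  refine RingHom.finite_iff_isIntegral_and_finiteType.mpr ⟨fun x => ?_, ?_⟩
  · exact ⟨Polynomial.X ^ p - Polynomial.C (x ^ 1), Polynomial.monic_X_pow_sub_C (x ^ 1) (Fact.out : p.Prime).ne_zero, by
      simp [Polynomial.eval₂_sub, frobenius_def]⟩
  · refine RingHom.FiniteType.of_comp_finiteType (f := algebraMap k B) ?_
    rw [show (frobenius B p).comp (algebraMap k B) = (algebraMap k B).comp (frobenius k p) from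
      RingHom.ext fun c => (map_pow (algebraMap k B) c p).symm]
    exact (RingHom.finiteType_algebraMap.mpr inferInstance).comp
      (RingHom.FiniteType.of_surjective _ fun c => exists_root p c)

/-- The colength of the Frobenius power of a maximal ideal is at least `p ^ dim`. -/
theorem pow_le_finrank_quotient {g : ℕ} (hg : ringKrullDim B = g) (m : Ideal B) [m.IsMaximal] :
    Module.Finite k (B ⧸ m.map (frobenius B p)) ∧ p ^ g ≤ Module.finrank k (B ⧸ m.map (frobenius B p)) := by
  classical
  set F := frobenius B p with hF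
  set I := m.map F with hI
  let M := H1HK.Fr F B
  haveI : Module.Finite B M := H1HK.Fr.finite F (finite_frobenius p k)
  have hk : ∀ b : B, ∃ c : k, b - algebraMap k B c ∈ m := fun b => by
    letI := Ideal.Quotient.field m
    haveI : Module.Finite k (B ⧸ m) := finite_of_finite_type_of_isJacobsonRing k (B ⧸ m)
    obtain ⟨c, hc⟩ := (IsAlgClosed.algebraMap_bijective_of_isIntegral (k := k) (K := B ⧸ m)).2 (Ideal.Quotient.mk m b)
    exact ⟨c, (Ideal.Quotient.eq (I := m)).1 hc.symm⟩
  have hfin : Module.Finite k (B ⧸ I) := by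
    obtain ⟨n, t, ht⟩ := Module.Finite.exists_fin (R := B) (M := M)
    refine ⟨⟨Finset.univ.image fun i => Ideal.Quotient.mk I ((H1HK.Fr.mk F).symm (t i)), top_le_iff.1 ?_⟩⟩
    rintro z -
    obtain ⟨x, rfl⟩ := Ideal.Quotient.mk_surjective z
    obtain ⟨a, ha⟩ := (Submodule.mem_span_range_iff_exists_fun B).1 (ht.ge (Submodule.mem_top (x := H1HK.Fr.mk F x)))
    have hx : x = ∑ i, F (a i) * (H1HK.Fr.mk F).symm (t i) := by
      have := congrArg (H1HK.Fr.mk F).symm ha
      rw [map_sum, AddEquiv.symm_apply_apply] at this
      exact this.symm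
    choose c hc using fun i => hk (a i)
    have : Ideal.Quotient.mk I x = ∑ i, (c i ^ p) • Ideal.Quotient.mk I ((H1HK.Fr.mk F).symm (t i)) := by
      rw [hx, map_sum]
      refine Finset.sum_congr rfl fun i _ => ?_
      rw [map_mul, Algebra.smul_def]
      congr 1
      show _ = Ideal.Quotient.mk I (algebraMap k B (c i ^ p))
      rw [Ideal.Quotient.eq, map_pow, hF, ← frobenius_def, ← map_sub]
      exact Ideal.mem_map_of_mem _ (hc i)
    rw [this]
    exact sum_mem fun i _ => Submodule.smul_mem _ _ (Submodule.subset_span (by simp))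
  haveI := hfin
  refine ⟨hfin, ?_⟩
  set n := Module.finrank k (B ⧸ I)
  let β := Module.finBasis k (B ⧸ I)
  choose b hb using fun i => Ideal.Quotient.mk_surjective (β i)
  let N : Submodule B M := Submodule.span B (Set.range fun i => H1HK.Fr.mk F (b i))
  have hN : (⊤ : Submodule B M) ≤ N ⊔ m • ⊤ := by
    intro z _
    set x := (H1HK.Fr.mk F).symm z with hxdef
    have hz : z = H1HK.Fr.mk F x := rfl
    choose d hd using fun i => exists_root p (β.repr (Ideal.Quotient.mk I x) i)
    have hr : x - ∑ i, F (algebraMap k B (d i)) * b i ∈ I := by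
      rw [← Ideal.Quotient.eq_zero_iff_mem, map_sub, sub_eq_zero, map_sum]
      refine (β.sum_repr _).symm.trans (Finset.sum_congr rfl fun i _ => ?_)
      rw [map_mul, hb, Algebra.smul_def, hF, frobenius_def, ← map_pow, hd]
      rfl
    have h1 : ∀ w ∈ I, H1HK.Fr.mk F w ∈ m • (⊤ : Submodule B M) := by
      intro w hw
      have : ∀ y : B, H1HK.Fr.mk F (y * w) ∈ m • (⊤ : Submodule B M) := by
        induction hw using Submodule.span_induction with
        | mem c hc =>
          obtain ⟨c, hc, rfl⟩ := hc
          intro y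
          rw [mul_comm, ← smul_eq_mul, ← H1HK.Fr.smul_mk]
          exact Submodule.smul_mem_smul hc trivial
        | zero => intro y; rw [mul_zero, map_zero]; exact zero_mem _
        | add u v _ _ hu hv => intro y; rw [mul_add, map_add]; exact add_mem (hu y) (hv y)
        | smul u v _ hv => intro y; rw [smul_eq_mul, ← mul_assoc]; exact hv _
      simpa using this 1
    rw [hz, ← sub_add_cancel x (∑ i, F (algebraMap k B (d i)) * b i), map_add, map_sum]
    refine Submodule.add_mem _ (Submodule.mem_sup_right (h1 _ hr)) (Submodule.mem_sup_left (sum_mem fun i _ => ?_))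
    rw [← smul_eq_mul, ← H1HK.Fr.smul_mk]
    exact N.smul_mem _ (Submodule.subset_span ⟨i, rfl⟩)
  obtain ⟨r, hr1, hr2⟩ := Submodule.exists_sub_one_mem_and_smul_le_of_fg_of_le_sup
    (Module.Finite.fg_top (R := B) (M := M)) le_rfl hN
  have hr0 : r ≠ 0 := by
    rintro rfl
    exact (Ideal.IsMaximal.ne_top (inferInstance : m.IsMaximal)) ((Ideal.eq_top_iff_one m).2 (by simpa using hr1))
  have hspan : ∀ x : B, ∃ a : Fin n → B, F r * x = ∑ i, F (a i) * b i := fun x => by
    obtain ⟨a, ha⟩ := (Submodule.mem_span_range_iff_exists_fun B).1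
      (hr2 (Submodule.smul_mem_pointwise_smul (H1HK.Fr.mk F x) r ⊤ trivial))
    refine ⟨a, ?_⟩
    have := congrArg (H1HK.Fr.mk F).symm ha
    rw [map_sum] at this
    exact this.symm
  obtain ⟨g', htr, hdim, -⟩ := S2680.result k B
  obtain rfl : g = g' := by
    rw [hg] at hdim
    exact_mod_cast hdim
  let K := FractionRing B
  haveI : CharP K p := charP_of_injective_algebraMap (IsFractionRing.injective B K) p
  haveI : Algebra.EssFiniteType k K := Algebra.EssFiniteType.comp k B K
  let φ := frobenius K p
  have hrank := H27Weil.finrank_fieldRange_pow (k := k) φ (fun a => rfl) (Fact.out : p.Prime).ne_zero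
    (exists_root p) htr
  let v : Fin n → K := fun i => algebraMap B K (b i)
  have hv : Submodule.span φ.fieldRange (Set.range v) = ⊤ := by
    refine top_le_iff.1 fun z _ => ?_
    obtain ⟨x, c, hc, rfl⟩ := IsFractionRing.div_surjective B z
    obtain ⟨a, ha⟩ := hspan (x * c ^ (p - 1))
    rw [Submodule.mem_span_range_iff_exists_fun]
    refine ⟨fun i => ⟨φ (algebraMap B K (a i) / (algebraMap B K r * algebraMap B K c)), _, rfl⟩, ?_⟩
    have hc0 : algebraMap B K c ≠ 0 := by
      simpa using nonZeroDivisors.ne_zero hc
    have hr' : algebraMap B K r ≠ 0 := by simpa using hr0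
    have hp1 : p = (p - 1) + 1 := (Nat.sub_add_cancel (Fact.out : p.Prime).one_le).symm
    have e : algebraMap B K (F r * (x * c ^ (p - 1))) = ∑ i, algebraMap B K (a i) ^ p * v i := by
      rw [ha, map_sum]
      simp [v, hF, frobenius_def]
    calc ∑ i, φ (algebraMap B K (a i) / (algebraMap B K r * algebraMap B K c)) * v i
        = (∑ i, algebraMap B K (a i) ^ p * v i) / (algebraMap B K r * algebraMap B K c) ^ p := by
          rw [Finset.sum_div]
          refine Finset.sum_congr rfl fun i _ => ?_
          rw [show φ _ = _ from frobenius_def p _, div_pow]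
          ring
      _ = _ := by
          rw [← e, hF, frobenius_def, map_mul, map_mul, map_pow, map_pow, mul_pow]
          rw [div_eq_div_iff (mul_ne_zero (pow_ne_zero _ hr') (pow_ne_zero _ hc0)) hc0]
          rw [← pow_sub_one_mul (Fact.out : p.Prime).ne_zero (algebraMap B K c)]
          ring
  calc p ^ g = Module.finrank φ.fieldRange K := hrank.symm
    _ ≤ n := by
      have h := finrank_range_le_card (R := φ.fieldRange) v
      rw [Set.finrank, hv, finrank_top, Fintype.card_fin] at h
      exact h

end Groth.Agent.H25AbCube.FrobLength
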