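import Groth.Agent.H25AbCube.FrobPoints
import Mathlib.RingTheory.PiTensorProduct
import Mathlib.LinearAlgebra.PiTensorProduct.Basis
import Mathlib.LinearAlgebra.Basis.VectorSpace
import Mathlib.GroupTheory.Perm.Cycle.Type

/-!
# Multiplication by `p` kills the kernel of the Frobenius

A `p`-fold product is invariant under the cyclic shift, and a cyclically invariant tensor in `B^⊗p` goes to a scalar
under multiplication when `b^p` is a scalar for every `b`. Hence `p` kills the kernel of the Frobenius of a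
commutative group scheme, and `p^j` that of its `j`-th power.
-/

set_option autoImplicit false
set_option linter.style.haveILetI false
set_option linter.unusedSectionVars false
set_option backward.isDefEq.respectTransparency false
set_option synthInstance.maxHeartbeats 400000
set_option maxHeartbeats 1000000
universe u

open CategoryTheory CategoryTheory.Limits MonoidalCategory CartesianMonoidalCategory MonObj GrpObj AlgebraicGeometry
  FrobSch
open Groth.Agent
open scoped TensorProduct

noncomputable section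

namespace Groth.Agent.H25AbCube.FrobVersch

section Ring

variable (p : ℕ) [Fact p.Prime]

/-- In characteristic `p` only the fixed points count in an invariant sum under a permutation of order `p`. -/
theorem sum_eq_sum_fixed {X G : Type*} [AddCommMonoid G] [DecidableEq X] (hG : ∀ g : G, p • g = 0) (s : Finset X)
    (T : X → X) (hTs : ∀ x ∈ s, T x ∈ s) (hT : ∀ x, T^[p] x = x) (φ : X → G) (hφ : ∀ x, φ (T x) = φ x) :
    ∑ x ∈ s, φ x = ∑ x ∈ s with T x = x, φ x := by
  classical
  rw [← Finset.sum_fiberwise_of_maps_to (fun x hx => Finset.mem_image_of_mem φ hx) φ,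
    ← Finset.sum_fiberwise_of_maps_to (fun x (hx : x ∈ s.filter fun x => T x = x) =>
      Finset.mem_image_of_mem φ (Finset.mem_filter.1 hx).1) φ]
  refine Finset.sum_congr rfl fun v _ => ?_
  rw [Finset.sum_congr rfl (g := fun _ => v) fun x hx => (Finset.mem_filter.1 hx).2, Finset.sum_const,
    Finset.sum_congr rfl (g := fun _ => v) fun x hx => (Finset.mem_filter.1 hx).2, Finset.sum_const]
  let F := s.filter fun x => φ x = v
  have hTF : ∀ x ∈ F, T x ∈ F := fun x hx => by
    obtain ⟨h1, h2⟩ := Finset.mem_filter.1 hx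
    exact Finset.mem_filter.2 ⟨hTs x h1, (hφ x).trans h2⟩
  let f : Function.End F := fun x => ⟨T x.1, hTF _ x.2⟩
  have hf : f ^ p ^ 1 = 1 := by
    funext x
    refine Subtype.ext ?_
    have key : ∀ n (x : F), ((f ^ n) x).1 = T^[n] x.1 := by
      intro n
      induction n with
      | zero => exact fun x => rfl
      | succ n ih =>
        intro x
        rw [pow_succ, Function.iterate_succ_apply]
        exact ih (f x)
    rw [pow_one, key, hT]
    rfl
  have hmod := Equiv.Perm.card_fixedPoints_modEq hf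
  rw [Fintype.card_coe] at hmod
  have hcard : Fintype.card ↥(Function.fixedPoints f) = ((s.filter fun x => T x = x).filter fun x => φ x = v).card := by
    rw [← Fintype.card_coe]
    refine Fintype.card_congr
      { toFun := fun x => ⟨x.1.1, Finset.mem_filter.2 ⟨Finset.mem_filter.2 ⟨(Finset.mem_filter.1 x.1.2).1,
          congrArg Subtype.val x.2⟩, (Finset.mem_filter.1 x.1.2).2⟩⟩
        invFun := fun x => ⟨⟨x.1, Finset.mem_filter.2 ⟨(Finset.mem_filter.1 (Finset.mem_filter.1 x.2).1).1,
          (Finset.mem_filter.1 x.2).2⟩⟩, Subtype.ext (Finset.mem_filter.1 (Finset.mem_filter.1 x.2).1).2⟩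
        left_inv := fun x => rfl
        right_inv := fun x => rfl }
  rw [hcard] at hmod
  have hsmul : ∀ n : ℕ, n • v = (n % p) • v := fun n => by
    conv_lhs => rw [← Nat.mod_add_div n p, add_smul, mul_smul, hG, add_zero]
  show F.card • v = _
  rw [hsmul, show F.card % p = _ from hmod, ← hsmul]

variable {k : Type*} [Field k] [CharP k p] {B : Type*} [CommRing B] [Algebra k B]

/-- The tensor power. -/
abbrev Pow (k B : Type*) [Field k] [CommRing B] [Algebra k B] := PiTensorProduct k fun _ : ZMod p => B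

/-- Multiplication. -/
def mulAll : Pow p k B →ₐ[k] B :=
  PiTensorProduct.liftAlgHom (MultilinearMap.mkPiAlgebra k (ZMod p) B) (by simp)
    (fun x y => by simp [Finset.prod_mul_distrib])

/-- The cyclic shift. -/
def shift : Pow p k B →ₐ[k] Pow p k B :=
  PiTensorProduct.liftAlgHom ((PiTensorProduct.tprod k).domDomCongr (Equiv.addRight (1 : ZMod p)))
    rfl (fun x y => (PiTensorProduct.tprod_mul_tprod _ _).symm)

theorem mulAll_tprod (x : ZMod p → B) : mulAll p (PiTensorProduct.tprod k x) = ∏ i, x i := by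
  simp [mulAll]

theorem shift_tprod (x : ZMod p → B) :
    shift p (PiTensorProduct.tprod k x) = PiTensorProduct.tprod k fun i => x (i + 1) := by
  show PiTensorProduct.lift _ (PiTensorProduct.tprod k x) = _
  rw [PiTensorProduct.lift.tprod]
  rfl

theorem mulAll_single (i : ZMod p) (a : B) : mulAll p (PiTensorProduct.singleAlgHom (R := k) i a) = a := by
  simp [mulAll_tprod]

/-- Cyclically invariant tensors go to scalars. -/
theorem mulAll_mem_range (hpow : ∀ a : B, ∃ c : k, a ^ p = algebraMap k B c) {w : Pow p k B}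
    (hw : shift p w = w) : ∃ c : k, mulAll p w = algebraMap k B c := by
  classical
  let bb := Module.Free.chooseBasis k B
  let e := Basis.piTensorProduct (fun _ : ZMod p => bb)
  have he : ∀ f, e f = PiTensorProduct.tprod k fun i => bb (f i) := fun f => Basis.piTensorProduct_apply _ f
  let T : (ZMod p → Module.Free.ChooseBasisIndex k B) → (ZMod p → Module.Free.ChooseBasisIndex k B) :=
    fun f i => f (i + 1)
  have hTn : ∀ (n : ℕ) f i, T^[n] f i = f (i + n) := by
    intro n
    induction n with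
    | zero => intro f i; simp
    | succ n ih =>
      intro f i
      rw [Function.iterate_succ_apply, ih]
      show f (i + n + 1) = _
      rw [Nat.cast_succ, add_assoc]
  have hT : ∀ f, T^[p] f = f := fun f => funext fun i => by rw [hTn, ZMod.natCast_self, add_zero]
  have hTinj : Function.Injective T := fun f g h => funext fun i => by
    have := congrFun h (i - 1)
    simpa [T] using this
  have hse : ∀ f, shift p (e f) = e (T f) := fun f => by rw [he, shift_tprod, he]
  let Tequiv : (ZMod p → Module.Free.ChooseBasisIndex k B) ≃ (ZMod p → Module.Free.ChooseBasisIndex k B) :=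
    Equiv.ofBijective T ⟨hTinj, fun f => ⟨fun i => f (i - 1), funext fun i => by simp [T]⟩⟩
  have hcoord : ∀ f, e.repr w (T f) = e.repr w f := by
    intro f
    conv_lhs => rw [← hw, ← e.linearCombination_repr w]
    rw [Finsupp.linearCombination_apply, map_finsuppSum (shift p)]
    simp only [map_smul, hse]
    rw [show ((e.repr w).sum fun i a => a • e (T i)) = (Finsupp.mapDomain Tequiv (e.repr w)).sum fun i a => a • e i by
      rw [Finsupp.sum_mapDomain_index (by simp) (by simp [add_smul])]
      rfl, ← Finsupp.linearCombination_apply, e.repr_linearCombination]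
    exact Finsupp.mapDomain_apply Tequiv.injective _ f
  have hsum : mulAll p w = ∑ f ∈ (e.repr w).support, e.repr w f • ∏ i, bb (f i) := by
    conv_lhs => rw [← e.linearCombination_repr w]
    rw [Finsupp.linearCombination_apply, map_finsuppSum (mulAll p)]
    simp only [Finsupp.sum, map_smul, he, mulAll_tprod]
  have hG : ∀ a : B, p • a = 0 := fun a => by
    rw [← Nat.cast_smul_eq_nsmul k, CharP.cast_eq_zero k p, zero_smul]
  rw [sum_eq_sum_fixed p hG _ T (fun f hf => by
    rw [Finsupp.mem_support_iff, hcoord]; exact Finsupp.mem_support_iff.1 hf) hT _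
    (fun f => by
      show e.repr w (T f) • ∏ i, bb (f (i + 1)) = _
      rw [hcoord]
      exact congrArg _ (Fintype.prod_equiv (Equiv.addRight (1 : ZMod p)) _ _ fun i => rfl))] at hsum
  choose c hc using hpow
  refine ⟨∑ f ∈ (e.repr w).support with T f = f, e.repr w f * c (bb (f 0)), ?_⟩
  rw [hsum, map_sum]
  refine Finset.sum_congr rfl fun f hf => ?_
  have hfix := (Finset.mem_filter.1 hf).2
  have hconst : ∀ i, f i = f 0 := fun i => by
    have : ∀ n : ℕ, f (n : ZMod p) = f 0 := fun n => by
      induction n with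
      | zero => simp
      | succ n ih =>
        rw [← ih, Nat.cast_succ]
        exact congrFun hfix (n : ZMod p)
    have h2 := this i.val
    rwa [ZMod.natCast_zmod_val] at h2
  rw [Finset.prod_congr rfl (g := fun _ => bb (f 0)) (fun i _ => by rw [hconst]), Finset.prod_const, Finset.card_univ,
    ZMod.card, hc, Algebra.smul_def, map_mul]

/-- The tensor power of an infinitesimal algebra has only one prime. -/
theorem subsingleton_spec (ε : B →ₐ[k] k) (hnil : ∀ a : B, (a - algebraMap k B (ε a)) ^ p = 0) :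
    Subsingleton (PrimeSpectrum (Pow p k B)) := by
  classical
  let εW : Pow p k B →ₐ[k] k := ε.comp (mulAll p)
  suffices h : ∀ (P : PrimeSpectrum (Pow p k B)) (x : Pow p k B), x ∈ P.asIdeal ↔ εW x = 0 from
    ⟨fun P Q => PrimeSpectrum.ext (Ideal.ext fun x => (h P x).trans (h Q x).symm)⟩
  intro P
  have heq : Ideal.Quotient.mkₐ k P.asIdeal = (Algebra.ofId k (Pow p k B ⧸ P.asIdeal)).comp εW := by
    refine PiTensorProduct.algHom_ext fun i => AlgHom.ext fun a => sub_eq_zero.1 ?_
    haveI := P.isPrime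
    refine eq_zero_of_pow_eq_zero (n := p) ?_
    show (Ideal.Quotient.mkₐ k P.asIdeal (PiTensorProduct.singleAlgHom i a) -
      algebraMap k _ (ε (mulAll p (PiTensorProduct.singleAlgHom i a)))) ^ p = 0
    rw [mulAll_single, ← AlgHom.commutes ((Ideal.Quotient.mkₐ k P.asIdeal).comp (PiTensorProduct.singleAlgHom i)),
      ← AlgHom.comp_apply, ← map_sub, ← map_pow, hnil, map_zero]
  intro x
  have hx := AlgHom.congr_fun heq x
  constructor
  · intro h
    by_contra h0
    have h1 : algebraMap k (Pow p k B ⧸ P.asIdeal) (εW x) = 0 := hx ▸ Ideal.Quotient.eq_zero_iff_mem.2 h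
    exact h0 ((algebraMap k (Pow p k B ⧸ P.asIdeal)).injective (h1.trans (map_zero _).symm))
  · intro h
    refine Ideal.Quotient.eq_zero_iff_mem.1 ?_
    show Ideal.Quotient.mkₐ k P.asIdeal x = 0
    rw [hx]
    show algebraMap k _ (εW x) = 0
    rw [h, map_zero]

end Ring

section Scheme

open Groth.Agent.H27Perf.Tower (fr)

variable (p : ℕ) [Fact p.Prime] {k : Type u} [Field k] [CharP k p] {X : Over (Spec (CommRingCat.of k))} [GrpObj X]
  [IsCommMonObj X]

theorem prod_comp {T T' : Over (Spec (CommRingCat.of k))} (f : T' ⟶ T) {ι₀ : Type*} [Fintype ι₀]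
    (g : ι₀ → (T ⟶ X)) : f ≫ ∏ i, g i = ∏ i, f ≫ g i :=
  map_prod (MonoidHom.mk' (fun x : T ⟶ X => f ≫ x) fun a b => MonObj.comp_mul f a b) g Finset.univ

/-- On an infinitesimal neighbourhood of the origin multiplication by `p` is trivial. -/
theorem pow_eq_one_infinitesimal {B : Type u} [CommRing B] [Algebra k B] (ε : B →ₐ[k] k)
    (hnil : ∀ a : B, (a - algebraMap k B (ε a)) ^ p = 0) {B₀ : CommRingCat.{u}} (j : Spec B₀ ⟶ X.left)
    [IsOpenImmersion j] (q₀ : B₀ ⟶ CommRingCat.of B) (hj : (Spec.map q₀ ≫ j) ≫ X.hom = Spec.map (CommRingCat.ofHom (algebraMap k B)))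
    (hε : Spec.map (CommRingCat.ofHom ε.toRingHom) ≫ Spec.map q₀ ≫ j = (η[X]).left) :
    (Over.homMk (U := Over.mk (Spec.map (CommRingCat.ofHom (algebraMap k B)))) (Spec.map q₀ ≫ j) hj) ^ p = 1 := by
  classical
  let Z : Over (Spec (CommRingCat.of k)) := Over.mk (Spec.map (CommRingCat.ofHom (algebraMap k B)))
  let z : Z ⟶ X := Over.homMk (Spec.map q₀ ≫ j) hj
  let W : Over (Spec (CommRingCat.of k)) := Over.mk (Spec.map (CommRingCat.ofHom (algebraMap k (Pow p k B))))
  have hmap : ∀ {R S : Type u} [CommRing R] [CommRing S] [Algebra k R] [Algebra k S] (g : R →ₐ[k] S),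
      Spec.map (CommRingCat.ofHom g.toRingHom) ≫ Spec.map (CommRingCat.ofHom (algebraMap k R)) =
        Spec.map (CommRingCat.ofHom (algebraMap k S)) := fun g => by
    rw [← Spec.map_comp, ← CommRingCat.ofHom_comp]
    exact congrArg (fun f => Spec.map (CommRingCat.ofHom f)) g.comp_algebraMap
  let ρ : ZMod p → (W ⟶ Z) := fun i =>
    Over.homMk (Spec.map (CommRingCat.ofHom (PiTensorProduct.singleAlgHom (R := k) (A := fun _ : ZMod p => B) i).toRingHom))
      (hmap _)
  let D : Z ⟶ W := Over.homMk (Spec.map (CommRingCat.ofHom (mulAll p (k := k) (B := B)).toRingHom)) (hmap _)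
  let sh : W ⟶ W := Over.homMk (Spec.map (CommRingCat.ofHom (shift p (k := k) (B := B)).toRingHom)) (hmap _)
  let e₀ : 𝟙_ (Over (Spec (CommRingCat.of k))) ⟶ Z := Over.homMk (Spec.map (CommRingCat.ofHom ε.toRingHom)) (by
    show Spec.map _ ≫ Spec.map _ = 𝟙 _
    rw [← Spec.map_comp, ← CommRingCat.ofHom_comp, ← Spec.map_id]
    exact congrArg (fun f => Spec.map (CommRingCat.ofHom f)) ε.comp_algebraMap)
  let m : W ⟶ X := ∏ i, ρ i ≫ z
  have hD : D ≫ m = z ^ p := by
    have h : ∀ i, D ≫ ρ i = 𝟙 Z := fun i => Over.OverMorphism.ext (by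
      show Spec.map _ ≫ Spec.map _ = 𝟙 _
      rw [← Spec.map_comp, ← CommRingCat.ofHom_comp, ← Spec.map_id]
      exact congrArg (fun f => Spec.map (CommRingCat.ofHom f)) (RingHom.ext fun a => mulAll_single p i a))
    rw [show D ≫ m = _ from prod_comp D fun i => ρ i ≫ z]
    simp only [← Category.assoc, h, Category.id_comp, Finset.prod_const, Finset.card_univ, ZMod.card]
  have hsh : sh ≫ m = m := by
    rw [show sh ≫ m = _ from prod_comp sh fun i => ρ i ≫ z]
    refine Fintype.prod_equiv (Equiv.subRight (1 : ZMod p)) _ _ fun i => ?_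
    rw [← Category.assoc]
    congr 1
    refine Over.OverMorphism.ext ?_
    show Spec.map _ ≫ Spec.map _ = Spec.map _
    rw [← Spec.map_comp, ← CommRingCat.ofHom_comp]
    refine congrArg (fun f => Spec.map (CommRingCat.ofHom f)) (RingHom.ext fun a => ?_)
    show shift p (PiTensorProduct.singleAlgHom (R := k) i a) = PiTensorProduct.singleAlgHom (R := k) (i - 1) a
    rw [PiTensorProduct.singleAlgHom_apply, shift_tprod, PiTensorProduct.singleAlgHom_apply]
    refine congrArg _ (funext fun l => ?_)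
    simp [Pi.mulSingle_apply, eq_sub_iff_add_eq]
  haveI := subsingleton_spec p ε hnil
  have hm1 : e₀ ≫ D ≫ m = 1 := by
    rw [hD, MonObj.comp_pow, show e₀ ≫ z = η[X] from Over.OverMorphism.ext hε, show η[X] = (1 : 𝟙_ _ ⟶ X) by
      rw [Hom.one_def, toUnit_unique (toUnit _) (𝟙 _), Category.id_comp], one_pow]
  obtain ⟨φ₀, hφ₀⟩ : ∃ φ₀ : B₀ ⟶ CommRingCat.of (Pow p k B), Spec.map φ₀ ≫ j = m.left := by
    have hrange : Set.range m.left ⊆ Set.range j := by
      rintro _ ⟨w, rfl⟩
      refine ⟨(e₀.left ≫ Spec.map q₀) (IsLocalRing.closedPoint k), ?_⟩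
      rw [← Scheme.Hom.comp_apply, Category.assoc, show e₀.left = Spec.map (CommRingCat.ofHom ε.toRingHom) from rfl, hε,
        show w = (e₀ ≫ D).left (IsLocalRing.closedPoint k) from Subsingleton.elim (α := PrimeSpectrum (Pow p k B)) _ _,
        ← Scheme.Hom.comp_apply, ← Over.comp_left, Category.assoc, hm1, Hom.one_def,
        toUnit_unique (toUnit _) (𝟙 _), Category.id_comp]
    exact ⟨Spec.preimage (IsOpenImmersion.lift j m.left hrange), by rw [Spec.map_preimage, IsOpenImmersion.lift_fac]⟩
  have hinv : ∀ a, shift p (φ₀.hom a) = φ₀.hom a := by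
    have h1 : φ₀ ≫ CommRingCat.ofHom (shift p (k := k) (B := B)).toRingHom = φ₀ := by
      apply Spec.map_injective
      rw [← cancel_mono j, Spec.map_comp, Category.assoc, hφ₀]
      exact congrArg (fun f : W ⟶ X => f.left) hsh
    exact fun a => ConcreteCategory.congr_hom h1 a
  have hε₀ : φ₀ ≫ CommRingCat.ofHom (mulAll p (k := k) (B := B)).toRingHom ≫ CommRingCat.ofHom ε.toRingHom =
      q₀ ≫ CommRingCat.ofHom ε.toRingHom := by
    apply Spec.map_injective
    rw [← cancel_mono j, Spec.map_comp, Spec.map_comp, Spec.map_comp, Category.assoc, Category.assoc, hφ₀]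
    exact (congrArg (fun f : 𝟙_ _ ⟶ X => f.left) hm1).trans
      ((congrArg (fun f : 𝟙_ _ ⟶ X => f.left) (show (1 : 𝟙_ _ ⟶ X) = η[X] by
        rw [Hom.one_def, toUnit_unique (toUnit _) (𝟙 _), Category.id_comp])).trans (hε.symm.trans (Category.assoc _ _ _).symm))
  have hfac : φ₀ ≫ CommRingCat.ofHom (mulAll p (k := k) (B := B)).toRingHom =
      (q₀ ≫ CommRingCat.ofHom ε.toRingHom) ≫ CommRingCat.ofHom (algebraMap k B) := by
    refine CommRingCat.hom_ext (RingHom.ext fun a => ?_)
    obtain ⟨c, hc⟩ := mulAll_mem_range p (fun b => ⟨ε b ^ p, by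
      haveI : Nontrivial B := ε.toRingHom.domain_nontrivial
      haveI : CharP B p := charP_of_injective_algebraMap (algebraMap k B).injective p
      rw [map_pow, ← sub_eq_zero, ← sub_pow_char, hnil]⟩) (hinv a)
    have h2 : ε (mulAll p (φ₀.hom a)) = ε (q₀.hom a) := ConcreteCategory.congr_hom hε₀ a
    show mulAll p (φ₀.hom a) = algebraMap k B (ε (q₀.hom a))
    rw [← h2, hc, AlgHom.commutes]
    rfl
  have hz : (z ^ p).left = (1 : Z ⟶ X).left := by
    rw [← hD, Over.comp_left, ← hφ₀]
    show Spec.map _ ≫ _ = _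
    rw [← Category.assoc, ← Spec.map_comp, hfac, H19Grp.one_left, Spec.map_comp, Spec.map_comp, Category.assoc,
      Category.assoc, hε]
    rfl
  exact Over.OverMorphism.ext hz

theorem toSpecΓ_injective {T : Scheme.{u}} {R : CommRingCat.{u}} {a b : R ⟶ Γ(T, ⊤)}
    (h : T.toSpecΓ ≫ Spec.map a = T.toSpecΓ ≫ Spec.map b) : a = b := by
  have key : ∀ c : R ⟶ Γ(T, ⊤), (T.toSpecΓ ≫ Spec.map c).appTop = (Scheme.ΓSpecIso R).hom ≫ c := fun c => by
    rw [Scheme.Hom.comp_appTop, Scheme.toSpecΓ_appTop, Scheme.ΓSpecIso_naturality]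
  have := congrArg Scheme.Hom.appTop h
  rw [key, key] at this
  exact (cancel_epi _).1 this

theorem exists_toSpecΓ {T : Scheme.{u}} {R : CommRingCat.{u}} (g : T ⟶ Spec R) :
    ∃ a : R ⟶ Γ(T, ⊤), g = T.toSpecΓ ≫ Spec.map a := by
  refine ⟨(Scheme.ΓSpecIso R).inv ≫ g.appTop, ext_of_isAffine ?_⟩
  rw [Scheme.Hom.comp_appTop, Scheme.toSpecΓ_appTop, Scheme.ΓSpecIso_naturality, Iso.hom_inv_id_assoc]

/-- Multiplication by `p` kills the kernel of the Frobenius. -/
theorem pow_eq_one_of_frob [IsCharP X.left p] {T : Over (Spec (CommRingCat.of k))} (x : T ⟶ X)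
    (hx : x.left ≫ frob X.left p = (1 : T ⟶ X).left ≫ frob X.left p) : x ^ p = 1 := by
  classical
  let o : X.left := (η[X]).left (IsLocalRing.closedPoint k)
  obtain ⟨U, hU, hoU, -⟩ := exists_isAffineOpen_mem_and_subset (U := (⊤ : X.left.Opens)) (x := o) trivial
  let j : Spec Γ(X.left, U) ⟶ X.left := hU.fromSpec
  have hjo : ∀ y : T.left, x.left y = o := by
    intro y
    have h := congrArg (fun f : T.left ⟶ X.left => f y) hx
    simp only [Scheme.Hom.comp_apply, frob_apply] at h
    rw [h, H19Grp.one_left, Scheme.Hom.comp_apply]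
    exact congrArg (η[X]).left (Subsingleton.elim (α := PrimeSpectrum k) _ _)
  have hrj : Set.range j = (U : Set X.left) := hU.range_fromSpec
  let e' : Spec (CommRingCat.of k) ⟶ Spec Γ(X.left, U) := IsOpenImmersion.lift j (η[X]).left (by
    rw [hrj]
    rintro _ ⟨y, rfl⟩
    rw [show y = IsLocalRing.closedPoint k from Subsingleton.elim (α := PrimeSpectrum k) _ _]
    exact hoU)
  let g : T.left ⟶ Spec Γ(X.left, U) := IsOpenImmersion.lift j x.left (by
    rw [hrj]
    rintro _ ⟨y, rfl⟩
    rw [hjo]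
    exact hoU)
  have hgj : g ≫ j = x.left := IsOpenImmersion.lift_fac _ _ _
  have hej : e' ≫ j = (η[X]).left := IsOpenImmersion.lift_fac _ _ _
  let ε₀ : Γ(X.left, U) ⟶ CommRingCat.of k := Spec.preimage e'
  let ψ : CommRingCat.of k ⟶ Γ(X.left, U) := Spec.preimage (j ≫ X.hom)
  have hψε : ψ ≫ ε₀ = 𝟙 _ := by
    apply Spec.map_injective
    rw [Spec.map_comp, Spec.map_preimage, Spec.map_preimage, Spec.map_id, ← Category.assoc, hej]
    exact Over.w η[X]
  have hψε' : ∀ c, ε₀.hom (ψ.hom c) = c := fun c => ConcreteCategory.congr_hom hψε c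
  let J : Ideal Γ(X.left, U) := Ideal.span ((fun a => (a - ψ.hom (ε₀.hom a)) ^ p) '' Set.univ)
  let B : Type u := Γ(X.left, U) ⧸ J
  letI : Algebra k B := ((Ideal.Quotient.mk J).comp ψ.hom).toAlgebra
  have hJ : ∀ a ∈ J, ε₀.hom a = 0 := by
    intro a ha
    have : J ≤ RingHom.ker ε₀.hom := Ideal.span_le.2 (by
      rintro _ ⟨b, -, rfl⟩
      show ε₀.hom ((b - ψ.hom (ε₀.hom b)) ^ p) = 0
      rw [map_pow, map_sub, hψε', sub_self, zero_pow (Fact.out : p.Prime).ne_zero])
    exact this ha
  let ε : B →ₐ[k] k :=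
    { Ideal.Quotient.lift J ε₀.hom hJ with commutes' := fun c => hψε' c }
  have hnil : ∀ a : B, (a - algebraMap k B (ε a)) ^ p = 0 := by
    intro a
    obtain ⟨a, rfl⟩ := Ideal.Quotient.mk_surjective a
    show (Ideal.Quotient.mk J a - Ideal.Quotient.mk J (ψ.hom (ε₀.hom a))) ^ p = 0
    rw [← map_sub, ← map_pow, Ideal.Quotient.eq_zero_iff_mem]
    exact Ideal.subset_span ⟨a, trivial, rfl⟩
  let q₀ : Γ(X.left, U) ⟶ CommRingCat.of B := CommRingCat.ofHom (Ideal.Quotient.mk J)
  have hj : (Spec.map q₀ ≫ j) ≫ X.hom = Spec.map (CommRingCat.ofHom (algebraMap k B)) := by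
    rw [Category.assoc, ← show Spec.map ψ = j ≫ X.hom from Spec.map_preimage _, ← Spec.map_comp]
    rfl
  have hε : Spec.map (CommRingCat.ofHom ε.toRingHom) ≫ Spec.map q₀ ≫ j = (η[X]).left := by
    rw [← Category.assoc, ← Spec.map_comp, ← hej, ← show Spec.map ε₀ = e' from Spec.map_preimage _]
    congr 2
  have key := pow_eq_one_infinitesimal p ε hnil j q₀ hj hε
  -- the point factors through the infinitesimal neighbourhood
  obtain ⟨a, ha⟩ := exists_toSpecΓ g
  obtain ⟨θ, hθ⟩ := exists_toSpecΓ T.hom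
  have hψa : ψ ≫ a = θ := toSpecΓ_injective (by
    rw [Spec.map_comp, ← Category.assoc, ← ha, Spec.map_preimage, ← Category.assoc, hgj, Over.w x, hθ])
  haveI : IsCharP (Spec Γ(X.left, U)) p := IsCharP.of_hom j p
  haveI : IsCharP T.left p := IsCharP.of_hom x.left p
  have hpow : ∀ b, a.hom b ^ p = θ.hom (ε₀.hom b) ^ p := by
    have h1 : g ≫ frob (Spec Γ(X.left, U)) p = (T.hom ≫ e') ≫ frob (Spec Γ(X.left, U)) p := by
      rw [← cancel_mono j, Category.assoc, Category.assoc, frob_comp p j, ← Category.assoc g, hgj, hx,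
        H19Grp.one_left]
      simp only [Category.assoc, reassoc_of% hej]
    rw [H27Perf.frob_Spec, ha, hθ, show e' = Spec.map ε₀ from (Spec.map_preimage _).symm, Category.assoc,
      Category.assoc, Category.assoc, ← Spec.map_comp, ← Spec.map_comp, ← Spec.map_comp] at h1
    intro b
    have := ConcreteCategory.congr_hom (toSpecΓ_injective h1) b
    change a.hom (b ^ p) = θ.hom (ε₀.hom (b ^ p)) at this
    rwa [map_pow, map_pow, map_pow] at this
  have haJ : ∀ b ∈ J, a.hom b = 0 := by
    intro b hb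
    have : J ≤ RingHom.ker a.hom := Ideal.span_le.2 (by
      rintro _ ⟨b, -, rfl⟩
      show a.hom ((b - ψ.hom (ε₀.hom b)) ^ p) = 0
      rcases subsingleton_or_nontrivial Γ(T.left, ⊤) with hs | hs
      · exact Subsingleton.elim _ _
      haveI : CharP Γ(T.left, ⊤) p :=
        (CharP.charP_iff_prime_eq_zero Fact.out).2 (natCast_eq_zero_app T.left p ⊤)
      rw [map_pow, map_sub, sub_pow_char, hpow, show a.hom (ψ.hom (ε₀.hom b)) = θ.hom (ε₀.hom b) from
        ConcreteCategory.congr_hom hψa _, sub_self])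
    exact this hb
  let y₀ : T.left ⟶ Spec (CommRingCat.of B) :=
    T.left.toSpecΓ ≫ Spec.map (CommRingCat.ofHom (Ideal.Quotient.lift J a.hom haJ))
  have hy : y₀ ≫ Spec.map q₀ ≫ j = x.left := by
    rw [← hgj, ha, Category.assoc, Category.assoc, ← Category.assoc (Spec.map _), ← Spec.map_comp]
    rfl
  let z : Over.mk (Spec.map (CommRingCat.ofHom (algebraMap k B))) ⟶ X := Over.homMk (Spec.map q₀ ≫ j) hj
  let y : T ⟶ Over.mk (Spec.map (CommRingCat.ofHom (algebraMap k B))) := Over.homMk y₀ (by
    show y₀ ≫ Spec.map _ = T.hom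
    rw [← hj, ← Category.assoc y₀, hy, Over.w x])
  rw [show x = y ≫ z from Over.OverMorphism.ext hy.symm, ← MonObj.comp_pow, key, MonObj.comp_one]

theorem fr_lift_left {T T' : Over (Spec (CommRingCat.of k))} [IsCharP X.left p] (j : ℕ) (hT : T'.left = T.left)
    (x y : T ⟶ X) (x' y' : T' ⟶ X) (hx : x'.left = eqToHom hT ≫ x.left ≫ fr p X.left j)
    (hy : y'.left = eqToHom hT ≫ y.left ≫ fr p X.left j) :
    (x' * y').left = eqToHom hT ≫ (x * y).left ≫ fr p X.left j := by
  haveI : IsCharP (X ⊗ X).left p := IsCharP.of_hom (fst X X).left p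
  have h : (lift x' y').left = eqToHom hT ≫ (lift x y).left ≫ fr p (X ⊗ X).left j := by
    refine pullback.hom_ext ?_ ?_
    · show (lift x' y' ≫ fst X X).left = _ ≫ (fst X X).left
      rw [lift_fst, Category.assoc, Category.assoc, FrobPoints.fr_comm, ← Category.assoc (lift x y).left,
        ← Over.comp_left, lift_fst, hx]
    · show (lift x' y' ≫ snd X X).left = _ ≫ (snd X X).left
      rw [lift_snd, Category.assoc, Category.assoc, FrobPoints.fr_comm, ← Category.assoc (lift x y).left,
        ← Over.comp_left, lift_snd, hy]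
  rw [Hom.mul_def, Hom.mul_def, Over.comp_left, Over.comp_left, h, Category.assoc, Category.assoc, Category.assoc,
    FrobPoints.fr_comm]

/-- `p^j` kills the kernel of the `j`-th power of the Frobenius. -/
theorem pow_eq_one_of_fr [IsCharP X.left p] : ∀ (j : ℕ) {T : Over (Spec (CommRingCat.of k))} (x : T ⟶ X),
    x.left ≫ fr p X.left j = (1 : T ⟶ X).left ≫ fr p X.left j → x ^ p ^ j = 1
  | 0, T, x, hx => by
    rw [pow_zero, pow_one]
    exact Over.OverMorphism.ext ((Category.comp_id _).symm.trans (hx.trans (Category.comp_id _)))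
  | j + 1, T, x, hx => by
    let T' : Over (Spec (CommRingCat.of k)) := Over.mk (T.hom ≫ fr p (Spec (CommRingCat.of k)) j)
    let Φ : (T ⟶ X) → (T' ⟶ X) := fun w => Over.homMk (w.left ≫ fr p X.left j) (by
      show (w.left ≫ fr p X.left j) ≫ X.hom = T.hom ≫ _
      rw [Category.assoc, FrobPoints.fr_comm, ← Category.assoc, Over.w w])
    let Φh : (T ⟶ X) →* (T' ⟶ X) := MonoidHom.mk' Φ fun a b => Over.OverMorphism.ext (by
      have := fr_lift_left p (T := T) (T' := T') j rfl a b (Φ a) (Φ b) (Category.id_comp _).symm (Category.id_comp _).symm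
      exact (this.trans (Category.id_comp _)).symm)
    have h1 : (Φh x).left ≫ frob X.left p = (1 : T' ⟶ X).left ≫ frob X.left p := by
      rw [← map_one Φh]
      show (x.left ≫ fr p X.left j) ≫ _ = ((1 : T ⟶ X).left ≫ fr p X.left j) ≫ _
      rw [Category.assoc, Category.assoc]
      exact hx
    have h2 : Φh (x ^ p) = 1 := by rw [map_pow]; exact pow_eq_one_of_frob p _ h1
    rw [pow_succ', pow_mul]
    refine pow_eq_one_of_fr j _ ?_
    rw [← map_one Φh] at h2
    exact congrArg (fun w : T' ⟶ X => w.left) h2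

end Scheme

end Groth.Agent.H25AbCube.FrobVersch
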