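import Groth.Agent.H25AbCube.FrobVersch
import Groth.Agent.H25AbCube.FrobPoly
import Groth.Agent.H25AbCube.HomFactor

/-!
# The endomorphism `q/π` of an abelian variety over a finite field
-/

set_option autoImplicit false
set_option linter.style.haveILetI false
set_option linter.unusedSectionVars false
set_option backward.isDefEq.respectTransparency false
set_option synthInstance.maxHeartbeats 400000
set_option maxHeartbeats 1000000
universe u

open CategoryTheory CategoryTheory.Limits MonoidalCategory CartesianMonoidalCategory MonObj GrpObj AlgebraicGeometry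
  FrobSch
open Groth.Agent

noncomputable section

namespace Groth.Agent.H25AbCube.FrobVersch

open FrobPoints

variable {k : Type u} [Field k] [Finite k] {A : Over (Spec (CommRingCat.of k))} [GrpObj A] [IsCommMonObj A]
  [IsProper A.hom] [GeometricallyIntegral A.hom] (πA : A ⟶ A) [IsMonHom πA] (hb : πA.left.base = 𝟙 _)
  (hle : ∀ U : A.left.Opens, U ≤ πA.left ⁻¹ᵁ U)
  (happ : ∀ (U : A.left.Opens) (s : Γ(A.left, U)), (πA.left.appLE U U (hle U)).hom s = s ^ Nat.card k)

include hb hle happ in
/-- The Frobenius divides the multiplication by `q`. -/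
theorem exists_verschiebung :
    ∃ (v : A ⟶ A) (_ : IsMonHom v), πA ≫ v = (𝟙 A) ^ Nat.card k ∧ v ≫ πA = (𝟙 A) ^ Nat.card k := by
  haveI : IsIntegral A.left := GeometricallyIntegral.isIntegral_of_subsingleton A.hom
  obtain ⟨g, hg⟩ := H25Grp.exists_nat_dim A.hom
  obtain ⟨p, N, _, _, hN0, hq, hN⟩ := FrobPoly.exists_char k
  have hπ := FrobPoly.eq_F πA hb hle happ p N hq hN
  haveI : IsFinite πA.left := hπ ▸ isFinite_F p A N hN 1
  haveI : Flat πA.left := flat_of_finite πA hg hg
  haveI : Surjective πA.left := ⟨fun x => ⟨x, show πA.left x = x from congrArg (fun b => b x) hb⟩⟩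
  have hker : ∀ (T : Over (Spec (CommRingCat.of k))) (x : T ⟶ A), x ≫ πA = 1 → x ^ Nat.card k = 1 := by
    intro T x hx
    rw [hq]
    refine pow_eq_one_of_fr p N x ?_
    have h1 : (1 : T ⟶ A) ≫ πA = 1 := MonObj.one_comp πA
    have h := congrArg (fun w : T ⟶ A => w.left) (hx.trans h1.symm)
    rw [hπ] at h
    simp only [Over.comp_left, F_left, Nat.mul_one] at h
    exact h
  obtain ⟨v, hv, -⟩ := H19Grp.existsUnique_desc_over πA ((𝟙 A) ^ Nat.card k : A ⟶ A) fun T a b hab => by
    have h1 : (a / b) ≫ πA = 1 := by rw [GrpObj.div_comp, hab, div_self']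
    have h3 := hker T _ h1
    rw [div_pow, div_eq_one] at h3
    rwa [comp_pow_id, comp_pow_id]
  have hmv : IsMonHom v := by
    refine H25Rig.isMonHom_of_one_hom v ?_
    rw [← IsMonHom.one_hom (f := πA), Category.assoc, hv]
    haveI := isMonHom_pow (A := A) (Nat.card k)
    exact IsMonHom.one_hom (f := ((𝟙 A) ^ Nat.card k : A ⟶ A)) |>.trans (IsMonHom.one_hom (f := πA)).symm
  refine ⟨v, hmv, hv, ?_⟩
  haveI := hmv
  have h := congrArg EndAV.End.toHom (frob_central (Nat.card k) πA hb hle happ (EndAV.End.of v))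
  rw [EndAV.End.toHom_mul, EndAV.End.toHom_mul, EndAV.End.toHom_of, EndAV.End.toHom_of] at h
  rw [h, hv]

end Groth.Agent.H25AbCube.FrobVersch
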