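import Groth.Agent.H25AbCube.RosatiTrace

/-!
# Positive symmetric endomorphisms are the sums of squares in the algebra they generate
-/

set_option autoImplicit false
set_option linter.style.haveILetI false
set_option linter.unusedSectionVars false
set_option backward.isDefEq.respectTransparency false
set_option synthInstance.maxHeartbeats 400000
set_option maxHeartbeats 1000000
universe u

open CategoryTheory CategoryTheory.Limits MonoidalCategory CartesianMonoidalCategory MonObj GrpObj AlgebraicGeometry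
open Groth.Agent
open scoped TensorProduct

noncomputable section

namespace Groth.Agent.H25AbCube

variable {k : Type u} [Field k] [IsAlgClosed k] {A : Over (Spec (CommRingCat.of k))} [GrpObj A] [IsProper A.hom]
  [GeometricallyIntegral A.hom] [IsCommMonObj A]

theorem eq_zero_of_zsmul {φ : EndAV.End A} {m : ℤ} (hm : m ≠ 0) (h : m • φ = 0) : φ = 0 := by
  refine eq_zero_of_nsmul (m := m.natAbs) (Int.natAbs_pos.2 hm) ?_
  rcases Int.natAbs_eq m with he | he <;> rw [he] at h
  · rwa [natCast_zsmul] at h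
  · rwa [neg_smul, natCast_zsmul, neg_eq_zero] at h

theorem toEnd0_injective : Function.Injective (EndAV.toEnd0 (A := A)) := by
  haveI : Module.IsTorsionFree ℤ (EndAV.End A) := Module.IsTorsionFree.of_smul_eq_zero fun m φ h => by
    rcases eq_or_ne m 0 with hm | hm
    · exact Or.inl hm
    · exact Or.inr (eq_zero_of_zsmul hm h)
  exact Algebra.TensorProduct.includeRight_injective Int.cast_injective

/-- A nonzero endomorphism only exists in positive dimension. -/
theorem one_le_dim {g : ℕ} (hg : topologicalKrullDim A.left = g) {α : EndAV.End A} (hα : α ≠ 0) : 1 ≤ g := by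
  by_contra hc
  obtain rfl : g = 0 := by omega
  refine absurd (card_le_of_linearIndependent hg hg (fun _ : Fin 1 => α.toHom) ?_) (by norm_num)
  refine Fintype.linearIndependent_iff.2 fun a ha i => ?_
  by_contra hi
  rw [Fin.sum_univ_one, show (0 : Fin 1) = i from (Subsingleton.elim _ _)] at ha
  refine hα (EndAV.End.ext (Additive.ofMul.injective ?_))
  exact eq_zero_of_smul_homs (Additive.ofMul α.toHom) (a i) (inferInstanceAs (IsMonHom α.toHom)) hi ha

/-- Elements of the algebra generated by one endomorphism have a denominator. -/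
theorem exists_den {α : EndAV.End A} {x : EndAV.End0 A} (hx : x ∈ EndAV.QAdj α) :
    ∃ (c : ℚ) (z : EndAV.End A), z ∈ Subring.closure ({α} : Set (EndAV.End A)) ∧ x = c ⊗ₜ[ℤ] z := by
  induction hx using Algebra.adjoin_induction with
  | mem x hx => exact ⟨1, α, Subring.subset_closure rfl, Set.mem_singleton_iff.1 hx⟩
  | algebraMap r => exact ⟨r, 1, one_mem _, rfl⟩
  | add x y _ _ hx hy =>
    obtain ⟨c, z, hz, rfl⟩ := hx
    obtain ⟨d, w, hw, rfl⟩ := hy
    refine ⟨((c.den * d.den : ℕ) : ℚ)⁻¹, (c.num * d.den) • z + (d.num * c.den) • w,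
      add_mem (zsmul_mem hz _) (zsmul_mem hw _), ?_⟩
    rw [TensorProduct.tmul_add, ← TensorProduct.smul_tmul, ← TensorProduct.smul_tmul, zsmul_eq_mul, zsmul_eq_mul]
    congr 2
    · push_cast
      rw [← div_eq_mul_inv, mul_div_mul_right _ _ (Nat.cast_ne_zero.2 d.den_ne_zero), Rat.num_div_den]
    · push_cast
      rw [← div_eq_mul_inv, _root_.mul_comm (c.den : ℚ), mul_div_mul_right _ _ (Nat.cast_ne_zero.2 c.den_ne_zero),
        Rat.num_div_den]
  | mul x y _ _ hx hy =>
    obtain ⟨c, z, hz, rfl⟩ := hx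
    obtain ⟨d, w, hw, rfl⟩ := hy
    exact ⟨c * d, z * w, mul_mem hz hw, Algebra.TensorProduct.tmul_mul_tmul c d z w⟩

variable {g : ℕ} (hg : topologicalKrullDim A.left = g) {L : A.left.Modules} (hL : CohB1.IsAmple L)

include hg in
/-- A positive symmetric endomorphism is a sum of squares in the algebra it generates. -/
theorem exists_squares_of_pos {α : EndAV.End A} (hα : Adj (pc L hL.1) α α) {m : ℕ} (hm : 1 ≤ m) {v : PC A.left}
    (hv : IsPosCls v)
    (hrel : ∀ x : 𝟙_ _ ⟶ A, th v (𝟙 A) (toUnit A ≫ x) = th (pc L hL.1) (𝟙 A) (toUnit A ≫ x ≫ α.toHom ^ m)) :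
    ∃ (n : ℕ) (y : Fin n → EndAV.End0 A), (∀ i, y i ∈ EndAV.QAdj α) ∧ EndAV.toEnd0 α = ∑ i, y i ^ 2 := by
  classical
  rcases eq_or_ne α 0 with h0 | h0
  · exact ⟨0, Fin.elim0, fun i => i.elim0, by rw [h0, map_zero, Fin.sum_univ_zero]⟩
  have hg1 := one_le_dim hg h0
  obtain ⟨T, -, hT, hex⟩ := exists_trQ hg hg1
  haveI : Module.Finite ℤ (EndAV.End A) := moduleFinite_hom
  haveI : Module.Finite ℚ (EndAV.End0 A) := Module.Finite.base_change ℤ ℚ (EndAV.End A)
  let T0 : EndAV.End0 A →ₗ[ℚ] ℚ := LinearMap.liftBaseChange ℚ T.toIntLinearMap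
  have hT0 : ∀ (c : ℚ) (φ : EndAV.End A), T0 (c ⊗ₜ[ℤ] φ) = c * T φ := fun c φ => by
    rw [LinearMap.liftBaseChange_tmul, smul_eq_mul]; rfl
  let R := EndAV.QAdj α
  haveI : Module.Finite ℚ R := Module.Finite.of_injective R.val.toLinearMap Subtype.val_injective
  letI : CommRing R :=
    { (inferInstance : Ring R) with
      mul_comm := fun x y => by
        obtain ⟨c, z, hz, hx⟩ := exists_den x.2
        obtain ⟨d, w, hw, hy⟩ := exists_den y.2
        refine Subtype.ext ?_
        show (x : EndAV.End0 A) * y = y * x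
        rw [hx, hy, Algebra.TensorProduct.tmul_mul_tmul, Algebra.TensorProduct.tmul_mul_tmul,
          (commute_of_mem_closure hz hw).eq, _root_.mul_comm c d] }
  let a : R := ⟨EndAV.toEnd0 α, Algebra.self_mem_adjoin_singleton _ _⟩
  have hsq : ∀ x : R, ∃ (c : ℚ) (z : EndAV.End A), z ∈ Subring.closure ({α} : Set (EndAV.End A)) ∧
      (x : EndAV.End0 A) = c ⊗ₜ[ℤ] z := fun x => exists_den x.2
  obtain ⟨n, y, hy⟩ := SumSquares.exists_sum_sq (F := R) a (T0 ∘ₗ R.val.toLinearMap) (fun x hx => by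
    obtain ⟨c, z, hz, hxz⟩ := hsq x
    show 0 < T0 ((x : EndAV.End0 A) * x)
    rw [hxz, Algebra.TensorProduct.tmul_mul_tmul, hT0]
    have hc : c ≠ 0 := fun h => hx (Subtype.ext (by rw [hxz, h, TensorProduct.zero_tmul]; rfl))
    have hz0 : z ≠ 0 := fun h => hx (Subtype.ext (by rw [hxz, h, TensorProduct.tmul_zero]; rfl))
    exact mul_pos (mul_self_pos.2 hc) (trQ_adj_pos hg hg1 hL T hT hex (adj_of_mem_closure hα hz) hz0))
    (fun x => by
      obtain ⟨c, z, hz, hxz⟩ := hsq x
      show 0 ≤ T0 (EndAV.toEnd0 α * ((x : EndAV.End0 A) * x))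
      rw [hxz, EndAV.toEnd0_apply, Algebra.TensorProduct.tmul_mul_tmul, Algebra.TensorProduct.tmul_mul_tmul, hT0,
        _root_.one_mul, ← _root_.mul_assoc α, (commute_of_mem_closure (Subring.subset_closure rfl) hz).eq]
      exact mul_nonneg (mul_self_nonneg c) (trQ_conj_nonneg hg hg1 hL T hT hex hm hv hrel (adj_of_mem_closure hα hz)))
  refine ⟨n, fun i => (y i : EndAV.End0 A), fun i => (y i).2, ?_⟩
  have := congrArg R.val hy
  rw [map_sum] at this
  exact this.trans (Finset.sum_congr rfl fun i _ => map_pow R.val (y i) 2)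

/-- A sum of squares in the algebra generated by an endomorphism, with integral entries. -/
theorem exists_int_squares {α : EndAV.End A} {n : ℕ} {y : Fin n → EndAV.End0 A} (hy : ∀ i, y i ∈ EndAV.QAdj α)
    (h : EndAV.toEnd0 α = ∑ i, y i ^ 2) :
    ∃ (N : ℕ) (z : Fin n → EndAV.End A), 0 < N ∧ (∀ i, z i ∈ Subring.closure ({α} : Set (EndAV.End A))) ∧
      N • α = ∑ i, z i * z i := by
  choose c w hw hyw using fun i => exists_den (hy i)
  let D : ℕ := ∏ i, (c i).den
  have hD : 0 < D := Finset.prod_pos fun i _ => (c i).den_pos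
  have he : ∀ i, ∃ e : ℤ, (D : ℚ) * c i = e := fun i => by
    obtain ⟨r, hr⟩ := Finset.dvd_prod_of_mem (fun i => (c i).den) (Finset.mem_univ i)
    refine ⟨r * (c i).num, ?_⟩
    rw [show D = (c i).den * r from hr]
    push_cast
    rw [← Rat.mul_den_eq_num (c i)]
    ring
  choose e he using he
  refine ⟨D * D, fun i => e i • w i, Nat.mul_pos hD hD, fun i => zsmul_mem (hw i) _, toEnd0_injective ?_⟩
  rw [map_nsmul, map_sum, h, Finset.smul_sum]
  refine Finset.sum_congr rfl fun i _ => ?_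
  rw [sq, hyw, EndAV.toEnd0_apply, Algebra.TensorProduct.tmul_mul_tmul, smul_mul_smul_comm, ← TensorProduct.smul_tmul,
    TensorProduct.smul_tmul']
  congr 1
  rw [nsmul_eq_mul, zsmul_eq_mul, _root_.mul_one]
  push_cast
  rw [← he i]
  ring

/-- Positive classes attached to squares. -/
theorem exists_posCls_sum {ι₀ : Type*} (s : Finset ι₀) (z : ι₀ → EndAV.End A)
    (hz : ∀ i ∈ s, Adj (pc L hL.1) (z i) (z i)) (hne : ∑ i ∈ s, z i * z i ≠ 0) :
    ∃ (m : ℕ) (v : PC A.left), 1 ≤ m ∧ IsPosCls v ∧ ∀ x : 𝟙_ _ ⟶ A, th v (𝟙 A) (toUnit A ≫ x) =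
      th (pc L hL.1) (𝟙 A) (toUnit A ≫ x ≫ (∑ i ∈ s, z i * z i).toHom ^ m) := by
  classical
  haveI : IsIntegral A.left := GeometricallyIntegral.isIntegral_of_subsingleton A.hom
  induction s using Finset.induction_on with
  | empty => exact absurd Finset.sum_empty hne
  | insert i s hi ih =>
    rw [Finset.sum_insert hi] at hne ⊢
    by_cases h1 : z i = 0
    · rw [h1, mul_zero, zero_add] at hne ⊢
      exact ih (fun j hj => hz j (Finset.mem_insert_of_mem hj)) hne
    obtain ⟨m, v, hm, hv, hrel⟩ := exists_posCls_adj hL (hz i (Finset.mem_insert_self i s)) h1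
    by_cases h2 : ∑ j ∈ s, z j * z j = 0
    · rw [h2, add_zero]; exact ⟨m, v, hm, hv, hrel⟩
    obtain ⟨m', v', hm', hv', hrel'⟩ := ih (fun j hj => hz j (Finset.mem_insert_of_mem hj)) h2
    have hsmul : ∀ (n : ℕ) (w : PC A.left), 1 ≤ n → IsPosCls w → IsPosCls (n • w) := by
      intro n w hn hw
      induction n, hn using Nat.le_induction with
      | base => rwa [one_nsmul]
      | succ n _ ih => rw [succ_nsmul]; exact ih.add hw
    refine ⟨m * m', m' • v + m • v', Nat.one_le_iff_ne_zero.2 (Nat.mul_ne_zero (by omega) (by omega)),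
      (hsmul _ _ hm' hv).add (hsmul _ _ hm hv'), fun x => ?_⟩
    have e : ∀ p q : A ⟶ A, th (m' • v + m • v') p q = m' • th v p q + m • th v' p q := by
      intro p q
      simp only [th, ev, map_add, map_nsmul, smul_sub]
      abel
    rw [e, hrel, hrel', EndAV.End.toHom_add, _root_.mul_pow, MonObj.comp_mul, MonObj.comp_mul, th_mul_right]
    simp only [MonObj.comp_pow, th_comm (pc L hL.1) (𝟙 A), th_pow_left, ← mul_smul]
    rw [_root_.mul_comm m' m]

/-- A positive class gives the relations defining positivity. -/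
theorem exists_of_posCls {v : PC A.left} (hv : IsPosCls v) {m : ℕ} (f : A ⟶ A)
    (hrel : ∀ x : 𝟙_ _ ⟶ A, th v (𝟙 A) (toUnit A ≫ x) = th (pc L hL.1) (𝟙 A) (toUnit A ≫ x ≫ f ^ m)) :
    ∃ (M : A.left.Modules) (s : Coh.structureModule A.left ⟶ M), PicF.IsInvertible M ∧ s ≠ 0 ∧ ¬ IsIso s ∧
      ∀ x : 𝟙_ _ ⟶ A, Nonempty (CohB1.tensorMod ((Scheme.Modules.pullback ((𝟙 A * (toUnit A ≫ x))).left).obj M)
        (CohB1.tensorPow L m) ≅ CohB1.tensorMod M ((Scheme.Modules.pullback
          ((𝟙 A * (toUnit A ≫ x ≫ f))).left).obj (CohB1.tensorPow L m))) := by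
  obtain ⟨M, hM, t, rfl, hne, hnt⟩ := hv
  refine ⟨M, H11Tilde.homOfGlobal M t, hM, fun h0 => IsPosCls.ne_zero t hne ?_, fun hiso => hnt ?_, fun x => ?_⟩
  · rw [← H11Ample.val_homOfGlobal t, h0]; rfl
  · refine top_le_iff.1 (le_sSup (show IsIso ((Scheme.Modules.restrictFunctor (⊤ : A.left.Opens).ι).map _) by
      haveI := hiso
      infer_instance))
  obtain ⟨hLm, em⟩ := exists_pc_tensorPow hL.1 m
  have h1 := H11Ample.isInvertible_pullback (𝟙 A * (toUnit A ≫ x)).left hM
  have h2 := H11Ample.isInvertible_pullback (𝟙 A * (toUnit A ≫ x ≫ f)).left hLm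
  refine (pc_eq_iff (H11Ample.isInvertible_tensor h1 hLm) (H11Ample.isInvertible_tensor hM h2)).1 ?_
  rw [pc_tensor h1 hLm _, pc_tensor hM h2 _, pullP_pc _ M hM h1, pullP_pc _ _ hLm h2, em, map_nsmul]
  show ev _ _ + m • _ = _ + m • ev _ _
  have e := hrel x
  rw [MonObj.comp_pow, MonObj.comp_pow, th_comm (pc L hL.1), th_pow_left, th_comm (pc L hL.1), th, th,
    show ev (pc M hM) (𝟙 A) = pc M hM from pullP_id _, show ev (pc L hL.1) (𝟙 A) = pc L hL.1 from pullP_id _,
    ev_const, ev_const, nsmul_sub, nsmul_sub, smul_zero] at e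
  linear_combination (norm := abel) e

end Groth.Agent.H25AbCube
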