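import Groth.Agent.H25AbCube.FrobPoints
import Groth.Agent.H25AbCube.PositiveSquares
import Groth.Agent.S15657

/-!
# Endomorphisms multiplying a polarization by `q` have eigenvalues of absolute value `√q`
-/

set_option autoImplicit false
set_option linter.style.haveILetI false
set_option linter.unusedSectionVars false
set_option backward.isDefEq.respectTransparency false
set_option synthInstance.maxHeartbeats 400000
set_option maxHeartbeats 1000000
universe u

open CategoryTheory CategoryTheory.Limits MonoidalCategory CartesianMonoidalCategory MonObj GrpObj AlgebraicGeometry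
open Groth.Agent
open scoped TensorProduct

noncomputable section

namespace Groth.Agent.H25AbCube.FrobWeil

/-- A quadratic over the reals without distinct real roots has roots of the same absolute value. -/
theorem normSq_root {w : ℂ} {r q : ℝ} (hr : r ^ 2 ≤ 4 * q) (h : w * w - r * w + q = 0) : Complex.normSq w = q := by
  have h1 := congrArg Complex.re h
  have h2 := congrArg Complex.im h
  simp at h1 h2
  rw [Complex.normSq_apply]
  rcases eq_or_ne w.im 0 with hi | hi
  · rw [hi] at h1 ⊢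
    nlinarith [sq_nonneg (w.re - r / 2), mul_self_nonneg (r - 2 * w.re)]
  · have : w.re * 2 = r := mul_right_cancel₀ hi (by linarith)
    subst this
    linarith [mul_self_nonneg w.re]

section Field

variable {k : Type u} [Field k] [IsAlgClosed k] {A : Over (Spec (CommRingCat.of k))} [GrpObj A] [IsProper A.hom]
  [GeometricallyIntegral A.hom] [IsCommMonObj A]

open Polynomial

/-- A positive element of the algebra of a symmetric endomorphism is killed by an integral polynomial
with nonnegative real roots only. -/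
theorem exists_poly_roots {g : ℕ} (hg : topologicalKrullDim A.left = g) (hg1 : 1 ≤ g) {L : A.left.Modules}
    (hL : CohB1.IsAmple L) (T : EndAV.End A →+ ℚ)
    (hT : ∀ (α : EndAV.End A) (P : ℚ[X]),
      (∀ j : ℤ, (degree (α + (j : EndAV.End A)).toHom : ℚ) = P.eval (j : ℚ)) → P.coeff (2 * g - 1) = T α)
    (hex : ∀ α : EndAV.End A, ∃ P : ℚ[X], ∀ j : ℤ, (degree (α + (j : EndAV.End A)).toHom : ℚ) = P.eval (j : ℚ))
    {S t : EndAV.End A} (hS : Adj (pc L hL.1) S S) (ht : t ∈ Subring.closure ({S} : Set (EndAV.End A)))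
    (hnn : ∀ z ∈ Subring.closure ({S} : Set (EndAV.End A)), 0 ≤ T (t * (z * z))) :
    ∃ m : ℤ[X], m ≠ 0 ∧ aeval t m = 0 ∧ ∀ w : ℂ, aeval w m = 0 → w.im = 0 ∧ 0 ≤ w.re := by
  classical
  haveI : Module.Finite ℤ (EndAV.End A) := moduleFinite_hom
  haveI : Module.Finite ℚ (EndAV.End0 A) := Module.Finite.base_change ℤ ℚ (EndAV.End A)
  let T0 : EndAV.End0 A →ₗ[ℚ] ℚ := LinearMap.liftBaseChange ℚ T.toIntLinearMap
  have hT0 : ∀ (c : ℚ) (φ : EndAV.End A), T0 (c ⊗ₜ[ℤ] φ) = c * T φ := fun c φ => by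
    rw [LinearMap.liftBaseChange_tmul, smul_eq_mul]; rfl
  let R := EndAV.QAdj S
  haveI : Module.Finite ℚ R := Module.Finite.of_injective R.val.toLinearMap Subtype.val_injective
  letI : CommRing R :=
    { (inferInstance : Ring R) with
      mul_comm := fun x y => by
        obtain ⟨c, z, hz, hx⟩ := exists_den x.2
        obtain ⟨d, w, hw, hy⟩ := exists_den y.2
        refine Subtype.ext ?_
        show (x : EndAV.End0 A) * y = y * x
        rw [hx, hy, Algebra.TensorProduct.tmul_mul_tmul, Algebra.TensorProduct.tmul_mul_tmul,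
          (commute_of_mem_closure hz hw).eq, _root_.mul_comm c d] }
  have hmem : EndAV.toEnd0 t ∈ R := by
    have h : Subring.closure ({S} : Set (EndAV.End A)) ≤ R.toSubring.comap (EndAV.toEnd0 (A := A)).toRingHom :=
      Subring.closure_le.2 fun z hz => by
        rw [Set.mem_singleton_iff.1 hz]
        exact Algebra.self_mem_adjoin_singleton _ _
    exact h ht
  let a : R := ⟨EndAV.toEnd0 t, hmem⟩
  obtain ⟨lam, hlinj, hlam, hroot⟩ := SumSquares.exists_roots (F := R) a (T0 ∘ₗ R.val.toLinearMap) (fun x hx => by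
    obtain ⟨c, z, hz, hxz⟩ := exists_den x.2
    show 0 < T0 ((x : EndAV.End0 A) * x)
    rw [hxz, Algebra.TensorProduct.tmul_mul_tmul, hT0]
    have hc : c ≠ 0 := fun h => hx (Subtype.ext (by rw [hxz, h, TensorProduct.zero_tmul]; rfl))
    have hz0 : z ≠ 0 := fun h => hx (Subtype.ext (by rw [hxz, h, TensorProduct.tmul_zero]; rfl))
    exact mul_pos (mul_self_pos.2 hc) (trQ_adj_pos hg hg1 hL T hT hex (adj_of_mem_closure hS hz) hz0))
    (fun x => by
      obtain ⟨c, z, hz, hxz⟩ := exists_den x.2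
      show 0 ≤ T0 (EndAV.toEnd0 t * ((x : EndAV.End0 A) * x))
      rw [hxz, EndAV.toEnd0_apply, Algebra.TensorProduct.tmul_mul_tmul, Algebra.TensorProduct.tmul_mul_tmul, hT0,
        _root_.one_mul]
      exact mul_nonneg (mul_self_nonneg c) (hnn z hz))
  have hmq0 : (minpoly ℚ a) ≠ 0 := minpoly.ne_zero (Algebra.IsIntegral.isIntegral a)
  let m : ℤ[X] := IsLocalization.integerNormalization (nonZeroDivisors ℤ) (minpoly ℚ a)
  obtain ⟨⟨b, hb⟩, hbm⟩ := IsLocalization.integerNormalization_map_to_map (nonZeroDivisors ℤ) (minpoly ℚ a)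
  refine ⟨m, fun h => hmq0 ((IsFractionRing.integerNormalization_eq_zero_iff (A := ℤ) (K := ℚ)).1 h), ?_, fun w hw => ?_⟩
  · apply toEnd0_injective
    have h0 := congrArg R.val (minpoly.aeval ℚ a)
    rw [← aeval_algHom_apply, map_zero] at h0
    change aeval (EndAV.toEnd0 t) (minpoly ℚ a) = 0 at h0
    rw [map_zero, ← aeval_algHom_apply, ← aeval_map_algebraMap ℚ (EndAV.toEnd0 t) m]
    change aeval _ ((IsLocalization.integerNormalization (nonZeroDivisors ℤ) (minpoly ℚ a)).map (algebraMap ℤ ℚ)) = 0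
    rw [hbm, map_zsmul, h0, smul_zero]
  · have hw' : aeval w (minpoly ℚ a) = 0 := by
      have h1 : aeval w (m.map (algebraMap ℤ ℚ)) = 0 := by rw [aeval_map_algebraMap]; exact hw
      change aeval w ((IsLocalization.integerNormalization (nonZeroDivisors ℤ) (minpoly ℚ a)).map (algebraMap ℤ ℚ)) = 0 at h1
      rw [hbm, map_zsmul, smul_eq_zero] at h1
      exact h1.resolve_left (nonZeroDivisors.ne_zero hb)
    have hsub : (Finset.univ.image fun i => (lam i : ℂ)) ⊆ ((minpoly ℚ a).aroots ℂ).toFinset := by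
      intro y hy
      obtain ⟨i, -, rfl⟩ := Finset.mem_image.1 hy
      rw [Multiset.mem_toFinset, Polynomial.mem_aroots]
      refine ⟨hmq0, ?_⟩
      rw [show (lam i : ℂ) = algebraMap ℝ ℂ (lam i) from rfl, aeval_algebraMap_apply, hroot i, map_zero]
    have heq := Finset.eq_of_subset_of_card_le hsub (by
      rw [Finset.card_image_of_injective _ (fun i j h => hlinj (Complex.ofReal_injective h)), Finset.card_univ,
        Fintype.card_fin]
      exact (Multiset.toFinset_card_le _).trans ((card_roots' _).trans natDegree_map_le))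
    have : w ∈ Finset.univ.image fun i => (lam i : ℂ) := by
      rw [heq, Multiset.mem_toFinset, Polynomial.mem_aroots]
      exact ⟨hmq0, hw'⟩
    obtain ⟨i, -, rfl⟩ := Finset.mem_image.1 this
    exact ⟨Complex.ofReal_im _, by rw [Complex.ofReal_re]; exact hlam i⟩

/-- A relation `m(t) = 0` with `t πᵏ = Y(π)` passes to the eigenvalues of `π`. -/
theorem aeval_div_eq_zero (l : ℕ) [Fact l.Prime] {J : Type} [Fintype J] [DecidableEq J]
    (b : Module.Basis J ℤ_[l] (AbDual.TateMod A l (pt1 k))) {φ : EndAV.End A} {P0 : ℤ[X]} (hP0 : P0.Monic)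
    [Module.Free ℤ_[l] (AbDual.TateMod A l (pt1 k))] [Module.Finite ℤ_[l] (AbDual.TateMod A l (pt1 k))]
    (hP : (trep l φ).charpoly = P0.map (Int.castRingHom ℤ_[l]))
    {t : EndAV.End A} (n : ℕ) (hn : 0 < n) (Y : ℤ[X]) (hY0 : Y.eval 0 ≠ 0) (hY : t * φ ^ n = aeval φ Y)
    (hcomm : Commute t φ) {m : ℤ[X]} (hm : m ≠ 0) (ht : aeval t m = 0) {w : ℂ}
    (hw : w ∈ (P0.map (Int.castRingHom ℂ)).roots) :
    w ≠ 0 ∧ aeval (aeval w Y / w ^ n) m = 0 := by
  classical
  let d := m.natDegree
  let G : ℤ[X] := ∑ i ∈ Finset.range (d + 1), C (m.coeff i) * Y ^ i * X ^ (n * (d - i))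
  have hG : aeval φ G = 0 := by
    have h1 : ∀ i ∈ Finset.range (d + 1), aeval φ (C (m.coeff i) * Y ^ i * X ^ (n * (d - i))) =
        (m.coeff i • t ^ i) * φ ^ (n * d) := by
      intro i hi
      have hid : i ≤ d := Nat.lt_succ_iff.1 (Finset.mem_range.1 hi)
      rw [map_mul, map_mul, aeval_C, map_pow, map_pow, aeval_X, ← hY, (hcomm.pow_right n).mul_pow, ← pow_mul,
        ← Algebra.smul_def, smul_mul_assoc, smul_mul_assoc, _root_.mul_assoc, ← pow_add, ← Nat.mul_add,
        Nat.add_sub_cancel' hid]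
    rw [map_sum, Finset.sum_congr rfl h1, ← Finset.sum_mul, ← aeval_eq_sum_range, ht, zero_mul]
  have hG0 : aeval w G = 0 := by
    have hr := Groth.Agent.S15657.roots_of_tate b hP0 (monic_X_pow (Fintype.card J)) G (trep l) φ hP (by
      rw [hG, map_zero, LinearMap.charpoly_zero, Polynomial.map_pow, map_X, Module.finrank_eq_card_basis b]) ℂ
    have : aeval w G ∈ ((X ^ Fintype.card J : ℤ[X]).map (Int.castRingHom ℂ)).roots := by
      rw [hr]; exact Multiset.mem_map_of_mem _ hw
    rw [Polynomial.map_pow, map_X, roots_X_pow, Multiset.mem_nsmul, Multiset.mem_singleton] at this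
    exact this.2
  have hsum : aeval w G = ∑ i ∈ Finset.range (d + 1), (m.coeff i : ℂ) * aeval w Y ^ i * w ^ (n * (d - i)) := by
    rw [map_sum]
    refine Finset.sum_congr rfl fun i _ => ?_
    rw [map_mul, map_mul, aeval_C, map_pow, map_pow, aeval_X, eq_intCast]
  have hw0 : w ≠ 0 := by
    intro h
    rw [hsum, Finset.sum_range_succ, Finset.sum_eq_zero (fun i hi => by
      have := Finset.mem_range.1 hi
      rw [h, zero_pow (Nat.mul_ne_zero hn.ne' (by omega)), MulZeroClass.mul_zero]), zero_add, Nat.sub_self,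
      Nat.mul_zero, pow_zero, _root_.mul_one, mul_eq_zero] at hG0
    rcases hG0 with h1 | h1
    · exact hm (leadingCoeff_eq_zero.1 (by exact_mod_cast h1))
    · refine hY0 ?_
      have h2 := pow_eq_zero_iff' |>.1 h1
      have h3 : aeval (algebraMap ℤ ℂ 0) Y = 0 := by rw [map_zero]; exact h ▸ h2.1
      rw [aeval_algebraMap_apply] at h3
      simpa [coe_aeval_eq_eval] using h3
  refine ⟨hw0, ?_⟩
  have h1 : aeval (aeval w Y / w ^ n) m * w ^ (n * d) = aeval w G := by
    rw [hsum, aeval_eq_sum_range, Finset.sum_mul]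
    refine Finset.sum_congr rfl fun i hi => ?_
    have hid : i ≤ d := Nat.lt_succ_iff.1 (Finset.mem_range.1 hi)
    rw [zsmul_eq_mul, div_pow, ← pow_mul, show n * d = n * i + n * (d - i) by rw [← Nat.mul_add, Nat.add_sub_cancel' hid],
      pow_add]
    field_simp
  rw [hG0] at h1
  exact (mul_eq_zero.1 h1).resolve_right (pow_ne_zero _ hw0)

/-- The eigenvalues of an endomorphism multiplying an ample class by `q` have absolute value `√q`. -/
theorem normSq_eq {g : ℕ} (hg : topologicalKrullDim A.left = g) (hg1 : 1 ≤ g) {L : A.left.Modules}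
    (hL : CohB1.IsAmple L) (φ : EndAV.End A) [IsFinite φ.toHom.left] {q : ℕ} (hq : 0 < q)
    (hφ : ev (pc L hL.1) φ.toHom = q • pc L hL.1)
    (l : ℕ) [Fact l.Prime] [Module.Free ℤ_[l] (AbDual.TateMod A l (pt1 k))]
    [Module.Finite ℤ_[l] (AbDual.TateMod A l (pt1 k))]
    {J : Type} [Fintype J] [DecidableEq J] (b : Module.Basis J ℤ_[l] (AbDual.TateMod A l (pt1 k)))
    {P0 : ℤ[X]} (hP0 : P0.Monic) (hP : (trep l φ).charpoly = P0.map (Int.castRingHom ℤ_[l]))
    {w : ℂ} (hw : w ∈ (P0.map (Int.castRingHom ℂ)).roots) : Complex.normSq w = q := by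
  classical
  set ℓ := pc L hL.1
  have hthφ : ∀ {S : Over (Spec (CommRingCat.of k))} (x y : S ⟶ A),
      th ℓ (x ≫ φ.toHom) (y ≫ φ.toHom) = q • th ℓ x y := fun x y => by
    rw [th, ← MonObj.mul_comp, ← ev_comp, ← ev_comp, ← ev_comp, hφ]
    simp only [th, ev, map_nsmul, smul_sub]
  obtain ⟨c, δ, hc, hφδ, hδφ⟩ := exists_mul_eq φ
  set C : ℤ := (q : ℤ) * c ^ 2 with hC
  let aE : EndAV.End A := c • φ
  let bE : EndAV.End A := (q : ℤ) • δ
  have hab : aE * bE = (C : EndAV.End A) := by
    show (c • φ) * ((q : ℤ) • δ) = _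
    rw [smul_mul_assoc, mul_smul_comm, smul_smul, hφδ, zsmul_eq_mul, ← Int.cast_mul, hC]
    congr 1
    ring
  have hba : bE * aE = (C : EndAV.End A) := by
    show ((q : ℤ) • δ) * (c • φ) = _
    rw [smul_mul_assoc, mul_smul_comm, smul_smul, hδφ, zsmul_eq_mul, ← Int.cast_mul, hC]
    congr 1
    ring
  have hadj : Adj ℓ aE bE := Adj.of_forall fun x y => by
    have e : y ^ c = (y ≫ δ.toHom) ≫ φ.toHom := by
      rw [Category.assoc, ← EndAV.End.toHom_mul, hφδ, EndAV.End.toHom_intCast, GrpObj.comp_zpow, Category.comp_id]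
    rw [EndAV.End.toHom_zsmul, EndAV.End.toHom_zsmul, GrpObj.comp_zpow, GrpObj.comp_zpow, th_zpow_left, th_comm ℓ x,
      th_zpow_left, th_comm ℓ _ x, natCast_zsmul, ← hthφ, ← e, th_comm ℓ _ (y ^ c), th_zpow_left, th_comm]
  let S := aE + bE
  let D := aE - bE
  have hS : Adj ℓ S S := by
    have := hadj.add hadj.symm
    rwa [add_comm bE aE] at this
  have hD : Adj ℓ D (-D) := by
    have := hadj.add hadj.symm.neg
    rwa [← sub_eq_add_neg, ← sub_eq_add_neg, ← neg_sub aE bE] at this
  have hScomm : ∀ z ∈ Subring.closure ({S} : Set (EndAV.End A)), Commute aE z ∧ Commute bE z := by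
    intro z hz
    have key : ∀ x : EndAV.End A, Commute x S → Commute x z := by
      intro x hx
      have h : Subring.closure ({S} : Set (EndAV.End A)) ≤ Subring.centralizer {x} := Subring.closure_le.2 fun y hy => by
        rw [Set.mem_singleton_iff.1 hy]
        exact Subring.mem_centralizer_iff.2 fun v hv => by rw [Set.mem_singleton_iff.1 hv]; exact hx.eq
      exact Subring.mem_centralizer_iff.1 (h hz) x rfl
    exact ⟨key _ ((Commute.refl _).add_right (hab.trans hba.symm)),
      key _ (Commute.add_right (hba.trans hab.symm) (Commute.refl _))⟩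
  obtain ⟨T, -, hT, hex⟩ := exists_trQ (A := A) hg hg1
  have hSS : S * S = (4 * C : ℤ) - -D * D := by
    simp only [S, D, neg_mul, sub_neg_eq_add, mul_add, add_mul, mul_sub, sub_mul, hab, hba]
    push_cast
    noncomm_ring
  let t₁ : EndAV.End A := S + (C + 1 : ℤ)
  let t₂ : EndAV.End A := (4 * C : ℤ) - S * S
  have hSmem : S ∈ Subring.closure ({S} : Set (EndAV.End A)) := Subring.subset_closure rfl
  have h₂nn : ∀ z ∈ Subring.closure ({S} : Set (EndAV.End A)), 0 ≤ T (t₂ * (z * z)) := by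
    intro z hz
    have hz' := adj_of_mem_closure hS hz
    have h := trQ_adj_nonneg hg hg1 hL T hT hex (hD.mul hz')
    convert h using 2
    have hDz : Commute D z := (hScomm z hz).1.sub_left (hScomm z hz).2
    have hc2 : Commute z (-D * D) := hDz.symm.neg_right.mul_right hDz.symm
    rw [show t₂ = -D * D by simp only [t₂, hSS]; abel, show z * -D * (D * z) = z * (-D * D) * z by
      simp only [_root_.mul_assoc], hc2.eq, _root_.mul_assoc (-D * D)]
  have h₁nn : ∀ z ∈ Subring.closure ({S} : Set (EndAV.End A)), 0 ≤ T (t₁ * (z * z)) := by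
    intro z hz
    have hz' := adj_of_mem_closure hS hz
    let V : EndAV.End A := S + (2 : ℤ)
    have hV : V ∈ Subring.closure ({S} : Set (EndAV.End A)) := add_mem hSmem (intCast_mem _ _)
    have h := trQ_adj_nonneg hg hg1 hL T hT hex ((adj_of_mem_closure hS hV).mul hz')
    have e : (4 : ℤ) • (t₁ * (z * z)) = z * V * (V * z) + t₂ * (z * z) := by
      rw [← _root_.mul_assoc (z * V), _root_.mul_assoc z V V,
        (commute_of_mem_closure hz (mul_mem hV hV)).eq, _root_.mul_assoc, ← add_mul, ← smul_mul_assoc]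
      congr 1
      simp only [t₁, t₂, V]
      push_cast
      noncomm_ring
      norm_num
    have h4 := congrArg T e
    rw [map_zsmul, map_add, zsmul_eq_mul] at h4
    have := h₂nn z hz
    push_cast at h4
    linarith
  obtain ⟨m₁, hm₁, hm₁t, hm₁r⟩ := exists_poly_roots hg hg1 hL T hT hex hS
    (add_mem hSmem (intCast_mem _ _)) h₁nn
  obtain ⟨m₂, hm₂, hm₂t, hm₂r⟩ := exists_poly_roots hg hg1 hL T hT hex hS
    (sub_mem (intCast_mem _ _) (mul_mem hSmem hSmem)) h₂nn
  have hSφ : S * φ = (c : EndAV.End A) * φ ^ 2 + ((q : ℤ) * c : ℤ) := by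
    show ((c • φ) + (q : ℤ) • δ) * φ = _
    rw [add_mul, smul_mul_assoc, smul_mul_assoc, hδφ, pow_two, zsmul_eq_mul, zsmul_eq_mul, ← Int.cast_mul]
  have hφS : φ * S = (c : EndAV.End A) * φ ^ 2 + ((q : ℤ) * c : ℤ) := by
    show φ * ((c • φ) + (q : ℤ) • δ) = _
    rw [mul_add, mul_smul_comm, mul_smul_comm, hφδ, pow_two, zsmul_eq_mul, zsmul_eq_mul, ← Int.cast_mul]
  have hcomm : Commute S φ := hSφ.trans hφS.symm
  let Y₁ : ℤ[X] := Polynomial.C c * X ^ 2 + Polynomial.C (C + 1) * X + Polynomial.C ((q : ℤ) * c)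
  let Y₂ : ℤ[X] := Polynomial.C (4 * C) * X ^ 2 - (Polynomial.C c * X ^ 2 + Polynomial.C ((q : ℤ) * c)) ^ 2
  obtain ⟨hw0, h1⟩ := aeval_div_eq_zero l b hP0 hP 1 one_pos Y₁ (by
      simp only [Y₁, eval_add, eval_mul, eval_C, eval_pow, eval_X]
      simpa using mul_ne_zero (Int.natCast_ne_zero.2 hq.ne') hc) (t := t₁) (by
      simp only [t₁, Y₁, map_add, map_mul, map_pow, aeval_X, map_intCast, eq_intCast, pow_one, add_mul]
      rw [hSφ]
      push_cast
      rw [add_mul, _root_.one_mul]
      abel) (hcomm.add_left (Int.cast_commute _ _)) hm₁ hm₁t hw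
  obtain ⟨-, h2⟩ := aeval_div_eq_zero l b hP0 hP 2 two_pos Y₂ (by
      simp only [Y₂, eval_sub, eval_add, eval_mul, eval_C, eval_pow, eval_X]
      simpa using mul_ne_zero (Int.natCast_ne_zero.2 hq.ne') hc) (t := t₂) (by
      simp only [t₂, Y₂, map_sub, map_add, map_mul, map_pow, aeval_X, map_intCast, eq_intCast,
        sub_mul]
      have hSφ' := hSφ
      push_cast at hSφ' ⊢
      rw [← hSφ', hcomm.mul_pow, pow_two S]) ((Int.cast_commute _ _).sub_left (hcomm.mul_left hcomm)) hm₂ hm₂t hw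
  obtain ⟨h1i, -⟩ := hm₁r _ h1
  obtain ⟨-, h2r⟩ := hm₂r _ h2
  have hcR : (c : ℝ) ≠ 0 := Int.cast_ne_zero.2 hc
  set μ' : ℂ := (c : ℂ) * (w + (q : ℂ) / w) with hμ
  have e1 : aeval w Y₁ / w ^ 1 = μ' + ((C + 1 : ℤ) : ℂ) := by
    simp only [Y₁, map_add, map_mul, map_pow, aeval_X, map_intCast, eq_intCast, hμ]
    push_cast
    field_simp
    ring
  have e2 : aeval w Y₂ / w ^ 2 = ((4 * C : ℤ) : ℂ) - μ' ^ 2 := by
    simp only [Y₂, map_sub, map_add, map_mul, map_pow, aeval_X, map_intCast, eq_intCast, hμ]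
    push_cast
    field_simp
  have hμi : μ'.im = 0 := by
    rw [e1, Complex.add_im, Complex.intCast_im, add_zero] at h1i
    exact h1i
  have hμr : μ' = (μ'.re : ℂ) := Complex.ext (Complex.ofReal_re _).symm (by rw [hμi, Complex.ofReal_im])
  have hle : μ'.re ^ 2 ≤ 4 * ((q : ℝ) * c ^ 2) := by
    rw [e2, hμr, ← Complex.ofReal_pow, Complex.sub_re, Complex.intCast_re, Complex.ofReal_re, hC] at h2r
    push_cast at h2r
    linarith
  refine normSq_root (r := μ'.re / c) ?_ ?_
  · rw [div_pow, div_le_iff₀ (by positivity)]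
    linarith
  · push_cast
    rw [← hμr, hμ]
    have hcC : (c : ℂ) ≠ 0 := Int.cast_ne_zero.2 hc
    field_simp
    ring

end Field

end Groth.Agent.H25AbCube.FrobWeil
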