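import Mathlib.AlgebraicGeometry.Sites.Fpqc
import Mathlib.AlgebraicGeometry.AlgClosed.Basic
import Mathlib.AlgebraicGeometry.Morphisms.Finite
import Mathlib.RingTheory.Jacobson.Ring
import Mathlib.Algebra.Polynomial.Eval.Coeff

/-!
# Descent of functions along faithfully flat morphisms
-/

set_option autoImplicit false
set_option linter.style.haveILetI false
set_option backward.isDefEq.respectTransparency false
universe u

open CategoryTheory CategoryTheory.Limits AlgebraicGeometry TopologicalSpace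

noncomputable section

namespace Groth.Agent.H25AbCube

/-- The morphism to the affine line given by a function. -/
def toLine {X : Scheme.{u}} (f : Γ(X, ⊤)) : X ⟶ Spec (CommRingCat.of (ULift.{u} (Polynomial ℤ))) :=
  X.toSpecΓ ≫ Spec.map (CommRingCat.ofHom
    ((Polynomial.eval₂RingHom (Int.castRingHom _) f).comp ULift.ringEquiv.toRingHom))

/-- The function of a morphism to the affine line. -/
def ofLine {X : Scheme.{u}} (m : X ⟶ Spec (CommRingCat.of (ULift.{u} (Polynomial ℤ)))) : Γ(X, ⊤) :=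
  m.appTop ((Scheme.ΓSpecIso _).inv ⟨Polynomial.X⟩)

theorem ofLine_comp {X Y : Scheme.{u}} (g : X ⟶ Y) (m : Y ⟶ Spec (CommRingCat.of (ULift.{u} (Polynomial ℤ)))) :
    ofLine (g ≫ m) = g.appTop (ofLine m) := by
  rw [ofLine, Scheme.Hom.comp_appTop]
  rfl

theorem ofLine_toLine {X : Scheme.{u}} (f : Γ(X, ⊤)) : ofLine (toLine f) = f := by
  have h : ∀ {R : CommRingCat.{u}} (φ : R ⟶ Γ(X, ⊤)) (r : R),
      (X.toSpecΓ ≫ Spec.map φ).appTop ((Scheme.ΓSpecIso R).inv r) = φ r := by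
    intro R φ r
    have h1 : (Scheme.ΓSpecIso R).inv ≫ (X.toSpecΓ ≫ Spec.map φ).appTop = φ := by
      rw [Scheme.Hom.comp_appTop, Scheme.toSpecΓ_appTop, ← Category.assoc,
        ← Scheme.ΓSpecIso_inv_naturality, Category.assoc, Iso.inv_hom_id, Category.comp_id]
    exact congrArg (fun ψ : R ⟶ Γ(X, ⊤) => ψ r) h1
  exact (h _ _).trans (Polynomial.eval₂_X _ _)

theorem line_ext {X : Scheme.{u}} {m m' : X ⟶ Spec (CommRingCat.of (ULift.{u} (Polynomial ℤ)))}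
    (h : ofLine m = ofLine m') : m = m' := by
  refine ext_of_isAffine ?_
  rw [← cancel_epi (Scheme.ΓSpecIso _).inv]
  refine CommRingCat.hom_ext (RingHom.ext fun ⟨p⟩ => ?_)
  let φ : Polynomial ℤ →+* Γ(X, ⊤) := ((Scheme.ΓSpecIso _).inv ≫ m.appTop).hom.comp ULift.ringEquiv.symm.toRingHom
  let φ' : Polynomial ℤ →+* Γ(X, ⊤) := ((Scheme.ΓSpecIso _).inv ≫ m'.appTop).hom.comp ULift.ringEquiv.symm.toRingHom
  have hφ : φ = φ' := Polynomial.ringHom_ext' (RingHom.ext_int _ _) h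
  exact congrArg (fun ψ : Polynomial ℤ →+* Γ(X, ⊤) => ψ p) hφ

/-- Descent of global functions. -/
theorem exists_appTop_eq {X Y : Scheme.{u}} (q : X ⟶ Y) [Flat q] [Surjective q] [QuasiCompact q] (f : Γ(X, ⊤))
    (h : ∀ {Z : Scheme.{u}} (g₁ g₂ : Z ⟶ X), g₁ ≫ q = g₂ ≫ q → g₁.appTop f = g₂.appTop f) :
    ∃! d : Γ(Y, ⊤), q.appTop d = f := by
  have h' : ∀ {Z : Scheme.{u}} (g₁ g₂ : Z ⟶ X), g₁ ≫ q = g₂ ≫ q → g₁ ≫ toLine f = g₂ ≫ toLine f :=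
    fun g₁ g₂ e => line_ext (by rw [ofLine_comp, ofLine_comp, ofLine_toLine, h g₁ g₂ e])
  refine ⟨ofLine (EffectiveEpi.desc q (toLine f) h'), ?_, fun d hd => ?_⟩
  · show q.appTop _ = f
    rw [← ofLine_comp, EffectiveEpi.fac, ofLine_toLine]
  · have : toLine d = EffectiveEpi.desc q (toLine f) h' :=
      EffectiveEpi.uniq q _ h' _ (line_ext (by rw [ofLine_comp, ofLine_toLine, ofLine_toLine, hd]))
    rw [← this, ofLine_toLine]

theorem ι_appLE_bijective {X : Scheme.{u}} (U : X.Opens) :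
    Function.Bijective (U.ι.appLE U ⊤ U.ι_preimage_self.ge) :=
  ConcreteCategory.bijective_of_isIso _

/-- Inverse images of functions along faithfully flat morphisms determine them, and the functions invariant on
the kernel pair come from the base. -/
theorem app_descent {X Y : Scheme.{u}} (q : X ⟶ Y) [hF : Flat q] [hS : Surjective q] [hQ : QuasiCompact q]
    (V : Y.Opens) :
    Function.Injective (q.app V) ∧ ∀ f : Γ(X, q ⁻¹ᵁ V),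
      (∀ {Z : Scheme.{u}} (g₁ g₂ : Z ⟶ X), g₁ ≫ q = g₂ ≫ q →
        ∀ (e₁ : ⊤ ≤ g₁ ⁻¹ᵁ (q ⁻¹ᵁ V)) (e₂ : ⊤ ≤ g₂ ⁻¹ᵁ (q ⁻¹ᵁ V)),
          g₁.appLE (q ⁻¹ᵁ V) ⊤ e₁ f = g₂.appLE (q ⁻¹ᵁ V) ⊤ e₂ f) → ∃ d, q.app V d = f := by
  have hres := fun (P : MorphismProperty Scheme.{u}) [P.IsStableUnderBaseChange] (h : P q) =>
    MorphismProperty.of_isPullback (P := P) (isPullback_morphismRestrict q V).flip h
  haveI : Flat (q ∣_ V) := hres @Flat hF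
  haveI : Surjective (q ∣_ V) := hres @Surjective hS
  haveI : QuasiCompact (q ∣_ V) := hres @QuasiCompact hQ
  have key : ∀ a : Γ(Y, V), (q ∣_ V).appTop (V.ι.appLE V ⊤ V.ι_preimage_self.ge a) =
      (q ⁻¹ᵁ V).ι.appLE (q ⁻¹ᵁ V) ⊤ (q ⁻¹ᵁ V).ι_preimage_self.ge (q.app V a) := fun a => by
    have e : ((q ∣_ V) ≫ V.ι) = (q ⁻¹ᵁ V).ι ≫ q := morphismRestrict_ι q V
    have h1 : V.ι.appLE V ⊤ V.ι_preimage_self.ge ≫ (q ∣_ V).appTop =
        q.app V ≫ (q ⁻¹ᵁ V).ι.appLE (q ⁻¹ᵁ V) ⊤ (q ⁻¹ᵁ V).ι_preimage_self.ge := by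
      have hT : (q ∣_ V).appTop = (q ∣_ V).appLE ⊤ ⊤ le_rfl := Scheme.Hom.app_eq_appLE _
      rw [hT, Scheme.Hom.appLE_comp_appLE, Scheme.Hom.app_eq_appLE q, Scheme.Hom.appLE_comp_appLE]
      simp only [e]
    exact congrArg (fun ψ : Γ(Y, V) ⟶ Γ((q ⁻¹ᵁ V).toScheme, ⊤) => ψ a) h1
  refine ⟨fun a b hab => (ι_appLE_bijective V).1 ?_, fun f hf => ?_⟩
  · have hinv : ∀ c : Γ((q ⁻¹ᵁ V).toScheme, ⊤), (∃ d, (q ∣_ V).appTop d = c) →
        ∀ {Z : Scheme.{u}} (g₁ g₂ : Z ⟶ (q ⁻¹ᵁ V).toScheme), g₁ ≫ (q ∣_ V) = g₂ ≫ (q ∣_ V) →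
          g₁.appTop c = g₂.appTop c := by
      rintro c ⟨d, rfl⟩ Z g₁ g₂ e
      show ((q ∣_ V).appTop ≫ g₁.appTop) d = ((q ∣_ V).appTop ≫ g₂.appTop) d
      rw [← Scheme.Hom.comp_appTop, ← Scheme.Hom.comp_appTop, e]
    exact (exists_appTop_eq (q ∣_ V) _ (hinv _ ⟨_, key b⟩)).unique (by rw [key, hab]) (key b)
  · obtain ⟨d, hd, -⟩ := exists_appTop_eq (q ∣_ V) ((q ⁻¹ᵁ V).ι.appLE _ ⊤ (q ⁻¹ᵁ V).ι_preimage_self.ge f)
      fun {Z} g₁ g₂ e => by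
        have e' : (g₁ ≫ (q ⁻¹ᵁ V).ι) ≫ q = (g₂ ≫ (q ⁻¹ᵁ V).ι) ≫ q := by
          rw [Category.assoc, Category.assoc, ← morphismRestrict_ι, reassoc_of% e]
        have h1 : ∀ g : Z ⟶ (q ⁻¹ᵁ V).toScheme, ∃ he : ⊤ ≤ (g ≫ (q ⁻¹ᵁ V).ι) ⁻¹ᵁ (q ⁻¹ᵁ V),
            g.appTop ((q ⁻¹ᵁ V).ι.appLE _ ⊤ (q ⁻¹ᵁ V).ι_preimage_self.ge f) =
              (g ≫ (q ⁻¹ᵁ V).ι).appLE _ ⊤ he f := fun g => by
          refine ⟨fun z _ => ((g z).2), ?_⟩
          show ((q ⁻¹ᵁ V).ι.appLE _ ⊤ _ ≫ g.app ⊤) f = _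
          rw [Scheme.Hom.app_eq_appLE, Scheme.Hom.appLE_comp_appLE]
          rfl
        obtain ⟨he₁, h₁⟩ := h1 g₁
        obtain ⟨he₂, h₂⟩ := h1 g₂
        rw [h₁, h₂]
        exact hf _ _ e' he₁ he₂
    obtain ⟨a, rfl⟩ := (ι_appLE_bijective V).2 d
    exact ⟨a, (ι_appLE_bijective (q ⁻¹ᵁ V)).1 ((key a).symm.trans hd)⟩

end Groth.Agent.H25AbCube
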