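import Groth.Agent.H25AbCube.CharPoly
import Groth.Agent.H25AbCube.GeomTate
import Groth.Agent.H25AbCube.HomIndep

/-!
# The Tate module of geometric points of an abelian variety over any field
-/

set_option autoImplicit false
set_option linter.style.haveILetI false
set_option backward.isDefEq.respectTransparency false
set_option synthInstance.maxHeartbeats 200000
set_option maxHeartbeats 1000000
universe u

open CategoryTheory CategoryTheory.Limits MonoidalCategory CartesianMonoidalCategory MonObj GrpObj AlgebraicGeometry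
  TopologicalSpace
open Groth.Agent

noncomputable section

namespace Groth.Agent.H25AbCube

open GeomTate

variable {k Ω : Type u} [Field k] [Field Ω] [Algebra k Ω] [IsAlgClosed Ω] {A B : Over (Spec (CommRingCat.of k))}
  [GrpObj A] [IsProper A.hom] [GeometricallyIntegral A.hom] [IsCommMonObj A] [GrpObj B] [IsProper B.hom]
  [GeometricallyIntegral B.hom] [IsCommMonObj B]

attribute [local instance] Functor.grpObjObj

theorem natCast_ne_zero_bc {l : ℕ} (hl : (l : k) ≠ 0) : (l : Ω) ≠ 0 := by
  rw [← map_natCast (algebraMap k Ω)]; exact (map_ne_zero _).2 hl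

/-- Independent homomorphisms induce independent maps on the Tate modules of geometric points. -/
theorem linearIndependent_tateMap_pt (l : ℕ) [Fact l.Prime] (hl : (l : k) ≠ 0) {r : ℕ} (e : Fin r → (A ⟶ B))
    [∀ i, IsMonHom (e i)] (he : LinearIndependent ℤ (fun i => Additive.ofMul (e i))) :
    LinearIndependent ℤ_[l] (fun i => AbDual.tateMapₗ (l := l) (T := SGA7.pt Ω) (e i)) := by
  classical
  haveI := surjective_σ k Ω
  haveI := flat_σ k Ω
  let F := bc k Ω
  let Φ : Additive (A ⟶ B) →+ Additive (F.obj A ⟶ F.obj B) :=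
    MonoidHom.toAdditive (Functor.homMonoidHom F (X := A) (M := B))
  have hΦ : Function.Injective Φ.toIntLinearMap := fun x y h =>
    Additive.toMul.injective (map_pullback_injective (σ k Ω) (congrArg Additive.toMul h))
  haveI : ∀ i, IsMonHom (F.map (e i)) := fun i => inferInstance
  have hind : LinearIndependent ℤ (fun i => Additive.ofMul (F.map (e i))) :=
    he.map_injOn Φ.toIntLinearMap hΦ.injOn
  have key := Fintype.linearIndependent_iff.1
    (linearIndependent_tateMap (A := F.obj A) (B := F.obj B) l (natCast_ne_zero_bc hl) (fun i => F.map (e i)) hind)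
  rw [Fintype.linearIndependent_iff]
  intro c hc
  refine key c (LinearMap.ext fun y => ?_)
  have h := congrArg (fun z => tateEquiv B l z) (LinearMap.congr_fun hc ((tateEquiv A l).symm y))
  simp only [LinearMap.sum_apply, LinearMap.smul_apply, map_sum, map_smul, LinearMap.zero_apply, map_zero,
    tateEquiv_map, LinearEquiv.apply_symm_apply] at h
  simpa only [LinearMap.sum_apply, LinearMap.smul_apply, LinearMap.zero_apply] using h

/-- The Tate map is injective on homomorphisms. -/
theorem eq_one_of_tateMap_eq_zero (l : ℕ) [Fact l.Prime] (hl : (l : k) ≠ 0) (φ : A ⟶ B) [IsMonHom φ]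
    (h : AbDual.tateMapₗ (l := l) (T := SGA7.pt Ω) φ = 0) : φ = 1 := by
  by_contra hne
  have hind : LinearIndependent ℤ (fun _ : Fin 1 => Additive.ofMul φ) := by
    rw [Fintype.linearIndependent_iff]
    intro c hc i
    rw [Fin.sum_univ_one] at hc
    obtain rfl : i = 0 := Subsingleton.elim _ _
    by_contra hc0
    refine hne (eq_one_of_pow_eq_one φ (Int.natAbs_pos.2 hc0) ?_)
    have h' : (c 0).natAbs • Additive.ofMul φ = 0 := by
      rw [← natCast_zsmul]
      rcases Int.natAbs_eq (c 0) with e | e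
      · rw [← e]; exact hc
      · rw [e, neg_zsmul, neg_eq_zero] at hc; exact hc
    exact congrArg Additive.toMul h'
  exact one_ne_zero (α := ℤ_[l]) (Fintype.linearIndependent_iff.1
    (linearIndependent_tateMap_pt (Ω := Ω) l hl (fun _ : Fin 1 => φ) hind) (fun _ => 1)
    (by rw [Fin.sum_univ_one, h, smul_zero]) 0)

variable [Algebra.IsAlgebraic k Ω]

/-- The Tate module of geometric points is free of rank twice the dimension. -/
theorem exists_tateBasis_pt (l : ℕ) [Fact l.Prime] (hl : (l : k) ≠ 0) {g : ℕ} (hg : topologicalKrullDim A.left = g) :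
    Nonempty (Module.Basis (Fin (2 * g)) ℤ_[l] (AbDual.TateMod A l (SGA7.pt Ω))) := by
  obtain ⟨b⟩ := exists_tateBasis (A := (bc k Ω).obj A) l (natCast_ne_zero_bc hl) g (dim_bc A hg)
  exact ⟨b.map (tateEquiv A l).symm⟩

open Polynomial in
/-- The characteristic polynomial of an endomorphism over any field. -/
theorem exists_charpoly_pt {g : ℕ} (hg : topologicalKrullDim A.left = g) (α : EndAV.End A) :
    ∃ P : ℤ[X], P.Monic ∧ P.natDegree = 2 * g ∧
      (∀ n : ℤ, (degree (α - (n : EndAV.End A)).toHom : ℤ) = P.eval n) ∧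
      ∀ (l : ℕ) [Fact l.Prime], (l : k) ≠ 0 → ∀ [Module.Free ℤ_[l] (AbDual.TateMod A l (SGA7.pt Ω))]
        [Module.Finite ℤ_[l] (AbDual.TateMod A l (SGA7.pt Ω))],
          (EndAV.End.tateRep l (SGA7.pt Ω) α).charpoly = P.map (Int.castRingHom ℤ_[l]) := by
  let F := bc k Ω
  have hg' := dim_bc (Ω := Ω) A hg
  let α' : EndAV.End (F.obj A) := EndAV.End.of (F.map α.toHom)
  obtain ⟨P, hP, hPdeg, hPe, hPl⟩ := exists_charpoly hg' α'
  refine ⟨P, hP, hPdeg, fun n => ?_, fun l _ hl _ _ => ?_⟩
  · rw [← hPe n, ← degree_bc (Ω := Ω) A _ hg hg hg' hg']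
    congr 2
    rw [EndAV.End.toHom_sub, EndAV.End.toHom_intCast, EndAV.End.toHom_sub, EndAV.End.toHom_intCast, div_eq_mul_inv,
      div_eq_mul_inv]
    refine (map_mul (Functor.homMonoidHom F) α.toHom ((𝟙 A) ^ n)⁻¹).trans ?_
    rw [map_inv, map_zpow]
    show F.map α.toHom * (F.map (𝟙 A) ^ n)⁻¹ = _
    rw [CategoryTheory.Functor.map_id]
    rfl
  · obtain ⟨b⟩ := exists_tateBasis (A := F.obj A) l (natCast_ne_zero_bc hl) g hg'
    haveI : Module.Free ℤ_[l] (AbDual.TateMod (F.obj A) l (pt1 Ω)) := Module.Free.of_basis b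
    haveI : Module.Finite ℤ_[l] (AbDual.TateMod (F.obj A) l (pt1 Ω)) := Module.Finite.of_basis b
    rw [← hPl l (natCast_ne_zero_bc hl)]
    show _ = (AbDual.tateMapₗ (l := l) (T := pt1 Ω) (F.map α.toHom)).charpoly
    rw [tateMap_conj A l α.toHom, LinearEquiv.charpoly_conj]
    rfl

/-- The degree is the determinant on the Tate module. -/
theorem degree_eq_det_pt {g : ℕ} (hg : topologicalKrullDim A.left = g) (α : EndAV.End A) (l : ℕ) [Fact l.Prime]
    (hl : (l : k) ≠ 0) [Module.Free ℤ_[l] (AbDual.TateMod A l (SGA7.pt Ω))]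
    [Module.Finite ℤ_[l] (AbDual.TateMod A l (SGA7.pt Ω))] :
    (degree α.toHom : ℤ_[l]) = LinearMap.det (EndAV.End.tateRep l (SGA7.pt Ω) α) := by
  obtain ⟨P, -, -, hPe, hPl⟩ := exists_charpoly_pt (Ω := Ω) hg α
  obtain ⟨b⟩ := exists_tateBasis_pt (A := A) (Ω := Ω) l hl hg
  have h0 := hPe 0
  rw [Int.cast_zero, sub_zero] at h0
  have h1 := congrArg (Polynomial.eval 0) (hPl l hl)
  rw [Polynomial.eval_zero_map] at h1
  rw [← Polynomial.coeff_zero_eq_eval_zero] at h1
  rw [LinearMap.det_eq_sign_charpoly_coeff, Module.finrank_eq_card_basis b, Fintype.card_fin, pow_mul, neg_one_sq,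
    one_pow, _root_.one_mul, h1, ← h0]
  simp

end Groth.Agent.H25AbCube
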