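import Groth.Agent.H25AbCube.GeomCharPoly
import Groth.Agent.H8Props.FieldDimScheme

/-!
# Characteristic polynomials on Tate modules of points in any algebraically closed extension
-/

set_option autoImplicit false
set_option linter.style.haveILetI false
set_option backward.isDefEq.respectTransparency false
set_option synthInstance.maxHeartbeats 200000
set_option maxHeartbeats 1000000
universe u

open CategoryTheory CategoryTheory.Limits MonoidalCategory CartesianMonoidalCategory MonObj GrpObj AlgebraicGeometry
  TopologicalSpace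
open Groth.Agent

noncomputable section

namespace Groth.Agent.H25AbCube

open GeomTate

variable {k Ω : Type u} [Field k] [Field Ω] [Algebra k Ω] [IsAlgClosed Ω] {A : Over (Spec (CommRingCat.of k))}
  [GrpObj A] [IsProper A.hom] [GeometricallyIntegral A.hom] [IsCommMonObj A]

attribute [local instance] Functor.grpObjObj

/-- The dimension does not change under any extension of the ground field. -/
theorem dim_bc_any {g : ℕ} (hg : topologicalKrullDim A.left = g) :
    topologicalKrullDim ((bc k Ω).obj A).left = g :=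
  (H8Props.FieldDim.dim_baseChange A.hom (pullback.fst A.hom (σ k Ω)) (pullback.snd A.hom (σ k Ω))
    (IsPullback.of_hasPullback A.hom (σ k Ω))).trans hg

/-- The Tate module of the points in any algebraically closed extension is free of rank twice the dimension. -/
theorem exists_tateBasis_pt_any (l : ℕ) [Fact l.Prime] (hl : (l : k) ≠ 0) {g : ℕ}
    (hg : topologicalKrullDim A.left = g) :
    Nonempty (Module.Basis (Fin (2 * g)) ℤ_[l] (AbDual.TateMod A l (SGA7.pt Ω))) := by
  obtain ⟨b⟩ := exists_tateBasis (A := (bc k Ω).obj A) l (natCast_ne_zero_bc hl) g (dim_bc_any hg)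
  exact ⟨b.map (tateEquiv A l).symm⟩

open Polynomial in
/-- The characteristic polynomial of an endomorphism, on points in any algebraically closed extension. -/
theorem exists_charpoly_pt_any {g : ℕ} (hg : topologicalKrullDim A.left = g) (α : EndAV.End A) :
    ∃ P : ℤ[X], P.Monic ∧ P.natDegree = 2 * g ∧
      (∀ n : ℤ, (degree (α - (n : EndAV.End A)).toHom : ℤ) = P.eval n) ∧
      ∀ (l : ℕ) [Fact l.Prime], (l : k) ≠ 0 → ∀ [Module.Free ℤ_[l] (AbDual.TateMod A l (SGA7.pt Ω))]
        [Module.Finite ℤ_[l] (AbDual.TateMod A l (SGA7.pt Ω))],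
          (EndAV.End.tateRep l (SGA7.pt Ω) α).charpoly = P.map (Int.castRingHom ℤ_[l]) := by
  let F := bc k Ω
  have hg' := dim_bc_any (Ω := Ω) (A := A) hg
  let α' : EndAV.End (F.obj A) := EndAV.End.of (F.map α.toHom)
  obtain ⟨P, hP, hPdeg, hPe, hPl⟩ := exists_charpoly hg' α'
  refine ⟨P, hP, hPdeg, fun n => ?_, fun l _ hl _ _ => ?_⟩
  · rw [← hPe n, ← degree_bc (Ω := Ω) A _ hg hg hg' hg']
    congr 2
    rw [EndAV.End.toHom_sub, EndAV.End.toHom_intCast, EndAV.End.toHom_sub, EndAV.End.toHom_intCast, div_eq_mul_inv,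
      div_eq_mul_inv]
    refine (map_mul (Functor.homMonoidHom F) α.toHom ((𝟙 A) ^ n)⁻¹).trans ?_
    rw [map_inv, map_zpow]
    show F.map α.toHom * (F.map (𝟙 A) ^ n)⁻¹ = _
    rw [CategoryTheory.Functor.map_id]
    rfl
  · obtain ⟨b⟩ := exists_tateBasis (A := F.obj A) l (natCast_ne_zero_bc hl) g hg'
    haveI : Module.Free ℤ_[l] (AbDual.TateMod (F.obj A) l (pt1 Ω)) := Module.Free.of_basis b
    haveI : Module.Finite ℤ_[l] (AbDual.TateMod (F.obj A) l (pt1 Ω)) := Module.Finite.of_basis b
    rw [← hPl l (natCast_ne_zero_bc hl)]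
    show _ = (AbDual.tateMapₗ (l := l) (T := pt1 Ω) (F.map α.toHom)).charpoly
    rw [tateMap_conj A l α.toHom, LinearEquiv.charpoly_conj]
    rfl

end Groth.Agent.H25AbCube
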