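import Groth.Agent.H25AbCube.CurvePair
import Groth.Agent.S4444
import Groth.Agent.H02CA.FieldJapanese
import Groth.Agent.H19Grp.AlgClosedGeom
import Groth.Agent.H19Grp.ImageGroup
import Groth.Agent.H22Alg.GeomRegularAt
import Groth.Agent.H05EGA4.FieldSmooth
import Groth.Agent.H8Props.NormalLowDim

/-!
# Links along affine curves, and base change of links
-/

set_option autoImplicit false
set_option linter.style.haveILetI false
set_option backward.isDefEq.respectTransparency false
universe u

open CategoryTheory CategoryTheory.Limits MonoidalCategory CartesianMonoidalCategory AlgebraicGeometry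
open Groth.Agent

noncomputable section

namespace Groth.Agent.H25AbCube

/-- A proper normal curve over an algebraically closed field is smooth and geometrically integral. -/
theorem smooth_geomIntegral_of_curve {K : Type u} [Field K] [IsAlgClosed K] {C : Scheme.{u}}
    (f : C ⟶ Spec (CommRingCat.of K)) [LocallyOfFiniteType f] [IrreducibleSpace C] (hn : Pi1.IsNormalScheme C)
    (hd : ∀ x : C, IsClosed ({x} : Set C) → ringKrullDim (C.presheaf.stalk x) = 1) :
    Smooth f ∧ GeometricallyIntegral f := by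
  letI : C.Over (Spec (CommRingCat.of K)) := ⟨f⟩
  haveI : IsLocallyNoetherian C := LocallyOfFiniteType.isLocallyNoetherian f
  haveI : LocallyOfFinitePresentation (C ↘ Spec (CommRingCat.of K)) :=
    LocallyOfFinitePresentation.iff_locallyOfFiniteType.2 (inferInstanceAs (LocallyOfFiniteType f))
  haveI : JacobsonSpace C := LocallyOfFiniteType.jacobsonSpace f
  have hs : Smooth f := by
    rw [← Scheme.Hom.smoothLocus_eq_top_iff]
    rw [eq_top_iff]
    intro x _
    have key : ∀ z : C, IsClosed ({z} : Set C) → z ∈ (C ↘ Spec (CommRingCat.of K)).smoothLocus := by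
      intro z hz
      letI := Curv2.stalkAlgebra K C z
      haveI := (hn z).1
      haveI := (hn z).2
      haveI := H8Props.NormalLowDim.isRegularLocalRing_of_dim_le_one (R := C.presheaf.stalk z) (hd z hz).le
      exact H22Alg.GeomRegularAt.mem_smoothLocus_of_isAdicFormallySmooth K C z
        (H05EGA4.isAdicFormallySmooth_of_perfectField K _)
    obtain ⟨z, hz, hxz⟩ := nonempty_inter_closedPoints (Z := closure ({x} : Set C)) ⟨x, subset_closure rfl⟩
      isClosed_closure.isLocallyClosed
    exact (specializes_iff_mem_closure.mpr hz).mem_open f.smoothLocus.isOpen (key z hxz)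
  haveI := hs
  haveI := H19Grp.geometricallyIrreducible_of_irreducibleSpace f
  haveI := H19Grp.geometricallyReduced_of_smooth f
  exact ⟨hs, GeometricallyIntegral.of_geometricallyReduced_of_geometricallyIrreducible f⟩

variable {k K : Type u} [Field k] [Field K] [Algebra k K]

/-- The point given by an algebra map and a morphism on the spectrum. -/
def ptOfAlg {U : Over (Spec (CommRingCat.of k))} {B : Type u} [CommRing B] [Algebra K B]
    (f : Spec (CommRingCat.of B) ⟶ U.left)
    (hf : f ≫ U.hom = Spec.map (CommRingCat.ofHom (algebraMap K B)) ≫ tK k K) (χ : B →ₐ[K] K) :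
    TK k K ⟶ U :=
  Over.homMk (Spec.map (CommRingCat.ofHom χ.toRingHom) ≫ f) (by
    show (Spec.map (CommRingCat.ofHom χ.toRingHom) ≫ f) ≫ U.hom = tK k K
    rw [Category.assoc, hf, ← Category.assoc, ← Spec.map_comp, ← CommRingCat.ofHom_comp]
    erw [χ.comp_algebraMap]
    exact (congrArg (· ≫ tK k K) (Spec.map_id _)).trans (Category.id_comp _))

/-- Two rational points of an affine curve are linked. -/
theorem link_of_curve [IsAlgClosed K] {U : Over (Spec (CommRingCat.of k))} (B : Type u) [CommRing B] [IsDomain B]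
    [Algebra K B] [Algebra (Polynomial K) B] [IsScalarTower K (Polynomial K) B]
    [Module.Finite (Polynomial K) B] [FaithfulSMul (Polynomial K) B]
    (f : Spec (CommRingCat.of B) ⟶ U.left)
    (hf : f ≫ U.hom = Spec.map (CommRingCat.ofHom (algebraMap K B)) ≫ tK k K) (χ χ' : B →ₐ[K] K) :
    Nonempty (Link U (ptOfAlg f hf χ) (ptOfAlg f hf χ')) := by
  classical
  haveI : Algebra.FiniteType K B := Algebra.FiniteType.trans (S := Polynomial K) inferInstance inferInstance
  let L := FractionRing B
  let N := integralClosure B L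
  haveI : Module.Finite B N := H02CA.finite_integralClosure_of_finiteType_field K B L L
  haveI : IsIntegrallyClosed N := integralClosure.isIntegrallyClosedOfFiniteExtension (L := L) L
  haveI : FaithfulSMul B N := (faithfulSMul_iff_algebraMap_injective B N).2 fun a b h =>
    IsFractionRing.injective B L (congrArg Subtype.val h)
  haveI : Algebra.FiniteType K N := Algebra.FiniteType.trans (S := B) inferInstance inferInstance
  haveI : IsNoetherianRing N := Algebra.FiniteType.isNoetherianRing K N
  haveI : Ring.DimensionLEOne B := Ring.DimensionLEOne.of_isIntegral (Polynomial K) B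
  haveI : Ring.DimensionLEOne N := Ring.DimensionLEOne.of_isIntegral B N
  haveI : IsDedekindDomain N := {}
  have hnf : ¬ IsField N := fun h => Polynomial.not_isField K
    (isField_of_isIntegral_of_isField (R := Polynomial K) (S := B)
      (FaithfulSMul.algebraMap_injective _ _)
      (isField_of_isIntegral_of_isField (R := B) (S := N) (FaithfulSMul.algebraMap_injective _ _) h))
  have lift : ∀ φ : B →ₐ[K] K, ∃ ψ : N →ₐ[K] K, ψ.comp (IsScalarTower.toAlgHom K B N) = φ := by
    intro φ
    haveI : (RingHom.ker φ).IsPrime := RingHom.ker_isPrime φ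
    haveI : (RingHom.ker φ).IsMaximal := RingHom.ker_isMaximal_of_surjective φ fun c => ⟨algebraMap K B c, φ.commutes c⟩
    obtain ⟨Q, hQ, hQover⟩ := Ideal.exists_maximal_ideal_liesOver_of_isIntegral (S := N) (RingHom.ker φ)
    haveI : Q.IsMaximal := hQ
    letI := Ideal.Quotient.field Q
    haveI : Algebra.FiniteType K (N ⧸ Q) :=
      Algebra.FiniteType.of_surjective (Ideal.Quotient.mkₐ K Q) Ideal.Quotient.mk_surjective
    haveI : Module.Finite K (N ⧸ Q) := finite_of_finite_type_of_isJacobsonRing K (N ⧸ Q)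
    let e : K ≃ₐ[K] (N ⧸ Q) := AlgEquiv.ofBijective (Algebra.ofId K (N ⧸ Q))
      ⟨(Algebra.ofId K (N ⧸ Q)).toRingHom.injective, IsAlgClosed.algebraMap_bijective_of_isIntegral.2⟩
    refine ⟨e.symm.toAlgHom.comp (Ideal.Quotient.mkₐ K Q), AlgHom.ext fun b => e.injective ?_⟩
    show e (e.symm (Ideal.Quotient.mk Q (algebraMap B N b))) = e (φ b)
    rw [AlgEquiv.apply_symm_apply]
    have hb : b - algebraMap K B (φ b) ∈ RingHom.ker φ := by simp
    have := (Ideal.Quotient.eq (I := Q) (x := algebraMap B N b) (y := algebraMap B N (algebraMap K B (φ b)))).2 (by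
      rw [← map_sub]; exact (hQover.over ▸ hb : b - algebraMap K B (φ b) ∈ Q.under B))
    rw [this, ← IsScalarTower.algebraMap_apply]
    exact (e.commutes (φ b)).symm
  obtain ⟨ψ₁, h₁⟩ := lift χ
  obtain ⟨ψ₂, h₂⟩ := lift χ'
  let X := Spec (CommRingCat.of N)
  letI : X.Over (Spec (CommRingCat.of K)) := ⟨Spec.map (CommRingCat.ofHom (algebraMap K N))⟩
  haveI : LocallyOfFiniteType (X ↘ Spec (CommRingCat.of K)) := by
    show LocallyOfFiniteType (Spec.map _)
    rw [HasRingHomProperty.Spec_iff (P := @LocallyOfFiniteType)]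
    exact RingHom.finiteType_algebraMap.mpr inferInstance
  haveI : QuasiCompact (X ↘ Spec (CommRingCat.of K)) := inferInstanceAs (QuasiCompact (Spec.map _))
  haveI : IsSeparated (X ↘ Spec (CommRingCat.of K)) := inferInstanceAs (IsSeparated (Spec.map _))
  have hstalk : ∀ x : X, IsDomain (X.presheaf.stalk x) ∧ IsIntegrallyClosed (X.presheaf.stalk x) ∧
      (IsClosed ({x} : Set X) → ringKrullDim (X.presheaf.stalk x) = 1) := by
    intro x
    let P : PrimeSpectrum N := x
    letI : Algebra N (X.presheaf.stalk x) := StructureSheaf.stalkAlgebra N P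
    haveI : IsLocalization.AtPrime (X.presheaf.stalk x) P.asIdeal := StructureSheaf.IsLocalization.to_stalk N P
    haveI hdom : IsDomain (X.presheaf.stalk x) :=
      IsLocalization.isDomain_of_le_nonZeroDivisors _ P.asIdeal.primeCompl_le_nonZeroDivisors
    refine ⟨hdom, isIntegrallyClosed_of_isLocalization _ _ P.asIdeal.primeCompl_le_nonZeroDivisors, fun hx => ?_⟩
    have hm : P.asIdeal.IsMaximal := (PrimeSpectrum.isClosed_singleton_iff_isMaximal _).1 hx
    have h0 : P.asIdeal ≠ ⊥ := fun h => hnf (Ring.isField_iff_maximal_bot.mpr (h ▸ hm))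
    haveI := IsLocalization.AtPrime.isDiscreteValuationRing_of_dedekind_domain N h0 (X.presheaf.stalk x)
    exact IsPrincipalIdealRing.ringKrullDim_eq_one (X.presheaf.stalk x)
      (IsDiscreteValuationRing.not_isField _)
  have hcurve : ∀ x : X, IsClosed ({x} : Set X) → ringKrullDim (X.presheaf.stalk x) = 1 := fun x => (hstalk x).2.2
  have hnorm : Pi1.IsNormalScheme X := fun x => ⟨(hstalk x).1, (hstalk x).2.1⟩
  obtain ⟨C, sc, j, hj, hdense, hw, hprop, hnC, hdC⟩ := S4444.result K X hcurve hnorm
  haveI := hj; haveI := hprop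
  haveI : IrreducibleSpace C := by
    rw [irreducibleSpace_def, Set.top_eq_univ, ← hdense.closure_eq, ← Set.image_univ]
    exact (((IrreducibleSpace.isIrreducible_univ X).image _ j.continuous.continuousOn)).closure
  obtain ⟨hsm, hgi⟩ := smooth_geomIntegral_of_curve sc hnC hdC
  let e := j.isoOpensRange
  have hw' : e.inv ≫ Spec.map (CommRingCat.ofHom (algebraMap K N)) = j.opensRange.ι ≫ sc := by
    rw [show Spec.map (CommRingCat.ofHom (algebraMap K N)) = j ≫ sc from hw.symm, ← Category.assoc,
      Scheme.Hom.isoOpensRange_inv_comp]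
  have hp : ∀ ψ : N →ₐ[K] K, (Spec.map (CommRingCat.ofHom ψ.toRingHom) ≫ e.hom) ≫ j.opensRange.ι ≫ sc = 𝟙 _ := by
    intro ψ
    rw [← hw', Category.assoc, e.hom_inv_id_assoc, ← Spec.map_comp, ← CommRingCat.ofHom_comp]
    erw [ψ.comp_algebraMap]
    exact Spec.map_id _
  let nB := CommRingCat.ofHom (algebraMap B N)
  have hx : ∀ (φ : B →ₐ[K] K) (ψ : N →ₐ[K] K), ψ.comp (IsScalarTower.toAlgHom K B N) = φ →
      (Spec.map (CommRingCat.ofHom ψ.toRingHom) ≫ e.hom) ≫ e.inv ≫ Spec.map nB ≫ f =
        Spec.map (CommRingCat.ofHom φ.toRingHom) ≫ f := by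
    intro φ ψ h
    rw [Category.assoc, e.hom_inv_id_assoc, ← Category.assoc, ← Spec.map_comp, ← h]
    rfl
  exact ⟨{
    C := Over.mk sc
    smooth := hsm
    proper := hprop
    geomIntegral := hgi
    O := j.opensRange
    ψ := Over.homMk (e.inv ≫ Spec.map nB ≫ f) (by
      show (e.inv ≫ Spec.map nB ≫ f) ≫ U.hom = (j.opensRange.ι ≫ sc) ≫ tK k K
      rw [← hw', Category.assoc, Category.assoc, hf, ← Category.assoc (Spec.map nB), ← Spec.map_comp,
        ← CommRingCat.ofHom_comp, ← IsScalarTower.algebraMap_eq, Category.assoc])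
    p := Spec.map (CommRingCat.ofHom ψ₁.toRingHom) ≫ e.hom
    p' := Spec.map (CommRingCat.ofHom ψ₂.toRingHom) ≫ e.hom
    hp := hp ψ₁
    hp' := hp ψ₂
    hx := hx χ ψ₁ h₁
    hx' := hx χ' ψ₂ h₂ }⟩

variable {K' : Type u} [Field K'] [Algebra k K']

/-- Restriction of a point along an extension. -/
def res (e : K →ₐ[k] K') {U : Over (Spec (CommRingCat.of k))} (x : TK k K ⟶ U) : TK k K' ⟶ U :=
  Over.homMk (Spec.map (CommRingCat.ofHom e.toRingHom) ≫ x.left) (by
    show (Spec.map (CommRingCat.ofHom e.toRingHom) ≫ x.left) ≫ U.hom = tK k K'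
    rw [Category.assoc, Over.w x]
    show Spec.map _ ≫ Spec.map _ = Spec.map _
    rw [← Spec.map_comp, ← CommRingCat.ofHom_comp]
    erw [e.comp_algebraMap])

/-- Links are stable under extension of the field. -/
theorem link_res (e : K →ₐ[k] K') {U : Over (Spec (CommRingCat.of k))} {x x' : TK k K ⟶ U} (l : Link U x x') :
    Nonempty (Link U (res e x) (res e x')) := by
  haveI := l.smooth; haveI := l.proper; haveI := l.geomIntegral
  let s := Spec.map (CommRingCat.ofHom e.toRingHom)
  have hs : s ≫ tK k K = tK k K' := by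
    show Spec.map _ ≫ Spec.map _ = Spec.map _
    rw [← Spec.map_comp, ← CommRingCat.ofHom_comp]
    erw [e.comp_algebraMap]
  let π := pullback.fst l.C.hom s
  let O' := π ⁻¹ᵁ l.O
  let aO : (O' : Scheme.{u}) ⟶ l.O := π ∣_ l.O
  have haO : aO ≫ l.O.ι = O'.ι ≫ π := morphismRestrict_ι _ _
  have pt : ∀ (r : Spec (CommRingCat.of K) ⟶ l.O), r ≫ l.O.ι ≫ l.C.hom = 𝟙 _ →
      ∃ r' : Spec (CommRingCat.of K') ⟶ O', r' ≫ O'.ι ≫ pullback.snd l.C.hom s = 𝟙 _ ∧
        r' ≫ aO ≫ l.ψ.left = s ≫ r ≫ l.ψ.left := by
    intro r hr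
    let g : Spec (CommRingCat.of K') ⟶ pullback l.C.hom s := pullback.lift (s ≫ r ≫ l.O.ι) (𝟙 _) (by
      rw [Category.assoc, Category.assoc, hr, Category.comp_id, Category.id_comp])
    have hg : g ≫ π = s ≫ r ≫ l.O.ι := pullback.lift_fst _ _ _
    have hmem : Set.range g ⊆ Set.range O'.ι := by
      rintro _ ⟨z, rfl⟩
      rw [Scheme.Opens.range_ι]
      show (g ≫ π) z ∈ l.O
      rw [hg]; exact ((s ≫ r) z).2
    refine ⟨IsOpenImmersion.lift O'.ι g hmem, ?_, ?_⟩
    · rw [← Category.assoc, IsOpenImmersion.lift_fac]; exact pullback.lift_snd _ _ _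
    · have : IsOpenImmersion.lift O'.ι g hmem ≫ aO = s ≫ r := by
        rw [← cancel_mono l.O.ι, Category.assoc, haO, ← Category.assoc, IsOpenImmersion.lift_fac, hg, Category.assoc]
      rw [← Category.assoc, this, Category.assoc]
  obtain ⟨p, hp, hpx⟩ := pt l.p l.hp
  obtain ⟨p', hp', hpx'⟩ := pt l.p' l.hp'
  exact ⟨{
    C := Over.mk (pullback.snd l.C.hom s)
    smooth := MorphismProperty.pullback_snd (P := @Smooth) _ _ inferInstance
    proper := MorphismProperty.pullback_snd (P := @IsProper) _ _ inferInstance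
    geomIntegral := MorphismProperty.pullback_snd (P := @GeometricallyIntegral) _ _ inferInstance
    O := O'
    ψ := Over.homMk (aO ≫ l.ψ.left) (by
      show (aO ≫ l.ψ.left) ≫ U.hom = (O'.ι ≫ pullback.snd l.C.hom s) ≫ tK k K'
      rw [Category.assoc, Over.w l.ψ]
      show aO ≫ (l.O.ι ≫ l.C.hom) ≫ tK k K = _
      rw [← Category.assoc, ← Category.assoc, haO, Category.assoc O'.ι π, pullback.condition, ← hs]
      simp only [Category.assoc])
    p := p
    p' := p'
    hp := hp
    hp' := hp'
    hx := hpx.trans (congrArg (s ≫ ·) l.hx)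
    hx' := hpx'.trans (congrArg (s ≫ ·) l.hx') }⟩

end Groth.Agent.H25AbCube
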