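import Groth.Agent.H25AbCube.FrobLength
import Groth.Agent.H25AbCube.FrobVersch
import Groth.Agent.H25AbCube.TorsionStr
import Groth.Agent.H8Props.FieldDimEquidim

/-!
# The number of points killed by the characteristic
-/

set_option autoImplicit false
set_option linter.style.haveILetI false
set_option linter.unusedSectionVars false
set_option backward.isDefEq.respectTransparency false
set_option synthInstance.maxHeartbeats 200000
universe u

open CategoryTheory CategoryTheory.Limits MonoidalCategory CartesianMonoidalCategory MonObj GrpObj AlgebraicGeometry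
  FrobSch
open Groth.Agent Groth.Agent.H8Props.FieldDim
open Groth.Agent.H27Perf.Tower (fr)

noncomputable section

namespace Groth.Agent.H25AbCube.PRank

variable (p : ℕ) [Fact p.Prime] {k : Type u} [Field k]

/-- An algebra map into an algebra of finite dimension kills the `p`-th powers of the kernel of a character. -/
theorem finrank_ge_of_characters {C : Type u} [CommRing C] [Algebra k C] [Module.Finite k C] {α : Type*} [Finite α]
    (χ : α → C →ₐ[k] k) (hχ : Function.Injective χ) (J : α → Ideal C) (hJ : ∀ i r, χ i r = 0 → r ^ p ∈ J i) {N : ℕ}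
    (hN : ∀ i, N ≤ Module.finrank k (C ⧸ J i)) : Nat.card α * N ≤ Module.finrank k C := by
  classical
  haveI := Fintype.ofFinite α
  have hco : Pairwise fun i j => IsCoprime (J i) (J j) := fun i j hij => by
    show IsCoprime (J i) (J j)
    rw [Ideal.isCoprime_iff_sup_eq]
    by_contra hne
    obtain ⟨M, hM, hle⟩ := Ideal.exists_le_maximal _ hne
    have key : ∀ l, J l ≤ M → RingHom.ker (χ l).toRingHom = M := fun l hl => by
      have hs : Function.Surjective (χ l).toRingHom := fun c => ⟨algebraMap k C c, (χ l).commutes c⟩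
      exact ((RingHom.ker_isMaximal_of_surjective _ hs).eq_of_le hM.ne_top
        fun r hr => hM.isPrime.mem_of_pow_mem p (hl (hJ l r hr)))
    have hker := (key i (le_sup_left.trans hle)).trans (key j (le_sup_right.trans hle)).symm
    refine hij (hχ (AlgHom.ext fun r => ?_))
    have h0 : χ i (r - algebraMap k C (χ i r)) = 0 := by rw [map_sub, AlgHom.commutes]; simp
    have h1 : χ j (r - algebraMap k C (χ i r)) = 0 := by
      show (r - algebraMap k C (χ i r)) ∈ RingHom.ker (χ j).toRingHom
      rw [← hker]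
      exact h0
    rw [map_sub, AlgHom.commutes, sub_eq_zero] at h1
    simpa using h1.symm
  let f : C →ₗ[k] ((i : α) → C ⧸ J i) := LinearMap.pi fun i => (Ideal.Quotient.mkₐ k (J i)).toLinearMap
  have hf : Function.Surjective f := fun z => by
    obtain ⟨x, hx⟩ := Ideal.pi_mkQ_surjective hco z
    exact ⟨x, hx⟩
  calc Nat.card α * N = ∑ _ : α, N := by
        rw [Finset.sum_const, Finset.card_univ, smul_eq_mul, Nat.card_eq_fintype_card]
    _ ≤ ∑ i, Module.finrank k (C ⧸ J i) := Finset.sum_le_sum fun i _ => hN i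
    _ = Module.finrank k ((i : α) → C ⧸ J i) := (Module.finrank_pi_fintype k).symm
    _ ≤ _ := LinearMap.finrank_le_finrank_of_surjective hf

theorem frob_Spec (R : CommRingCat.{u}) [IsCharP (Spec R) p] [CharP R p] :
    frob (Spec R) p = Spec.map (CommRingCat.ofHom (frobenius R p)) := by
  refine ext_of_isAffine ?_
  rw [← cancel_epi (Scheme.ΓSpecIso R).inv, ← Scheme.ΓSpecIso_inv_naturality]
  ext s
  exact ((map_pow (Scheme.ΓSpecIso R).inv.hom s p)).symm

variable [IsAlgClosed k] [CharP k p] {A : Over (Spec (CommRingCat.of k))} [GrpObj A] [IsProper A.hom]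
  [GeometricallyIntegral A.hom] [IsCommMonObj A]

local notation "pt" => Over.mk (𝟙 (Spec (CommRingCat.of k)))

/-- A nilpotent neighbourhood of a point killed by `p` maps to the kernel of multiplication by `p`. -/
theorem pow_eq_one_of_const [IsCharP A.left p] {T : Over (Spec (CommRingCat.of k))} (x c : T ⟶ A) (hc : c ^ p = 1)
    (h : x.left ≫ frob A.left p = c.left ≫ frob A.left p) : x ^ p = 1 := by
  let T' : Over (Spec (CommRingCat.of k)) := Over.mk (T.hom ≫ fr p (Spec (CommRingCat.of k)) 1)
  let Φ : (T ⟶ A) → (T' ⟶ A) := fun w => Over.homMk (w.left ≫ fr p A.left 1) (by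
    show (w.left ≫ fr p A.left 1) ≫ A.hom = T.hom ≫ _
    rw [Category.assoc, FrobPoints.fr_comm, ← Category.assoc, Over.w w])
  let Φh : (T ⟶ A) →* (T' ⟶ A) := MonoidHom.mk' Φ fun a b => Over.OverMorphism.ext (by
    have := FrobVersch.fr_lift_left p (T := T) (T' := T') 1 rfl a b (Φ a) (Φ b) (Category.id_comp _).symm
      (Category.id_comp _).symm
    exact (this.trans (Category.id_comp _)).symm)
  have hxc : Φh x = Φh c := Over.OverMorphism.ext (by
    show x.left ≫ fr p A.left 1 = c.left ≫ fr p A.left 1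
    simpa [fr] using h)
  have h1 : Φh (x / c) = 1 := by rw [map_div, hxc, div_self']
  have h2 : (x / c).left ≫ fr p A.left 1 = (1 : T ⟶ A).left ≫ fr p A.left 1 := by
    rw [← map_one Φh] at h1
    exact congrArg (fun w : T' ⟶ A => w.left) h1
  have h3 := FrobVersch.pow_eq_one_of_fr p 1 _ h2
  rwa [pow_one, div_pow, hc, div_one] at h3

/-- At most `p ^ g` points are killed by the characteristic. -/
theorem card_torsPts_le_pow (g : ℕ) (hg : topologicalKrullDim A.left = g) :
    Nat.card ↥(AbDual.torsPts A p pt) ≤ p ^ g := by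
  classical
  have hp : 0 < p := (Fact.out : p.Prime).pos
  haveI : IsIntegral A.left := GeometricallyIntegral.isIntegral_of_subsingleton A.hom
  haveI : IsCharP (Spec (CommRingCat.of k)) p := inferInstance
  haveI : IsCharP A.left p := IsCharP.of_hom A.hom p
  haveI := isFinite_pow (A := A) hp
  haveI := flat_pow (A := A) hp
  haveI := finite_torsPts (A := A) hp
  let φ : A ⟶ A := (𝟙 A) ^ p
  let q := pullback.snd φ.left (η[A]).left
  let Z := pullback φ.left (η[A]).left
  haveI : IsFinite q := inferInstance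
  haveI : Flat q := inferInstance
  haveI : IsAffine (𝟙_ (Over (Spec (CommRingCat.of k)))).left :=
    inferInstanceAs (IsAffine (Spec (CommRingCat.of k)))
  haveI : IsAffine Z := isAffine_of_isAffineHom q
  let C : Type u := Γ(Z, ⊤)
  obtain ⟨alg, halg⟩ := exists_algebra_chart (k := k) q Z.isoSpec.inv
  letI : Algebra k C := alg
  haveI : IsFinite (Spec.map (CommRingCat.ofHom (algebraMap k C))) := halg ▸ inferInstance
  haveI : Flat (Spec.map (CommRingCat.ofHom (algebraMap k C))) := halg ▸ inferInstance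
  haveI hCfin : Module.Finite k C := RingHom.finite_algebraMap.1 ((IsFinite.SpecMap_iff _).1 ‹_›)
  have hrank : Module.finrank k C = p ^ (2 * g) := by
    rw [← finrank_kerPow (A := A) hp g hg (IsLocalRing.closedPoint k)]
    show _ = q.finrank _
    rw [show q = Z.isoSpec.hom ≫ Spec.map (CommRingCat.ofHom (algebraMap k C)) by
        rw [← halg, Iso.hom_inv_id_assoc], Scheme.Hom.finrank_comp_left_of_isIso,
      Scheme.Hom.finrank_SpecMap_algebraMap, Module.rankAtStalk_eq_finrank_of_free]
    rfl
  suffices h : ∀ a : ↥(AbDual.torsPts A p pt), ∃ (χ : C →ₐ[k] k) (J : Ideal C),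
      (∀ r, χ r = 0 → r ^ p ∈ J) ∧ p ^ g ≤ Module.finrank k (C ⧸ J) ∧
      Spec.map (CommRingCat.ofHom χ.toRingHom) ≫ Z.isoSpec.inv ≫ pullback.fst φ.left (η[A]).left = a.1.left by
    choose χ J h1 h2 h3 using h
    have hinj : Function.Injective χ := fun a b hab => Subtype.ext (Over.OverMorphism.ext (by
      rw [← h3 a, ← h3 b, hab]))
    have := finrank_ge_of_characters p χ hinj J h1 h2
    rw [hrank, two_mul, pow_add] at this
    exact Nat.le_of_mul_le_mul_right this (pow_pos hp g)
  rintro ⟨a, ha⟩
  replace ha : a ^ p = 1 := (AbDual.mem_torsPts A a).1 ha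
  haveI : Subsingleton (Over.mk (𝟙 (Spec (CommRingCat.of k)))).left :=
    inferInstanceAs (Subsingleton (PrimeSpectrum k))
  haveI : IsClosedImmersion a.left := isClosedImmersion_of_comp_eq_id _ _ (Over.w a)
  let x := a.left (IsLocalRing.closedPoint k)
  obtain ⟨U, hU, hxU, -⟩ := exists_isAffineOpen_mem_and_subset (U := (⊤ : A.left.Opens)) (x := x) trivial
  haveI : Nonempty U := ⟨⟨x, hxU⟩⟩
  let B : Type u := Γ(A.left, U)
  let j : Spec (CommRingCat.of B) ⟶ A.left := hU.fromSpec
  obtain ⟨algB, halgB⟩ := exists_algebra_chart (k := k) A.hom j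
  letI : Algebra k B := algB
  haveI : Algebra.FiniteType k B := finiteType_of_chart A.hom j halgB
  haveI : IsDomain B := inferInstanceAs (IsDomain Γ(A.left, U))
  haveI : CharP B p := charP_of_injective_algebraMap (algebraMap k B).injective p
  obtain ⟨m, hm⟩ : x ∈ Set.range j := (Set.ext_iff.1 hU.range_fromSpec x).2 hxU
  have hclosed : IsClosed ({x} : Set A.left) := by
    have hr : Set.range a.left = {x} :=
      Set.Subset.antisymm (by rintro _ ⟨t, rfl⟩; exact congrArg a.left (Subsingleton.elim (α := PrimeSpectrum k) _ _))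
        (by rintro _ rfl; exact ⟨_, rfl⟩)
    exact hr ▸ a.left.isClosedEmbedding.isClosed_range
  have hmcl : IsClosed ({m} : Set (Spec (CommRingCat.of B))) := by
    have := hclosed.preimage j.continuous
    rw [← hm, ← Set.image_singleton, j.isOpenEmbedding.injective.preimage_image] at this
    exact this
  haveI : m.asIdeal.IsMaximal := (PrimeSpectrum.isClosed_singleton_iff_isMaximal m).1 hmcl
  have hgB : ringKrullDim B = g := by
    have h := cdim_eq_chart A.hom j ⟨⊥, Ideal.isPrime_bot⟩
    rw [ringKrullDim_eq_of_ringEquiv (RingEquiv.quotientBot B)] at h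
    have hgen : j ⟨⊥, Ideal.isPrime_bot⟩ = genericPoint A.left := by
      haveI : IsDomain ↥(CommRingCat.of B) := inferInstanceAs (IsDomain B)
      exact (congrArg j (AlgebraicGeometry.genericPoint_eq_bot_of_affine (CommRingCat.of B)).symm).trans
        (genericPoint_eq_of_isOpenImmersion j)
    rw [← h, hgen, cdim, genericPoint_closure, (Homeomorph.Set.univ A.left).isHomeomorph.topologicalKrullDim_eq, hg]
  let I : Ideal B := m.asIdeal.map (frobenius B p)
  obtain ⟨hfin, hlen⟩ := FrobLength.pow_le_finrank_quotient p (k := k) hgB m.asIdeal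
  haveI : Module.Finite k (B ⧸ I) := hfin
  let Q : Type u := B ⧸ I
  -- the character at the point
  letI := Ideal.Quotient.field m.asIdeal
  haveI : Module.Finite k (B ⧸ m.asIdeal) := finite_of_finite_type_of_isJacobsonRing k (B ⧸ m.asIdeal)
  let e : k ≃ₐ[k] B ⧸ m.asIdeal :=
    AlgEquiv.ofBijective (Algebra.ofId k _) IsAlgClosed.algebraMap_bijective_of_isIntegral
  let ε : B →ₐ[k] k := e.symm.toAlgHom.comp (Ideal.Quotient.mkₐ k m.asIdeal)
  have hεker : ∀ b, ε b = 0 ↔ b ∈ m.asIdeal := fun b => by
    show e.symm (Ideal.Quotient.mk _ b) = 0 ↔ _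
    rw [map_eq_zero_iff _ e.symm.injective, Ideal.Quotient.eq_zero_iff_mem]
  have hI : I ≤ m.asIdeal := Ideal.map_le_iff_le_comap.2 fun b hb => by
    rw [Ideal.mem_comap, frobenius_def]
    exact Ideal.pow_mem_of_mem _ hb p hp
  let εQ : Q →ₐ[k] k := Ideal.Quotient.liftₐ I ε fun b hb => (hεker b).2 (hI hb)
  have hapt : a.left = Spec.map (CommRingCat.ofHom ε.toRingHom) ≫ j := by
    refine ext_of_apply_closedPoint_eq A.hom (Over.w a) ?_ ?_
    · rw [Category.assoc, halgB, ← Spec.map_comp, ← Spec.map_id]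
      congr 1
      ext c
      exact ε.commutes c
    · show x = _
      rw [Scheme.Hom.comp_apply, ← hm]
      congr 1
      refine PrimeSpectrum.ext (Ideal.ext fun b => (hεker b).symm.trans ?_)
      show ε b = 0 ↔ ε b ∈ IsLocalRing.maximalIdeal k
      rw [IsLocalRing.maximalIdeal_eq_bot, Ideal.mem_bot]
  let T : Over (Spec (CommRingCat.of k)) := Over.mk (Spec.map (CommRingCat.ofHom (algebraMap k Q)))
  let xT : T ⟶ A := Over.homMk (Spec.map (CommRingCat.ofHom (Ideal.Quotient.mk I)) ≫ j) (by
    show (_ ≫ j) ≫ A.hom = _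
    rw [Category.assoc, halgB, ← Spec.map_comp]
    rfl)
  let cT : T ⟶ A := Over.homMk T.hom (Category.comp_id _) ≫ a
  haveI : CharP Q p := by
    haveI : Nontrivial Q := εQ.toRingHom.domain_nontrivial
    exact charP_of_injective_algebraMap (algebraMap k Q).injective p
  haveI : IsCharP T.left p := IsCharP.of_hom T.hom p
  haveI : IsCharP (Spec (CommRingCat.of Q)) p := ‹IsCharP T.left p›
  haveI : CharP (CommRingCat.of Q) p := ‹CharP Q p›
  have hfrob : xT.left ≫ frob A.left p = cT.left ≫ frob A.left p := by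
    rw [← frob_comp p xT.left, ← frob_comp p cT.left]
    show frob (Spec (CommRingCat.of Q)) p ≫ _ = frob (Spec (CommRingCat.of Q)) p ≫ T.hom ≫ a.left
    rw [frob_Spec p (CommRingCat.of Q), hapt, ← Category.assoc T.hom]
    show Spec.map _ ≫ Spec.map _ ≫ j = Spec.map _ ≫ (Spec.map _ ≫ Spec.map _) ≫ j
    simp only [← Category.assoc, ← Spec.map_comp, ← CommRingCat.ofHom_comp]
    congr 3
    ext b
    show (Ideal.Quotient.mk I b) ^ p = (Ideal.Quotient.mk I (algebraMap k B (ε b))) ^ p
    rw [← map_pow, ← map_pow, Ideal.Quotient.eq, ← sub_pow_char]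
    exact Ideal.mem_map_of_mem (frobenius B p) ((hεker _).1 (by simp))
  have hcT : cT ^ p = 1 := by
    show (_ ≫ a) ^ p = 1
    rw [← MonObj.comp_pow, ha, MonObj.comp_one]
  have hxT := pow_eq_one_of_const p xT cT hcT hfrob
  let t : T.left ⟶ Z := pullback.lift xT.left T.hom (by
    rw [← Over.comp_left, comp_pow_id, hxT]
    exact H19Grp.one_left _)
  haveI : IsFinite T.hom :=
    (IsFinite.SpecMap_iff _).2 (RingHom.finite_algebraMap.2 (inferInstanceAs (Module.Finite k Q)))
  haveI : IsPreimmersion xT.left := by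
    show IsPreimmersion (Spec.map _ ≫ j)
    haveI := IsClosedImmersion.spec_of_surjective (CommRingCat.ofHom (Ideal.Quotient.mk I)) Ideal.Quotient.mk_surjective
    infer_instance
  haveI : IsFinite xT.left := by
    haveI : IsFinite (xT.left ≫ A.hom) := by rw [Over.w xT]; infer_instance
    exact IsFinite.of_comp _ A.hom
  haveI : Mono xT.left := inferInstance
  haveI : IsClosedImmersion xT.left := IsClosedImmersion.of_isPreimmersion _ xT.left.isClosedMap.isClosed_range
  haveI : IsClosedImmersion t := by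
    haveI : IsClosedImmersion (t ≫ pullback.fst φ.left (η[A]).left) := by rw [pullback.lift_fst]; infer_instance
    exact IsClosedImmersion.of_comp t (pullback.fst φ.left (η[A]).left)
  let ψ₀ := Spec.preimage (t ≫ Z.isoSpec.hom : Spec (CommRingCat.of Q) ⟶ Spec Γ(Z, ⊤))
  have hψsurj : Function.Surjective ψ₀.hom := by
    haveI : IsClosedImmersion (Spec.map ψ₀) := by
      rw [Spec.map_preimage]
      infer_instance
    obtain ⟨-, h⟩ := IsClosedImmersion.isAffine_surjective_of_isAffine (Spec.map ψ₀)
    intro z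
    obtain ⟨c, hc⟩ := h ((Scheme.ΓSpecIso _).inv z)
    refine ⟨(Scheme.ΓSpecIso _).hom c, ?_⟩
    have e := ConcreteCategory.congr_hom (Scheme.ΓSpecIso_naturality ψ₀) c
    exact e.symm.trans ((congrArg (Scheme.ΓSpecIso _).hom hc).trans (Iso.inv_hom_id_apply _ z))
  have hψalg : ∀ c, ψ₀.hom (algebraMap k C c) = algebraMap k Q c := by
    have : Spec.map ψ₀ ≫ Spec.map (CommRingCat.ofHom (algebraMap k C)) =
        Spec.map (CommRingCat.ofHom (algebraMap k Q)) := by
      rw [Spec.map_preimage, Category.assoc, ← halg, Iso.hom_inv_id_assoc]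
      exact pullback.lift_snd _ _ _
    rw [← Spec.map_comp] at this
    intro c
    exact ConcreteCategory.congr_hom (Spec.map_injective this) c
  let ψ : C →ₐ[k] Q := { ψ₀.hom with commutes' := hψalg }
  refine ⟨εQ.comp ψ, RingHom.ker ψ.toRingHom, fun r hr => ?_, ?_, ?_⟩
  · obtain ⟨b, hb⟩ := Ideal.Quotient.mk_surjective (ψ r)
    rw [RingHom.mem_ker, map_pow]
    show (ψ r) ^ p = 0
    rw [← hb, ← map_pow, Ideal.Quotient.eq_zero_iff_mem]
    refine Ideal.mem_map_of_mem (frobenius B p) ((hεker b).1 ?_)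
    rw [← hr]
    show ε b = εQ (ψ r)
    rw [← hb]
    rfl
  · refine hlen.trans (le_of_eq ?_)
    exact (Ideal.quotientKerAlgEquivOfSurjective (f := ψ) hψsurj).toLinearEquiv.finrank_eq.symm
  · have hψ : Spec.map (CommRingCat.ofHom ψ.toRingHom) = t ≫ Z.isoSpec.hom := Spec.map_preimage _
    show Spec.map (CommRingCat.ofHom (εQ.toRingHom.comp ψ.toRingHom)) ≫ _ = a.left
    rw [CommRingCat.ofHom_comp, Spec.map_comp, hψ, Category.assoc, Category.assoc, Iso.hom_inv_id_assoc,
      pullback.lift_fst, hapt]
    show Spec.map _ ≫ Spec.map _ ≫ j = _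
    rw [← Category.assoc, ← Spec.map_comp]
    rfl

/-- The points killed by a power of the characteristic are free over the integers modulo that power. -/
theorem exists_pRank (g : ℕ) (hg : topologicalKrullDim A.left = g) :
    ∃ i : ℕ, i ≤ g ∧ ∀ m : ℕ, Nonempty (AbDual.torsPts A (p ^ m) pt ≃* Multiplicative (Fin i → ZMod (p ^ m))) := by
  have hp : p.Prime := Fact.out
  have hG : IsPGroup p ↥(AbDual.torsPts A p pt) := fun x => ⟨1, Subtype.ext (by
    simpa using (AbDual.mem_torsPts A _).1 x.2)⟩
  haveI := finite_torsPts (A := A) hp.pos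
  obtain ⟨i, hi⟩ := hG.exists_card_eq
  have hig : i ≤ g := (Nat.pow_le_pow_iff_right hp.one_lt).1 (hi ▸ card_torsPts_le_pow p g hg)
  refine ⟨i, hig, fun m => GroupTorsion.nonempty_equiv (G := pt ⟶ A) i (pow_pos hp.pos m) fun n hn => ?_⟩
  obtain ⟨j, -, rfl⟩ := (Nat.dvd_prime_pow hp).1 hn
  clear hn
  induction j with
  | zero => rw [pow_zero, one_pow]; exact GroupTorsion.card_one
  | succ j ih =>
    let f : GroupTorsion.tors (pt ⟶ A) (p ^ (j + 1)) →* GroupTorsion.tors (pt ⟶ A) (p ^ j) :=
      MonoidHom.mk' (fun x => ⟨x.1 ^ p, GroupTorsion.mem_tors.2 (by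
        rw [← pow_mul, ← pow_succ']; exact GroupTorsion.mem_tors.1 x.2)⟩) fun x y => Subtype.ext (mul_pow x.1 y.1 p)
    have hf : Function.Surjective f := fun y => by
      obtain ⟨b, hb⟩ := exists_pow_eq (A := A) hp.pos y.1
      exact ⟨⟨b, GroupTorsion.mem_tors.2 (by rw [pow_succ', pow_mul, hb]; exact GroupTorsion.mem_tors.1 y.2)⟩,
        Subtype.ext hb⟩
    have hker : Nat.card f.ker = p ^ i := by
      rw [← hi]
      exact Nat.card_congr
        { toFun := fun x => ⟨x.1.1, (AbDual.mem_torsPts A _).2 (congrArg Subtype.val x.2)⟩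
          invFun := fun x => ⟨⟨x.1, GroupTorsion.mem_tors.2 (by
            rw [pow_succ', pow_mul, (AbDual.mem_torsPts A _).1 x.2, one_pow])⟩,
            Subtype.ext ((AbDual.mem_torsPts A _).1 x.2)⟩
          left_inv := fun x => rfl
          right_inv := fun x => rfl }
    rw [Subgroup.card_eq_card_quotient_mul_card_subgroup f.ker, hker,
      Nat.card_congr (QuotientGroup.quotientKerEquivOfSurjective f hf).toEquiv, ih, ← mul_pow, ← pow_succ]

end Groth.Agent.H25AbCube.PRank
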