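import Groth.Agent.H25AbCube.FunDescent
import Groth.Agent.H25AbCube.Basic
import Groth.Agent.H11Ample.Basic
import Groth.Agent.H11Ample.Tensor
import Mathlib.LinearAlgebra.LinearIndependent.Lemmas
import Mathlib.RingTheory.Finiteness.Basic

/-!
# The classes killed by pullback along a quotient by a finite group are at most as many as the group
-/

set_option autoImplicit false
set_option linter.style.haveILetI false
set_option backward.isDefEq.respectTransparency false
universe u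

open CategoryTheory CategoryTheory.Limits AlgebraicGeometry TopologicalSpace
open Groth.Agent Groth.Agent.H11Ample Groth.Agent.H11Tilde

noncomputable section

namespace Groth.Agent.H25AbCube.PicKernel

variable {X Y : Scheme.{u}} {q : X ⟶ Y}

/-- Restriction of functions. -/
abbrev rs {Z : Scheme.{u}} {U V : Z.Opens} (h : V ≤ U) (a : Γ(Z, U)) : Γ(Z, V) := Z.presheaf.map (homOfLE h).op a

theorem rs_rs {Z : Scheme.{u}} {U V W : Z.Opens} (h : V ≤ U) (h' : W ≤ V) (a : Γ(Z, U)) :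
    rs h' (rs h a) = rs (h'.trans h) a := H10Coh.rres_rres _ _ _

theorem rs_mul {Z : Scheme.{u}} {U V : Z.Opens} (h : V ≤ U) (a b : Γ(Z, U)) : rs h (a * b) = rs h a * rs h b :=
  map_mul (Z.presheaf.map (homOfLE h).op).hom a b

theorem rs_one {Z : Scheme.{u}} {U V : Z.Opens} (h : V ≤ U) : rs h (1 : Γ(Z, U)) = 1 :=
  map_one (Z.presheaf.map (homOfLE h).op).hom

theorem rs_app {U V : Y.Opens} (h : V ≤ U) (a : Γ(Y, U)) :
    q.app V (rs h a) = rs (q.preimage_mono h) (q.app U a) :=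
  congrArg (fun ψ : Γ(Y, U) ⟶ Γ(X, q ⁻¹ᵁ V) => ψ a) (q.naturality (homOfLE h).op)

/-- Frames of a module whose pullback is trivial: units on the inverse images, changing by the transition
functions. -/
structure Triv (q : X ⟶ Y) (M : Y.Modules) where
  V : Y → Y.Opens
  mem : ∀ x, x ∈ V x
  e : ∀ x, Γ(M, V x)
  gen : ∀ x, IsGen M (e x)
  g : ∀ x, Γ(X, q ⁻¹ᵁ V x)
  unit : ∀ x, IsUnit (g x)
  trans : ∀ (x y : Y) (W : Y.Opens) (hx : W ≤ V x) (hy : W ≤ V y) (c : Γ(Y, W)),
    M.presheaf.map (homOfLE hx).op (e x) = c • M.presheaf.map (homOfLE hy).op (e y) →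
      rs (q.preimage_mono hx) (g x) = q.app W c * rs (q.preimage_mono hy) (g y)

theorem exists_triv {M : Y.Modules} (hM : PicF.IsInvertible M)
    (φ : (Scheme.Modules.pullback q).obj M ≅ Coh.structureModule X) : Nonempty (Triv q M) := by
  choose V e hxV he using exists_gen hM
  refine ⟨⟨V, hxV, e, he, fun x => φ.hom.app (q ⁻¹ᵁ V x) (OmegaSh.pullSect q M (V x) (e x)), fun x => ?_,
    fun x y W hx hy c h => ?_⟩⟩
  · obtain ⟨c, hc⟩ := exists_coeff (isGen_map_iso φ (IsGen.pullSect q (he x))) (one (q ⁻¹ᵁ V x))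
    exact IsUnit.of_mul_eq_one_right c hc.symm
  · have h0 := congrArg (fun s => φ.hom.app (q ⁻¹ᵁ W) (OmegaSh.pullSect q M W s)) h
    simp only [OmegaSh.pullSect_smul, Scheme.Modules.Hom.app_smul] at h0
    rw [H11Tilde.pullSect_res, H11Tilde.pullSect_res, H11Tilde.app_map_apply, H11Tilde.app_map_apply] at h0
    exact h0

variable {G : Type*} [Group G] (t : G → (X ⟶ X)) (htq : ∀ a, t a ≫ q = q)

include htq in
theorem act_le (a : G) (V : Y.Opens) : q ⁻¹ᵁ V ≤ t a ⁻¹ᵁ (q ⁻¹ᵁ V) := le_of_eq (by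
  show q ⁻¹ᵁ V = (t a ≫ q) ⁻¹ᵁ V
  rw [htq])

/-- The action on functions on a saturated open. -/
def act (a : G) (V : Y.Opens) : Γ(X, q ⁻¹ᵁ V) →+* Γ(X, q ⁻¹ᵁ V) :=
  ((t a).appLE (q ⁻¹ᵁ V) (q ⁻¹ᵁ V) (act_le t htq a V)).hom

theorem act_rs (a : G) {U V : Y.Opens} (h : V ≤ U) (s : Γ(X, q ⁻¹ᵁ U)) :
    act t htq a V (rs (q.preimage_mono h) s) = rs (q.preimage_mono h) (act t htq a U s) := by
  show ((X.presheaf.map (homOfLE (q.preimage_mono h)).op) ≫ (t a).appLE _ _ (act_le t htq a V)) s =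
    ((t a).appLE _ _ (act_le t htq a U) ≫ X.presheaf.map (homOfLE (q.preimage_mono h)).op) s
  rw [Scheme.Hom.map_appLE, Scheme.Hom.appLE_map]

theorem act_app (a : G) (V : Y.Opens) (c : Γ(Y, V)) : act t htq a V (q.app V c) = q.app V c := by
  show (q.app V ≫ (t a).appLE _ _ (act_le t htq a V)) c = q.app V c
  rw [Scheme.Hom.app_eq_appLE, Scheme.Hom.appLE_comp_appLE]
  simp only [htq]

theorem act_global (a : G) (hfix : ∀ s : Γ(X, ⊤), (t a).appTop s = s) (V : Y.Opens) (s : Γ(X, ⊤)) :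
    act t htq a V (rs le_top s) = rs le_top s := by
  conv_rhs => rw [← hfix s]
  show ((X.presheaf.map (homOfLE (le_top : q ⁻¹ᵁ V ≤ ⊤)).op) ≫ (t a).appLE _ _ (act_le t htq a V)) s =
    ((t a).appTop ≫ X.presheaf.map (homOfLE (le_top : q ⁻¹ᵁ V ≤ ⊤)).op) s
  have hT : (t a).appTop = (t a).appLE ⊤ ⊤ le_rfl := Scheme.Hom.app_eq_appLE _
  rw [hT, Scheme.Hom.map_appLE, Scheme.Hom.appLE_map]

variable {M N : Y.Modules}

include htq in
theorem exists_char (T : Triv q M) (a : G) :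
    ∃ r : Γ(X, ⊤), ∀ x, act t htq a (T.V x) (T.g x) = rs le_top r * T.g x := by
  choose w hw using fun x => (T.unit x)
  let r : ∀ x, Γ(X, q ⁻¹ᵁ T.V x) := fun x => act t htq a (T.V x) (T.g x) * (↑(w x)⁻¹ : Γ(X, q ⁻¹ᵁ T.V x))
  have hr : ∀ x, r x * T.g x = act t htq a (T.V x) (T.g x) := fun x => by
    rw [_root_.mul_assoc, ← hw x, Units.inv_mul, _root_.mul_one]
  obtain ⟨R, hR, -⟩ := X.sheaf.existsUnique_gluing' (fun x => q ⁻¹ᵁ T.V x) ⊤ (fun x => homOfLE le_top)
    (fun z _ => Opens.mem_iSup.2 ⟨q z, T.mem (q z)⟩) r fun x y => by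
      let W := T.V x ⊓ T.V y
      obtain ⟨c, hc⟩ := transition (ei := T.e x) (T.gen y)
      have h1 := T.trans x y W inf_le_left inf_le_right c hc
      have hux : IsUnit (rs (q.preimage_mono (inf_le_left : W ≤ T.V x)) (T.g x)) := (T.unit x).map _
      show rs (q.preimage_mono (inf_le_left : W ≤ T.V x)) (r x) = rs (q.preimage_mono (inf_le_right : W ≤ T.V y)) (r y)
      refine hux.mul_left_injective ?_
      beta_reduce
      conv_rhs => rw [h1, mul_left_comm, ← map_mul (X.presheaf.map _).hom, hr y]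
      rw [← map_mul (X.presheaf.map _).hom, hr x]
      show rs _ (act t htq a _ _) = q.app W c * rs _ (act t htq a _ _)
      rw [← act_rs t htq a inf_le_left, ← act_rs t htq a inf_le_right, h1, map_mul, act_app]
  exact ⟨R, fun x => by rw [← hr x]; exact congrArg (· * T.g x) (hR x).symm⟩

variable [IsIntegral X]

theorem char_unique (T : Triv q M) (a : G) [Surjective q] {r r' : Γ(X, ⊤)} (x : Y)
    (h : act t htq a (T.V x) (T.g x) = rs le_top r * T.g x)
    (h' : act t htq a (T.V x) (T.g x) = rs le_top r' * T.g x) : r = r' := by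
  have h2 : rs (le_top : q ⁻¹ᵁ T.V x ≤ ⊤) r = rs le_top r' := (T.unit x).mul_left_injective (h.symm.trans h')
  obtain ⟨z, hz⟩ := q.surjective x
  haveI : Nonempty (q ⁻¹ᵁ T.V x).toScheme := ⟨⟨z, show q z ∈ T.V x by rw [hz]; exact T.mem x⟩⟩
  exact map_injective_of_isIntegral X (homOfLE (le_top : q ⁻¹ᵁ T.V x ≤ ⊤)) h2

/-- The character of a trivialised module. -/
def char [Surjective q] [Nonempty X] (ht1 : t 1 = 𝟙 X) (htm : ∀ a b, t (a * b) = t b ≫ t a)
    (hfix : ∀ a (s : Γ(X, ⊤)), (t a).appTop s = s) (T : Triv q M) : G →* Γ(X, ⊤) where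
  toFun a := (exists_char t htq T a).choose
  map_one' := by
    refine char_unique t htq T 1 (q (Classical.arbitrary X)) ((exists_char t htq T 1).choose_spec _) ?_
    rw [rs_one, _root_.one_mul]
    show (t 1).appLE _ _ _ (T.g _) = _
    simp only [ht1]
    simp [Scheme.Hom.appLE]
    exact congrArg (fun ψ : Γ(X, _) ⟶ Γ(X, _) => ψ _) (X.presheaf.map_id _)
  map_mul' a b := by
    let x := q (Classical.arbitrary X)
    refine char_unique t htq T (a * b) x ((exists_char t htq T (a * b)).choose_spec x) ?_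
    have e : act t htq (a * b) (T.V x) (T.g x) = act t htq b (T.V x) (act t htq a (T.V x) (T.g x)) := by
      show (t (a * b)).appLE _ _ _ (T.g x) = ((t a).appLE _ _ (act_le t htq a _) ≫ (t b).appLE _ _ (act_le t htq b _)) (T.g x)
      rw [Scheme.Hom.appLE_comp_appLE]
      simp only [htm]
    rw [e, (exists_char t htq T a).choose_spec x, map_mul, act_global t htq b (hfix b),
      (exists_char t htq T b).choose_spec x, ← _root_.mul_assoc]
    exact congrArg (· * T.g x) (map_mul (X.presheaf.map _).hom _ _).symm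

/-- Modules with the same character are isomorphic. -/
theorem iso_of_char [Surjective q] [Flat q] [QuasiCompact q] [Nonempty X] (ht1 : t 1 = 𝟙 X)
    (htm : ∀ a b, t (a * b) = t b ≫ t a) (hfix : ∀ a (s : Γ(X, ⊤)), (t a).appTop s = s)
    (hpair : ∀ (V : Y.Opens) (f : Γ(X, q ⁻¹ᵁ V)), (∀ a, act t htq a V f = f) →
      ∀ {Z : Scheme.{u}} (g₁ g₂ : Z ⟶ X), g₁ ≫ q = g₂ ≫ q →
        ∀ (e₁ : ⊤ ≤ g₁ ⁻¹ᵁ (q ⁻¹ᵁ V)) (e₂ : ⊤ ≤ g₂ ⁻¹ᵁ (q ⁻¹ᵁ V)),
          g₁.appLE (q ⁻¹ᵁ V) ⊤ e₁ f = g₂.appLE (q ⁻¹ᵁ V) ⊤ e₂ f)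
    (T : Triv q M) (S : Triv q N) (h : char t htq ht1 htm hfix T = char t htq ht1 htm hfix S) :
    Nonempty (M ≅ N) := by
  have hch : ∀ a, (exists_char t htq T a).choose = (exists_char t htq S a).choose := fun a =>
    DFunLike.congr_fun h a
  let W : Y × Y → Y.Opens := fun p => T.V p.1 ⊓ S.V p.2
  have key : ∀ p : Y × Y, ∃ d : Γ(Y, W p), IsUnit d ∧ rs (q.preimage_mono inf_le_left) (T.g p.1) =
      q.app (W p) d * rs (q.preimage_mono inf_le_right) (S.g p.2) := by
    intro p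
    have h1 : IsUnit (rs (q.preimage_mono (inf_le_left : W p ≤ _)) (T.g p.1)) := (T.unit p.1).map _
    have h2 : IsUnit (rs (q.preimage_mono (inf_le_right : W p ≤ _)) (S.g p.2)) := (S.unit p.2).map _
    have inv : ∀ f : Γ(X, q ⁻¹ᵁ W p), rs (q.preimage_mono inf_le_left) (T.g p.1) =
        f * rs (q.preimage_mono inf_le_right) (S.g p.2) → ∀ a, act t htq a (W p) f = f := by
      intro f hf a
      have h3 := congrArg (act t htq a (W p)) hf
      rw [map_mul, act_rs t htq a inf_le_left, act_rs t htq a inf_le_right, (exists_char t htq T a).choose_spec,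
        (exists_char t htq S a).choose_spec, hch a, rs_mul, rs_mul,
        rs_rs, rs_rs] at h3
      have hr : IsUnit (rs (le_top : q ⁻¹ᵁ W p ≤ ⊤) (exists_char t htq S a).choose) := by
        have := (Group.isUnit a).map (char t htq ht1 htm hfix S)
        exact this.map _
      rw [hf, mul_left_comm] at h3
      exact ((hr.mul h2).mul_left_injective (by beta_reduce; rw [← _root_.mul_assoc] at h3 ⊢; rw [_root_.mul_comm f]; linear_combination h3)).symm
    obtain ⟨u, hu⟩ := h2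
    obtain ⟨v, hv⟩ := h1
    let f : Γ(X, q ⁻¹ᵁ W p) := ↑(v * u⁻¹)
    have hf : rs (q.preimage_mono inf_le_left) (T.g p.1) = f * rs (q.preimage_mono inf_le_right) (S.g p.2) := by
      rw [← hu, ← hv, ← Units.val_mul, inv_mul_cancel_right]
    have hinv := inv f hf
    have hinv' : ∀ a, act t htq a (W p) ((↑(v * u⁻¹)⁻¹ : Γ(X, q ⁻¹ᵁ W p))) = ↑(v * u⁻¹)⁻¹ := fun a => by
      have := congrArg (fun s => Units.val s) (map_inv (Units.map (act t htq a (W p)).toMonoidHom) (v * u⁻¹))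
      refine this.trans (congrArg (fun s : Γ(X, q ⁻¹ᵁ W p)ˣ => (↑s⁻¹ : Γ(X, q ⁻¹ᵁ W p))) (Units.ext (hinv a)))
    obtain ⟨hinjq, hdesc⟩ := app_descent q (W p)
    obtain ⟨d, hd⟩ := hdesc f (hpair (W p) f hinv)
    obtain ⟨d', hd'⟩ := hdesc _ (hpair (W p) _ hinv')
    refine ⟨d, IsUnit.of_mul_eq_one d' (hinjq ?_), by rw [hd]; exact hf⟩
    rw [map_mul, hd, hd', map_one, Units.mul_inv]
  choose d hd hdg using key
  obtain ⟨φ, -⟩ := exists_iso_of_gen (P := M) (Q := N) W (fun y => ⟨(y, y), T.mem y, S.mem y⟩)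
    (fun p => M.presheaf.map (homOfLE inf_le_left).op (T.e p.1)) (fun p => (T.gen p.1).res _)
    (fun p => d p • N.presheaf.map (homOfLE inf_le_right).op (S.e p.2))
    (fun p => isGen_res (S.gen p.2) inf_le_right (hd p)) fun i j u hu => by
      have hiW : W i ⊓ W j ≤ W i := inf_le_left
      have hjW : W i ⊓ W j ≤ W j := inf_le_right
      rw [H10Coh.mres_mres, H10Coh.mres_mres] at hu
      rw [Scheme.Modules.map_smul, Scheme.Modules.map_smul, H10Coh.mres_mres, H10Coh.mres_mres]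
      obtain ⟨c, hc⟩ := ((S.gen j.2).bijective (hjW.trans inf_le_right)).2
        (N.presheaf.map (homOfLE (hiW.trans inf_le_right)).op (S.e i.2))
      beta_reduce at hc
      rw [← hc, smul_smul, smul_smul]
      refine congrArg (· • _) ((app_descent q (W i ⊓ W j)).1 ?_)
      have hS := S.trans i.2 j.2 _ (hiW.trans inf_le_right) (hjW.trans inf_le_right) c hc.symm
      have hT := T.trans i.1 j.1 _ (hiW.trans inf_le_left) (hjW.trans inf_le_left) u hu
      have hi := congrArg (rs (q.preimage_mono hiW)) (hdg i)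
      have hj := congrArg (rs (q.preimage_mono hjW)) (hdg j)
      rw [rs_mul, ← rs_app hiW, rs_rs, rs_rs] at hi
      rw [rs_mul, ← rs_app hjW, rs_rs, rs_rs] at hj
      refine ((S.unit j.2).map (X.presheaf.map (homOfLE (q.preimage_mono (hjW.trans inf_le_right))).op).hom).mul_left_injective ?_
      beta_reduce
      show q.app _ (rs hiW (d i) * c) * rs _ (S.g j.2) = q.app _ (u * rs hjW (d j)) * rs _ (S.g j.2)
      rw [map_mul, map_mul, _root_.mul_assoc, ← hS, _root_.mul_assoc, ← hj, ← hT]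
      exact hi.symm
  exact ⟨φ⟩

/-- There are at most as many classes killed by the pullback as elements of the group. -/
theorem card_ker_le [Finite G] [Surjective q] [Flat q] [QuasiCompact q] [Nonempty X] (ht1 : t 1 = 𝟙 X)
    (htm : ∀ a b, t (a * b) = t b ≫ t a) (hfix : ∀ a (s : Γ(X, ⊤)), (t a).appTop s = s)
    (hpair : ∀ (V : Y.Opens) (f : Γ(X, q ⁻¹ᵁ V)), (∀ a, act t htq a V f = f) →
      ∀ {Z : Scheme.{u}} (g₁ g₂ : Z ⟶ X), g₁ ≫ q = g₂ ≫ q →
        ∀ (e₁ : ⊤ ≤ g₁ ⁻¹ᵁ (q ⁻¹ᵁ V)) (e₂ : ⊤ ≤ g₂ ⁻¹ᵁ (q ⁻¹ᵁ V)),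
          g₁.appLE (q ⁻¹ᵁ V) ⊤ e₁ f = g₂.appLE (q ⁻¹ᵁ V) ⊤ e₂ f) :
    Finite {u : PC Y // pullP q u = 0} ∧ Nat.card {u : PC Y // pullP q u = 0} ≤ Nat.card G := by
  classical
  have hT : ∀ u : {u : PC Y // pullP q u = 0}, ∃ (M : Y.Modules) (hM : PicF.IsInvertible M),
      pc M hM = u.1 ∧ Nonempty (Triv q M) := by
    rintro ⟨u, hu⟩
    obtain ⟨M, hM, rfl⟩ := exists_rep u
    rw [← pullP_pc q M hM (H11Ample.isInvertible_pullback q hM), ← pc_one, pc_eq_iff] at hu
    exact ⟨M, hM, rfl, exists_triv hM hu.some⟩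
  choose M hM hpc T using hT
  let χ : {u : PC Y // pullP q u = 0} → (G →* Γ(X, ⊤)) := fun u => char t htq ht1 htm hfix (T u).some
  have hinj : Function.Injective χ := fun u v huv => by
    refine Subtype.ext ?_
    rw [← hpc u, ← hpc v, pc_eq_iff]
    exact iso_of_char t htq ht1 htm hfix hpair _ _ huv
  haveI := Fintype.ofFinite G
  have hli := (linearIndependent_monoidHom G Γ(X, ⊤))
  haveI : Finite (G →* Γ(X, ⊤)) := hli.finite
  haveI := Fintype.ofFinite (G →* Γ(X, ⊤))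
  haveI : Finite {u : PC Y // pullP q u = 0} := Finite.of_injective χ hinj
  refine ⟨inferInstance, (Nat.card_le_card_of_injective χ hinj).trans ?_⟩
  have := hli.fintype_card_le_finrank
  rw [Module.finrank_pi] at this
  rw [Nat.card_eq_fintype_card, Nat.card_eq_fintype_card]
  exact this

end Groth.Agent.H25AbCube.PicKernel
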