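import Groth.Agent.H25AbCube.KFinite
import Groth.Agent.H25AbCube.TorsionStr
import Groth.Agent.H25AbCube.HomFG
import Groth.Agent.H19Grp.Transporter
import Groth.Agent.H19Grp.AffinizationKernel
import Groth.Agent.H19Grp.AlgClosedGeom
import Groth.Agent.H12Pic.SeesawScheme
import Groth.Agent.H12Pic.IntegralFibres

/-!
# The orthogonal subgroup of an abelian subvariety with respect to a class
-/

set_option autoImplicit false
set_option linter.style.haveILetI false
set_option linter.unusedSectionVars false
set_option backward.isDefEq.respectTransparency false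
universe u

open CategoryTheory CategoryTheory.Limits MonoidalCategory CartesianMonoidalCategory MonObj GrpObj AlgebraicGeometry
  TopologicalSpace
open Groth.Agent

noncomputable section

namespace Groth.Agent.H25AbCube

variable {k : Type u} [Field k] {A B : Over (Spec (CommRingCat.of k))} [GrpObj A] [IsProper A.hom]
  [GeometricallyIntegral A.hom] [IsProper B.hom] [GeometricallyIntegral B.hom]

/-- The obstruction `L(p q) - L(p) - L(q)`. -/
def th (L : PC A.left) {T : Over (Spec (CommRingCat.of k))} (p q : T ⟶ A) : PC T.left :=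
  ev L (p * q) - ev L p - ev L q

theorem th_eq (L : PC A.left) {T : Over (Spec (CommRingCat.of k))} (p q : T ⟶ A) :
    ev (theta L) (lift p q) = th L p q := ev_theta L p q

theorem th_mul_right (L : PC A.left) {T : Over (Spec (CommRingCat.of k))} (p g h : T ⟶ A) :
    th L p (g * h) = th L p g + th L p h := by
  have h3 := three L p g h
  rw [th, th, th, ← _root_.mul_assoc]
  linear_combination (norm := abel) h3

theorem th_one_right (L : PC A.left) {T : Over (Spec (CommRingCat.of k))} (p : T ⟶ A) :
    th L p 1 = 0 := by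
  have h := th_mul_right L p 1 1
  rw [_root_.one_mul] at h
  exact left_eq_add.1 h

theorem th_inv_right (L : PC A.left) {T : Over (Spec (CommRingCat.of k))} (p g : T ⟶ A) :
    th L p g⁻¹ = - th L p g := by
  have h := th_mul_right L p g g⁻¹
  rw [mul_inv_cancel, th_one_right] at h
  exact eq_neg_of_add_eq_zero_right h.symm

theorem ev_th (L : PC A.left) {T T' : Over (Spec (CommRingCat.of k))} (r : T' ⟶ T) (p q : T ⟶ A) :
    ev (th L p q) r = th L (r ≫ p) (r ≫ q) := by
  rw [← th_eq, ev_comp, comp_lift, th_eq]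

/-- The pairing of a point of `A` with the subvariety. -/
def pairing (L : PC A.left) (i : B ⟶ A) {T : Over (Spec (CommRingCat.of k))} (a : T ⟶ A) : PC (B ⊗ T).left :=
  th L (fst B T ≫ i) (snd B T ≫ a)

theorem pairing_mul (L : PC A.left) (i : B ⟶ A) {T : Over (Spec (CommRingCat.of k))} (a b : T ⟶ A) :
    pairing L i (a * b) = pairing L i a + pairing L i b := by
  rw [pairing, MonObj.comp_mul, th_mul_right]
  rfl

theorem pairing_one (L : PC A.left) (i : B ⟶ A) (T : Over (Spec (CommRingCat.of k))) :
    pairing L i (1 : T ⟶ A) = 0 := by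
  rw [pairing, MonObj.comp_one, th_one_right]

theorem pairing_inv (L : PC A.left) (i : B ⟶ A) {T : Over (Spec (CommRingCat.of k))} (a : T ⟶ A) :
    pairing L i a⁻¹ = - pairing L i a := by
  rw [pairing, GrpObj.comp_inv, th_inv_right]
  rfl

/-- The orthogonal subgroup: its points are the points whose pairing comes from the base. -/
theorem exists_orth [IsCommMonObj A] (L : PC A.left) (i : B ⟶ A) :
    ∃ (Z : Over (Spec (CommRingCat.of k))) (_ : GrpObj Z) (j : Z ⟶ A), IsMonHom j ∧ IsClosedImmersion j.left ∧
      ∀ (T : Over (Spec (CommRingCat.of k))) (a : T ⟶ A),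
        (∃ z : T ⟶ Z, z ≫ j = a) ↔ ∃ N : PC T.left, pairing L i a = ev N (snd B T) := by
  let U : PC (B ⊗ A).left := ev (theta L) (lift (fst B A ≫ i) (snd B A))
  obtain ⟨Q, hQ, hU⟩ := exists_rep U
  let f := pullback.snd B.hom A.hom
  haveI : IsProper f := MorphismProperty.pullback_snd (P := @IsProper) _ _ inferInstance
  haveI : Flat f := MorphismProperty.pullback_snd (P := @Flat) _ _ inferInstance
  haveI : LocallyOfFinitePresentation B.hom :=
    LocallyOfFinitePresentation.iff_locallyOfFiniteType.2 inferInstance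
  haveI : LocallyOfFinitePresentation f :=
    MorphismProperty.pullback_snd (P := @LocallyOfFinitePresentation) _ _ inferInstance
  haveI : GeometricallyIntegral f := MorphismProperty.pullback_snd (P := @GeometricallyIntegral) _ _ inferInstance
  have hint : ∀ s, IsIntegral (f.fiber s) := fun s => inferInstance
  have hK : ∀ s, IsIso (f.fiberToSpecResidueField s).appTop := fun s =>
    H12Pic.isIso_appTop_fiber_of_geomIntegral f s
  obtain ⟨Z, ιZ, hι, hZ⟩ := H12Pic.exists_seesaw_subscheme f hint hK hQ
  haveI := hι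
  let ZO : Over (Spec (CommRingCat.of k)) := Over.mk (ιZ ≫ A.hom)
  let j : ZO ⟶ A := Over.homMk ιZ rfl
  haveI : IsClosedImmersion j.left := hι
  haveI : Mono j := Over.mono_of_mono_left j
  have hfun : ∀ (T : Over (Spec (CommRingCat.of k))) (a : T ⟶ A),
      (∃ z : T ⟶ ZO, z ≫ j = a) ↔ ∃ N : PC T.left, pairing L i a = ev N (snd B T) := by
    intro T a
    let s : B ⊗ T ⟶ B ⊗ A := lift (fst B T) (snd B T ≫ a)
    have hs : ev U s = pairing L i a := by
      show ev (ev (theta L) _) s = _
      rw [ev_comp, comp_lift, th_eq]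
      simp [s, pairing]
    have hs1 : s.left ≫ pullback.fst B.hom A.hom = (fst B T).left := congrArg Over.Hom.left (lift_fst (fst B T) _)
    have hs2 : s.left ≫ f = (snd B T).left ≫ a.left := congrArg Over.Hom.left (lift_snd (fst B T) _)
    let m : (B ⊗ T).left ⟶ pullback f a.left := pullback.lift s.left (snd B T).left hs2
    let m' : pullback f a.left ⟶ (B ⊗ T).left :=
      pullback.lift (pullback.fst f a.left ≫ pullback.fst B.hom A.hom) (pullback.snd f a.left) (by
        rw [Category.assoc, pullback.condition, ← Category.assoc, pullback.condition, Category.assoc, Over.w a])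
    have hm1 : m' ≫ s.left = pullback.fst f a.left := by
      apply pullback.hom_ext
      · rw [Category.assoc, hs1]
        exact pullback.lift_fst _ _ _
      · rw [Category.assoc]
        erw [hs2, ← Category.assoc]
        show (m' ≫ pullback.snd B.hom T.hom) ≫ a.left = _
        rw [pullback.lift_snd]
        exact pullback.condition.symm
    have hm2 : m' ≫ (snd B T).left = pullback.snd f a.left := pullback.lift_snd _ _ _
    have hzu : (∃ z : T ⟶ ZO, z ≫ j = a) ↔ ∃ u' : T.left ⟶ Z, u' ≫ ιZ = a.left :=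
      ⟨fun ⟨z, hz⟩ => ⟨z.left, congrArg Over.Hom.left hz⟩, fun ⟨u', hu'⟩ =>
        ⟨Over.homMk u' (by show u' ≫ ιZ ≫ A.hom = _; rw [reassoc_of% hu', Over.w a]), Over.OverMorphism.ext hu'⟩⟩
    rw [hzu, hZ T.left a.left]
    constructor
    · rintro ⟨N, hN, ⟨φ⟩⟩
      refine ⟨pc N hN, ?_⟩
      have h := (pc_eq_iff (H11Ample.isInvertible_pullback _ hQ) (H11Ample.isInvertible_pullback _ hN)).2 ⟨φ⟩
      rw [pullP_pc _ Q hQ, pullP_pc _ N hN, hU] at h
      have h2 := congrArg (pullP m) h
      rw [pullP_pullP, pullP_pullP, pullback.lift_fst, pullback.lift_snd] at h2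
      exact hs.symm.trans h2
    · rintro ⟨N, hN⟩
      obtain ⟨N, hN', rfl⟩ := exists_rep N
      refine ⟨N, hN', ?_⟩
      refine (pc_eq_iff (H11Ample.isInvertible_pullback _ hQ) (H11Ample.isInvertible_pullback _ hN')).1 ?_
      rw [pullP_pc _ Q hQ, pullP_pc _ N hN', hU]
      have h2 := congrArg (pullP m') (hs.trans hN)
      change pullP m' (pullP s.left U) = pullP m' (pullP (snd B T).left _) at h2
      rw [pullP_pullP, pullP_pullP, hm1, hm2] at h2
      exact h2
  obtain ⟨gZ, hj⟩ := H19Grp.exists_grpObj_of_closed (G := A) j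
    ((hfun _ 1).2 ⟨0, by rw [pairing_one]; exact (map_zero _).symm⟩)
    (fun T a b => by
      obtain ⟨M, hM⟩ := (hfun T (a ≫ j)).1 ⟨a, rfl⟩
      obtain ⟨N, hN⟩ := (hfun T (b ≫ j)).1 ⟨b, rfl⟩
      exact (hfun T _).2 ⟨M + N, by rw [pairing_mul, hM, hN]; exact (map_add _ _ _).symm⟩)
    (fun T a => by
      obtain ⟨M, hM⟩ := (hfun T (a ≫ j)).1 ⟨a, rfl⟩
      exact (hfun T _).2 ⟨-M, by rw [pairing_inv, hM]; exact (map_neg _ _).symm⟩)
  exact ⟨ZO, gZ, j, hj, hι, hfun⟩

/-- A proper group over a field contains an abelian variety whose points have finite index. -/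
theorem exists_abelian_part (Z : Over (Spec (CommRingCat.of k))) [GrpObj Z] [IsProper Z.hom] :
    ∃ (C : Over (Spec (CommRingCat.of k))) (_ : GrpObj C) (_ : IsProper C.hom) (_ : GeometricallyIntegral C.hom)
      (c : C ⟶ Z) (Q : Over (Spec (CommRingCat.of k))) (_ : GrpObj Q) (ρ : Z ⟶ Q),
      IsMonHom c ∧ IsClosedImmersion c.left ∧ IsMonHom ρ ∧ IsFinite Q.hom ∧
        ∀ (T : Over (Spec (CommRingCat.of k))) (x : T ⟶ Z), x ≫ ρ = 1 → ∃ y : T ⟶ C, y ≫ c = x := by
  haveI : IsNoetherianRing (CommRingCat.of k) := inferInstanceAs (IsNoetherianRing k)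
  haveI : IsLocallyNoetherian Z.left := LocallyOfFiniteType.isLocallyNoetherian Z.hom
  obtain ⟨gQ, hρ⟩ := H19Grp.Affinization.exists_grpObj Z
  obtain ⟨gC, hc⟩ := H19Grp.AffinizationKernel.exists_grpObj Z
  obtain ⟨hiso, hsm, hconn⟩ := H19Grp.AffinizationKernel.smooth_and_connected Z
  obtain ⟨-, hsurj, hlft⟩ := H19Grp.Affinization.flat_surjective Z
  let C := H19Grp.AffinizationKernel.N Z
  let c := H19Grp.AffinizationKernel.incl Z
  let Q := H19Grp.Affinization.aff Z
  let ρ := H19Grp.Affinization.rho Z
  haveI := hc; haveI := hρ; haveI := hiso; haveI := hsm; haveI := hconn; haveI := hsurj; haveI := hlft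
  haveI : IsClosedImmersion c.left := H19Grp.AffinizationKernel.isClosedImmersion_incl Z
  haveI : IsProper C.hom := by rw [← Over.w c]; infer_instance
  haveI : Nonempty C.left := ⟨(η[C]).left (IsLocalRing.closedPoint k)⟩
  haveI : GeometricallyConnected C.hom := ⟨fun L _ y P fst snd hP => by
    haveI : IsIso snd.appTop := H19Grp.AntiAffine.isIso_appTop_baseChange (f := C.hom) hP.flip
    haveI : Nonempty P := by
      obtain ⟨z, -, -⟩ := Scheme.Pullback.exists_preimage_pullback (f := C.hom) (g := y)
        ((η[C]).left (IsLocalRing.closedPoint k)) (IsLocalRing.closedPoint L) (Subsingleton.elim (α := PrimeSpectrum k) _ _)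
      exact ⟨hP.isoPullback.inv z⟩
    exact H19Grp.AntiAffine.connectedSpace_of_isIso_appTop snd⟩
  haveI : GeometricallyIntegral C.hom := geometricallyIntegral_of_smooth C
  haveI : IsFinite Q.hom := by
    haveI : IsAffineHom Q.hom := isAffineHom_of_isAffine Q.hom
    haveI : UniversallyClosed Q.hom := by
      haveI : UniversallyClosed (ρ.left ≫ Q.hom) := by rw [Over.w ρ]; infer_instance
      exact UniversallyClosed.of_comp_surjective ρ.left Q.hom
    haveI : IsProper Q.hom := {}
    rw [IsFinite.iff_isProper_and_isAffineHom]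
    exact ⟨inferInstance, inferInstance⟩
  exact ⟨C, gC, inferInstance, inferInstance, c, Q, gQ, ρ, hc, inferInstance, hρ, inferInstance, fun T x hx =>
    H19Grp.AffinizationKernel.lift_rho Z x (by rw [hx, Hom.one_def, IsMonHom.one_hom (f := H19Grp.Affinization.rho Z)])⟩

end Groth.Agent.H25AbCube
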