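import Mathlib.FieldTheory.IsAlgClosed.AlgebraicClosure
import Mathlib.FieldTheory.Minpoly.IsIntegrallyClosed
import Mathlib.NumberTheory.Padics.RingHoms
import Mathlib.NumberTheory.Padics.ProperSpace
import Mathlib.RingTheory.Polynomial.Vieta
import Mathlib.Algebra.Polynomial.Div
import Mathlib.Topology.Algebra.MvPolynomial
import Mathlib.Topology.Algebra.Polynomial
import Mathlib.Analysis.SpecificLimits.Normed
import Mathlib.RingTheory.Polynomial.RationalRoot
import Mathlib.RingTheory.PrincipalIdealDomain

/-!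
# Monic polynomials with the same absolute values of resultants are equal

Let `P`, `Q` be monic polynomials of even degree over the `l`-adic integers. If the products of the values of
every monic polynomial with integer coefficients over the roots of `P` and over the roots of `Q` have the same
absolute value whenever the first is non-zero, then `P = Q`.
-/

set_option autoImplicit false

open Polynomial Filter Topology

namespace Groth.Agent.H25AbCube.PadicRoots

noncomputable section

variable {l : ℕ} [Fact l.Prime]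

/-- An algebraic closure of the `l`-adic numbers. -/
abbrev Om (l : ℕ) [Fact l.Prime] := AlgebraicClosure ℚ_[l]

/-- The coefficient inclusion. -/
abbrev toQ (l : ℕ) [Fact l.Prime] : ℤ_[l] →+* ℚ_[l] := PadicInt.Coe.ringHom

/-- The inclusion into the algebraic closure. -/
abbrev toOm (l : ℕ) [Fact l.Prime] : ℤ_[l] →+* Om l := (algebraMap ℚ_[l] (Om l)).comp (toQ l)

/-- The monic polynomial with given lower coefficients. -/
def monicOf {R : Type*} [CommRing R] {N : ℕ} (a : Fin N → R) : R[X] := X ^ N + ∑ i, C (a i) * X ^ (i : ℕ)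

theorem monicOf_eq {R : Type*} [CommRing R] {f : R[X]} (hf : f.Monic) :
    f = monicOf (fun i : Fin f.natDegree => f.coeff i) := by
  conv_lhs => rw [hf.as_sum]
  rw [monicOf, Finset.sum_range]

theorem coeff_monicOf {R : Type*} [CommRing R] {N : ℕ} (a : Fin N → R) (j : Fin N) :
    (monicOf a).coeff j = a j := by
  simp [monicOf, coeff_X_pow, j.2.ne, Finset.sum_ite_eq', Fin.val_inj]

theorem monic_monicOf {R : Type*} [CommRing R] {N : ℕ} (a : Fin N → R) : (monicOf a).Monic :=
  monic_X_pow_add <| degree_sum_fin_lt a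

theorem natDegree_monicOf {R : Type*} [CommRing R] [Nontrivial R] {N : ℕ} (a : Fin N → R) :
    (monicOf a).natDegree = N := by
  refine natDegree_eq_of_degree_eq_some ?_
  rw [monicOf, degree_add_eq_left_of_degree_lt] <;> rw [degree_X_pow]
  exact degree_sum_fin_lt a

/-- A form of degree `N` computes the product of the values of `P` at the roots of a monic polynomial. -/
def Computes {N : ℕ} (D : MvPolynomial (Fin N) ℚ_[l]) (P : ℤ_[l][X]) : Prop :=
  ∀ r : Fin N → Om l, MvPolynomial.aeval (fun j => (∏ i, (X - C (r i))).coeff j) D = ∏ i, (P.map (toOm l)).eval (r i)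

/-- Vary the constant coefficient. -/
def varyConst {N : ℕ} (D : MvPolynomial (Fin N) ℚ_[l]) (a : Fin N → ℚ_[l]) : ℚ_[l][X] :=
  MvPolynomial.aeval (fun j => C (a j) + if (j : ℕ) = 0 then X else 0) D

theorem eval_varyConst {N : ℕ} (D : MvPolynomial (Fin N) ℚ_[l]) (a : Fin N → ℚ_[l]) (t : ℚ_[l]) :
    (varyConst D a).eval t = MvPolynomial.eval (fun j => a j + if (j : ℕ) = 0 then t else 0) D := by
  induction D using MvPolynomial.induction_on with
  | C c => simp [varyConst]
  | add p q hp hq => simp only [varyConst, map_add, eval_add] at hp hq ⊢; rw [hp, hq]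
  | mul_X p i hp =>
    simp only [varyConst, map_mul, MvPolynomial.aeval_X, eval_mul, eval_add, eval_C, MvPolynomial.eval_X] at hp ⊢
    rw [hp]
    split_ifs <;> simp

theorem map_varyConst {N : ℕ} (hN : 0 < N) {D : MvPolynomial (Fin N) ℚ_[l]} {P : ℤ_[l][X]} (hP : P.Monic)
    (heven : Even P.natDegree) (hD : Computes D P) (a : Fin N → ℚ_[l]) :
    (varyConst D a).map (algebraMap ℚ_[l] (Om l)) =
      ((P.map (toOm l)).roots.map fun b => X + C (aeval b (monicOf a))).prod := by
  refine Polynomial.funext fun t => ?_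
  let f : (Om l)[X] := (monicOf a).map (algebraMap ℚ_[l] (Om l)) + C t
  have hdeg : ((monicOf a).map (algebraMap ℚ_[l] (Om l))).natDegree = N := by
    rw [(monic_monicOf a).natDegree_map, natDegree_monicOf]
  have hf : f.Monic := ((monic_monicOf a).map _).add_of_left <| by
    rw [degree_eq_natDegree ((monic_monicOf a).map (algebraMap ℚ_[l] (Om l))).ne_zero, hdeg]
    exact degree_C_le.trans_lt (by exact_mod_cast hN)
  have hfdeg : f.natDegree = N := by
    show (_ + C t).natDegree = N
    rw [natDegree_add_C, hdeg]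
  have hsplit := IsAlgClosed.splits f
  have hcard : f.roots.card = N := by rw [← hsplit.natDegree_eq_card_roots, hfdeg]
  obtain ⟨r, hr⟩ : ∃ r : Fin N → Om l, f.roots = Finset.univ.val.map r := by
    generalize f.roots = s at hcard
    induction s using Quot.inductionOn with
    | _ L =>
      subst hcard
      exact ⟨fun i => L.get i, by rw [Fin.univ_val_map]; exact (congrArg _ (List.ofFn_get L)).symm⟩
  have hprod : f = ∏ i, (X - C (r i)) := by
    conv_lhs => rw [hsplit.eq_prod_roots_of_monic hf, hr, Multiset.map_map]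
    rfl
  have hlhs : ((varyConst D a).map (algebraMap ℚ_[l] (Om l))).eval t = ∏ i, (P.map (toOm l)).eval (r i) := by
    rw [← hD r, ← hprod, eval_map]
    clear hD
    induction D using MvPolynomial.induction_on with
    | C c => simp [varyConst]
    | add p q hp hq => simp only [varyConst, map_add, eval₂_add] at hp hq ⊢; rw [hp, hq]
    | mul_X p i hp =>
      simp only [varyConst, map_mul, MvPolynomial.aeval_X, eval₂_mul, eval₂_add, eval₂_C] at hp ⊢
      rw [hp]
      congr 1
      simp only [f, coeff_add, coeff_map, coeff_monicOf, coeff_C]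
      split_ifs <;> simp
  have hPs := IsAlgClosed.splits (P.map (toOm l))
  have hPeval : ∀ x, (P.map (toOm l)).eval x = ((P.map (toOm l)).roots.map fun b => x - b).prod := fun x => by
    conv_lhs => rw [hPs.eq_prod_roots_of_monic (hP.map _)]
    rw [eval_multiset_prod, Multiset.map_map]
    simp
  rw [hlhs, eval_multiset_prod, Multiset.map_map]
  simp only [hPeval, Function.comp_def, eval_add, eval_X, eval_C]
  rw [Finset.prod, Multiset.prod_map_prod_map]
  have hb : ∀ b, t + aeval b (monicOf a) = (Finset.univ.val.map fun i => b - r i).prod := fun b => by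
    have h : f.eval b = (∏ i, (X - C (r i))).eval b := by rw [← hprod]
    rw [eval_add, eval_C, eval_map, ← aeval_def, eval_prod, add_comm] at h
    simpa [Finset.prod] using h
  have hcardP : (P.map (toOm l)).roots.card = P.natDegree := by
    rw [← hPs.natDegree_eq_card_roots, hP.natDegree_map]
  have hneg : ∀ b, (Finset.univ.val.map fun i => r i - b).prod = (-1) ^ N * (t + aeval b (monicOf a)) := fun b => by
    rw [hb]
    show ∏ i, (r i - b) = (-1) ^ N * ∏ i, (b - r i)
    rw [← Fin.prod_const, ← Finset.prod_mul_distrib]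
    exact Finset.prod_congr rfl fun i _ => by ring
  rw [Multiset.map_congr rfl fun b _ => hneg b, Multiset.prod_map_mul, Multiset.map_const', Multiset.prod_replicate,
    hcardP, ← pow_mul, mul_comm N, pow_mul, heven.neg_one_pow, one_pow, one_mul]

theorem monic_varyConst {N : ℕ} (hN : 0 < N) {D : MvPolynomial (Fin N) ℚ_[l]} {P : ℤ_[l][X]} (hP : P.Monic)
    (heven : Even P.natDegree) (hD : Computes D P) (a : Fin N → ℚ_[l]) : (varyConst D a).Monic := by
  refine monic_of_injective (algebraMap ℚ_[l] (Om l)).injective ?_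
  rw [map_varyConst hN hP heven hD]
  exact monic_multiset_prod_of_monic _ _ fun b _ => monic_X_add_C _

/-- The absolute values agree on all `l`-adic points. -/
theorem norm_eval_eq {N : ℕ} (hN : 0 < N) {D E : MvPolynomial (Fin N) ℚ_[l]} {P : ℤ_[l][X]} (hP : P.Monic)
    (heven : Even P.natDegree) (hD : Computes D P)
    (h : ∀ a : Fin N → ℤ, MvPolynomial.eval (fun i => (a i : ℚ_[l])) D ≠ 0 →
      ‖MvPolynomial.eval (fun i => (a i : ℚ_[l])) D‖ = ‖MvPolynomial.eval (fun i => (a i : ℚ_[l])) E‖)
    (x : Fin N → ℤ_[l]) :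
    ‖MvPolynomial.eval (fun i => (x i : ℚ_[l])) D‖ = ‖MvPolynomial.eval (fun i => (x i : ℚ_[l])) E‖ := by
  have hcont : ∀ F : MvPolynomial (Fin N) ℚ_[l],
      Continuous fun x : Fin N → ℤ_[l] => ‖MvPolynomial.eval (fun i => (x i : ℚ_[l])) F‖ := fun F =>
    continuous_norm.comp ((MvPolynomial.continuous_eval F).comp
      (continuous_pi fun i => continuous_subtype_val.comp (continuous_apply i)))
  have hdense : DenseRange fun a : Fin N → ℤ => fun i => (a i : ℤ_[l]) :=
    DenseRange.piMap fun _ => PadicInt.denseRange_intCast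
  refine congrFun (hdense.equalizer (hcont D) (hcont E) (funext fun a => ?_)) x
  simp only [Function.comp_def, PadicInt.coe_intCast]
  -- approach the point by good points
  let G := fun F => varyConst F fun i => (a i : ℚ_[l])
  have hne : G D ≠ 0 := (monic_varyConst hN hP heven hD _).ne_zero
  have hfin : ∀ᶠ j : ℕ in atTop, (G D).eval ((l : ℚ_[l]) ^ j) ≠ 0 := by
    rw [← Nat.cofinite_eq_atTop]
    refine Set.Finite.eventually_cofinite_notMem ?_
    refine ((finite_setOfPred_isRoot hne).preimage (f := fun j : ℕ => (l : ℚ_[l]) ^ j) ?_).subset fun j hj => hj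
    intro i _ j _ hij
    refine Nat.pow_right_injective (Fact.out : l.Prime).two_le ?_
    show l ^ i = l ^ j
    have h' : ((l : ℚ_[l]) ^ i) = (l : ℚ_[l]) ^ j := hij
    exact_mod_cast h'
  have key : ∀ᶠ j : ℕ in atTop, ‖(G D).eval ((l : ℚ_[l]) ^ j)‖ = ‖(G E).eval ((l : ℚ_[l]) ^ j)‖ := by
    filter_upwards [hfin] with j hj
    have e : ∀ F, (G F).eval ((l : ℚ_[l]) ^ j) =
        MvPolynomial.eval (fun i => ((a i + if (i : ℕ) = 0 then (l : ℤ) ^ j else 0 : ℤ) : ℚ_[l])) F := fun F => by
      rw [eval_varyConst]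
      congr 2
      funext i
      split_ifs <;> push_cast <;> rfl
    rw [e] at hj
    rw [e, e]
    exact h _ hj
  have hlim : ∀ F, Tendsto (fun j : ℕ => ‖(G F).eval ((l : ℚ_[l]) ^ j)‖) atTop
      (𝓝 ‖MvPolynomial.eval (fun i => (a i : ℚ_[l])) F‖) := fun F => by
    have h0 : MvPolynomial.eval (fun i => (a i : ℚ_[l])) F = (G F).eval 0 := by
      rw [eval_varyConst]; simp
    rw [h0]
    exact ((continuous_norm.comp (G F).continuous).tendsto 0).comp
      (tendsto_pow_atTop_nhds_zero_iff_norm_lt_one.2 Padic.norm_p_lt_one)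
  exact tendsto_nhds_unique ((hlim D).congr' key) (hlim E)

theorem rootMultiplicity_eq_of_norm {G H : ℚ_[l][X]} (hG : G ≠ 0) (hH : H ≠ 0)
    (h : ∀ c : ℤ_[l], ‖G.eval (c : ℚ_[l])‖ = ‖H.eval (c : ℚ_[l])‖) :
    G.rootMultiplicity 0 = H.rootMultiplicity 0 := by
  obtain ⟨U, hGU, hU⟩ := exists_eq_pow_rootMultiplicity_mul_and_not_dvd G hG 0
  obtain ⟨V, hHV, hV⟩ := exists_eq_pow_rootMultiplicity_mul_and_not_dvd H hH 0
  simp only [map_zero, sub_zero] at hGU hHV hU hV
  rw [X_dvd_iff, coeff_zero_eq_eval_zero] at hU hV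
  generalize G.rootMultiplicity 0 = m at hGU ⊢
  generalize H.rootMultiplicity 0 = n at hHV ⊢
  have hl0 : (0 : ℝ) < ‖(l : ℚ_[l])‖ := norm_pos_iff.2 (Nat.cast_ne_zero.2 (Fact.out : l.Prime).ne_zero)
  have hlim := tendsto_pow_atTop_nhds_zero_iff_norm_lt_one.2 (Padic.norm_p_lt_one (p := l))
  have key : ∀ j : ℕ, (‖(l : ℚ_[l])‖ ^ m) ^ j * ‖U.eval ((l : ℚ_[l]) ^ j)‖ =
      (‖(l : ℚ_[l])‖ ^ n) ^ j * ‖V.eval ((l : ℚ_[l]) ^ j)‖ := fun j => by
    have := h ((l : ℤ_[l]) ^ j)
    rw [hGU, hHV] at this
    push_cast at this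
    simp only [eval_mul, eval_pow, eval_X, norm_mul, norm_pow] at this
    rw [← pow_mul, ← pow_mul, mul_comm m, mul_comm n, pow_mul, pow_mul]
    exact this
  have main : ∀ (U V : ℚ_[l][X]) (m d : ℕ), U.eval 0 ≠ 0 →
      (∀ j : ℕ, (‖(l : ℚ_[l])‖ ^ m) ^ j * ‖U.eval ((l : ℚ_[l]) ^ j)‖ =
        (‖(l : ℚ_[l])‖ ^ (m + (d + 1))) ^ j * ‖V.eval ((l : ℚ_[l]) ^ j)‖) → False := by
    intro U V m d hU key
    have key' : ∀ j : ℕ, ‖U.eval ((l : ℚ_[l]) ^ j)‖ =
        (‖(l : ℚ_[l])‖ ^ (d + 1)) ^ j * ‖V.eval ((l : ℚ_[l]) ^ j)‖ := fun j => by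
      have := key j
      rw [pow_add, mul_pow, mul_assoc] at this
      exact mul_left_cancel₀ (pow_ne_zero j (pow_ne_zero m hl0.ne')) this
    have h0 : Tendsto (fun j : ℕ => ‖U.eval ((l : ℚ_[l]) ^ j)‖) atTop (𝓝 (0 * ‖V.eval 0‖)) := by
      rw [funext key']
      exact (tendsto_pow_atTop_nhds_zero_of_lt_one (pow_nonneg hl0.le _)
        (pow_lt_one₀ hl0.le Padic.norm_p_lt_one d.succ_ne_zero)).mul
          (((continuous_norm.comp V.continuous).tendsto 0).comp hlim)
    rw [zero_mul] at h0
    exact hU (norm_eq_zero.1 (tendsto_nhds_unique (((continuous_norm.comp U.continuous).tendsto 0).comp hlim) h0))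
  rcases lt_trichotomy m n with hlt | heq | hlt
  · obtain ⟨d, rfl⟩ := Nat.exists_eq_add_of_lt hlt
    exact (main U V m d hU key).elim
  · exact heq
  · obtain ⟨d, rfl⟩ := Nat.exists_eq_add_of_lt hlt
    exact (main V U n d hV fun j => (key j).symm).elim

open Classical in
theorem rootMultiplicity_prod {F : Type*} [Field F] (s : Multiset F) :
    (s.map fun x => X + C x).prod.rootMultiplicity 0 = s.count 0 := by
  rw [← count_roots, show (s.map fun x => X + C x) = (s.map Neg.neg).map fun x => X - C x by
    rw [Multiset.map_map]; exact Multiset.map_congr rfl fun x _ => by simp, roots_multiset_prod_X_sub_C,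
    show (0 : F) = -0 from neg_zero.symm, Multiset.count_map_eq_count' _ _ neg_injective]
  simp

/-- Monic polynomials whose forms have the same absolute values are equal. -/
theorem eq_of_computes {P Q : ℤ_[l][X]} (hP : P.Monic) (hQ : Q.Monic) (hdeg : P.natDegree = Q.natDegree)
    (heven : Even P.natDegree) (D E : ∀ N, MvPolynomial (Fin N) ℚ_[l]) (hD : ∀ N, Computes (D N) P)
    (hE : ∀ N, Computes (E N) Q)
    (h : ∀ (N : ℕ) (a : Fin N → ℤ), MvPolynomial.eval (fun i => (a i : ℚ_[l])) (D N) ≠ 0 →
      ‖MvPolynomial.eval (fun i => (a i : ℚ_[l])) (D N)‖ = ‖MvPolynomial.eval (fun i => (a i : ℚ_[l])) (E N)‖) :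
    P = Q := by
  classical
  have hcount : ∀ f : ℤ_[l][X], f.Monic → 0 < f.natDegree →
      ((P.map (toOm l)).roots.map fun b => (f.map (toOm l)).eval b).count 0 =
        ((Q.map (toOm l)).roots.map fun b => (f.map (toOm l)).eval b).count 0 := by
    intro f hf hpos
    let a : Fin f.natDegree → ℚ_[l] := fun i => toQ l (f.coeff i)
    have hfa : monicOf a = f.map (toQ l) := by
      conv_rhs => rw [monicOf_eq hf]
      simp [monicOf, a, Polynomial.map_sum]
    have hroots : ∀ (R : ℤ_[l][X]), R.Monic → Even R.natDegree → ∀ {Dr : MvPolynomial (Fin f.natDegree) ℚ_[l]},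
        Computes Dr R → ((R.map (toOm l)).roots.map fun b => (f.map (toOm l)).eval b).count 0 =
          (varyConst Dr a).rootMultiplicity 0 := by
      intro R hR he Dr hDr
      have e1 : ((varyConst Dr a).map (algebraMap ℚ_[l] (Om l))).rootMultiplicity 0 =
          (varyConst Dr a).rootMultiplicity 0 := by
        have := (eq_rootMultiplicity_map (p := varyConst Dr a) (algebraMap ℚ_[l] (Om l)).injective 0).symm
        rwa [map_zero] at this
      rw [← e1, map_varyConst hpos hR he hDr]
      rw [show ((R.map (toOm l)).roots.map fun b => X + C (aeval b (monicOf a))) =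
        ((R.map (toOm l)).roots.map fun b => (f.map (toOm l)).eval b).map fun x => X + C x by
          rw [Multiset.map_map]
          refine Multiset.map_congr rfl fun b _ => ?_
          simp only [Function.comp_apply, hfa, toOm, ← Polynomial.map_map, aeval_def, eval_map]]
      exact (rootMultiplicity_prod _).symm
    rw [hroots P hP heven (hD _), hroots Q hQ (hdeg ▸ heven) (hE _)]
    refine rootMultiplicity_eq_of_norm (monic_varyConst hpos hP heven (hD _) a).ne_zero
      (monic_varyConst hpos hQ (hdeg ▸ heven) (hE _) a).ne_zero fun c => ?_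
    rw [eval_varyConst, eval_varyConst]
    have hx := norm_eval_eq hpos (D := D f.natDegree) (E := E f.natDegree) hP heven (hD _) (h _)
      (fun i => f.coeff i + if (i : ℕ) = 0 then c else 0)
    have e : (fun i : Fin f.natDegree => ((f.coeff i + if (i : ℕ) = 0 then c else 0 : ℤ_[l]) : ℚ_[l])) =
        fun i => a i + if (i : ℕ) = 0 then (c : ℚ_[l]) else 0 := funext fun i => by
      split_ifs <;> (simp [a] <;> rfl)
    rwa [e] at hx
  clear heven hD hE h D E
  induction hn : P.natDegree using Nat.strong_induction_on generalizing P Q with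
  | _ n ih =>
    rcases Nat.eq_zero_or_pos n with h0 | h0
    · rw [hP.natDegree_eq_zero.1 (hn.trans h0), hQ.natDegree_eq_zero.1 (hdeg.symm.trans (hn.trans h0))]
    obtain ⟨b, hb⟩ : ∃ b, b ∈ (P.map (toOm l)).roots := by
      refine Multiset.exists_mem_of_ne_zero fun h => ?_
      have := (IsAlgClosed.splits (P.map (toOm l))).natDegree_eq_card_roots
      rw [h, Multiset.card_zero, hP.natDegree_map, hn] at this
      omega
    letI := (toOm l).toAlgebra
    haveI : Module.IsTorsionFree ℤ_[l] (Om l) := Module.isTorsionFree_iff_algebraMap_injective.2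
      ((algebraMap ℚ_[l] (Om l)).injective.comp Subtype.val_injective)
    have hbint : IsIntegral ℤ_[l] b := ⟨P, hP, by
      rw [← eval_map]; exact (mem_roots'.1 hb).2⟩
    let f := minpoly ℤ_[l] b
    have hf : f.Monic := minpoly.monic hbint
    have hfpos : 0 < f.natDegree := minpoly.natDegree_pos hbint
    have hfP : f ∣ P := minpoly.isIntegrallyClosed_dvd hbint (by rw [aeval_def, ← eval_map]; exact (mem_roots'.1 hb).2)
    have hfQ : f ∣ Q := by
      have hc := hcount f hf hfpos
      have : 0 < ((P.map (toOm l)).roots.map fun x => (f.map (toOm l)).eval x).count 0 := by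
        refine Multiset.count_pos.2 (Multiset.mem_map.2 ⟨b, hb, ?_⟩)
        rw [eval_map]
        exact minpoly.aeval ℤ_[l] b
      rw [hc, Multiset.count_pos, Multiset.mem_map] at this
      obtain ⟨x, hx, hxf⟩ := this
      rw [eval_map] at hxf
      have hxint : IsIntegral ℤ_[l] x := ⟨f, hf, hxf⟩
      have heq : minpoly ℤ_[l] x = f := eq_of_monic_of_associated (minpoly.monic hxint) hf
        ((minpoly.irreducible hxint).associated_of_dvd (minpoly.irreducible hbint)
          (minpoly.isIntegrallyClosed_dvd hxint hxf))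
      rw [← heq]
      exact minpoly.isIntegrallyClosed_dvd hxint (by rw [aeval_def, ← eval_map]; exact (mem_roots'.1 hx).2)
    obtain ⟨P', rfl⟩ := hfP
    obtain ⟨Q', rfl⟩ := hfQ
    have hP' := hf.of_mul_monic_left hP
    have hQ' := hf.of_mul_monic_left hQ
    rw [hf.natDegree_mul hP'] at hn
    rw [hf.natDegree_mul hP', hf.natDegree_mul hQ'] at hdeg
    refine congrArg (f * ·) (ih P'.natDegree (by omega) hP' hQ' (by omega) (fun g hg hgp => ?_) rfl)
    have := hcount g hg hgp
    simp only [Polynomial.map_mul, roots_mul (mul_ne_zero (hf.map _).ne_zero (hP'.map (toOm l)).ne_zero),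
      roots_mul (mul_ne_zero (hf.map _).ne_zero (hQ'.map (toOm l)).ne_zero), Multiset.map_add, Multiset.count_add] at this
    omega

end

end Groth.Agent.H25AbCube.PadicRoots
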