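import Mathlib

/-!
# Sums of squares in a finite commutative algebra with a positive trace form

If a generator `a` of a finite commutative `ℚ`-algebra is nonnegative for a linear form which is positive on
nonzero squares, then `a` is a sum of squares.
-/

set_option autoImplicit false
set_option linter.style.haveILetI false
universe u

open Polynomial Matrix

noncomputable section

namespace Groth.Agent.H25AbCube.SumSquares

variable {F : Type u} [CommRing F] [Algebra ℚ F] (a : F) (T : F →ₗ[ℚ] ℚ)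

/-- The real extension of the linear form. -/
def TR : ℝ[X] →ₗ[ℝ] ℝ := (Polynomial.basisMonomials ℝ).constr ℝ fun n => (T (a ^ n) : ℝ)

theorem TR_monomial (n : ℕ) (c : ℝ) : TR a T (monomial n c) = c * (T (a ^ n) : ℝ) := by
  rw [show (monomial n c : ℝ[X]) = c • monomial n 1 by rw [smul_monomial, smul_eq_mul, mul_one], map_smul,
    smul_eq_mul]
  congr 1
  rw [← congrFun (Polynomial.coe_basisMonomials (R := ℝ)) n]
  exact Module.Basis.constr_basis _ _ _ _

theorem TR_map (p : ℚ[X]) : TR a T (p.map (algebraMap ℚ ℝ)) = (T (aeval a p) : ℝ) := by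
  induction p using Polynomial.induction_on' with
  | add p q hp hq => rw [Polynomial.map_add, map_add, hp, hq, map_add, map_add, Rat.cast_add]
  | monomial n c =>
    rw [Polynomial.map_monomial, TR_monomial, aeval_monomial, ← Algebra.smul_def (A := F), map_smul, smul_eq_mul,
      Rat.cast_mul]
    rfl

theorem TR_mul_minpoly (s : ℝ[X]) : TR a T ((minpoly ℚ a).map (algebraMap ℚ ℝ) * s) = 0 := by
  induction s using Polynomial.induction_on' with
  | add p q hp hq => rw [mul_add, map_add, hp, hq, add_zero]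
  | monomial n c =>
    rw [show monomial n c = c • (X ^ n : ℝ[X]) by rw [smul_eq_C_mul, C_mul_X_pow_eq_monomial], mul_smul_comm,
      map_smul, show (X : ℝ[X]) ^ n = (X ^ n : ℚ[X]).map (algebraMap ℚ ℝ) by rw [Polynomial.map_pow, Polynomial.map_X],
      ← Polynomial.map_mul, TR_map, map_mul, minpoly.aeval, zero_mul, map_zero, Rat.cast_zero, smul_zero]

/-- The polynomial with given low coefficients. -/
def ofVec {R : Type*} [CommRing R] {N : ℕ} (v : Fin N → R) : R[X] := ∑ i : Fin N, C (v i) * X ^ (i : ℕ)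

theorem natDegree_ofVec {R : Type*} [CommRing R] {N : ℕ} (hN : 0 < N) (v : Fin N → R) : (ofVec v).natDegree < N := by
  refine lt_of_le_of_lt (natDegree_sum_le_of_forall_le _ _ (n := N - 1) fun i _ => ?_) (Nat.sub_lt hN one_pos)
  exact (natDegree_C_mul_X_pow_le _ _).trans (by omega)

theorem ofVec_coeff {R : Type*} [CommRing R] {N : ℕ} {p : R[X]} (hp : p.natDegree < N) :
    ofVec (fun i : Fin N => p.coeff i) = p := by
  conv_rhs => rw [p.as_sum_range' N hp, Finset.sum_range]
  exact Finset.sum_congr rfl fun i _ => C_mul_X_pow_eq_monomial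

theorem map_ofVec {N : ℕ} (v : Fin N → ℚ) :
    (ofVec v).map (algebraMap ℚ ℝ) = ofVec fun i => (v i : ℝ) := by
  simp [ofVec, Polynomial.map_sum]

theorem TR_sq {N : ℕ} (e : ℕ) (v : Fin N → ℝ) :
    TR a T (X ^ e * (ofVec v * ofVec v)) = ∑ i, ∑ j, v i * v j * (T (a ^ (e + (i + j : ℕ))) : ℝ) := by
  rw [ofVec, Finset.sum_mul_sum, Finset.mul_sum, map_sum]
  refine Finset.sum_congr rfl fun i _ => ?_
  rw [Finset.mul_sum, map_sum]
  refine Finset.sum_congr rfl fun j _ => ?_
  rw [show X ^ e * (C (v i) * X ^ (i : ℕ) * (C (v j) * X ^ (j : ℕ))) = C (v i * v j) * X ^ (e + (i + j : ℕ)) by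
    rw [C_mul, pow_add, pow_add]; ring, C_mul_X_pow_eq_monomial, TR_monomial]

theorem TR_sq_nonneg (e : ℕ) (h : ∀ x : F, 0 ≤ T (a ^ e * (x * x))) (r : ℝ[X]) : 0 ≤ TR a T (X ^ e * (r * r)) := by
  rw [← ofVec_coeff (p := r) (Nat.lt_succ_self _), TR_sq]
  refine DenseRange.induction_on (p := fun v : Fin (r.natDegree + 1) → ℝ =>
    0 ≤ ∑ i, ∑ j, v i * v j * (T (a ^ (e + (i + j : ℕ))) : ℝ)) (DenseRange.piMap fun _ => Rat.denseRange_cast)
    (fun i => r.coeff i) (isClosed_le continuous_const (by fun_prop)) fun q => ?_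
  have hq := h (aeval a (ofVec q))
  have h1 : (T (a ^ e * (aeval a (ofVec q) * aeval a (ofVec q))) : ℝ) =
      TR a T (X ^ e * (ofVec (fun i => (q i : ℝ)) * ofVec fun i => (q i : ℝ))) := by
    rw [← map_ofVec, show (X : ℝ[X]) ^ e = (X ^ e : ℚ[X]).map (algebraMap ℚ ℝ) by rw [Polynomial.map_pow, Polynomial.map_X],
      ← Polynomial.map_mul, ← Polynomial.map_mul, TR_map, map_mul (aeval a), map_mul (aeval a), map_pow (aeval a), aeval_X]
  rw [TR_sq] at h1
  show 0 ≤ ∑ i, ∑ j, (q i : ℝ) * (q j : ℝ) * _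
  rw [← h1]
  exact_mod_cast hq

variable [Module.Finite ℚ F]

theorem eq_zero_of_TR_sq (hpos : ∀ x : F, x ≠ 0 → 0 < T (x * x)) {r : ℝ[X]}
    (hr : r.natDegree < (minpoly ℚ a).natDegree) (h0 : TR a T (r * r) = 0) : r = 0 := by
  set d := (minpoly ℚ a).natDegree
  have hnn : ∀ s : ℝ[X], 0 ≤ TR a T (s * s) := fun s => by
    have := TR_sq_nonneg a T 0 (fun x => by
      rw [pow_zero, one_mul]
      rcases eq_or_ne x 0 with rfl | hx
      · simp
      · exact (hpos x hx).le) s
    rwa [pow_zero, one_mul] at this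
  have hbil : ∀ s, TR a T (r * s) = 0 := by
    intro s
    set b := TR a T (r * s)
    set c := TR a T (s * s)
    have hc : 0 ≤ c := hnn s
    have key := hnn (r + (-b / (c + 1)) • s)
    rw [show (r + (-b / (c + 1)) • s) * (r + (-b / (c + 1)) • s) =
      r * r + (2 * (-b / (c + 1))) • (r * s) + (-b / (c + 1) * (-b / (c + 1))) • (s * s) by
      simp only [smul_eq_C_mul, map_mul, map_ofNat]; ring] at key
    simp only [map_add, map_smul, h0, smul_eq_mul, zero_add] at key
    have e : 2 * (-b / (c + 1)) * b + -b / (c + 1) * (-b / (c + 1)) * c = -(b ^ 2 * (c + 2)) / (c + 1) ^ 2 := by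
      field_simp
      ring
    rw [e, div_nonneg_iff] at key
    rcases key with ⟨h, -⟩ | ⟨-, h⟩
    · have : b ^ 2 * (c + 2) = 0 := le_antisymm (by linarith) (by positivity)
      rcases mul_eq_zero.1 this with h' | h'
      · exact pow_eq_zero_iff two_ne_zero |>.1 h'
      · linarith
    · have : (0 : ℝ) < (c + 1) ^ 2 := by positivity
      linarith
  let G : Matrix (Fin d) (Fin d) ℚ := Matrix.of fun i j => T (a ^ (i + j : ℕ))
  have hG : G.det ≠ 0 := by
    intro hdet
    obtain ⟨v, hv, hGv⟩ := Matrix.exists_mulVec_eq_zero_iff.2 hdet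
    have hd : 0 < d := by
      by_contra hd
      exact hv (funext fun i => absurd i.2 (by omega))
    have hx : aeval a (ofVec v) = 0 := by
      by_contra hx
      refine (hpos _ hx).ne' ?_
      have h1 : T (aeval a (ofVec v) * aeval a (ofVec v)) = v ⬝ᵥ G *ᵥ v := by
        simp only [ofVec, map_sum (aeval a), map_mul (aeval a), aeval_C, map_pow, aeval_X]
        rw [Finset.sum_mul_sum, map_sum]
        simp only [map_sum, dotProduct, Matrix.mulVec, Matrix.of_apply, G, Finset.mul_sum]
        refine Finset.sum_congr rfl fun i _ => Finset.sum_congr rfl fun j _ => ?_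
        rw [← Algebra.smul_def, ← Algebra.smul_def, smul_mul_smul_comm, map_smul, smul_eq_mul, ← pow_add]
        ring
      rw [h1, hGv, dotProduct_zero]
    have h2 : ofVec v = 0 := by
      by_contra h2
      exact absurd (natDegree_le_natDegree (minpoly.degree_le_of_ne_zero ℚ a h2 hx)) (not_le.2 (natDegree_ofVec hd v)) 
    refine hv (funext fun i => ?_)
    have := congrArg (fun p => coeff p (i : ℕ)) h2
    simpa [ofVec, finsetSum_coeff, Fin.val_inj] using this
  have hGR : (G.map (algebraMap ℚ ℝ)).det ≠ 0 := by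
    rw [← RingHom.mapMatrix_apply, ← RingHom.map_det]
    exact fun h => hG ((algebraMap ℚ ℝ).injective (h.trans (map_zero _).symm))
  have hv : (G.map (algebraMap ℚ ℝ)) *ᵥ (fun i : Fin d => r.coeff i) = 0 := by
    funext j
    have h1 := hbil (X ^ (j : ℕ))
    rw [← ofVec_coeff (p := r) hr, ofVec, Finset.sum_mul, map_sum] at h1
    simp only [Pi.zero_apply, Matrix.mulVec, dotProduct, Matrix.map_apply, Matrix.of_apply, G]
    rw [← h1]
    refine Finset.sum_congr rfl fun i _ => ?_
    rw [mul_assoc, ← pow_add, C_mul_X_pow_eq_monomial, TR_monomial, add_comm (j : ℕ) (i : ℕ), mul_comm]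
    rfl
  have h3 := Matrix.eq_zero_of_mulVec_eq_zero hGR hv
  rw [← ofVec_coeff (p := r) hr, h3]
  simp [ofVec]

/-- The roots of the minimal polynomial are real, nonnegative and simple. -/
theorem exists_roots (hpos : ∀ x : F, x ≠ 0 → 0 < T (x * x)) (hnn : ∀ x : F, 0 ≤ T (a * (x * x))) :
    ∃ lam : Fin (minpoly ℚ a).natDegree → ℝ, Function.Injective lam ∧ (∀ i, 0 ≤ lam i) ∧
      ∀ i, aeval (lam i) (minpoly ℚ a) = 0 := by
  classical
  have hint : IsIntegral ℚ a := Algebra.IsIntegral.isIntegral a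
  set q := minpoly ℚ a
  have hq0 : q ≠ 0 := minpoly.ne_zero hint
  have hsq : Squarefree q := by
    rintro p ⟨h, hh⟩
    by_contra hu
    have hp0 : p ≠ 0 := fun h0 => hq0 (by rw [hh, h0, zero_mul, zero_mul])
    have hh0 : h ≠ 0 := fun h0 => hq0 (by rw [hh, h0, mul_zero])
    have hx : aeval a (p * h) = 0 := by
      by_contra hx
      refine (hpos _ hx).ne' ?_
      rw [← map_mul, show p * h * (p * h) = q * h by rw [hh]; ring, map_mul, minpoly.aeval, zero_mul, map_zero]
    have := natDegree_le_natDegree (minpoly.degree_le_of_ne_zero ℚ a (mul_ne_zero hp0 hh0) hx)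
    rw [show (minpoly ℚ a).natDegree = q.natDegree from rfl, hh, natDegree_mul (mul_ne_zero hp0 hp0) hh0,
      natDegree_mul hp0 hp0, natDegree_mul hp0 hh0] at this
    have h1 : p.natDegree ≠ 0 := fun h1 => hu (by
      rw [eq_C_of_natDegree_eq_zero h1] at hp0 ⊢
      exact (IsUnit.mk0 _ (fun h => hp0 (by rw [h, map_zero]))).map C)
    omega
  have hR0 : q.map (algebraMap ℚ ℝ) ≠ 0 := (Polynomial.map_ne_zero_iff (algebraMap ℚ ℝ).injective).2 hq0
  have key : ∀ (g r : ℝ[X]), q.map (algebraMap ℚ ℝ) = g * r → 0 < g.natDegree → TR a T (r * r) ≠ 0 := by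
    intro g r he hg h0
    have hr : r ≠ 0 := fun h => hR0 (by rw [he, h, mul_zero])
    have hg0 : g ≠ 0 := fun h => hR0 (by rw [he, h, zero_mul])
    refine hr (eq_zero_of_TR_sq a T hpos ?_ h0)
    have := congrArg natDegree he
    rw [natDegree_map, natDegree_mul hg0 hr] at this
    show r.natDegree < q.natDegree
    omega
  have hpsd : ∀ s : ℝ[X], 0 ≤ TR a T (s * s) := fun s => by
    have := TR_sq_nonneg a T 0 (fun x => by
      rw [pow_zero, one_mul]
      rcases eq_or_ne x 0 with rfl | hx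
      · simp
      · exact (hpos x hx).le) s
    rwa [pow_zero, one_mul] at this
  have hreal : ∀ z : ℂ, aeval z q = 0 → z.im = 0 ∧ 0 ≤ z.re := by
    intro z hz
    have hz' : aeval z (q.map (algebraMap ℚ ℝ)) = 0 := by rw [aeval_map_algebraMap]; exact hz
    have him : z.im = 0 := by
      by_contra him
      obtain ⟨r, hr⟩ := Polynomial.quadratic_dvd_of_aeval_eq_zero_im_ne_zero _ hz' him
      have hne := key _ r hr (by
        rw [show (X ^ 2 - C (2 * z.re) * X + C (‖z‖ ^ 2) : ℝ[X]).natDegree = 2 from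
          natDegree_eq_of_degree_eq_some (by compute_degree!)]
        norm_num)
      have h2 := hpsd (r * (X - C z.re))
      have e : r * (X - C z.re) * (r * (X - C z.re)) =
          q.map (algebraMap ℚ ℝ) * r + (-(z.im ^ 2)) • (r * r) := by
        rw [hr, smul_eq_C_mul, Complex.sq_norm, Complex.normSq_apply]
        simp only [map_add, map_mul, map_neg, map_pow, map_ofNat]
        ring
      rw [e, map_add, map_smul, TR_mul_minpoly, zero_add, smul_eq_mul] at h2
      have h3 : 0 < TR a T (r * r) := lt_of_le_of_ne (hpsd r) hne.symm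
      have h4 : 0 < z.im ^ 2 := by positivity
      nlinarith
    refine ⟨him, ?_⟩
    have hx : IsRoot (q.map (algebraMap ℚ ℝ)) z.re := by
      have e : z = algebraMap ℝ ℂ z.re := Complex.ext rfl (by simp [him])
      rw [e, aeval_algebraMap_apply] at hz'
      exact (algebraMap ℝ ℂ).injective (hz'.trans (map_zero _).symm)
    obtain ⟨r, hr⟩ := dvd_iff_isRoot.2 hx
    have hne := key _ r hr (by rw [natDegree_X_sub_C]; norm_num)
    have h2 := TR_sq_nonneg a T 1 (fun x => by rw [pow_one]; exact hnn x) r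
    rw [show (X : ℝ[X]) ^ 1 * (r * r) = q.map (algebraMap ℚ ℝ) * r + z.re • (r * r) by
      rw [hr, smul_eq_C_mul, pow_one]; ring, map_add, map_smul, TR_mul_minpoly, zero_add, smul_eq_mul] at h2
    have h3 : 0 < TR a T (r * r) := lt_of_le_of_ne (hpsd r) hne.symm
    nlinarith
  let Z := q.rootSet ℂ
  have hcard : Fintype.card (q.rootSet ℂ) = q.natDegree :=
    card_rootSet_eq_natDegree (PerfectField.separable_iff_squarefree.2 hsq) (IsAlgClosed.splits _)
  let e := Fintype.equivFinOfCardEq hcard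
  have hmem : ∀ i, aeval ((e.symm i : ℂ)) q = 0 := fun i => (mem_rootSet.1 (e.symm i).2).2
  refine ⟨fun i => ((e.symm i : ℂ)).re, fun i j h => e.symm.injective (Subtype.ext (Complex.ext h ?_)),
    fun i => (hreal _ (hmem i)).2, fun i => ?_⟩
  · rw [(hreal _ (hmem i)).1, (hreal _ (hmem j)).1]
  · have hz := hmem i
    rw [show (e.symm i : ℂ) = algebraMap ℝ ℂ (e.symm i : ℂ).re from Complex.ext rfl (by simp [(hreal _ (hmem i)).1]),
      aeval_algebraMap_apply] at hz
    exact (algebraMap ℝ ℂ).injective (hz.trans (map_zero _).symm)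

/-- The generator is a combination of squares with nonnegative coefficients. -/
theorem exists_combination (hpos : ∀ x : F, x ≠ 0 → 0 < T (x * x)) (hnn : ∀ x : F, 0 ≤ T (a * (x * x))) :
    ∃ (n : ℕ) (c : Fin n → ℚ) (p : Fin n → ℚ[X]), (∀ i, 0 ≤ c i) ∧ a = ∑ i, c i • aeval a (p i) ^ 2 := by
  classical
  have hex := exists_roots a T hpos hnn
  set d := (minpoly ℚ a).natDegree with hd
  obtain ⟨lam, hinj, hlam, hroot⟩ := hex
  have hmon : (minpoly ℚ a).Monic := minpoly.monic (Algebra.IsIntegral.isIntegral a)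
  have heval : ∀ (p : ℚ[X]) (j : Fin d), aeval (lam j) (p %ₘ minpoly ℚ a) = aeval (lam j) p := by
    intro p j
    conv_rhs => rw [← modByMonic_add_div p (minpoly ℚ a)]
    rw [map_add, map_mul, hroot, zero_mul, add_zero]
  let g : Fin d → ℚ[X] := fun i => if lam i = 0 then 1 else X
  let V : Matrix (Fin d) (Fin d) ℝ := Matrix.vandermonde lam
  have hV : IsUnit V.det := isUnit_iff_ne_zero.2 (Matrix.det_vandermonde_ne_zero_iff.2 hinj)
  let M : (Fin d → Fin d → ℝ) → Matrix (Fin d) (Fin d) ℝ := fun v =>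
    Matrix.of fun j i => (aeval (lam j) (g i) * (V *ᵥ v i) j) ^ 2
  let v₀ : Fin d → Fin d → ℝ := fun i => V⁻¹ *ᵥ Pi.single i (aeval (lam i) (g i))⁻¹
  have hgi : ∀ i, aeval (lam i) (g i) ≠ 0 := fun i => by
    by_cases h : lam i = 0
    · simp [g, h]
    · simp [g, h]
  have hM₀ : M v₀ = 1 := by
    ext j i
    simp only [M, v₀, Matrix.of_apply, Matrix.mulVec_mulVec, Matrix.mul_nonsing_inv V hV, Matrix.one_mulVec]
    rcases eq_or_ne j i with rfl | h
    · rw [Pi.single_eq_same, mul_inv_cancel₀ (hgi j), one_pow, Matrix.one_apply_eq]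
    · rw [Pi.single_eq_of_ne h, mul_zero, zero_pow two_ne_zero, Matrix.one_apply_ne h]
  let O : Set (Fin d → Fin d → ℝ) :=
    {v | (M v).det ≠ 0} ∩ ⋂ i : Fin d, {v | lam i ≠ 0 → 0 < (M v).det * (M v).cramer lam i}
  have hMc : Continuous M := by
    refine continuous_matrix fun j i => ?_
    simp only [M, Matrix.of_apply, Matrix.mulVec, dotProduct]
    fun_prop
  have hO : IsOpen O := by
    refine ((isOpen_ne_fun hMc.matrix_det continuous_const)).inter (isOpen_iInter_of_finite fun i => ?_)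
    by_cases h : lam i = 0
    · simp [h]
    · simp only [h, ne_eq, not_false_eq_true, forall_const]
      exact isOpen_lt continuous_const (hMc.matrix_det.mul
        ((continuous_apply i).comp (hMc.matrix_cramer continuous_const)))
  obtain ⟨v, hv⟩ := (DenseRange.piMap fun _ : Fin d => DenseRange.piMap fun _ : Fin d => Rat.denseRange_cast (𝕜 := ℝ)
    ).exists_mem_open hO ⟨v₀, by simp [O, hM₀], by
      refine Set.mem_iInter.2 fun i h => ?_
      rw [hM₀, Matrix.det_one, one_mul, Matrix.cramer_one]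
      exact lt_of_le_of_ne (hlam i) (Ne.symm h)⟩
  obtain ⟨hdet, hpos'⟩ := hv
  rw [Set.mem_iInter] at hpos'
  let p : Fin d → ℚ[X] := fun i => g i * ofVec (v i)
  let S : Matrix (Fin d) (Fin d) ℚ := Matrix.of fun j i => ((p i * p i) %ₘ minpoly ℚ a).coeff j
  have hvec : ∀ (f : ℚ[X]) (j : Fin d),
      (V *ᵥ fun i : Fin d => (((f %ₘ minpoly ℚ a).coeff i : ℚ) : ℝ)) j = aeval (lam j) f := by
    intro f j
    have hdeg : (f %ₘ minpoly ℚ a).natDegree < d :=
      natDegree_modByMonic_lt f hmon (fun h => absurd (hd.trans (by rw [h, natDegree_one])) (by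
        have := j.2; omega))
    rw [← heval f j]
    conv_rhs => rw [← ofVec_coeff (p := f %ₘ minpoly ℚ a) hdeg]
    simp only [Matrix.mulVec, dotProduct, V, Matrix.vandermonde_apply, ofVec, map_sum, map_mul, aeval_C, map_pow,
      aeval_X]
    refine Finset.sum_congr rfl fun i _ => ?_
    rw [mul_comm]
    rfl
  set Mv := M (Pi.map (fun _ => Pi.map fun _ => ((↑) : ℚ → ℝ)) v) with hMv
  have hMS : ∀ j i, Mv j i = aeval (lam j) (p i * p i) := by
    intro j i
    simp only [hMv, M, Matrix.of_apply, p, map_mul, Pi.map_apply]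
    rw [sq]
    have : (V *ᵥ (Pi.map (fun _ => ((↑) : ℚ → ℝ)) (v i))) j = aeval (lam j) (ofVec (v i)) := by
      simp only [Matrix.mulVec, dotProduct, V, Matrix.vandermonde_apply, ofVec, map_sum, map_mul, aeval_C, map_pow,
        aeval_X, Pi.map_apply]
      refine Finset.sum_congr rfl fun i' _ => ?_
      rw [mul_comm]
      rfl
    rw [this]
  have hfac : Mv = V * S.map (algebraMap ℚ ℝ) := by
    ext j i
    rw [hMS, ← hvec]
    rfl
  have hS : IsUnit S.det := by
    refine isUnit_iff_ne_zero.2 fun h => hdet ?_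
    show Mv.det = 0
    rw [hfac, Matrix.det_mul, ← RingHom.mapMatrix_apply, ← RingHom.map_det, h, map_zero, mul_zero]
  let c : Fin d → ℚ := S⁻¹ *ᵥ fun i : Fin d => ((X : ℚ[X]) %ₘ minpoly ℚ a).coeff i
  have hSc : S *ᵥ c = fun i : Fin d => ((X : ℚ[X]) %ₘ minpoly ℚ a).coeff i := by
    rw [Matrix.mulVec_mulVec, Matrix.mul_nonsing_inv S hS, Matrix.one_mulVec]
  have hMvc : Mv *ᵥ (fun i => (c i : ℝ)) = lam := by
    funext j
    rw [hfac, ← Matrix.mulVec_mulVec]
    have e : (S.map (algebraMap ℚ ℝ)) *ᵥ (fun i => (c i : ℝ)) =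
        fun i : Fin d => ((((X : ℚ[X]) %ₘ minpoly ℚ a).coeff i : ℚ) : ℝ) := by
      funext i
      rw [← congrFun hSc i]
      exact (RingHom.map_mulVec (algebraMap ℚ ℝ) S c i).symm
    rw [e, hvec, aeval_X]
  have hc : ∀ i, 0 ≤ c i := by
    intro i
    by_cases h : lam i = 0
    · have hrow : ∀ l, l ≠ i → Mv i l = 0 := by
        intro l hl
        have hl' : lam l ≠ 0 := fun h' => hl (hinj (h'.trans h.symm))
        rw [hMS]
        simp [p, g, hl', h]
      have h1 := congrFun hMvc i
      rw [Matrix.mulVec, dotProduct, Finset.sum_eq_single i (fun l _ hl => by rw [hrow l hl, zero_mul]) (by simp), h,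
        mul_eq_zero] at h1
      rcases h1 with h1 | h1
      · exfalso
        refine hdet (Matrix.det_eq_zero_of_row_eq_zero i fun l => ?_)
        rcases eq_or_ne l i with rfl | hl
        · exact h1
        · exact hrow l hl
      · exact le_of_eq (by exact_mod_cast h1.symm)
    · have h1 := hpos' i h
      have h2 : Mv.cramer lam = Mv.det • fun i => (c i : ℝ) := by
        have h3 : Mv *ᵥ (Mv.cramer lam - Mv.det • fun i => (c i : ℝ)) = 0 := by
          rw [Matrix.mulVec_sub, Matrix.mulVec_smul, hMvc, Matrix.mulVec_cramer, sub_self]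
        exact sub_eq_zero.1 (Matrix.eq_zero_of_mulVec_eq_zero hdet h3)
      change 0 < Mv.det * Mv.cramer lam i at h1
      rw [h2, Pi.smul_apply, smul_eq_mul, ← mul_assoc] at h1
      have h4 : (0 : ℝ) < c i := (pos_iff_pos_of_mul_pos h1).1 (mul_self_pos.2 hdet)
      exact_mod_cast h4.le
  refine ⟨d, c, p, hc, ?_⟩
  have hpoly : (X : ℚ[X]) %ₘ minpoly ℚ a = ∑ i, c i • ((p i * p i) %ₘ minpoly ℚ a) := by
    ext n
    rw [finsetSum_coeff]
    by_cases hn : n < d
    · have := congrFun hSc ⟨n, hn⟩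
      simp only [Matrix.mulVec, dotProduct, S, Matrix.of_apply] at this
      rw [← this]
      refine Finset.sum_congr rfl fun i _ => ?_
      rw [coeff_smul, smul_eq_mul, mul_comm]
    · have hz : ∀ f : ℚ[X], (f %ₘ minpoly ℚ a).coeff n = 0 := fun f => coeff_eq_zero_of_degree_lt
        (lt_of_lt_of_le (degree_modByMonic_lt f hmon) (degree_le_natDegree.trans (by exact_mod_cast not_lt.1 hn)))
      rw [hz]
      simp [coeff_smul, hz]
  have hmod : ∀ f : ℚ[X], aeval a (f %ₘ minpoly ℚ a) = aeval a f := fun f => by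
    conv_rhs => rw [← modByMonic_add_div f (minpoly ℚ a)]
    rw [map_add, map_mul, minpoly.aeval, zero_mul, add_zero]
  have := congrArg (aeval a) hpoly
  rw [hmod, aeval_X, map_sum] at this
  refine this.trans (Finset.sum_congr rfl fun i _ => ?_)
  rw [map_smul, hmod, map_mul, sq]

/-- The generator is a sum of squares. -/
theorem exists_sum_sq (hpos : ∀ x : F, x ≠ 0 → 0 < T (x * x)) (hnn : ∀ x : F, 0 ≤ T (a * (x * x))) :
    ∃ (n : ℕ) (y : Fin n → F), a = ∑ i, y i ^ 2 := by
  have key : ∀ x : F, IsSumSq x → ∃ (n : ℕ) (y : Fin n → F), x = ∑ i, y i ^ 2 := by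
    intro x hx
    induction hx with
    | zero => exact ⟨0, Fin.elim0, by simp⟩
    | sq_add b hs ih =>
      obtain ⟨n, y, rfl⟩ := ih
      exact ⟨n + 1, Fin.cons b y, by simp [Fin.sum_univ_succ, sq]⟩
  refine key _ ?_
  obtain ⟨n, c, p, hc, e⟩ := exists_combination a T hpos hnn
  rw [e]
  refine IsSumSq.sum fun i _ => ?_
  rw [Algebra.smul_def, sq]
  refine IsSumSq.mul ?_ (IsSumSq.mul_self _)
  have h : c i = ((c i).num.natAbs * (c i).den : ℕ) * ((1 / (c i).den) * (1 / (c i).den) : ℚ) := by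
    have hn : (((c i).num.natAbs : ℕ) : ℚ) = ((c i).num : ℚ) := by
      rw [Nat.cast_natAbs, abs_of_nonneg (Rat.num_nonneg.2 (hc i))]
    push_cast [hn]
    conv_lhs => rw [← Rat.num_div_den (c i)]
    field_simp
  rw [h, map_mul, map_natCast, map_mul]
  exact IsSumSq.mul (IsSumSq.natCast _) (IsSumSq.mul_self _)

end Groth.Agent.H25AbCube.SumSquares
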