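import Groth.Agent.H25AbCube.TracePositive
import Groth.Agent.H25AbCube.EndAlgebra
import Groth.Agent.H25AbCube.SumSquares
import Groth.Agent.H8Props.AmpleBatch

/-!
# Positivity for the trace on the symmetric endomorphisms
-/

set_option autoImplicit false
set_option linter.style.haveILetI false
set_option linter.unusedSectionVars false
set_option backward.isDefEq.respectTransparency false
set_option synthInstance.maxHeartbeats 400000
set_option maxHeartbeats 1000000
universe u

open CategoryTheory CategoryTheory.Limits MonoidalCategory CartesianMonoidalCategory MonObj GrpObj AlgebraicGeometry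
open Groth.Agent
open scoped TensorProduct

noncomputable section

namespace Groth.Agent.H25AbCube

variable {k : Type u} [Field k] [IsAlgClosed k] {A : Over (Spec (CommRingCat.of k))} [GrpObj A] [IsProper A.hom]
  [GeometricallyIntegral A.hom] [IsCommMonObj A]

/-- The trace of an endomorphism as a rational number. -/
theorem exists_trQ {g : ℕ} (hg : topologicalKrullDim A.left = g) (hg1 : 1 ≤ g) :
    ∃ T : EndAV.End A →+ ℚ, (∀ α β, T (α * β) = T (β * α)) ∧
      (∀ (α : EndAV.End A) (P : Polynomial ℚ),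
        (∀ j : ℤ, (degree (α + (j : EndAV.End A)).toHom : ℚ) = P.eval (j : ℚ)) → P.coeff (2 * g - 1) = T α) ∧
      ∀ α : EndAV.End A, ∃ P : Polynomial ℚ, ∀ j : ℤ, (degree (α + (j : EndAV.End A)).toHom : ℚ) = P.eval (j : ℚ) := by
  classical
  obtain ⟨l, hl, hlk⟩ := exists_prime_ne k
  haveI := Fact.mk hl
  obtain ⟨b⟩ := exists_tateBasis (A := A) l hlk g hg
  have hex : ∀ α : EndAV.End A, ∃ P : Polynomial ℚ,
      ∀ j : ℤ, (degree (α + (j : EndAV.End A)).toHom : ℚ) = P.eval (j : ℚ) := fun α => by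
    obtain ⟨R, -, -, hRe, -⟩ := exists_charpoly_rat hg α
    refine ⟨R.comp (-Polynomial.X), fun j => ?_⟩
    rw [Polynomial.eval_comp, Polynomial.eval_neg, Polynomial.eval_X, ← Int.cast_neg, ← hRe, Int.cast_neg,
      sub_neg_eq_add]
  choose P hP using hex
  let φ : EndAV.End A →+* Matrix (Fin (2 * g)) (Fin (2 * g)) ℚ_[l] :=
    (PadicInt.Coe.ringHom : ℤ_[l] →+* ℚ_[l]).mapMatrix.comp
      ((LinearMap.toMatrixAlgEquiv b).toRingEquiv.toRingHom.comp (trep l))
  have hφ : ∀ (α : EndAV.End A) (Q : Polynomial ℚ),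
      (∀ j : ℤ, (degree (α + (j : EndAV.End A)).toHom : ℚ) = Q.eval (j : ℚ)) →
      algebraMap ℚ ℚ_[l] (Q.coeff (2 * g - 1)) = (φ α).trace := fun α Q hQ =>
    coeff_eq_trace hg hg1 α l hlk b Q hQ
  have inj := (algebraMap ℚ ℚ_[l]).injective
  refine ⟨AddMonoidHom.mk' (fun α => (P α).coeff (2 * g - 1)) fun α β => inj ?_, fun α β => inj ?_,
    fun α Q hQ => inj ?_, fun α => ⟨P α, hP α⟩⟩
  · rw [map_add, hφ _ _ (hP _), hφ _ _ (hP _), hφ _ _ (hP _), map_add, Matrix.trace_add]
  · show algebraMap ℚ ℚ_[l] ((P _).coeff _) = algebraMap ℚ ℚ_[l] ((P _).coeff _)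
    rw [hφ _ _ (hP _), hφ _ _ (hP _), map_mul, map_mul, Matrix.trace_mul_comm]
  · show algebraMap ℚ ℚ_[l] _ = algebraMap ℚ ℚ_[l] ((P _).coeff _)
    rw [hφ _ _ hQ, hφ _ _ (hP _)]

variable (ℓ : PC A.left)

/-- The endomorphisms `α` and `ρ` are adjoint for the pairing of `ℓ`. -/
def Adj (α ρ : EndAV.End A) : Prop := th ℓ (fst A A ≫ α.toHom) (snd A A) = th ℓ (fst A A) (snd A A ≫ ρ.toHom)

variable {ℓ}

theorem Adj.apply {α ρ : EndAV.End A} (h : Adj ℓ α ρ) {S : Over (Spec (CommRingCat.of k))} (p q : S ⟶ A) :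
    th ℓ (p ≫ α.toHom) q = th ℓ p (q ≫ ρ.toHom) := by
  have h' := congrArg (fun u => ev u (lift p q)) h
  simp only [ev_th, lift_fst, lift_snd, lift_fst_assoc, lift_snd_assoc] at h'
  exact h'

theorem Adj.of_forall {α ρ : EndAV.End A}
    (h : ∀ {S : Over (Spec (CommRingCat.of k))} (p q : S ⟶ A), th ℓ (p ≫ α.toHom) q = th ℓ p (q ≫ ρ.toHom)) :
    Adj ℓ α ρ := h _ _

theorem Adj.symm {α ρ : EndAV.End A} (h : Adj ℓ α ρ) : Adj ℓ ρ α :=
  Adj.of_forall fun p q => by rw [th_comm ℓ _ q, ← h.apply q p, th_comm]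

theorem Adj.zero : Adj ℓ (0 : EndAV.End A) 0 := Adj.of_forall fun p q => by
  rw [EndAV.End.toHom_zero, MonObj.comp_one, MonObj.comp_one, th_comm ℓ 1, th_one_right, th_one_right]

theorem Adj.one : Adj ℓ (1 : EndAV.End A) 1 := Adj.of_forall fun p q => by
  rw [EndAV.End.toHom_one, Category.comp_id, Category.comp_id]

theorem Adj.add {α β ρ σ : EndAV.End A} (h : Adj ℓ α ρ) (h' : Adj ℓ β σ) : Adj ℓ (α + β) (ρ + σ) :=
  Adj.of_forall fun p q => by
    rw [EndAV.End.toHom_add, EndAV.End.toHom_add, MonObj.comp_mul, MonObj.comp_mul, th_mul_left, th_mul_right,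
      h.apply, h'.apply]

theorem Adj.neg {α ρ : EndAV.End A} (h : Adj ℓ α ρ) : Adj ℓ (-α) (-ρ) := Adj.of_forall fun p q => by
  rw [EndAV.End.toHom_neg, EndAV.End.toHom_neg, GrpObj.comp_inv, GrpObj.comp_inv, th_comm, th_inv_right,
    th_inv_right, th_comm, h.apply]

theorem Adj.mul {α β ρ σ : EndAV.End A} (h : Adj ℓ α ρ) (h' : Adj ℓ β σ) : Adj ℓ (α * β) (σ * ρ) :=
  Adj.of_forall fun p q => by
    rw [EndAV.End.toHom_mul, EndAV.End.toHom_mul, ← Category.assoc, h.apply, h'.apply, Category.assoc]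

theorem commute_of_mem_closure {R : Type*} [Ring R] {a x y : R} (hx : x ∈ Subring.closure ({a} : Set R))
    (hy : y ∈ Subring.closure ({a} : Set R)) : Commute x y := by
  have h1 : Subring.closure ({a} : Set R) ≤ Subring.centralizer {a} := Subring.closure_le.2 fun z hz => by
    rw [Set.mem_singleton_iff.1 hz]
    exact Subring.mem_centralizer_iff.2 fun w hw => by rw [Set.mem_singleton_iff.1 hw]
  have h2 : Subring.closure ({a} : Set R) ≤ Subring.centralizer (Subring.closure ({a} : Set R) : Set R) :=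
    Subring.closure_le.2 fun z hz => by
      rw [Set.mem_singleton_iff.1 hz]
      exact Subring.mem_centralizer_iff.2 fun w hw => (Subring.mem_centralizer_iff.1 (h1 hw) a rfl).symm
  exact Subring.mem_centralizer_iff.1 (h2 hy) x hx

theorem adj_of_mem_closure {α : EndAV.End A} (hα : Adj ℓ α α) {z : EndAV.End A}
    (hz : z ∈ Subring.closure ({α} : Set (EndAV.End A))) : Adj ℓ z z := by
  induction hz using Subring.closure_induction with
  | mem x hx => rw [Set.mem_singleton_iff.1 hx]; exact hα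
  | zero => exact Adj.zero
  | one => exact Adj.one
  | add x y _ _ hx hy => exact hx.add hy
  | neg x _ hx => exact hx.neg
  | mul x y hx' hy' hx hy =>
    have h := hx.mul hy
    rwa [(commute_of_mem_closure hy' hx').eq] at h

variable (ℓ)

/-- A symmetric endomorphism is adjoint to itself. -/
theorem adj_of_iso {L : A.left.Modules} (hL : PicF.IsInvertible L) (α : EndAV.End A)
    (h : ∀ x : 𝟙_ _ ⟶ A, Nonempty (CohB1.tensorMod ((Scheme.Modules.pullback ((𝟙 A * (toUnit A ≫ x ≫ EndAV.End.toHom α))).left).obj (L)) ((Scheme.Modules.pullback (EndAV.End.toHom α).left).obj (L)) ≅ CohB1.tensorMod (L) ((Scheme.Modules.pullback (EndAV.End.toHom α).left).obj ((Scheme.Modules.pullback ((𝟙 A * (toUnit A ≫ x))).left).obj (L))))) :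
    Adj (pc L hL) α α := by
  refine adjoint_of_points (pc L hL) α.toHom α.toHom fun x => ?_
  have h1 := H11Ample.isInvertible_pullback (𝟙 A * (toUnit A ≫ x ≫ α.toHom)).left hL
  have h2 := H11Ample.isInvertible_pullback α.toHom.left hL
  have h3 := H11Ample.isInvertible_pullback (𝟙 A * (toUnit A ≫ x)).left hL
  have h4 := H11Ample.isInvertible_pullback α.toHom.left h3
  have e := (pc_eq_iff (H11Ample.isInvertible_tensor h1 h2) (H11Ample.isInvertible_tensor hL h4)).2 (h x)
  rw [pc_tensor h1 h2 _, pc_tensor hL h4 _, pullP_pc _ L hL h1, pullP_pc _ L hL h2, pullP_pc _ _ h3 h4,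
    pullP_pc _ L hL h3, pullP_pullP] at e
  rw [← Over.comp_left, MonObj.comp_mul, Category.comp_id, ← Category.assoc α.toHom, comp_toUnit] at e
  change ev _ _ + ev _ _ = _ + ev _ _ at e
  rw [th, th, show ev (pc L hL) (𝟙 A) = pc L hL from pullP_id _, ev_const, ev_const]
  linear_combination (norm := abel) e

section Pos

variable {g : ℕ} (hg : topologicalKrullDim A.left = g) (hg1 : 1 ≤ g) {L : A.left.Modules} (hL : CohB1.IsAmple L)
  (T : EndAV.End A →+ ℚ)
  (hT : ∀ (α : EndAV.End A) (P : Polynomial ℚ),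
    (∀ j : ℤ, (degree (α + (j : EndAV.End A)).toHom : ℚ) = P.eval (j : ℚ)) → P.coeff (2 * g - 1) = T α)
  (hex : ∀ α : EndAV.End A, ∃ P : Polynomial ℚ, ∀ j : ℤ, (degree (α + (j : EndAV.End A)).toHom : ℚ) = P.eval (j : ℚ))

/-- An endomorphism composed with its adjoint comes from a positive class. -/
theorem exists_posCls_adj {β ρ : EndAV.End A} (h : Adj (pc L hL.1) β ρ) (hβ : β ≠ 0) :
    ∃ (m : ℕ) (v : PC A.left), 1 ≤ m ∧ IsPosCls v ∧ ∀ x : 𝟙_ _ ⟶ A, th v (𝟙 A) (toUnit A ≫ x) =
      th (pc L hL.1) (𝟙 A) (toUnit A ≫ x ≫ (ρ * β).toHom ^ m) := by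
  let z : A.left := η[A].left (IsLocalRing.closedPoint k)
  let b : A.left ⟶ A.left := β.toHom.left
  haveI : IsIntegral A.left := GeometricallyIntegral.isIntegral_of_subsingleton A.hom
  obtain ⟨x₀, hx₀⟩ : ∃ x₀ : A.left, b x₀ ≠ z := by
    by_contra hc
    simp only [not_exists, not_not] at hc
    refine hβ (EndAV.End.ext ?_)
    rw [EndAV.End.toHom_zero]
    haveI : LocallyOfFiniteType (β.toHom.left ≫ A.hom) := by rw [Over.w β.toHom]; infer_instance
    refine Over.OverMorphism.ext (ext_of_apply_eq A.hom Set.univ isOpen_univ.isLocallyClosed dense_univ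
      (fun x _ _ => ?_) ((Over.w _).trans (Over.w _).symm))
    refine (hc x).trans ?_
    rw [show (1 : A ⟶ A) = toUnit A ≫ η[A] from rfl, Over.comp_left, Scheme.Hom.comp_apply]
    exact congrArg η[A].left (Subsingleton.elim (α := PrimeSpectrum k) _ _)
  have hzc : IsClosed ({z} : Set A.left) := by
    haveI : IsClosedImmersion η[A].left :=
      isClosedImmersion_of_comp_eq_id (Y := Spec (CommRingCat.of k)) A.hom η[A].left (by simp)
    have h : ({z} : Set A.left) = Set.range η[A].left := by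
      ext y
      refine ⟨fun h => ⟨_, h.symm⟩, fun ⟨p, hp⟩ => hp.symm.trans ?_⟩
      exact congrArg η[A].left (Subsingleton.elim (α := PrimeSpectrum k) _ _)
    rw [h]
    exact η[A].left.isClosedEmbedding.isClosed_range
  haveI : CompactSpace A.left := hL.2.1
  haveI : QuasiSeparatedSpace A.left := quasiSeparatedSpace_of_quasiSeparated A.hom
  obtain ⟨m, s, hm, hxs, hsU, -⟩ := H11Ample.exists_affine_gen_le hL (U := ⟨{z}ᶜ, hzc.isOpen_compl⟩) (x := b x₀) hx₀
  obtain ⟨hLm, em⟩ := exists_pc_tensorPow hL.1 m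
  have hb := H11Ample.isInvertible_pullback b hLm
  have e : H11Ample.gen ((Scheme.Modules.pullback b).obj (CohB1.tensorPow L m)) (H11Ample.pullTop b s) =
      b ⁻¹ᵁ H11Ample.gen _ s := by
    have := H11Ample.gen_smul_pullSect b hLm s (isUnit_one (M := Γ(A.left, ⊤)))
    rwa [one_smul] at this
  refine ⟨m, pullP b (pc _ hLm), hm, ⟨_, hb, H11Ample.pullTop b s, pullP_pc b _ hLm hb, ⟨x₀, ?_⟩, fun htop => ?_⟩,
    fun x => ?_⟩
  · rw [e]; exact hxs
  · have h : z ∈ b ⁻¹ᵁ H11Ample.gen _ s := by rw [← e, htop]; trivial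
    refine hsU (show b z ∈ _ from h) ?_
    show (η[A].left ≫ β.toHom.left) (IsLocalRing.closedPoint k) = z
    rw [← Over.comp_left, IsMonHom.one_hom (f := β.toHom)]
  · rw [em, map_nsmul]
    show th (m • ev (pc L hL.1) β.toHom) _ _ = _
    have e2 : ∀ p q : A ⟶ A, th (m • ev (pc L hL.1) β.toHom) p q = m • th (pc L hL.1) (p ≫ β.toHom) (q ≫ β.toHom) := by
      intro p q
      simp only [th, ev, map_nsmul, ← smul_sub]
      show m • (ev (ev _ _) _ - ev (ev _ _) _ - ev (ev _ _) _) = _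
      rw [ev_comp, ev_comp, ev_comp, MonObj.mul_comp]
      rfl
    rw [e2, h.apply, MonObj.comp_pow, MonObj.comp_pow, th_comm _ (𝟙 A) (_ ^ m), th_pow_left, th_comm,
      EndAV.End.toHom_mul, Category.assoc, Category.assoc]

include hg hg1 hT hex in
theorem trQ_adj_pos {β ρ : EndAV.End A} (h : Adj (pc L hL.1) β ρ) (hβ : β ≠ 0) : 0 < T (ρ * β) := by
  obtain ⟨m, v, hm, hv, hrel⟩ := exists_posCls_adj hL h hβ
  obtain ⟨P, hP⟩ := hex (ρ * β)
  exact hT _ _ hP ▸ coeff_pos_of_posCls hg hg1 hL (ρ * β) hm v hv hrel P hP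

include hg hg1 hT hex in
theorem trQ_adj_nonneg {β ρ : EndAV.End A} (h : Adj (pc L hL.1) β ρ) : 0 ≤ T (ρ * β) := by
  rcases eq_or_ne β 0 with rfl | hβ
  · rw [mul_zero, map_zero]
  · exact (trQ_adj_pos hg hg1 hL T hT hex h hβ).le

include hg hg1 hT hex in
theorem eq_zero_of_th {ψ : EndAV.End A} (h : th (pc L hL.1) (fst A A) (snd A A ≫ ψ.toHom) = 0) : ψ = 0 := by
  by_contra hψ
  have hadj : Adj (pc L hL.1) ψ 0 := by
    have h1 := congrArg (fun u => ev u (lift (snd A A) (fst A A))) h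
    simp only [ev_th, lift_fst, lift_snd_assoc] at h1
    rw [Adj, th_comm, h1, EndAV.End.toHom_zero, MonObj.comp_one, th_one_right]
    exact map_zero _
  simpa using trQ_adj_pos hg hg1 hL T hT hex hadj hψ

theorem eq_zero_of_nsmul {φ : EndAV.End A} {m : ℕ} (hm : 0 < m) (h : m • φ = 0) : φ = 0 :=
  EndAV.End.ext (eq_one_of_pow_eq_one φ.toHom hm (by rw [← EndAV.End.toHom_nsmul, h]; rfl))

include hg hg1 hT hex in
/-- A positive endomorphism conjugated by a symmetric one has nonnegative trace. -/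
theorem trQ_conj_nonneg {α : EndAV.End A} {m : ℕ} (hm : 1 ≤ m) {v : PC A.left} (hv : IsPosCls v)
    (hrel : ∀ x : 𝟙_ _ ⟶ A, th v (𝟙 A) (toUnit A ≫ x) = th (pc L hL.1) (𝟙 A) (toUnit A ≫ x ≫ α.toHom ^ m))
    {z : EndAV.End A} (hz : Adj (pc L hL.1) z z) : 0 ≤ T (z * α * z) := by
  haveI : IsIntegral A.left := GeometricallyIntegral.isIntegral_of_subsingleton A.hom
  haveI : IsMonHom (α.toHom ^ m) := EndAV.End.toHom_nsmul m α ▸ (inferInstance : IsMonHom (m • α).toHom)
  have hgen : ∀ {S : Over (Spec (CommRingCat.of k))} (p q : S ⟶ A),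
      th v p q = th (pc L hL.1) p (q ≫ α.toHom ^ m) := by
    intro S p q
    have h := congrArg (fun u => ev u (lift p q)) (th_eq_of_points v (pc L hL.1) (α.toHom ^ m) hrel)
    simp only [ev_th, lift_fst, lift_snd, lift_snd_assoc] at h
    exact h
  obtain ⟨M, hM, t, rfl, hne, hnt⟩ := hv
  obtain ⟨a, ha⟩ := exists_pt_mem _ hne
  let f : A ⟶ A := z.toHom * (toUnit A ≫ a)
  have hth : ∀ {S : Over (Spec (CommRingCat.of k))} (p q : S ⟶ A),
      th (ev (pc M hM) f) p q = th (pc M hM) (p ≫ z.toHom) (q ≫ z.toHom) := by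
    intro S p q
    have e : ∀ r : S ⟶ A, ev (ev (pc M hM) f) r =
        ev (pc M hM) (r ≫ z.toHom) + th (pc M hM) (r ≫ z.toHom) (toUnit S ≫ a) := by
      intro r
      rw [th, ev_comp, ev_const, show r ≫ f = r ≫ z.toHom * (toUnit S ≫ a) by
        rw [MonObj.comp_mul, ← Category.assoc, comp_toUnit]]
      abel
    rw [th, e, e, e, MonObj.mul_comp, th_mul_left]
    simp only [th]
    abel
  have hth' : ∀ {S : Over (Spec (CommRingCat.of k))} (p q : S ⟶ A),
      th (ev (pc M hM) f) p q = th (pc L hL.1) p (q ≫ (z * α * z).toHom ^ m) := by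
    intro S p q
    have hh : (z * α * z).toHom ^ m = z.toHom ≫ ((α.toHom ^ m) ≫ z.toHom) := by
      rw [← EndAV.End.toHom_nsmul, ← EndAV.End.toHom_nsmul, ← EndAV.End.toHom_mul, ← EndAV.End.toHom_mul]
      congr 1
      rw [mul_smul_comm, smul_mul_assoc]
    rw [hth, hgen, hz.apply, hh, Category.assoc, Category.assoc]
  have h2 := H11Ample.isInvertible_pullback f.left hM
  have e2 : H11Ample.gen ((Scheme.Modules.pullback f.left).obj M) (H11Ample.pullTop f.left t) =
      f.left ⁻¹ᵁ H11Ample.gen M t := by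
    have := H11Ample.gen_smul_pullSect f.left hM t (isUnit_one (M := Γ(A.left, ⊤)))
    rwa [one_smul] at this
  by_cases htop : f.left ⁻¹ᵁ H11Ample.gen M t = ⊤
  · have h0 : ev (pc M hM) f = 0 :=
      (pullP_pc f.left M hM h2).symm.trans (pc_eq_zero_of_gen h2 _ (e2.trans htop))
    have h1 := (hth' (fst A A) (snd A A)).symm
    rw [h0] at h1
    have h3 : z * α * z = 0 := eq_zero_of_nsmul hm (eq_zero_of_th hg hg1 hL T hT hex (by
      rw [EndAV.End.toHom_nsmul, h1]
      simp only [th, ev]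
      erw [map_zero, map_zero, map_zero]
      simp))
    rw [h3, map_zero]
  · have hpos : IsPosCls (ev (pc M hM) f) := by
      refine ⟨_, h2, H11Ample.pullTop f.left t, pullP_pc f.left M hM h2, ?_, by rw [e2]; exact htop⟩
      rw [e2]
      refine ⟨η[A].left (IsLocalRing.closedPoint k), ?_⟩
      show (η[A] ≫ f).left (IsLocalRing.closedPoint k) ∈ H11Ample.gen M t
      rwa [show η[A] ≫ f = a by
        rw [MonObj.comp_mul, IsMonHom.one_hom (f := z.toHom), ← Category.assoc, comp_toUnit,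
          show toUnit (𝟙_ _) = 𝟙 _ from toUnit_unique _ _, Category.id_comp, show η[A] = 1 by
            rw [Hom.one_def, show toUnit (𝟙_ _) = 𝟙 _ from toUnit_unique _ _, Category.id_comp], _root_.one_mul]]
    obtain ⟨P, hP⟩ := hex (z * α * z)
    exact (hT _ _ hP ▸ coeff_pos_of_posCls hg hg1 hL (z * α * z) hm _ hpos
      (fun x => by rw [hth']; simp only [Category.assoc]) P hP).le

end Pos

end Groth.Agent.H25AbCube
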