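import Groth.Agent.H25AbCube.TopDeg
import Groth.Agent.H25Euler.RankCoeff
import Groth.Agent.H29RR.Sections
import Groth.Agent.H25Cut

/-!
# The mixed top coefficient of an effective class and an ample class is positive
-/

set_option autoImplicit false
set_option linter.style.haveILetI false
set_option linter.unusedSectionVars false
set_option backward.isDefEq.respectTransparency false
set_option synthInstance.maxHeartbeats 400000
set_option maxHeartbeats 1000000
universe u

open CategoryTheory CategoryTheory.Limits AlgebraicGeometry TopologicalSpace MvPolynomial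
open Groth.Agent

noncomputable section

namespace Groth.Agent.H25AbCube

/-- The restriction of a polynomial in two variables to an affine line. -/
def affRes (a b : ℚ) : MvPolynomial (Fin 2) ℚ →ₐ[ℚ] Polynomial ℚ :=
  MvPolynomial.aeval ![Polynomial.C a, Polynomial.X + Polynomial.C b]

theorem eval_affRes (a b t : ℚ) (P : MvPolynomial (Fin 2) ℚ) :
    (affRes a b P).eval t = eval ![a, t + b] P := by
  induction P using MvPolynomial.induction_on with
  | C c => simp [affRes]
  | add p q hp hq => rw [map_add, map_add, Polynomial.eval_add, hp, hq]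
  | mul_X p i hp =>
    rw [map_mul, map_mul, Polynomial.eval_mul, hp, eval_X]
    fin_cases i <;> simp [affRes]

theorem affRes_of_isHomogeneous (a b : ℚ) {H : MvPolynomial (Fin 2) ℚ} {j : ℕ} (hH : H.IsHomogeneous j) :
    (affRes a b H).natDegree ≤ j ∧ (affRes a b H).coeff j = eval ![0, 1] H := by
  suffices h : (affRes a b H).natDegree ≤ j ∧ (affRes a b H).coeff j = eval ![0, 1] H from h
  rw [H.as_sum, map_sum, map_sum, Polynomial.finsetSum_coeff]
  have key : ∀ e ∈ H.support, (affRes a b (monomial e (H.coeff e))).natDegree ≤ j ∧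
      (affRes a b (monomial e (H.coeff e))).coeff j = eval ![0, 1] (monomial e (H.coeff e)) := by
    intro e he
    have he' : e 0 + e 1 = j := by
      rw [← hH (MvPolynomial.mem_support_iff.1 he), Finsupp.weight_apply, Finsupp.sum_fintype _ _ (fun i => by simp)]
      simp [Fin.sum_univ_two]
    have h1 : affRes a b (monomial e (H.coeff e)) =
        Polynomial.C (H.coeff e * a ^ e 0) * (Polynomial.X + Polynomial.C b) ^ e 1 := by
      rw [affRes, aeval_monomial, Finsupp.prod_fintype _ _ (fun _ => pow_zero _), Fin.prod_univ_two]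
      simp only [Matrix.cons_val_zero, Matrix.cons_val_one, Polynomial.algebraMap_eq, ← Polynomial.C_pow, map_mul]
      ring
    have hdeg : ((Polynomial.X + Polynomial.C b) ^ e 1).natDegree = e 1 := by simp
    rw [h1, eval_monomial, Finsupp.prod_fintype _ _ (fun _ => pow_zero _), Fin.prod_univ_two]
    refine ⟨(Polynomial.natDegree_C_mul_le _ _).trans (by omega), ?_⟩
    rw [Polynomial.coeff_C_mul]
    rcases Nat.eq_zero_or_pos (e 0) with h0 | h0
    · have : ((Polynomial.X + Polynomial.C b) ^ e 1).coeff j = 1 := by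
        rw [← he', h0, zero_add]
        have := (Polynomial.monic_X_add_C b).pow (e 1)
        rw [Polynomial.Monic, Polynomial.leadingCoeff, hdeg] at this
        exact this
      rw [this]
      simp [h0]
    · rw [Polynomial.coeff_eq_zero_of_natDegree_lt (by omega)]
      simp [zero_pow h0.ne']
  exact ⟨Polynomial.natDegree_sum_le_of_forall_le _ _ fun e he => (key e he).1,
    Finset.sum_congr rfl fun e he => (key e he).2⟩

variable {k : Type u} [Field k] {X : Scheme.{u}} [X.Over (Spec (CommRingCat.of k))]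
  [IsProper (X ↘ Spec (CommRingCat.of k))]

/-- The complement of the locus of generation of a section has a component of codimension one. -/
theorem exists_cdim_cut (k : Type u) [Field k] [X.Over (Spec (CommRingCat.of k))]
    [IsProper (X ↘ Spec (CommRingCat.of k))] [IsIntegral X] {d : ℕ} (hd : topologicalKrullDim X = d) {M : X.Modules}
    (hM : PicF.IsInvertible M) (g : Γ(M, ⊤)) (hg' : H11Ample.gen M g ≠ ⊤) :
    ∃ t : X, t ∉ H11Ample.gen M g ∧ (d : WithBot ℕ∞) ≤ H8Props.FieldDim.cdim t + (1 : ℕ) := by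
  obtain ⟨y, hy⟩ : ∃ y, y ∉ H11Ample.gen M g := by
    by_contra h
    simp only [not_exists, not_not] at h
    exact hg' (eq_top_iff.2 fun x _ => h x)
  let Z : Set X := ((H11Ample.gen M g : X.Opens) : Set X)ᶜ
  haveI : QuasiSober Z := (H11Ample.gen M g).isOpen.isClosed_compl.isClosedEmbedding_subtypeVal.quasiSober
  let C : Set Z := irreducibleComponent ⟨y, hy⟩
  obtain ⟨⟨t, ht⟩, htC⟩ := QuasiSober.sober (isIrreducible_irreducibleComponent (x := (⟨y, hy⟩ : Z)))
    isClosed_irreducibleComponent
  refine ⟨t, ht, ?_⟩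
  have hmax : ∀ z : X, z ∈ Z → z ⤳ t → z = t := by
    intro z hz hzt
    have h1 : closure ({⟨t, ht⟩} : Set Z) ⊆ closure ({⟨z, hz⟩} : Set Z) :=
      specializes_iff_closure_subset.1 ((subtype_specializes_iff (⟨z, hz⟩ : Z) ⟨t, ht⟩).2 hzt)
    rw [htC] at h1
    have h2 := eq_irreducibleComponent isIrreducible_singleton.closure.isPreirreducible h1
    exact (((subtype_specializes_iff (⟨t, ht⟩ : Z) ⟨z, hz⟩).1 (specializes_iff_closure_subset.2 (h2.le.trans htC.ge))).antisymm hzt).eq.symm
  obtain ⟨V, e, htV, he⟩ := H11Ample.exists_gen hM t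
  obtain ⟨W, hW, htW, hWV⟩ := exists_isAffineOpen_mem_and_subset (x := t) (U := V) htV
  have heW := he.res hWV
  obtain ⟨c, hc⟩ := (heW.bijective le_rfl).2 (M.presheaf.map (homOfLE (le_top : W ≤ ⊤)).op g)
  have hgc := H11Ample.gen_inf_eq_basicOpen heW g c (by rw [← hc, H10Coh.mres_self])
  have hη := genericPoint_specializes t
  have hcut := H25Cut.cdim_cut_le (k := k) (X ↘ Spec (CommRingCat.of k)) hη hW htW {c} (Set.finite_singleton c) 1
    (by simp) (fun c' hc' h => ht ((hgc.ge (hc' ▸ h)).1)) fun z _ hzt hz => hmax z (fun hzg =>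
      hz c rfl (hgc.le ⟨hzg, hzt.mem_open W.2 htW⟩)) hzt
  have hηd : H8Props.FieldDim.cdim (genericPoint X) = (d : WithBot ℕ∞) := by
    show topologicalKrullDim (closure ({genericPoint X} : Set X)) = _
    rw [(genericPoint_spec X).def]
    exact ((Homeomorph.Set.univ X).isHomeomorph.topologicalKrullDim_eq).trans hd
  rwa [hηd] at hcut

/-- The mixed coefficient of a nonzero vanishing section and an ample class is positive. -/
theorem coeff_pos_of_section [IsIntegral X] {d : ℕ} (hd : topologicalKrullDim X = d) (hd1 : 1 ≤ d) {H : X.Modules}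
    (hH : CohB1.IsAmple H) {M : X.Modules} (hM : PicF.IsInvertible M) (g : Γ(M, ⊤)) (hg : g ≠ 0)
    (hg' : H11Ample.gen M g ≠ ⊤) {T : Polynomial ℚ}
    (hT : ∀ t : ℤ, T.eval (t : ℚ) = top k d (pc M hM + t • pc H hH.1)) : 0 < T.coeff (d - 1) := by
  haveI : CompactSpace X := hH.2.1
  haveI : QuasiSeparatedSpace X := quasiSeparatedSpace_of_quasiSeparated (X ↘ Spec (CommRingCat.of k))
  haveI : IsLocallyNoetherian X := LocallyOfFiniteType.isLocallyNoetherian (X ↘ Spec (CommRingCat.of k))
  obtain ⟨n, -, hn⟩ := H11Ample.eventually_ample_tensor hH hM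
  obtain ⟨h1, e1⟩ := exists_pc_tensorPow hH.1 n
  let W : Fin 2 → X.Modules := ![CohB1.tensorMod (CohB1.tensorPow H n) M, H]
  have hW : ∀ i, CohB1.IsAmple (W i) := Fin.forall_fin_two.2 ⟨(hn n le_rfl).1, hH⟩
  let f : (Fin 2 → ℤ) → ℚ := fun c => (chiCls k (∑ j, c j • pc (W j) (hW j).1) : ℚ)
  obtain ⟨P₀, hP₀, hPe⟩ := H25Euler.exists_mvPolynomial_of_lines d f fun b v hv => by
    obtain ⟨N, hN, eN⟩ := isAmple_pos_comb W hW v Finset.univ hv
    obtain ⟨Q, hQ, hQe⟩ := exists_line_poly (k := k) hd N hN (∑ j, b j • pc (W j) (hW j).1)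
    refine ⟨Q, hQ, fun t => ?_⟩
    rw [← hQe t, eN, Finset.smul_sum, ← Finset.sum_add_distrib]
    refine congrArg (fun z : PC X => (chiCls k z : ℚ)) (Finset.sum_congr rfl fun j _ => ?_)
    rw [Pi.add_apply, Pi.smul_apply, add_smul, smul_eq_mul, mul_smul, natCast_zsmul]
  have hW0 : pc (W 0) (hW 0).1 = n • pc H hH.1 + pc M hM := (pc_tensor h1 hM _).trans (by rw [e1])
  have hf : ∀ a b : ℤ, f ![a, b] = chiCls k (a • pc M hM + (a * n + b) • pc H hH.1) := by
    intro a b
    refine congrArg (fun z : PC X => (chiCls k z : ℚ)) ?_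
    rw [Fin.sum_univ_two, hW0]
    show a • (n • pc H hH.1 + pc M hM) + b • pc H hH.1 = _
    rw [← natCast_zsmul (pc H hH.1) n]
    module
  have hTeq : T = affRes 1 (-n) (homogeneousComponent d P₀) := by
    refine Polynomial.eq_of_infinite_eval_eq _ _ ((Set.infinite_range_of_injective Int.cast_injective).mono ?_)
    rintro - ⟨t, rfl⟩
    show T.eval (t : ℚ) = (affRes 1 (-n) (homogeneousComponent d P₀)).eval (t : ℚ)
    rw [hT, top_eq _ (P := H25Euler.lineRes ![1, (t : ℚ) - n] P₀) fun m => ?_, H25Euler.coeff_lineRes,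
      eval_affRes, sub_eq_add_neg]
    rw [H25Euler.eval_lineRes]
    have := hPe ![(m : ℤ), (t - n) * m]
    rw [hf, show (m : ℤ) * n + (t - n) * m = m * t by ring, mul_smul, ← smul_add, natCast_zsmul] at this
    rw [this]
    refine congrArg (fun w => eval w P₀) (funext fun i => ?_)
    fin_cases i <;> simp
  let s := H11Tilde.homOfGlobal M g
  obtain ⟨hmono, -⟩ := H29RR.mono_homOfGlobal hM hg
  haveI : Mono s := hmono
  have hS : (ShortComplex.mk s (cokernel.π s) (cokernel.condition _)).ShortExact :=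
    { exact := ShortComplex.exact_cokernel _ }
  have hO := H11Ample.isCoh_of_isInvertible (H11Ample.isInvertible_structureModule (X := X))
  have hMc := H11Ample.isCoh_of_isInvertible hM
  have hC : Coh.IsCoh (cokernel s) := H10Coh.isCoh_cokernel s hO.1 hMc
  let PC' : Polynomial ℚ := affRes 1 (-n) P₀ - affRes 0 0 P₀
  have hPC : ShStab.IsHilbPoly k X H (cokernel s) PC' := by
    intro m
    show (H25Euler.chi k H (cokernel s) m : ℚ) = _
    have h := H25Euler.chi_add (k := k) hH.1 hS hO hMc hC m
    rw [chi_eq_chiCls H M hH.1 hM, chi_eq_chiCls H _ hH.1 H11Ample.isInvertible_structureModule, pc_one, zero_add] at h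
    have e2 := hPe ![1, (m : ℤ) - n]
    have e3 := hPe ![0, (m : ℤ)]
    rw [hf, show (1 : ℤ) * n + ((m : ℤ) - n) = m by ring, one_smul, natCast_zsmul] at e2
    rw [hf, zero_mul, zero_add, zero_smul, zero_add, natCast_zsmul] at e3
    have h' : (H25Euler.chi k H (cokernel s) m : ℚ) =
        (chiCls k (pc M hM + m • pc H hH.1) : ℚ) - (chiCls k (m • pc H hH.1) : ℚ) := by
      rw [h]; push_cast; ring
    rw [h', e2, e3, Polynomial.eval_sub, eval_affRes, eval_affRes]
    congr 1 <;> refine congrArg (fun w => eval w P₀) (funext fun i => ?_) <;> fin_cases i <;> simp [sub_eq_add_neg]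
  have hsum : ∀ a b : ℚ, affRes a b P₀ = ∑ j ∈ Finset.range (d + 1), affRes a b (homogeneousComponent j P₀) := by
    intro a b
    rw [← map_sum]
    congr 1
    conv_lhs => rw [← P₀.sum_homogeneousComponent]
    refine Finset.sum_subset (Finset.range_mono (Nat.succ_le_succ hP₀)) fun j _ hj => homogeneousComponent_eq_zero _ _ ?_
    simpa using hj
  have hhom := fun j => homogeneousComponent_isHomogeneous j P₀
  have hR := fun a b j => affRes_of_isHomogeneous a b (hhom j)
  have h0d : (affRes 0 0 (homogeneousComponent d P₀)).coeff (d - 1) = 0 := by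
    have h : affRes 0 0 (homogeneousComponent d P₀) = H25Euler.lineRes ![0, 1] (homogeneousComponent d P₀) := by
      refine congrArg (fun w => aeval w (homogeneousComponent d P₀)) (funext fun i => ?_)
      fin_cases i <;> simp
    rw [h, H25Euler.lineRes_of_isHomogeneous _ (hhom d), Polynomial.coeff_monomial, if_neg (by omega)]
  have hcoeff : PC'.coeff d = 0 ∧ PC'.coeff (d - 1) = T.coeff (d - 1) := by
    simp only [PC', hsum, Polynomial.coeff_sub, Polynomial.finsetSum_coeff, ← Finset.sum_sub_distrib]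
    refine ⟨Finset.sum_eq_zero fun j hj => ?_, ?_⟩
    · rcases (Nat.lt_succ_iff.1 (Finset.mem_range.1 hj)).lt_or_eq with h | rfl
      · rw [Polynomial.coeff_eq_zero_of_natDegree_lt ((hR _ _ j).1.trans_lt h),
          Polynomial.coeff_eq_zero_of_natDegree_lt ((hR _ _ j).1.trans_lt h), sub_zero]
      · rw [(hR _ _ j).2, (hR _ _ j).2, sub_self]
    · rw [Finset.sum_range_succ, h0d, sub_zero, ← hTeq, Finset.sum_eq_zero fun j hj => ?_, zero_add]
      rcases (Nat.le_sub_one_of_lt (Finset.mem_range.1 hj)).lt_or_eq with h | rfl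
      · rw [Polynomial.coeff_eq_zero_of_natDegree_lt ((hR _ _ j).1.trans_lt h),
          Polynomial.coeff_eq_zero_of_natDegree_lt ((hR _ _ j).1.trans_lt h), sub_zero]
      · rw [(hR _ _ _).2, (hR _ _ _).2, sub_self]
  obtain ⟨t, ht, htd⟩ := exists_cdim_cut k hd hM g hg'
  have htS : t ∈ CohB1.support (cokernel s) := by
    by_contra h
    exact ht (H25Euler.mem_gen_of_notMem_support_coker hM g h)
  have hlow := htd.trans (add_le_add (H25Cut.cdim_le_dim (H10Coh.isClosed_support _ hC.2) htS) le_rfl)
  obtain ⟨d', hd'⟩ : ∃ d' : ℕ, topologicalKrullDim (CohB1.support (cokernel s)) = (d' : WithBot ℕ∞) := by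
    have hle : topologicalKrullDim (CohB1.support (cokernel s)) ≤ (d : WithBot ℕ∞) :=
      (topologicalKrullDim_subspace_le X _).trans_eq hd
    generalize topologicalKrullDim (CohB1.support (cokernel s)) = v at hle hlow ⊢
    induction v using WithBot.recBotCoe with
    | bot => simp at hlow
    | coe a =>
      have : a ≤ (d : ℕ∞) := by exact_mod_cast hle
      lift a to ℕ using ne_top_of_le_ne_top (ENat.natCast_ne_top d) this
      exact ⟨a, rfl⟩
  obtain ⟨hdeg, -, hpos⟩ := H10Coh.Stab.degree_hilbPoly hH hC hd' hPC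
  have h1 : d ≤ d' + 1 := by rw [hd'] at hlow; exact_mod_cast hlow
  have h2 : d' ≤ d := by
    have := (topologicalKrullDim_subspace_le X (CohB1.support (cokernel s))).trans_eq hd
    rw [hd'] at this
    exact_mod_cast this
  have h3 : d' ≠ d := fun h => by rw [h, hcoeff.1] at hpos; exact lt_irrefl _ hpos
  obtain rfl : d' = d - 1 := by omega
  rwa [hcoeff.2] at hpos

end Groth.Agent.H25AbCube
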