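import Groth.Agent.H25AbCube.Degree
import Groth.Agent.H7Flat.GenericFlatness
import Groth.Agent.H13AlgSp.FibreCard

/-!
# Finite self maps of a projective variety multiplying an ample class
-/

set_option autoImplicit false
set_option linter.style.haveILetI false
set_option linter.unusedSectionVars false
set_option backward.isDefEq.respectTransparency false
universe u

open CategoryTheory CategoryTheory.Limits AlgebraicGeometry TopologicalSpace
open Groth.Agent

attribute [local instance 10000] Groth.Agent.H10Coh.hasSheafifyAb Groth.Agent.H10Coh.hasWeakSheafifyAb Groth.Agent.H10Coh.hasExtAb Groth.Agent.H10Coh.enoughInjAb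

noncomputable section

namespace Groth.Agent.H25AbCube

variable {k : Type u} [Field k]

/-- The generic rank of a finite pushforward is the rank of the sections over an affine open. -/
theorem genRank_push_affine {X Y : Scheme.{u}} [IsIntegral X] (f : Y ⟶ X) [IsFinite f] {V : X.Opens}
    (hV : IsAffineOpen V) (hη : genericPoint X ∈ V) :
    letI := (f.app V).hom.toAlgebra
    H25Euler.genRank ((Coh.push f).obj (Coh.structureModule Y)) =
      Module.rankAtStalk Γ(Y, f ⁻¹ᵁ V) (hV.primeIdealOf ⟨genericPoint X, hη⟩) := by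
  let x : V := ⟨genericPoint X, hη⟩
  let E := (Coh.push f).obj (Coh.structureModule Y)
  haveI : (Coh.structureModule Y).IsQuasicoherent :=
    (H11Ample.isCoh_of_isInvertible H11Ample.isInvertible_structureModule).1
  haveI hE : E.IsQuasicoherent := H10Coh.isQuasicoherent_pushforward_of_isAffineHom f _
  letI := TopCat.Presheaf.algebra_section_stalk X.presheaf x
  letI mst := Module.compHom (E.presheaf.stalk x.1) (algebraMap Γ(X, V) (X.presheaf.stalk x.1))
  haveI := hV.isLocalization_stalk x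
  haveI : IsScalarTower Γ(X, V) (X.presheaf.stalk x.1) (E.presheaf.stalk x.1) :=
    IsScalarTower.of_algebraMap_smul fun r z => rfl
  haveI := H29Fitt.isLocalizedModule_germLin E hE hV x
  show Module.finrank (X.presheaf.stalk x.1) (E.presheaf.stalk x.1) = _
  rw [H25Euler.finrank_eq_rankAtStalk_of_isLocalizedModule (hV.primeIdealOf x) (X.presheaf.stalk x.1)
    (H29Fitt.germLin E x)]
  letI := (f.app V).hom.toAlgebra
  exact congrFun (Module.rankAtStalk_eq_of_equiv ({ AddEquiv.refl Γ(E, V) with map_smul' := fun r z => rfl } :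
    Γ(E, V) ≃ₗ[Γ(X, V)] Γ(Y, f ⁻¹ᵁ V))) _

/-- A finite self map multiplying an ample class by `c` has degree `c^g`. -/
theorem genRank_push_of_pullback {X : Scheme.{u}} [IsIntegral X] [X.Over (Spec (CommRingCat.of k))]
    [IsProper (X ↘ Spec (CommRingCat.of k))] (φ : X ⟶ X) [IsFinite φ]
    (hφ : φ ≫ (X ↘ Spec (CommRingCat.of k)) = X ↘ Spec (CommRingCat.of k)) {L : X.Modules}
    (hL : CohB1.IsAmple L) {c : ℕ} (hc : pullP φ (pc L hL.1) = c • pc L hL.1) {g : ℕ}
    (hg : topologicalKrullDim X = g) :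
    H25Euler.genRank ((Coh.push φ).obj (Coh.structureModule X)) = c ^ g := by
  haveI : IsLocallyNoetherian X := LocallyOfFiniteType.isLocallyNoetherian (X ↘ Spec (CommRingCat.of k))
  haveI : CompactSpace X := hL.2.1
  haveI : IsNoetherian X := {}
  let O := Coh.structureModule X
  have hO : Coh.IsCoh O := H11Ample.isCoh_of_isInvertible H11Ample.isInvertible_structureModule
  haveI : O.IsQuasicoherent := hO.1
  have hE : Coh.IsCoh ((Coh.push φ).obj O) := H10Coh.isCoh_push_of_isFinite φ O hO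
  have hsupp : topologicalKrullDim (CohB1.support O) = (g : WithBot ℕ∞) := by
    rw [H25Euler.support_invertible H11Ample.isInvertible_structureModule]
    exact ((Homeomorph.Set.univ X).isHomeomorph.topologicalKrullDim_eq).trans hg
  obtain ⟨P₀, hP₀⟩ := H25Euler.exists_hilbPoly (k := k) hL hO (d := g + 1)
    (hsupp ▸ (by exact_mod_cast Nat.lt_succ_self g))
  obtain ⟨-, -, hpos⟩ := H10Coh.Stab.degree_hilbPoly hL hO hsupp hP₀
  have hchi : ∀ m : ℕ, H25Euler.chi k L ((Coh.push φ).obj O) m = H25Euler.chi k L O (c * m) := by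
    intro m
    have hm := H11Ample.isInvertible_tensorPow hL.1 m
    have hp := H11Ample.isInvertible_pullback φ hm
    obtain ⟨h2, e2⟩ := exists_pc_tensorPow hL.1 (c * m)
    obtain ⟨h1, e1⟩ := exists_pc_tensorPow hL.1 m
    have h3 : pc _ hp = pc _ h2 := by
      rw [pullP_pc φ _ h1, e1, map_nsmul, e2, hc, ← mul_nsmul]
    obtain ⟨e⟩ := (pc_eq_iff hp h2).1 h3
    haveI := H10Coh.PF.isIso_ψ_of_isFinLocFree φ (H22Alg.PnVan.finLocFree_of_inv hm) O
    haveI : (CohB1.tensorMod O ((Scheme.Modules.pullback φ).obj (CohB1.tensorPow L m))).IsQuasicoherent :=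
      (H11Ample.isCoh_tensor hO hp).1
    refine (H25Euler.euler_congr (asIso (H16Derived.ProjFormula.ψ φ O (CohB1.tensorPow L m)))).trans ?_
    refine (H28Int.Push.euler_push k φ hφ
      (CohB1.tensorMod O ((Scheme.Modules.pullback φ).obj (CohB1.tensorPow L m)))).trans ?_
    exact H25Euler.euler_congr (eqToIso (H25Euler.tensorBi_obj_obj O _).symm ≪≫
      ((DCoh.tensorBi (X := X)).obj O).mapIso e ≪≫ eqToIso (H25Euler.tensorBi_obj_obj O _))
  let Q := P₀.comp (Polynomial.C (c : ℚ) * Polynomial.X)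
  have hQ : ShStab.IsHilbPoly k X L ((Coh.push φ).obj O) Q := fun m => by
    simp only [Q, Polynomial.eval_comp, Polynomial.eval_mul, Polynomial.eval_C, Polynomial.eval_X]
    rw [← Nat.cast_mul]
    refine Eq.trans ?_ (hP₀ (c * m))
    exact_mod_cast hchi m
  have h := H25Euler.coeff_hilbPoly_eq_genRank_mul k hL hg hP₀ hE hQ
  rw [show Q.coeff g = P₀.coeff g * (c : ℚ) ^ g from Polynomial.comp_C_mul_X_coeff, mul_comm] at h
  exact_mod_cast (mul_right_cancel₀ hpos.ne' h).symm

/-- A finite map to a variety has a closed fibre with at most as many points as the generic rank. -/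
theorem exists_fibre_card_le {X Y : Scheme.{u}} [IsIntegral X] [JacobsonSpace X] (f : Y ⟶ X) [IsFinite f] :
    ∃ y : X, IsClosed ({y} : Set X) ∧
      ENat.card (f ⁻¹' {y}) ≤ H25Euler.genRank ((Coh.push f).obj (Coh.structureModule Y)) := by
  obtain ⟨V₀, hV₀, hηV₀, -⟩ := exists_isAffineOpen_mem_and_subset (X := X) (x := genericPoint X) (U := ⊤) trivial
  obtain ⟨a, hne, hflat⟩ := H7Flat.exists_basicOpen_flatLFP f hV₀ ⟨_, hηV₀⟩
  let V := X.basicOpen a
  have hV : IsAffineOpen V := hV₀.basicOpen a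
  have hη : genericPoint X ∈ V := ((genericPoint_spec X).mem_open_set_iff V.isOpen).2 (by simpa using hne)
  haveI : Flat (f ∣_ V) := hflat.1
  obtain ⟨y, hyV, hy⟩ := (nonempty_inter_closedPoints (Z := (V : Set X)) ⟨_, hη⟩ V.isOpen.isLocallyClosed)
  refine ⟨y, hy, ?_⟩
  rw [genRank_push_affine f hV hη]
  let U := f ⁻¹ᵁ V
  have hU : IsAffineOpen U := hV.preimage f
  letI := (f.app V).hom.toAlgebra
  haveI : Module.Finite Γ(X, V) Γ(Y, U) := IsFinite.finite_app (f := f) V hV
  have comm : hU.isoSpec.hom ≫ Spec.map (f.app V) = (f ∣_ V) ≫ hV.isoSpec.hom := by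
    rw [← cancel_mono hV.fromSpec, Category.assoc, Category.assoc, Scheme.Hom.app_eq_appLE,
      IsAffineOpen.SpecMap_appLE_fromSpec f hV hU, ← IsAffineOpen.isoSpec_inv_ι,
      ← IsAffineOpen.isoSpec_inv_ι]
    simp [U]
  haveI : Flat (Spec.map (f.app V)) :=
    (MorphismProperty.arrow_mk_iso_iff @Flat (Arrow.isoMk hU.isoSpec hV.isoSpec comm :
      Arrow.mk (f ∣_ V) ≅ Arrow.mk (Spec.map (f.app V)))).1 inferInstance
  haveI : Module.Flat Γ(X, V) Γ(Y, U) := Flat.SpecMap_iff.1 ‹_›
  let p := hV.primeIdealOf ⟨y, hyV⟩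
  have hle : hV.primeIdealOf ⟨genericPoint X, hη⟩ ≤ p := by
    refine (PrimeSpectrum.le_iff_specializes _ _).2 (hV.fromSpec.isOpenEmbedding.isInducing.specializes_iff.1 ?_)
    rw [hV.fromSpec_primeIdealOf, hV.fromSpec_primeIdealOf]
    exact genericPoint_specializes y
  rw [Module.rankAtStalk_eq_of_le_of_finite_of_flat Γ(Y, U) hle, Module.rankAtStalk_eq]
  let q : f ⁻¹' {y} → p.asIdeal.primesOver Γ(Y, U) := fun z =>
    have hz : z.1 ∈ U := show f z.1 ∈ V by rw [show f z.1 = y from z.2]; exact hyV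
    ⟨(hU.primeIdealOf ⟨z.1, hz⟩).asIdeal, (hU.primeIdealOf ⟨z.1, hz⟩).2, by
      have h := (H22Alg.FiniteDegree.stalk_data f hV hU ⟨z.1, hz⟩).2.2
      have e : (⟨f z.1, hz⟩ : V) = ⟨y, hyV⟩ := Subtype.ext z.2
      rwa [e] at h⟩
  have hq : Function.Injective q := fun z z' h => by
    have h' := congrArg hU.fromSpec (PrimeSpectrum.ext (congrArg Subtype.val h))
    exact Subtype.ext (by rwa [hU.fromSpec_primeIdealOf, hU.fromSpec_primeIdealOf] at h')
  refine (ENat.card_le_card_of_injective hq).trans ?_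
  rw [ENat.card_congr (PrimeSpectrum.primesOverOrderIsoFiber Γ(X, V) Γ(Y, U) p.asIdeal).toEquiv]
  exact H13AlgSp.card_primeSpectrum_le_finrank _ _

end Groth.Agent.H25AbCube
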