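import Groth.Agent.H25AbCube.Generated
import Groth.Agent.H29RR.Sections
import Groth.Agent.H25AbCube.PoincareSplit

set_option autoImplicit false
set_option linter.style.haveILetI false
set_option backward.isDefEq.respectTransparency false
set_option maxHeartbeats 1000000
universe u

open CategoryTheory CategoryTheory.Limits MonoidalCategory CartesianMonoidalCategory MonObj GrpObj AlgebraicGeometry
  TopologicalSpace Opposite
open Groth.Agent Groth.Agent.H11Ample Groth.Agent.H11Tilde

noncomputable section

namespace Groth.Agent.H25AbCube.Stab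

/-- A nonzero section generates somewhere. -/
theorem gen_nonempty_of_ne_zero {X : Scheme.{u}} [IsIntegral X] [IsLocallyNoetherian X] {M : X.Modules}
    (hM : PicF.IsInvertible M) {g : Γ(M, ⊤)} (hg : g ≠ 0) : ((gen M g : X.Opens) : Set X).Nonempty := by
  obtain ⟨V, e, hxV, he⟩ := exists_gen hM (genericPoint X)
  obtain ⟨c, hc⟩ := exists_coeff he (M.presheaf.map (homOfLE (le_top : V ≤ ⊤)).op g)
  by_contra hne
  have hb : X.basicOpen c = ⊥ := by
    rw [← gen_inf_eq_basicOpen he g c hc]
    exact le_bot_iff.1 fun y hy => (hne ⟨y, hy.1⟩).elim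
  rw [basicOpen_eq_bot_iff] at hb
  rw [hb, zero_smul] at hc
  have hLf := H28Pinch.isFinLocFree_of_isInvertible hM
  refine H29RR.germ_ne_zero (H16Derived.KFlat.Stalk.isCoh_of_isFinLocFree hLf).1 (H25Par.isTorsionFree_of_locFree hLf)
    hg ?_
  rw [← TopCat.Presheaf.germ_res_apply M.presheaf (homOfLE (le_top : V ≤ ⊤)) (genericPoint X) hxV g]
  erw [hc]
  exact map_zero _

variable {k : Type u} [Field k] [IsAlgClosed k] {A : Over (Spec (CommRingCat.of k))} [GrpObj A] [IsProper A.hom]
  [GeometricallyIntegral A.hom]

/-- Nontrivial effective invertible modules on simple abelian varieties are ample. -/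
theorem isAmple_of_simple
    (hsimple : ∀ (B : Over (Spec (CommRingCat.of k))) [GrpObj B] [GeometricallyIntegral B.hom] (i : B ⟶ A) [IsMonHom i]
      [IsClosedImmersion i.left], Subsingleton ↥B.left ∨ IsIso i)
    {L : A.left.Modules} (hL : PicF.IsInvertible L) (s : Γ(L, ⊤))
    (hne : ((gen L s : A.left.Opens) : Set A.left).Nonempty) (htop : gen L s ≠ ⊤) : CohB1.IsAmple L := by
  haveI : IsIntegral A.left := GeometricallyIntegral.isIntegral_of_subsingleton A.hom
  haveI : IsCommMonObj A := isCommMonObj_of_av
  haveI : JacobsonSpace A.left := LocallyOfFiniteType.jacobsonSpace A.hom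
  letI : A.left.Over (Spec (CommRingCat.of k)) := ⟨A.hom⟩
  haveI : IsProper (A.left ↘ Spec (CommRingCat.of k)) := ‹IsProper A.hom›
  let K : Subgroup (𝟙_ (Over (Spec (CommRingCat.of k))) ⟶ A) :=
    { carrier := {d | ∀ y, (τ d).left y ∈ gen L s ↔ y ∈ gen L s}
      one_mem' := fun y => by rw [τ_one]; rfl
      mul_mem' := fun {a b} ha hb y => by rw [← τ_comp_left, hb, ha]
      inv_mem' := fun {a} ha y => by
        rw [← ha ((τ a⁻¹).left y), τ_comp_left, inv_mul_cancel, τ_one]
        rfl }
  have hsq := isInvertible_tensor hL hL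
  have hgg : Curv2.IsGloballyGenerated (CohB1.tensorMod L L) :=
    H22Alg.DimOnePencil.isGloballyGenerated_of_gen hsq (exists_gen_tensor_self hL s hne)
  let t : Γ(CohB1.tensorMod L L, ⊤) := tm s s
  have ht : gen (CohB1.tensorMod L L) t = gen L s := by rw [gen_tm hL hL, inf_idem]
  have haff := Groth.Agent.S11372.result k A.left (CohB1.tensorMod L L) hsq hgg (homOfGlobal _ t)
    fun C hC hdim hsub => by
      haveI := hC
      change _ ⊆ (gen (CohB1.tensorMod L L) t : Set A.left) at hsub
      rw [ht] at hsub
      obtain ⟨p₀, hp₀, hstab⟩ := curve_stab hL s hdim hsub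
      haveI : IsIso (τ p₀⁻¹) :=
        ⟨τ p₀, by rw [τ_mul, inv_mul_cancel, τ_one], by rw [τ_mul, mul_inv_cancel, τ_one]⟩
      haveI : IsIso (τ p₀⁻¹).left := inferInstanceAs (IsIso ((Over.forget _).map (τ p₀⁻¹)))
      let V := (τ p₀⁻¹).left '' (C.support : Set A.left)
      have hirr : IsIrreducible (C.support : Set A.left) := by
        rw [← C.range_subschemeι, ← Set.image_univ]
        exact (IrreducibleSpace.isIrreducible_univ C.subscheme).image _ C.subschemeι.continuous.continuousOn
      obtain ⟨B, instB, i, hi, hci, hBint, hBgi, hVB, hBK⟩ := exists_generated V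
        ((τ p₀⁻¹).left.isClosedEmbedding.isClosedMap _ C.support.isClosed)
        (hirr.image _ (τ p₀⁻¹).left.continuous.continuousOn)
        ⟨pt p₀, hp₀, by rw [pt_comp, comp_τ, mul_inv_cancel]⟩ K (fun a ⟨y, hy, hya⟩ => by
          have hy' : y = pt (a * p₀) := (τ_bijective p₀⁻¹).1 (by
            rw [hya, pt_comp, comp_τ, mul_inv_cancel_right])
          have := hstab (a * p₀) (hy' ▸ hy)
          rwa [show p₀⁻¹ * (a * p₀) = a by rw [_root_.mul_comm a, inv_mul_cancel_left]] at this)
      haveI := hi
      haveI := hci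
      haveI := hBgi
      rcases hsimple B i with hsub' | hiso
      · have hle : (C.support : Set A.left).Subsingleton := fun x hx y hy => by
          obtain ⟨x', hx'⟩ := hVB ⟨x, hx, rfl⟩
          obtain ⟨y', hy'⟩ := hVB ⟨y, hy, rfl⟩
          exact (τ_bijective p₀⁻¹).1 (by rw [← hx', ← hy', Subsingleton.elim x' y'])
        haveI : Subsingleton ↥(C.support : Set A.left) := hle.coe_sort
        haveI : DiscreteTopology ↥(C.support : Set A.left) := inferInstance
        have h0 := topologicalKrullDim_zero_of_discreteTopology ↥(C.support : Set A.left)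
        erw [hdim] at h0
        exact absurd h0 (by norm_num)
      · have hall : ∀ d, d ∈ K := fun d => by
          haveI := hiso
          simpa using hBK (d ≫ inv i)
        refine htop (eq_top_iff.2 fun y _ => ?_)
        obtain ⟨x, hx, hxc⟩ := nonempty_inter_closedPoints hne (gen L s).isOpen.isLocallyClosed
        obtain ⟨q, rfl⟩ := exists_point hxc
        have hU : gen L s = ⊤ := opens_ext fun a => by
          refine ⟨fun _ => trivial, fun _ => ?_⟩
          have := (hall (q⁻¹ * a) (pt q)).2 hx
          rwa [pt_comp, comp_τ, mul_inv_cancel_left] at this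
        exact absurd hU htop
  change IsAffineOpen (gen (CohB1.tensorMod L L) t) at haff
  rw [ht] at haff
  exact isAmple_of_affine_gen L hL s haff hne

end Groth.Agent.H25AbCube.Stab
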