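import Groth.Agent.H25AbCube.EndAlgebra
import Groth.Agent.H25AbCube.EndMatrix
import Groth.Agent.H25AbCube.HomFactor

/-!
# Varieties isogenous to products of simple varieties
-/

set_option autoImplicit false
set_option linter.style.haveILetI false
set_option linter.unusedSectionVars false
set_option backward.isDefEq.respectTransparency false
set_option synthInstance.maxHeartbeats 400000
set_option maxHeartbeats 1000000
universe u

open CategoryTheory CategoryTheory.Limits MonoidalCategory CartesianMonoidalCategory MonObj GrpObj AlgebraicGeometry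
  TopologicalSpace
open Groth.Agent

noncomputable section

namespace Groth.Agent.H25AbCube

variable {k : Type u} [Field k] [IsAlgClosed k] {A : Over (Spec (CommRingCat.of k))} [GrpObj A] [IsProper A.hom]
  [GeometricallyIntegral A.hom] [IsCommMonObj A]

theorem finite_pt1_hom (Q : Over (Spec (CommRingCat.of k))) [IsFinite Q.hom] : Finite (pt1 k ⟶ Q) := by
  haveI := discreteTopology_of_finite Q.hom
  haveI : CompactSpace Q.left := QuasiCompact.compactSpace_of_compactSpace Q.hom
  haveI : Finite Q.left := finite_of_compact_of_discrete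
  haveI : Finite {p : Spec (CommRingCat.of k) ⟶ Q.left // p ≫ Q.hom = 𝟙 _} :=
    Finite.of_equiv _ (pointEquivClosedPoint Q.hom).symm
  exact Finite.of_injective (fun z : pt1 k ⟶ Q => (⟨z.left, Over.w z⟩ : {p : Spec (CommRingCat.of k) ⟶ Q.left // p ≫ Q.hom = 𝟙 _}))
    fun z z' h => Over.OverMorphism.ext (congrArg Subtype.val h)

section

variable {X : Over (Spec (CommRingCat.of k))} [GrpObj X] [IsProper X.hom] [GeometricallyIntegral X.hom] [IsCommMonObj X]

theorem exists_prime_torsion_trivial (f : X ⟶ A) [IsMonHom f] (h : Set.Finite {x : pt1 k ⟶ X | x ≫ f = 1}) (m : ℕ) :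
    ∃ n : ℕ, n.Prime ∧ m < n ∧ (n : k) ≠ 0 ∧ ∀ x : pt1 k ⟶ X, x ≫ f = 1 → x ^ n = 1 → x = 1 := by
  haveI := h.to_subtype
  obtain ⟨n, hn, hn', hnk⟩ := exists_prime_gt k (m + Nat.card ↥{x : pt1 k ⟶ X | x ≫ f = 1})
  refine ⟨n, hn, by omega, hnk, fun x hx hxn => ?_⟩
  let Kf : Subgroup (pt1 k ⟶ X) := (MonoidHom.mk' (fun x : pt1 k ⟶ X => x ≫ f)
    fun x y => MonObj.mul_comp x y f).ker
  let y : ↥Kf := ⟨x, hx⟩
  haveI : Finite ↥Kf := h.to_subtype
  have hy : y ^ n = 1 := Subtype.ext hxn
  rcases hn.eq_one_or_self_of_dvd _ (orderOf_dvd_of_pow_eq_one hy) with e | e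
  · exact congrArg Subtype.val (orderOf_eq_one_iff.1 e)
  · have : orderOf y ≤ Nat.card ↥Kf := Nat.le_of_dvd Nat.card_pos (orderOf_dvd_natCard y)
    have hK : Nat.card ↥Kf = Nat.card ↥{x : pt1 k ⟶ X | x ≫ f = 1} := rfl
    omega

/-- A homomorphism with finitely many kernel points is finite and cannot raise the dimension. -/
theorem isFinite_of_finite_pts (f : X ⟶ A) [IsMonHom f] (h : Set.Finite {x : pt1 k ⟶ X | x ≫ f = 1})
    {dX dA : ℕ} (hX : topologicalKrullDim X.left = dX) (hA : topologicalKrullDim A.left = dA) :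
    IsFinite f.left ∧ dX ≤ dA := by
  obtain ⟨n, hn, -, hnk, h1⟩ := exists_prime_torsion_trivial f h 0
  refine ⟨?_, ?_⟩
  · by_contra hnf
    obtain ⟨W, gW, _, _, w, hw, d, hmono, hws, hd, hWdim⟩ := exists_abelian_in_kernel f hnf
    haveI := hw; haveI := hmono
    haveI : IsCommMonObj W := isCommMonObj_of_av
    have hcard := card_torsPts (A := W) hnk d hWdim
    haveI : Subsingleton ↥(AbDual.torsPts W n (pt1 k)) := by
      refine ⟨fun x y => Subtype.ext ?_⟩
      have key : ∀ x : ↥(AbDual.torsPts W n (pt1 k)), x.1 = 1 := fun x => by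
        refine (cancel_mono w).1 ?_
        rw [MonObj.one_comp]
        refine h1 _ ?_ ?_
        · rw [Category.assoc, hws, MonObj.comp_one]
        · rw [← MonObj.pow_comp, (AbDual.mem_torsPts W x.1).1 x.2, MonObj.one_comp]
      rw [key x, key y]
    rw [Nat.card_unique] at hcard
    have := Nat.one_lt_pow (n := 2 * d) (by omega) hn.one_lt
    omega
  · haveI : Finite ↥(AbDual.torsPts A n (pt1 k)) := finite_torsPts hn.pos
    let φ : ↥(AbDual.torsPts X n (pt1 k)) →* ↥(AbDual.torsPts A n (pt1 k)) :=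
      MonoidHom.mk' (fun x => ⟨x.1 ≫ f, (AbDual.mem_torsPts A _).2 (by
        rw [← MonObj.pow_comp, (AbDual.mem_torsPts X x.1).1 x.2, MonObj.one_comp])⟩)
        fun x y => Subtype.ext (MonObj.mul_comp x.1 y.1 f)
    have hφ : Function.Injective φ := (injective_iff_map_eq_one φ).2 fun x hx =>
      Subtype.ext (h1 x.1 (congrArg Subtype.val hx) ((AbDual.mem_torsPts X x.1).1 x.2))
    have h' := Nat.card_le_card_of_injective φ hφ
    rw [card_torsPts (A := X) hnk dX hX, card_torsPts (A := A) hnk dA hA] at h'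
    have := (Nat.pow_le_pow_iff_right hn.one_lt).1 h'
    omega

end

theorem hom_eq_zero_of_nsmul (N : ℕ) (hN : N ≠ 0) {X Y : Over (Spec (CommRingCat.of k))} [GrpObj X] [IsCommMonObj X]
    [IsProper X.hom] [GeometricallyIntegral X.hom] [GrpObj Y] [IsCommMonObj Y] [IsProper Y.hom]
    [GeometricallyIntegral Y.hom] {x : EndAV.Hom X Y} (h : N • x = 0) : x = 0 :=
  eq_zero_of_smul_hom (N : ℤ) x (Int.natCast_ne_zero.2 hN) (by rw [natCast_zsmul]; exact h)

/-- The simplicity hypothesis. -/
def IsSimpleAV (B : Over (Spec (CommRingCat.of k))) [GrpObj B] : Prop :=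
  ∀ (C : Over (Spec (CommRingCat.of k))) [GrpObj C], IsProper C.hom → GeometricallyIntegral C.hom →
    ∀ (j : C ⟶ B) [IsMonHom j], IsClosedImmersion j.left → IsIso j ∨ topologicalKrullDim C.left = 0

theorem finite_pt1_of_dim_zero (C : Over (Spec (CommRingCat.of k))) [IsProper C.hom]
    (h : topologicalKrullDim C.left = 0) : Finite (pt1 k ⟶ C) := by
  haveI : IsLocallyNoetherian C.left := by
    haveI : IsNoetherianRing (CommRingCat.of k) := inferInstanceAs (IsNoetherianRing k)
    exact LocallyOfFiniteType.isLocallyNoetherian C.hom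
  haveI : CompactSpace C.left := QuasiCompact.compactSpace_of_compactSpace C.hom
  haveI : IsNoetherian C.left := {}
  obtain ⟨_, _⟩ := H28Top.finite_discrete_of_dim_le_zero (X := C.left) h.le
  haveI : LocallyQuasiFinite C.hom := by
    rw [locallyQuasiFinite_iff_isDiscrete_preimage_singleton]
    exact fun y => ⟨inferInstance⟩
  haveI : IsFinite C.hom := IsFinite.of_isProper_of_locallyQuasiFinite C.hom
  exact finite_pt1_hom C

/-- A homomorphism out of a zero dimensional variety is trivial. -/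
theorem eq_one_of_dim_zero {X Y : Over (Spec (CommRingCat.of k))} [GrpObj X] [IsProper X.hom]
    [GeometricallyIntegral X.hom] [GrpObj Y] [IsProper Y.hom] (f : X ⟶ Y) [IsMonHom f]
    (h : topologicalKrullDim X.left = 0) : f = 1 := by
  haveI : IsLocallyNoetherian X.left := by
    haveI : IsNoetherianRing (CommRingCat.of k) := inferInstanceAs (IsNoetherianRing k)
    exact LocallyOfFiniteType.isLocallyNoetherian X.hom
  haveI : CompactSpace X.left := QuasiCompact.compactSpace_of_compactSpace X.hom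
  haveI : IsNoetherian X.left := {}
  obtain ⟨_, _⟩ := H28Top.finite_discrete_of_dim_le_zero (X := X.left) h.le
  haveI : IsIntegral X.left := GeometricallyIntegral.isIntegral_of_subsingleton X.hom
  haveI : Subsingleton X.left := PreconnectedSpace.trivial_of_discrete
  refine ext_of_points _ _ fun a => ?_
  have ha : a = 1 := Over.OverMorphism.ext
    (ext_of_apply_closedPoint_eq X.hom (Over.w a) (Over.w (1 : pt1 k ⟶ X)) (Subsingleton.elim _ _))
  rw [ha, MonObj.one_comp, MonObj.comp_one]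

/-- A homomorphism between non-isogenous simple varieties is trivial. -/
theorem eq_one_of_not_isogenous {X : Over (Spec (CommRingCat.of k))} [GrpObj X] [IsProper X.hom]
    [GeometricallyIntegral X.hom] [IsCommMonObj X] (hX : IsSimpleAV X) (hA : IsSimpleAV A)
    {dX dA : ℕ} (hdX : topologicalKrullDim X.left = dX) (hdA : topologicalKrullDim A.left = dA)
    (f : X ⟶ A) [IsMonHom f] (hne : ¬ (IsFinite f.left ∧ Surjective f.left)) : f = 1 := by
  obtain ⟨N₀, gN, iN, hiN, hiNc, hker⟩ := H19Grp.AffineQuotient.exists_kernel f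
  haveI := hiN; haveI := hiNc
  haveI : IsProper N₀.hom := by rw [← Over.w iN]; infer_instance
  haveI : Mono iN := Over.mono_of_mono_left iN
  obtain ⟨C, gpC, _, _, c, Q, gQ, ρ, hc, hcc, hρ, hQf, hlift⟩ := exists_abelian_part N₀
  haveI := hc; haveI := hcc; haveI := hρ; haveI := hQf
  let j₀ : C ⟶ X := c ≫ iN
  haveI : IsClosedImmersion j₀.left := by
    show IsClosedImmersion (c.left ≫ iN.left)
    infer_instance
  rcases hX C inferInstance inferInstance j₀ inferInstance with hC | hC
  · haveI := hC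
    refine (cancel_epi j₀).1 ?_
    rw [Category.assoc, H19Grp.kernel_comp_eq_one hker, MonObj.comp_one, MonObj.comp_one]
  · haveI := finite_pt1_of_dim_zero C hC
    haveI := finite_pt1_hom Q
    let ρ' : (pt1 k ⟶ N₀) →* (pt1 k ⟶ Q) := MonoidHom.mk' (fun z => z ≫ ρ) fun a b => MonObj.mul_comp a b ρ
    haveI : Finite ↥ρ'.ker := by
      refine Finite.of_injective (fun z : ↥ρ'.ker => (hlift _ z.1 z.2).choose) fun a b h => Subtype.ext ?_
      rw [← (hlift _ a.1 a.2).choose_spec, ← (hlift _ b.1 b.2).choose_spec]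
      exact congrArg (· ≫ c) h
    haveI : Finite ↥ρ'.range := Finite.of_injective _ Subtype.val_injective
    haveI : Finite (pt1 k ⟶ N₀) := Finite.of_subgroup_quotient ρ'.ker
    obtain ⟨hf, hle⟩ := isFinite_of_finite_pts f ((Set.finite_range (fun z : pt1 k ⟶ N₀ => z ≫ iN)).subset
      fun x hx => H19Grp.kernel_lift hker x hx) hdX hdA
    haveI := hf
    by_cases hd0 : dX = 0
    · exact eq_one_of_dim_zero f (by rw [hdX, hd0]; simp)
    exfalso
    refine hne ⟨hf, ?_⟩
    obtain ⟨E, gE, jE, hEp, hEg, hjE, hjEc, hs, hsf⟩ := exists_complement A X f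
    haveI := hjE; haveI := hjEc; haveI := hEp; haveI := hEg
    rcases hA E inferInstance inferInstance jE inferInstance with hE | hE
    · exfalso
      haveI := hE
      let σ : X ⊗ E ⟶ A := (fst X E ≫ f) * (snd X E ≫ jE)
      haveI : IsFinite σ.left := hsf
      haveI : IsMonHom σ := by
        rw [show σ = lift (fst X E ≫ f) (snd X E ≫ jE) ≫ μ[A] from rfl]
        infer_instance
      obtain ⟨K, gK, iK, hiK, hiKc, hkK⟩ := H19Grp.AffineQuotient.exists_kernel σ
      haveI := hiKc
      haveI : IsFinite K.hom := by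
        let m : K.left ⟶ pullback σ.left (η[A]).left := pullback.lift iK.left K.hom
          ((congrArg (·.left) (H19Grp.kernel_comp_eq_one hkK)).trans (H19Grp.one_left K))
        haveI : IsClosedImmersion (m ≫ pullback.fst σ.left (η[A]).left) := by
          rw [pullback.lift_fst]; infer_instance
        haveI : IsClosedImmersion m := IsClosedImmersion.of_comp m (pullback.fst σ.left (η[A]).left)
        rw [show K.hom = m ≫ pullback.snd σ.left (η[A]).left from (pullback.lift_snd _ _ _).symm]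
        infer_instance
      haveI := finite_pt1_hom K
      have hk : ∀ x : pt1 k ⟶ X, ∃ z : pt1 k ⟶ K, z ≫ iK = lift x ((x ≫ f)⁻¹ ≫ inv jE) := fun x =>
        H19Grp.kernel_lift hkK _ (by
          simp only [σ, MonObj.comp_mul, lift_fst_assoc, lift_snd_assoc, Category.assoc, IsIso.inv_hom_id,
            Category.comp_id, mul_inv_cancel])
      choose z hz using hk
      haveI : Finite (pt1 k ⟶ X) := Finite.of_injective z fun a b h => by
        have e := (hz a).symm.trans ((congrArg (· ≫ iK) h).trans (hz b))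
        simpa using congrArg (fun t => t ≫ fst X E) e
      obtain ⟨n, hn, hn', hnk⟩ := exists_prime_gt k (Nat.card (pt1 k ⟶ X))
      have h1 := card_torsPts (A := X) hnk dX hdX
      have h2 : Nat.card ↥(AbDual.torsPts X n (pt1 k)) ≤ Nat.card (pt1 k ⟶ X) :=
        Nat.card_le_card_of_injective _ Subtype.val_injective
      have h3 : n ≤ n ^ (2 * dX) := Nat.le_self_pow (by omega) n
      have h4 : n ^ (2 * dX) ≤ Nat.card (pt1 k ⟶ X) := h1.symm.trans_le h2
      omega
    · haveI : IsCommMonObj E := isCommMonObj_of_av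
      have hjE1 : jE = 1 := eq_one_of_dim_zero jE hE
      have hσ : (fst X E ≫ f) * (snd X E ≫ jE) = fst X E ≫ f := by
        rw [hjE1, MonObj.comp_one, _root_.mul_one]
      rw [hσ, Over.comp_left] at hs
      haveI := hs
      exact Surjective.of_comp (fst X E).left f.left

/-- The common kernel of finitely many homomorphisms. -/
theorem exists_common_kernel {J : Type} (S : Finset J) (Y : J → Over (Spec (CommRingCat.of k))) [∀ s, GrpObj (Y s)]
    [∀ s, IsProper (Y s).hom] (π : ∀ s, A ⟶ Y s) [∀ s, IsMonHom (π s)] :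
    ∃ (Z : Over (Spec (CommRingCat.of k))) (_ : GrpObj Z) (j : Z ⟶ A), IsMonHom j ∧ IsClosedImmersion j.left ∧
      ∀ (T : Over (Spec (CommRingCat.of k))) (x : T ⟶ A), (∃ z : T ⟶ Z, z ≫ j = x) ↔ ∀ s ∈ S, x ≫ π s = 1 := by
  classical
  induction S using Finset.induction_on with
  | empty => exact ⟨A, inferInstance, 𝟙 A, inferInstance, by rw [Over.id_left]; infer_instance,
      fun T x => ⟨fun _ s hs => absurd hs (Finset.notMem_empty s), fun _ => ⟨x, Category.comp_id x⟩⟩⟩
  | @insert a S _ ih =>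
    obtain ⟨Z, gZ, j, hj, hjc, hfun⟩ := ih
    haveI := hj; haveI := hjc
    obtain ⟨N, gN, i, hi, hic, hker⟩ := H19Grp.AffineQuotient.exists_kernel (j ≫ π a)
    haveI := hi; haveI := hic
    refine ⟨N, gN, i ≫ j, inferInstance, by rw [Over.comp_left]; infer_instance, fun T x => ?_⟩
    rw [Finset.forall_mem_insert]
    constructor
    · rintro ⟨z, rfl⟩
      refine ⟨?_, (hfun T _).1 ⟨z ≫ i, Category.assoc _ _ _⟩⟩
      rw [Category.assoc, Category.assoc, H19Grp.kernel_comp_eq_one hker, MonObj.comp_one]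
    · rintro ⟨ha, hS⟩
      obtain ⟨z, rfl⟩ := (hfun T x).2 hS
      obtain ⟨w, rfl⟩ := H19Grp.kernel_lift hker z (by rw [← Category.assoc]; exact ha)
      exact ⟨w, (Category.assoc _ _ _).symm⟩

/-- The section of one factor of an isogeny onto a product. -/
theorem exists_section {J : Type} [Fintype J] (Y : J → Over (Spec (CommRingCat.of k))) [∀ s, GrpObj (Y s)]
    [∀ s, IsCommMonObj (Y s)] [∀ s, IsProper (Y s).hom] [∀ s, GeometricallyIntegral (Y s).hom]
    (d : J → ℕ) (hd : ∀ s, topologicalKrullDim (Y s).left = d s)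
    (hA : topologicalKrullDim A.left = ((∑ s, d s : ℕ) : WithBot ℕ∞))
    (π : ∀ s, A ⟶ Y s) [∀ s, IsMonHom (π s)]
    (hker : Set.Finite {a : pt1 k ⟶ A | ∀ s, a ≫ π s = 1}) (t : J) :
    ∃ N : ℕ, 0 < N ∧ ∃ e : Y t ⟶ A, IsMonHom e ∧ e ≫ π t = (𝟙 (Y t)) ^ N ∧ ∀ s, s ≠ t → e ≫ π s = 1 := by
  classical
  obtain ⟨Z, gZ, jZ, hjZ, hjZc, hfun⟩ := exists_common_kernel (Finset.univ.erase t) Y π
  haveI := hjZ; haveI := hjZc
  haveI : IsProper Z.hom := by rw [← Over.w jZ]; infer_instance
  haveI : Mono jZ := Over.mono_of_mono_left jZ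
  obtain ⟨C, gpC, _, _, c, Q, gQ, ρ, hc, hcc, hρ, hQf, hlift⟩ := exists_abelian_part Z
  haveI := hc; haveI := hcc; haveI := hρ; haveI := hQf
  haveI : IsCommMonObj C := isCommMonObj_of_av
  haveI : Mono c := Over.mono_of_mono_left c
  let j : C ⟶ A := c ≫ jZ
  have hj0 : ∀ s, s ≠ t → j ≫ π s = 1 := fun s hs =>
    (hfun C j).1 ⟨c, rfl⟩ s (Finset.mem_erase.2 ⟨hs, Finset.mem_univ s⟩)
  haveI : IsIntegral C.left := GeometricallyIntegral.isIntegral_of_subsingleton C.hom
  obtain ⟨dC, hdC⟩ := H25Grp.exists_nat_dim C.hom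
  let f : C ⟶ Y t := j ≫ π t
  have hfk : Set.Finite {x : pt1 k ⟶ C | x ≫ f = 1} := by
    haveI : Mono j := mono_comp c jZ
    refine (hker.preimage (f := fun x : pt1 k ⟶ C => x ≫ j) (fun a _ b _ h => (cancel_mono j).1 h)).subset ?_
    intro x hx s
    rcases eq_or_ne s t with rfl | hs
    · exact (Category.assoc _ _ _).trans hx
    · rw [Category.assoc, hj0 s hs, MonObj.comp_one]
  obtain ⟨hff, hle⟩ := isFinite_of_finite_pts f hfk hdC (hd t)
  haveI := hff
  haveI := finite_pt1_hom Q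
  have hge : d t ≤ dC := by
    obtain ⟨n, hn, hn', hnk⟩ := exists_prime_gt k (Nat.card (pt1 k ⟶ Q))
    haveI : Finite ↥(AbDual.torsPts A n (pt1 k)) := finite_torsPts hn.pos
    haveI : ∀ s, Finite ↥(AbDual.torsPts (Y s) n (pt1 k)) := fun s => finite_torsPts hn.pos
    haveI : Finite ↥(AbDual.torsPts C n (pt1 k)) := finite_torsPts hn.pos
    let Φ : ↥(AbDual.torsPts A n (pt1 k)) →* (∀ s : ↥(Finset.univ.erase t), ↥(AbDual.torsPts (Y s) n (pt1 k))) :=
      MonoidHom.mk' (fun x s => ⟨x.1 ≫ π s.1, (AbDual.mem_torsPts _ _).2 (by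
        rw [← MonObj.pow_comp, (AbDual.mem_torsPts A x.1).1 x.2, MonObj.one_comp])⟩)
        fun x y => funext fun s => Subtype.ext (MonObj.mul_comp x.1 y.1 (π s.1))
    have hk : Nat.card ↥Φ.ker ≤ Nat.card ↥(AbDual.torsPts C n (pt1 k)) := by
      have hex : ∀ x : ↥Φ.ker, ∃ y : ↥(AbDual.torsPts C n (pt1 k)), y.1 ≫ j = x.1.1 := by
        intro x
        obtain ⟨z, hz⟩ := (hfun _ x.1.1).2 fun s hs => congrArg Subtype.val (congrFun x.2 ⟨s, hs⟩)
        have hzn : z ^ n = 1 := (cancel_mono jZ).1 (by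
          rw [MonObj.pow_comp, hz, (AbDual.mem_torsPts A _).1 x.1.2, MonObj.one_comp])
        have hzρ : z ≫ ρ = 1 := by
          have h : (z ≫ ρ) ^ n = 1 := by rw [← MonObj.pow_comp, hzn, MonObj.one_comp]
          rcases hn.eq_one_or_self_of_dvd _ (orderOf_dvd_of_pow_eq_one h) with e | e
          · exact orderOf_eq_one_iff.1 e
          · have : orderOf (z ≫ ρ) ≤ Nat.card (pt1 k ⟶ Q) := Nat.le_of_dvd Nat.card_pos (orderOf_dvd_natCard _)
            omega
        obtain ⟨y, hy⟩ := hlift _ z hzρ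
        refine ⟨⟨y, (AbDual.mem_torsPts C y).2 ((cancel_mono c).1 (by rw [MonObj.pow_comp, hy, hzn, MonObj.one_comp]))⟩, ?_⟩
        show y ≫ c ≫ jZ = _
        rw [← Category.assoc, hy, hz]
      choose y hy using hex
      exact Nat.card_le_card_of_injective y fun a b h => Subtype.ext (Subtype.ext (by rw [← hy a, ← hy b, h]))
    have h := Subgroup.card_eq_card_quotient_mul_card_subgroup Φ.ker
    rw [Nat.card_congr (QuotientGroup.quotientKerEquivRange Φ).toEquiv, card_torsPts hnk _ hA] at h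
    have hr : Nat.card ↥Φ.range ≤ n ^ (2 * ∑ s ∈ Finset.univ.erase t, d s) := by
      refine (Nat.card_le_card_of_injective _ Subtype.val_injective).trans ?_
      rw [Nat.card_pi, Finset.mul_sum, ← Finset.prod_pow_eq_pow_sum, ← Finset.prod_coe_sort (Finset.univ.erase t)]
      exact le_of_eq (Finset.prod_congr rfl fun s _ => card_torsPts hnk _ (hd s.1))
    rw [card_torsPts (A := C) hnk dC hdC] at hk
    have h' := Nat.mul_le_mul hr hk
    rw [← h, ← pow_add] at h'
    have h'' := (Nat.pow_le_pow_iff_right hn.one_lt).1 h'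
    have hsum := Finset.add_sum_erase Finset.univ d (Finset.mem_univ t)
    omega
  obtain rfl : dC = d t := le_antisymm hle hge
  haveI : IsIntegral (Y t).left := GeometricallyIntegral.isIntegral_of_subsingleton (Y t).hom
  haveI := surjective_of_finite f.left hdC (hd t)
  obtain ⟨N, hN, τ, hτ, -, hτf⟩ := exists_isogeny_inverse f
  haveI := hτ
  refine ⟨N, hN, τ ≫ j, inferInstance, ?_, fun s hs => ?_⟩
  · rw [Category.assoc]; exact hτf
  · rw [Category.assoc, hj0 s hs, MonObj.comp_one]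

/-- An endomorphism-valued combination killed by all projections is trivial. -/
theorem eq_one_of_comp {J : Type} (Y : J → Over (Spec (CommRingCat.of k))) [∀ s, GrpObj (Y s)] (π : ∀ s, A ⟶ Y s)
    [∀ s, IsMonHom (π s)] (hker : Set.Finite {a : pt1 k ⟶ A | ∀ s, a ≫ π s = 1})
    (φ : A ⟶ A) [IsMonHom φ] (h : ∀ s, φ ≫ π s = 1) : φ = 1 := by
  let K : Subgroup (pt1 k ⟶ A) :=
    { carrier := {a | ∀ s, a ≫ π s = 1}
      one_mem' := fun s => MonObj.one_comp _
      mul_mem' := fun {a b} ha hb s => by rw [MonObj.mul_comp, ha s, hb s, _root_.one_mul]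
      inv_mem' := fun {a} ha s => by rw [GrpObj.inv_comp, ha s, inv_one] }
  haveI : Finite ↥K := hker.to_subtype
  haveI : IsIntegral A.left := GeometricallyIntegral.isIntegral_of_subsingleton A.hom
  refine ext_of_points _ _ fun a => ?_
  rw [MonObj.comp_one]
  obtain ⟨b, hb⟩ := exists_pow_eq (A := A) (n := Nat.card ↥K) Nat.card_pos a
  have hm : b ≫ φ ∈ K := fun s => by rw [Category.assoc, h s, MonObj.comp_one]
  rw [← hb, MonObj.pow_comp]
  exact congrArg Subtype.val (pow_card_eq_one' (G := ↥K) (x := ⟨_, hm⟩))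

/-- The rational endomorphism algebra of a variety isogenous to a product of simple ones. -/
theorem end0_equiv_matrix {m : ℕ} (B : Fin m → Over (Spec (CommRingCat.of k))) [∀ i, GrpObj (B i)] [∀ i, IsCommMonObj (B i)]
    [∀ i, IsProper (B i).hom] [∀ i, GeometricallyIntegral (B i).hom] (hsimple : ∀ i, IsSimpleAV (B i))
    (hnoniso : ∀ i i' : Fin m, i ≠ i' → ∀ (f : B i ⟶ B i') [IsMonHom f], ¬ (IsFinite f.left ∧ Surjective f.left))
    (J : Type) [Fintype J] [DecidableEq J] (c : J → Fin m)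
    (d : Fin m → ℕ) (hd : ∀ i, topologicalKrullDim (B i).left = d i)
    (hA : topologicalKrullDim A.left = ((∑ t, d (c t) : ℕ) : WithBot ℕ∞))
    (π : ∀ t : J, A ⟶ B (c t)) [∀ t, IsMonHom (π t)]
    (hker : Set.Finite {a : pt1 k ⟶ A | ∀ t, a ≫ π t = 1}) :
    Nonempty (EndAV.End0 A ≃ₐ[ℚ] (Π i : Fin m, Matrix {t : J // c t = i} {t : J // c t = i} (EndAV.End0 (B i)))) := by
  classical
  choose n hn e he h1 h2 using exists_section (fun t => B (c t)) (fun t => d (c t)) (fun t => hd (c t)) hA π hker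
  let E : ∀ t, EndAV.Hom (B (c t)) A := fun t => haveI := he t; EndAV.Hom.of (e t)
  let P : ∀ t, EndAV.Hom A (B (c t)) := fun t => EndAV.Hom.of (π t)
  let N : ℕ := ∏ t, n t
  let mm : J → ℕ := fun t => ∏ s ∈ Finset.univ.erase t, n s
  have hmm : ∀ t, mm t * n t = N := fun t => Finset.prod_erase_mul _ _ (Finset.mem_univ t)
  let E' : ∀ t, EndAV.Hom (B (c t)) A := fun t => mm t • E t
  have hE1 : ∀ t, E' t ≫ P t = N • 𝟙 (CommGrp.mk (B (c t))) := fun t => by
    rw [Preadditive.nsmul_comp, show E t ≫ P t = n t • 𝟙 (CommGrp.mk (B (c t))) from EndAV.Hom.ext (by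
      rw [EndAV.Hom.toHom_nsmul]; exact h1 t), smul_smul, hmm]
  have hE2 : ∀ s t, s ≠ t → E' t ≫ P s = 0 := fun s t hst => by
    rw [Preadditive.nsmul_comp, show E t ≫ P s = 0 from EndAV.Hom.ext (h2 t s hst), smul_zero]
  have hE3 : ∑ t, P t ≫ E' t = N • 𝟙 (CommGrp.mk A) := by
    refine sub_eq_zero.1 (EndAV.Hom.ext ?_)
    refine eq_one_of_comp (fun t => B (c t)) π hker _ fun s => ?_
    have hz : ((∑ t, P t ≫ E' t) - N • 𝟙 (CommGrp.mk A)) ≫ P s = 0 := by
      rw [Preadditive.sub_comp, Preadditive.sum_comp, Finset.sum_eq_single s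
        (fun t _ hts => by rw [Category.assoc, hE2 s t (Ne.symm hts), Limits.comp_zero]) (by simp),
        Category.assoc, hE1, Preadditive.comp_nsmul, Preadditive.nsmul_comp, Category.comp_id, Category.id_comp, sub_self]
    exact congrArg EndAV.Hom.toHom hz
  -- regroup along the fibres
  let F : Fin m → Type := fun i => {t : J // c t = i}
  have hdata : ∀ (i : Fin m) (p : F i), ∃ (ei : EndAV.Hom (B i) A) (pi : EndAV.Hom A (B i)),
      ei ≫ pi = N • 𝟙 (CommGrp.mk (B i)) ∧ P p.1 ≫ E' p.1 = pi ≫ ei ∧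
      (∀ q : J, q ≠ p.1 → E' q ≫ P p.1 = 0) ∧
      (∀ q : J, q ≠ p.1 → ei ≫ P q = 0) ∧ (∀ q : J, q ≠ p.1 → E' q ≫ pi = 0) := by
    rintro i ⟨t, rfl⟩
    exact ⟨E' t, P t, hE1 t, rfl, fun q hq => hE2 t q hq.symm, fun q hq => hE2 q t hq, fun q hq => hE2 t q hq.symm⟩
  choose ei pi d1 d2 d3 d4 d5 using hdata
  refine EndMatrix.exists_algEquiv (C := CommGrp (Over (Spec (CommRingCat.of k)))) (A := CommGrp.mk A)
    (B := fun i => CommGrp.mk (B i)) (F := F) ei pi N (Finset.prod_ne_zero_iff.2 fun t _ => (hn t).ne') d1 ?_ ?_ ?_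
  · rintro i ⟨t, rfl⟩ ⟨s, hs⟩ hpq
    have hst : s ≠ t := fun h => hpq (Subtype.ext h.symm)
    refine hom_eq_zero_of_nsmul (k := k) N (Finset.prod_ne_zero_iff.2 fun t _ => (hn t).ne') ?_
    rw [← Preadditive.comp_nsmul]
    have hfac : N • pi (c t) ⟨t, rfl⟩ = P t ≫ (E' t ≫ pi (c t) ⟨t, rfl⟩) := by
      rw [← Category.assoc, d2 (c t) ⟨t, rfl⟩, Category.assoc, d1, Preadditive.comp_nsmul, Category.comp_id]
    rw [hfac, ← Category.assoc, d4 (c t) ⟨s, hs⟩ t hst.symm, Limits.zero_comp]
  · rw [← hE3]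
    rw [← Fintype.sum_fiberwise c]
    refine Finset.sum_congr rfl fun i _ => Finset.sum_congr rfl fun p _ => ?_
    exact (d2 i p).symm
  · intro i j hij f
    refine EndAV.Hom.ext (eq_one_of_not_isogenous (hsimple i) (hsimple j) (hd i) (hd j) (EndAV.Hom.toHom f) ?_)
    exact hnoniso i j hij (EndAV.Hom.toHom f)

end Groth.Agent.H25AbCube
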