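import Groth.Agent.H25AbCube.Ample
import Groth.Agent.H25AbCube.DualInverse
import Groth.Agent.H25AbCube.HomFG
import Groth.Agent.H22Alg.DimOnePencil
import Groth.Agent.LeadBC.TrivInv
import Groth.Agent.S11372

/-!
# Divisors with finite stabiliser on abelian varieties are ample
-/

set_option autoImplicit false
set_option linter.style.haveILetI false
set_option linter.unusedSectionVars false
set_option backward.isDefEq.respectTransparency false
set_option maxHeartbeats 1000000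
universe u

open CategoryTheory CategoryTheory.Limits MonoidalCategory CartesianMonoidalCategory MonObj GrpObj AlgebraicGeometry
  TopologicalSpace Opposite
open Groth.Agent Groth.Agent.H11Ample Groth.Agent.H11Tilde

noncomputable section

namespace Groth.Agent.H25AbCube.Stab

variable {k : Type u} [Field k]

/-- On a proper integral scheme, a section of a trivial invertible module generates everywhere or nowhere. -/
theorem gen_eq_top {C : Scheme.{u}} [IsIntegral C] (p : C ⟶ Spec (CommRingCat.of k)) [IsProper p] {M : C.Modules}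
    (hM : PicF.IsInvertible M) (h0 : pc M hM = 0) (g : Γ(M, ⊤)) (hne : ((gen M g : C.Opens) : Set C).Nonempty) :
    gen M g = ⊤ := by
  obtain ⟨e⟩ := (pc_eq_iff hM isInvertible_structureModule).1 (h0.trans pc_one.symm)
  rw [← gen_iso e.hom g] at hne ⊢
  obtain ⟨c, hc⟩ := exists_coeff (isGen_one (X := C) ⊤) (e.hom.app ⊤ g)
  have hb := gen_inf_eq_basicOpen (isGen_one (X := C) ⊤) (e.hom.app ⊤ g) c (by
    rw [← hc]
    exact H10Coh.mres_self (Coh.structureModule C) _ _)
  rw [inf_top_eq] at hb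
  rw [hb] at hne ⊢
  have hc0 : c ≠ 0 := fun h => by simp [h] at hne
  exact C.basicOpen_of_isUnit (by
    letI := (isField_of_universallyClosed k p).toField
    exact isUnit_iff_ne_zero.2 hc0)

section AlgClosed

variable [IsAlgClosed k] {A : Over (Spec (CommRingCat.of k))} [GrpObj A] [IsProper A.hom]
  [GeometricallyIntegral A.hom]

/-- The translation by a rational point. -/
abbrev τ (a : 𝟙_ (Over (Spec (CommRingCat.of k))) ⟶ A) : A ⟶ A := 𝟙 A * (toUnit A ≫ a)

/-- The closed point of a rational point. -/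
abbrev pt (a : 𝟙_ (Over (Spec (CommRingCat.of k))) ⟶ A) : A.left := a.left (IsLocalRing.closedPoint k)

theorem comp_τ (x a : 𝟙_ (Over (Spec (CommRingCat.of k))) ⟶ A) : x ≫ τ a = x * a := by
  rw [MonObj.comp_mul, Category.comp_id, ← Category.assoc, comp_toUnit, toUnit_unique (toUnit _) (𝟙 _),
    Category.id_comp]

theorem pt_comp (x : 𝟙_ (Over (Spec (CommRingCat.of k))) ⟶ A) (f : A ⟶ A) : f.left (pt x) = pt (x ≫ f) :=
  rfl

theorem τ_mul (a b : 𝟙_ (Over (Spec (CommRingCat.of k))) ⟶ A) : τ a ≫ τ b = τ (a * b) := by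
  rw [MonObj.comp_mul, Category.comp_id, ← Category.assoc, comp_toUnit, _root_.mul_assoc, ← MonObj.comp_mul]

theorem τ_one : τ (1 : 𝟙_ (Over (Spec (CommRingCat.of k))) ⟶ A) = 𝟙 A := by
  rw [τ, MonObj.comp_one, _root_.mul_one]

theorem τ_comp_left (a b : 𝟙_ (Over (Spec (CommRingCat.of k))) ⟶ A) (y : A.left) :
    (τ b).left ((τ a).left y) = (τ (a * b)).left y := by
  rw [← τ_mul a b]; rfl

theorem τ_bijective (a : 𝟙_ (Over (Spec (CommRingCat.of k))) ⟶ A) : Function.Bijective (τ a).left := by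
  refine Function.bijective_iff_has_inverse.2 ⟨(τ a⁻¹).left, fun y => ?_, fun y => ?_⟩ <;>
    rw [τ_comp_left] <;> simp only [mul_inv_cancel, inv_mul_cancel, τ_one] <;> rfl

theorem exists_point {y : A.left} (hy : IsClosed ({y} : Set A.left)) :
    ∃ a : 𝟙_ (Over (Spec (CommRingCat.of k))) ⟶ A, pt a = y :=
  ⟨Over.homMk _ ((pointEquivClosedPoint A.hom).symm ⟨y, hy⟩).2, pointOfClosedPoint_apply A.hom y hy _⟩

theorem opens_ext {U V : A.left.Opens}
    (h : ∀ a : 𝟙_ (Over (Spec (CommRingCat.of k))) ⟶ A, pt a ∈ U ↔ pt a ∈ V) : U = V := by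
  haveI : JacobsonSpace A.left := LocallyOfFiniteType.jacobsonSpace A.hom
  have key : ∀ U V : A.left.Opens,
      (∀ a : 𝟙_ (Over (Spec (CommRingCat.of k))) ⟶ A, pt a ∈ U → pt a ∈ V) → U ≤ V := by
    intro U V h y hy
    by_contra hy'
    obtain ⟨z, ⟨hz₁, hz₂⟩, hzc⟩ := nonempty_inter_closedPoints (Z := (U : Set A.left) ∩ (V : Set A.left)ᶜ)
      ⟨y, hy, hy'⟩ (U.isOpen.isLocallyClosed.inter V.isOpen.isClosed_compl.isLocallyClosed)
    obtain ⟨a, rfl⟩ := exists_point hzc
    exact hz₂ (h a hz₁)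
  exact le_antisymm (key U V fun a => (h a).1) (key V U fun a => (h a).2)

/-- The square of an invertible module with a nonzero section is globally generated. -/
theorem exists_gen_tensor_self {L : A.left.Modules} (hL : PicF.IsInvertible L) (s : Γ(L, ⊤))
    (hne : ((gen L s : A.left.Opens) : Set A.left).Nonempty) (x₀ : A.left) :
    ∃ t : Γ(CohB1.tensorMod L L, ⊤), x₀ ∈ gen (CohB1.tensorMod L L) t := by
  haveI : IsIntegral A.left := GeometricallyIntegral.isIntegral_of_subsingleton A.hom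
  haveI : CompactSpace A.left := QuasiCompact.compactSpace_of_compactSpace A.hom
  haveI : JacobsonSpace A.left := LocallyOfFiniteType.jacobsonSpace A.hom
  obtain ⟨z, hz, hzc⟩ : ∃ z ∈ closure ({x₀} : Set A.left), IsClosed ({z} : Set A.left) :=
    isClosed_closure.exists_closed_singleton ⟨x₀, subset_closure rfl⟩
  let x : 𝟙_ _ ⟶ A := Over.homMk _ ((pointEquivClosedPoint A.hom).symm ⟨z, hzc⟩).2
  have hx : x.left (IsLocalRing.closedPoint k) = z := pointOfClosedPoint_apply A.hom z hzc _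
  let φ : A ⟶ A := (toUnit A ≫ x) * 𝟙 A
  let ψ : A ⟶ A := (toUnit A ≫ x⁻¹) * 𝟙 A
  have hψφ : ψ ≫ φ = 𝟙 A := by
    rw [MonObj.comp_mul, Category.comp_id, ← Category.assoc, comp_toUnit, ← _root_.mul_assoc, ← MonObj.comp_mul,
      mul_inv_cancel, MonObj.comp_one, _root_.one_mul]
  have hinv : (𝟙 A)⁻¹ ≫ (𝟙 A)⁻¹ = 𝟙 A := by
    rw [GrpObj.comp_inv, Category.comp_id, _root_.inv_inv]
  have hsurj : ∀ (f g : A ⟶ A), g ≫ f = 𝟙 A → ((f.left ⁻¹ᵁ gen L s : A.left.Opens) : Set A.left).Nonempty := by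
    intro f g h
    obtain ⟨y, hy⟩ := hne
    refine ⟨g.left y, ?_⟩
    show f.left (g.left y) ∈ gen L s
    rw [← Scheme.Hom.comp_apply, ← Over.comp_left, h]
    exact hy
  have hW : ((φ.left ⁻¹ᵁ gen L s ⊓ ((𝟙 A)⁻¹ ≫ φ).left ⁻¹ᵁ gen L s : A.left.Opens) : Set A.left).Nonempty :=
    nonempty_preirreducible_inter (φ.left ⁻¹ᵁ gen L s).isOpen (((𝟙 A)⁻¹ ≫ φ).left ⁻¹ᵁ gen L s).isOpen
      (hsurj φ ψ hψφ) (hsurj ((𝟙 A)⁻¹ ≫ φ) (ψ ≫ (𝟙 A)⁻¹) (by
        rw [Category.assoc, ← Category.assoc (𝟙 A)⁻¹, hinv, Category.id_comp, hψφ]))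
  obtain ⟨w, ⟨hw₁, hw₂⟩, hwc⟩ := nonempty_inter_closedPoints hW
    (φ.left ⁻¹ᵁ gen L s ⊓ ((𝟙 A)⁻¹ ≫ φ).left ⁻¹ᵁ gen L s).isOpen.isLocallyClosed
  let a : 𝟙_ _ ⟶ A := Over.homMk _ ((pointEquivClosedPoint A.hom).symm ⟨w, hwc⟩).2
  have ha : a.left (IsLocalRing.closedPoint k) = w := pointOfClosedPoint_apply A.hom w hwc _
  let τ : A ⟶ A := 𝟙 A * (toUnit A ≫ a)
  let τ' : A ⟶ A := 𝟙 A * (toUnit A ≫ a⁻¹)
  have hu : toUnit (𝟙_ (Over (Spec (CommRingCat.of k)))) = 𝟙 _ := toUnit_unique _ _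
  have hτ : ∀ (b : 𝟙_ _ ⟶ A), x ≫ (𝟙 A * (toUnit A ≫ b)) = x * b := fun b => by
    rw [MonObj.comp_mul, Category.comp_id, ← Category.assoc, comp_toUnit, hu, Category.id_comp]
  have hφa : ∀ (b : 𝟙_ _ ⟶ A), b ≫ φ = x * b := fun b => by
    rw [MonObj.comp_mul, Category.comp_id, ← Category.assoc, comp_toUnit, hu, Category.id_comp]
  have hm₁ : z ∈ τ.left ⁻¹ᵁ gen L s := by
    show τ.left z ∈ gen L s
    rw [← hx, ← Scheme.Hom.comp_apply, ← Over.comp_left, hτ, ← hφa, Over.comp_left, Scheme.Hom.comp_apply, ha]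
    exact hw₁
  have hm₂ : z ∈ τ'.left ⁻¹ᵁ gen L s := by
    show τ'.left z ∈ gen L s
    rw [← hx, ← Scheme.Hom.comp_apply, ← Over.comp_left, hτ,
      show a⁻¹ = a ≫ (𝟙 A)⁻¹ by rw [GrpObj.comp_inv, Category.comp_id], ← hφa, Category.assoc, Over.comp_left,
      Scheme.Hom.comp_apply, ha]
    exact hw₂
  have hiso : ∀ b : 𝟙_ _ ⟶ A, IsIso (𝟙 A * (toUnit A ≫ b)) := fun b => by
    refine ⟨𝟙 A * (toUnit A ≫ b⁻¹), ?_, ?_⟩ <;>
      rw [MonObj.comp_mul, Category.comp_id, ← Category.assoc, comp_toUnit, _root_.mul_assoc, ← MonObj.comp_mul] <;>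
      simp
  haveI : IsIso τ := hiso a
  haveI : IsIso τ' := hiso a⁻¹
  haveI : IsIso τ.left := inferInstanceAs (IsIso ((Over.forget _).map τ))
  haveI : IsIso τ'.left := inferInstanceAs (IsIso ((Over.forget _).map τ'))
  have hp := isInvertible_pullback τ.left hL
  have hp' := isInvertible_pullback τ'.left hL
  have hsq : pc _ (isInvertible_tensor hp hp') = pc _ (isInvertible_tensor hL hL) := by
    rw [pc_tensor hp hp' _, pc_tensor hL hL _, pullP_pc τ.left L hL, pullP_pc τ'.left L hL]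
    have h := square_transl (pc L hL) a a⁻¹
    rw [mul_inv_cancel] at h
    have h1 : transl (pc L hL) (1 : 𝟙_ _ ⟶ A) = pc L hL := by
      rw [transl, MonObj.comp_one, _root_.mul_one]
      exact pullP_id _
    rw [h1] at h
    exact h.symm
  obtain ⟨e⟩ := (pc_eq_iff _ _).1 hsq
  have hg : ∀ f : A ⟶ A, gen ((Scheme.Modules.pullback f.left).obj L) ((1 : Γ(A.left, ⊤)) • pullTop f.left s) =
      f.left ⁻¹ᵁ gen L s := fun f => gen_smul_pullSect f.left hL s isUnit_one
  refine ⟨e.hom.app ⊤ (tm ((1 : Γ(A.left, ⊤)) • pullTop τ.left s) ((1 : Γ(A.left, ⊤)) • pullTop τ'.left s)), ?_⟩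
  rw [gen_iso, gen_tm hp hp', hg, hg]
  exact (specializes_iff_mem_closure.2 hz).mem_open
    (τ.left ⁻¹ᵁ gen L s ⊓ τ'.left ⁻¹ᵁ gen L s).isOpen ⟨hm₁, hm₂⟩

variable {L : A.left.Modules} (hL : PicF.IsInvertible L) (s : Γ(L, ⊤))

include hL in
/-- A curve avoiding the zero locus of a section yields translations preserving it. -/
theorem curve_stab {C : A.left.IdealSheafData} [IsIntegral C.subscheme]
    (hC : topologicalKrullDim (C.support : Set A.left) = 1)
    (hCU : (C.support : Set A.left) ⊆ (gen L s : Set A.left)) :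
    ∃ p₀ : 𝟙_ (Over (Spec (CommRingCat.of k))) ⟶ A, pt p₀ ∈ (C.support : Set A.left) ∧
      ∀ p, pt p ∈ (C.support : Set A.left) → ∀ y, (τ (p₀⁻¹ * p)).left y ∈ gen L s ↔ y ∈ gen L s := by
  haveI : IsCommMonObj A := isCommMonObj_of_av
  haveI : IsIntegral A.left := GeometricallyIntegral.isIntegral_of_subsingleton A.hom
  haveI : JacobsonSpace A.left := LocallyOfFiniteType.jacobsonSpace A.hom
  let ι₀ := C.subschemeι
  haveI : IsProper (ι₀ ≫ A.hom) := inferInstance
  have hr : Set.range ι₀ = (C.support : Set A.left) := C.range_subschemeι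
  let f : (𝟙_ (Over (Spec (CommRingCat.of k))) ⟶ A) → (C.subscheme ⟶ A.left) := fun a => ι₀ ≫ (τ a).left
  let φ : (𝟙_ (Over (Spec (CommRingCat.of k))) ⟶ A) → PC C.subscheme := fun a => pullP ι₀ (transl (pc L hL) a)
  have hφf : ∀ a, φ a = pc _ (isInvertible_pullback (f a) hL) := fun a => by
    rw [pullP_pc (f a) L hL, ← pullP_pullP]
    rfl
  have h1 : pullP ι₀ (pc L hL) = 0 := by
    rw [← pullP_pc ι₀ L hL (isInvertible_pullback ι₀ hL), ← pc_one, pc_eq_iff]
    refine LeadBC.TrivInv.nonempty_iso_of_gen_eq_top ((1 : Γ(C.subscheme, ⊤)) • pullTop ι₀ s) ?_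
    rw [gen_smul_pullSect ι₀ hL s isUnit_one]
    exact top_le_iff.1 fun x _ => hCU (hr.le ⟨x, rfl⟩)
  have hadd : ∀ a b, φ (a * b) = φ a + φ b := fun a b => by
    have h := congrArg (pullP ι₀) (square_transl (pc L hL) a b)
    rwa [map_add, map_add, h1, add_zero] at h
  have hone : φ 1 = 0 := by simpa using hadd 1 1
  have hgenf : ∀ a, gen _ ((1 : Γ(C.subscheme, ⊤)) • pullTop (f a) s) = f a ⁻¹ᵁ gen L s := fun a =>
    gen_smul_pullSect (f a) hL s isUnit_one
  haveI : CompactSpace C.subscheme := QuasiCompact.compactSpace_of_compactSpace (ι₀ ≫ A.hom)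
  obtain ⟨x₀, hx₀⟩ : ∃ x : C.subscheme, IsClosed ({x} : Set C.subscheme) := by
    obtain ⟨z, -, hz⟩ := (isClosed_univ (X := C.subscheme)).exists_closed_singleton Set.univ_nonempty
    exact ⟨z, hz⟩
  have hzc : IsClosed ({ι₀ x₀} : Set A.left) := by
    rw [← Set.image_singleton]
    exact ι₀.isClosedMap _ hx₀
  obtain ⟨p₀, hp₀⟩ := exists_point hzc
  have hf₀ : ∀ a x, f a x = (τ a).left (ι₀ x) := fun a x => rfl
  have hm₀ : ∀ a, pt (p₀ * a) ∈ gen L s → ((f a ⁻¹ᵁ gen L s : C.subscheme.Opens) : Set C.subscheme).Nonempty :=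
    fun a ha => ⟨x₀, by
      show f a x₀ ∈ gen L s
      rw [hf₀, ← hp₀, pt_comp, comp_τ]
      exact ha⟩
  have hpair : ∀ a, pt (p₀ * a) ∈ gen L s → pt (p₀ * a⁻¹) ∈ gen L s → φ a = 0 := by
    intro a ha ha'
    have hi := isInvertible_pullback (f a) hL
    have hi' := isInvertible_pullback (f a⁻¹) hL
    have h0 : pc _ (isInvertible_tensor hi hi') = 0 := by
      rw [pc_tensor hi hi', ← hφf, ← hφf, ← hadd, mul_inv_cancel, hone]
    have hne : ((gen _ (tm ((1 : Γ(C.subscheme, ⊤)) • pullTop (f a) s) ((1 : Γ(C.subscheme, ⊤)) • pullTop (f a⁻¹) s))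
        : C.subscheme.Opens) : Set C.subscheme).Nonempty := by
      rw [gen_tm hi hi', hgenf, hgenf]
      exact nonempty_preirreducible_inter (f a ⁻¹ᵁ gen L s).isOpen (f a⁻¹ ⁻¹ᵁ gen L s).isOpen (hm₀ a ha)
        (hm₀ a⁻¹ ha')
    have htop := gen_eq_top (ι₀ ≫ A.hom) (isInvertible_tensor hi hi') h0 _ hne
    rw [gen_tm hi hi'] at htop
    rw [hφf, ← pc_one, pc_eq_iff]
    exact LeadBC.TrivInv.nonempty_iso_of_gen_eq_top _ (top_le_iff.1 (htop.ge.trans inf_le_left))
  let i : A ⟶ A := (𝟙 A)⁻¹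
  let U₁ : A.left.Opens := (τ p₀).left ⁻¹ᵁ gen L s
  let W : A.left.Opens := U₁ ⊓ i.left ⁻¹ᵁ U₁
  have hU₁ : (U₁ : Set A.left).Nonempty := by
    refine ⟨pt 1, ?_⟩
    show (τ p₀).left (pt 1) ∈ gen L s
    rw [pt_comp, comp_τ, _root_.one_mul, hp₀]
    exact hCU (hr.le ⟨x₀, rfl⟩)
  have hpre : ∀ (g h : A ⟶ A), h ≫ g = 𝟙 A → ∀ V : A.left.Opens, (V : Set A.left).Nonempty →
      ((g.left ⁻¹ᵁ V : A.left.Opens) : Set A.left).Nonempty := by
    intro g h e V ⟨y, hy⟩
    refine ⟨h.left y, ?_⟩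
    show g.left (h.left y) ∈ V
    rw [← Scheme.Hom.comp_apply, ← Over.comp_left, e]
    exact hy
  have hii : i ≫ i = 𝟙 A := by
    show (𝟙 A)⁻¹ ≫ (𝟙 A)⁻¹ = 𝟙 A
    rw [GrpObj.comp_inv, Category.comp_id, _root_.inv_inv]
  have hW : (W : Set A.left).Nonempty :=
    nonempty_preirreducible_inter U₁.isOpen (i.left ⁻¹ᵁ U₁).isOpen hU₁ (hpre i i hii U₁ hU₁)
  have hptW : ∀ b, pt b ∈ W → φ b = 0 := by
    intro b hb
    obtain ⟨hb₁, hb₂⟩ := hb
    refine hpair b ?_ ?_
    · have h : (τ p₀).left (pt b) ∈ gen L s := hb₁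
      rw [pt_comp, comp_τ] at h
      rwa [_root_.mul_comm]
    · have h : (τ p₀).left (i.left (pt b)) ∈ gen L s := hb₂
      rw [pt_comp, pt_comp, comp_τ, GrpObj.comp_inv, Category.comp_id] at h
      rwa [_root_.mul_comm]
  have hzero : ∀ a, φ a = 0 := by
    intro a
    let j : A ⟶ A := (toUnit A ≫ a) * (𝟙 A)⁻¹
    have hjj : j ≫ j = 𝟙 A := by
      rw [MonObj.comp_mul, ← Category.assoc, comp_toUnit, GrpObj.comp_inv, Category.comp_id]
      simp [j]
    obtain ⟨z, ⟨hz₁, hz₂⟩, hzc'⟩ := nonempty_inter_closedPoints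
      (nonempty_preirreducible_inter W.isOpen (j.left ⁻¹ᵁ W).isOpen hW (hpre j j hjj W hW))
      (W ⊓ j.left ⁻¹ᵁ W).isOpen.isLocallyClosed
    obtain ⟨b, rfl⟩ := exists_point hzc'
    have h₂ : pt (a * b⁻¹) ∈ W := by
      have h : j.left (pt b) ∈ W := hz₂
      rw [pt_comp, MonObj.comp_mul, ← Category.assoc, comp_toUnit, toUnit_unique (toUnit _) (𝟙 _), Category.id_comp,
        GrpObj.comp_inv, Category.comp_id] at h
      exact h
    have h := hadd (a * b⁻¹) b
    rw [inv_mul_cancel_right, hptW _ h₂, hptW _ hz₁, add_zero] at h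
    exact h
  have hiff : ∀ a x x', f a x ∈ gen L s → f a x' ∈ gen L s := by
    intro a x x' hx
    have htop := gen_eq_top (ι₀ ≫ A.hom) (isInvertible_pullback (f a) hL) ((hφf a).symm.trans (hzero a))
      ((1 : Γ(C.subscheme, ⊤)) • pullTop (f a) s) (by rw [hgenf]; exact ⟨x, hx⟩)
    rw [hgenf] at htop
    show x' ∈ f a ⁻¹ᵁ gen L s
    rw [htop]
    trivial
  refine ⟨p₀, by rw [hp₀]; exact hr.le ⟨x₀, rfl⟩, fun p hp => ?_⟩
  have hU : ∀ q, pt (q * (p₀⁻¹ * p)) ∈ gen L s ↔ pt q ∈ gen L s := by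
    intro q
    obtain ⟨x, hx⟩ := hr.ge hp
    have hx' : f (p₀⁻¹ * q) x = pt (q * (p₀⁻¹ * p)) := by
      rw [hf₀, show ι₀ x = pt p from hx, pt_comp, comp_τ]
      congr 1
      rw [_root_.mul_left_comm, _root_.mul_left_comm q, _root_.mul_comm p]
    have hx₀' : f (p₀⁻¹ * q) x₀ = pt q := by
      rw [hf₀, ← hp₀, pt_comp, comp_τ, mul_inv_cancel_left]
    exact ⟨fun h => hx₀' ▸ hiff _ _ _ (hx'.symm ▸ h), fun h => hx' ▸ hiff _ _ _ (hx₀'.symm ▸ h)⟩
  have heq : (τ (p₀⁻¹ * p)).left ⁻¹ᵁ gen L s = gen L s := opens_ext fun q => by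
    show (τ (p₀⁻¹ * p)).left (pt q) ∈ gen L s ↔ _
    rw [pt_comp, comp_τ]
    exact hU q
  intro y
  exact SetLike.ext_iff.1 heq y

include hL in
/-- A curve avoiding the zero locus of a section yields infinitely many translations preserving it. -/
theorem infinite_stab {C : A.left.IdealSheafData} [IsIntegral C.subscheme]
    (hC : topologicalKrullDim (C.support : Set A.left) = 1)
    (hCU : (C.support : Set A.left) ⊆ (gen L s : Set A.left)) :
    Set.Infinite {d : 𝟙_ (Over (Spec (CommRingCat.of k))) ⟶ A | ∀ y, (τ d).left y ∈ gen L s ↔ y ∈ gen L s} := by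
  haveI : JacobsonSpace A.left := LocallyOfFiniteType.jacobsonSpace A.hom
  obtain ⟨p₀, -, hstab⟩ := curve_stab hL s hC hCU
  let P : Set (𝟙_ (Over (Spec (CommRingCat.of k))) ⟶ A) := {p | pt p ∈ (C.support : Set A.left)}
  have hP : P.Infinite := by
    intro hfin
    have hsub : (C.support : Set A.left) ⊆ pt '' P := by
      intro y hy
      by_contra hne
      have hcl : IsClosed (pt '' P) := by
        have : pt '' P = ⋃ p ∈ P, {pt p} := by ext; simp [eq_comm]
        rw [this]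
        refine hfin.isClosed_biUnion fun p _ => ?_
        exact ((pointEquivClosedPoint A.hom) ⟨p.left, Over.w p⟩).2
      obtain ⟨z, ⟨hz₁, hz₂⟩, hz⟩ := nonempty_inter_closedPoints (Z := (C.support : Set A.left) ∩ (pt '' P)ᶜ)
        ⟨y, hy, hne⟩ (C.support.isClosed.isLocallyClosed.inter hcl.isOpen_compl.isLocallyClosed)
      obtain ⟨p, rfl⟩ := exists_point hz
      exact hz₂ ⟨p, hz₁, rfl⟩
    haveI : Finite ↥(C.support : Set A.left) := ((hfin.image pt).subset hsub).to_subtype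
    have hpts : ∀ z : ↥(C.support : Set A.left), IsClosed ({z} : Set ↥(C.support : Set A.left)) := by
      intro z
      obtain ⟨p, -, hp⟩ := hsub z.2
      have hc : IsClosed ({z.1} : Set A.left) := hp ▸ ((pointEquivClosedPoint A.hom) ⟨p.left, Over.w p⟩).2
      have := hc.preimage continuous_subtype_val (f := (Subtype.val : ↥(C.support : Set A.left) → A.left))
      convert this using 1
      ext w
      exact ⟨fun h => congrArg Subtype.val h, fun h => Subtype.ext h⟩
    haveI : T1Space ↥(C.support : Set A.left) := ⟨hpts⟩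
    have h0 := topologicalKrullDim_zero_of_discreteTopology ↥(C.support : Set A.left)
    erw [hC] at h0
    exact absurd h0 (by norm_num)
  refine (hP.image (f := fun p => p₀⁻¹ * p) (fun p _ q _ h => mul_left_cancel h)).mono ?_
  rintro _ ⟨p, hp, rfl⟩
  exact hstab p hp

include hL in
/-- An invertible module with a section whose zero locus has finite componentwise stabiliser is ample. -/
theorem isAmple_of_finite_stab (hne : ((gen L s : A.left.Opens) : Set A.left).Nonempty)
    (hb : Set.Finite {a : 𝟙_ (Over (Spec (CommRingCat.of k))) ⟶ A |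
      ∀ Z ∈ irreducibleComponents ↥((gen L s : Set A.left)ᶜ),
        (τ a).left '' (Subtype.val '' Z) = Subtype.val '' Z}) : CohB1.IsAmple L := by
  haveI : IsIntegral A.left := GeometricallyIntegral.isIntegral_of_subsingleton A.hom
  haveI : IsLocallyNoetherian A.left := LocallyOfFiniteType.isLocallyNoetherian A.hom
  haveI : CompactSpace A.left := QuasiCompact.compactSpace_of_compactSpace A.hom
  haveI : IsNoetherian A.left := ⟨⟩
  letI : A.left.Over (Spec (CommRingCat.of k)) := ⟨A.hom⟩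
  haveI : IsProper (A.left ↘ Spec (CommRingCat.of k)) := ‹IsProper A.hom›
  let D : Set A.left := (gen L s : Set A.left)ᶜ
  let G : Set (𝟙_ (Over (Spec (CommRingCat.of k))) ⟶ A) :=
    {d | ∀ y, (τ d).left y ∈ gen L s ↔ y ∈ gen L s}
  have hfinG : G.Finite := by
    let S : Set (Set A.left) := (fun Z => Subtype.val '' Z) '' irreducibleComponents ↥D
    have hS : S.Finite := NoetherianSpace.finite_irreducibleComponents.image _
    haveI := hS.to_subtype
    have hmap : ∀ d ∈ G, ∀ T ∈ S, (τ d).left '' T ∈ S := by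
      rintro d hd _ ⟨Z, hZ, rfl⟩
      haveI : IsIso (τ d) := ⟨τ d⁻¹, by rw [τ_mul, mul_inv_cancel, τ_one], by rw [τ_mul, inv_mul_cancel, τ_one]⟩
      haveI : IsIso (τ d).left := inferInstanceAs (IsIso ((Over.forget _).map (τ d)))
      let e : ↥D ≃ₜ ↥D := (τ d).left.homeomorph.subtype fun y => not_congr (hd y).symm
      refine ⟨e.symm ⁻¹' Z, preimage_mem_irreducibleComponents hZ e.symm.isOpenEmbedding
        (by rw [e.symm.surjective.range_eq, Set.inter_univ]; exact hZ.1.1), ?_⟩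
      show Subtype.val '' (e.symm ⁻¹' Z) = _
      rw [show e.symm ⁻¹' Z = e '' Z from (e.toEquiv.image_eq_preimage_symm Z).symm, Set.image_image,
        Set.image_image]
      rfl
    let F : (𝟙_ (Over (Spec (CommRingCat.of k))) ⟶ A) → (S → Set A.left) := fun d T => (τ d).left '' T.1
    have hrange : (F '' G).Finite := by
      refine (Set.Finite.pi (fun _ : S => hS)).subset ?_
      rintro _ ⟨d, hd, rfl⟩ T -
      exact hmap d hd T.1 T.2
    refine (hrange.biUnion (t := fun w => {a | F a = w ∧ a ∈ G}) fun w hw => ?_).subset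
      fun a ha => Set.mem_biUnion ⟨a, ha, rfl⟩ ⟨rfl, ha⟩
    obtain ⟨b, hbG, rfl⟩ := hw
    refine (hb.image fun a => a * b).subset ?_
    rintro a ⟨ha, haG⟩
    refine ⟨a * b⁻¹, fun Z hZ => ?_, inv_mul_cancel_right a b⟩
    have h : (τ a).left '' (Subtype.val '' Z) = (τ b).left '' (Subtype.val '' Z) :=
      congrFun ha ⟨_, Z, hZ, rfl⟩
    calc (τ (a * b⁻¹)).left '' (Subtype.val '' Z)
        = (τ b⁻¹).left '' ((τ a).left '' (Subtype.val '' Z)) := by
          rw [Set.image_image (τ b⁻¹).left (τ a).left]; simp only [τ_comp_left]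
      _ = Subtype.val '' Z := by
          rw [h, Set.image_image]; simp only [τ_comp_left, mul_inv_cancel, τ_one]
          exact Set.image_id _
  have hsq := isInvertible_tensor hL hL
  have hgg : Curv2.IsGloballyGenerated (CohB1.tensorMod L L) :=
    H22Alg.DimOnePencil.isGloballyGenerated_of_gen hsq (exists_gen_tensor_self hL s hne)
  let t : Γ(CohB1.tensorMod L L, ⊤) := tm s s
  have ht : gen (CohB1.tensorMod L L) t = gen L s := by rw [gen_tm hL hL, inf_idem]
  have haff := Groth.Agent.S11372.result k A.left (CohB1.tensorMod L L) hsq hgg (homOfGlobal _ t)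
    fun C hC hdim hsub => by
      haveI := hC
      change _ ⊆ (gen (CohB1.tensorMod L L) t : Set A.left) at hsub
      rw [ht] at hsub
      exact infinite_stab hL s hdim hsub hfinG
  change IsAffineOpen (gen (CohB1.tensorMod L L) t) at haff
  rw [ht] at haff
  exact isAmple_of_affine_gen L hL s haff hne

end AlgClosed

/-- An effective Cartier divisor gives an invertible module with a section whose locus of
generation is the complement. -/
theorem exists_section_inverse {X : Scheme.{u}} {I : X.IdealSheafData} (hI : BlowUp.IsEffCartierIdeal I) :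
    ∃ (M : X.Modules) (t : Γ(M, ⊤)), PicF.IsInvertible M ∧
      gen M t = I.support.compl ∧ ClSub.IsInverseOf M (ClSub.idealMod I) := by
  have hF : PicF.IsInvertible (ClSub.idealMod I) := H29Blow.isInvertible_of_isEffCartierIdeal I hI
  refine ⟨RefHull.dual (ClSub.idealMod I), RefHull.ofHom (ClSub.idealModι I) ⊤,
    H8Props.DivisorSection.isInvertible_dual hF, ?_, isInverseOf_dual hF⟩
  ext x
  obtain ⟨V, e₀, hxV, he₀⟩ := exists_gen hF x
  obtain ⟨U, hU, hxU, hUV⟩ := exists_isAffineOpen_mem_and_subset (U := V) hxV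
  let e : Γ(ClSub.idealMod I, U) := (ClSub.idealMod I).presheaf.map (homOfLE hUV).op e₀
  have he : IsGen (ClSub.idealMod I) e := he₀.res hUV
  obtain ⟨s, hs, hsgen⟩ := H8Props.DivisorSection.exists_dual_gen he
  let a : Γ(X, U) := OmegaSh.idealSect I U e
  have hres : (RefHull.dual (ClSub.idealMod I)).presheaf.map (homOfLE (le_top : U ≤ ⊤)).op
      (RefHull.ofHom (ClSub.idealModι I) ⊤) = a • s := by
    refine Eq.trans ?_ (H8Props.DivisorSection.ofHom_eq_smul he s hs (ClSub.idealModι I))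
    rfl
  have hideal : I.ideal ⟨U, hU⟩ = Ideal.span {a} := by
    refine le_antisymm (fun b hb => ?_) ?_
    · obtain ⟨m, rfl⟩ := (H29Blow.mem_ideal_iff_exists_idealSect I hU b).1 hb
      obtain ⟨r, rfl⟩ := exists_coeff he m
      rw [H29Blow.idealSect_smul]
      exact Ideal.mul_mem_left _ r (Ideal.mem_span_singleton_self _)
    · rw [Ideal.span_le, Set.singleton_subset_iff]
      exact (H29Blow.mem_ideal_iff_exists_idealSect I hU _).2 ⟨e, rfl⟩
  have hsupp := I.coe_support_inter ⟨U, hU⟩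
  rw [hideal] at hsupp
  have hg := gen_inf_eq_basicOpen hsgen _ a hres
  constructor
  · intro hx hxs
    have h1 : x ∈ X.basicOpen a := hg.le ⟨hx, hxU⟩
    have h2 := hsupp.le ⟨hxs, hxU⟩
    rw [Scheme.zeroLocus_span, Scheme.zeroLocus_singleton] at h2
    exact h2.1 h1
  · intro hx
    refine (hg.ge ?_).1
    by_contra h1
    refine hx (hsupp.ge ⟨?_, hxU⟩).1
    rw [Scheme.zeroLocus_span, Scheme.zeroLocus_singleton]
    exact h1

/-- Two inverses of an invertible module are isomorphic. -/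
theorem iso_of_inverse {X : Scheme.{u}} {M L F : X.Modules} (hM : PicF.IsInvertible M) (hL : PicF.IsInvertible L)
    (hF : PicF.IsInvertible F) (h₁ : ClSub.IsInverseOf M F) (h₂ : ClSub.IsInverseOf L F) : Nonempty (M ≅ L) := by
  rw [← pc_eq_iff hM hL]
  have e₁ := (pc_eq_iff (isInvertible_tensor hM hF) isInvertible_structureModule).2 h₁
  have e₂ := (pc_eq_iff (isInvertible_tensor hL hF) isInvertible_structureModule).2 h₂
  rw [pc_tensor hM hF, pc_one] at e₁
  rw [pc_tensor hL hF, pc_one] at e₂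
  exact add_right_cancel (e₁.trans e₂.symm)

/-- The complement of an effective Cartier divisor on an integral scheme is nonempty. -/
theorem nonempty_compl_support {X : Scheme.{u}} [IsIntegral X] {I : X.IdealSheafData}
    (hI : BlowUp.IsEffCartierIdeal I) {M : X.Modules} {t : Γ(M, ⊤)} (ht : gen M t = I.support.compl) :
    ((gen M t : X.Opens) : Set X).Nonempty := by
  by_contra hne
  obtain ⟨U, hxU, f, hf, hideal⟩ := hI (genericPoint X)
  haveI : Nonempty U.1 := ⟨⟨_, hxU⟩⟩
  have hsupp := I.coe_support_inter U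
  rw [hideal, Scheme.zeroLocus_span, Scheme.zeroLocus_singleton] at hsupp
  have hb : X.basicOpen f = ⊥ := by
    refine le_antisymm (fun y hy => ?_) bot_le
    have hy' : y ∈ (I.support : Set X) := by
      by_contra h
      refine hne ⟨y, ?_⟩
      rw [ht]
      exact h
    exact absurd hy (hsupp.le ⟨hy', X.basicOpen_le f hy⟩).1
  exact nonZeroDivisors.ne_zero hf ((basicOpen_eq_bot_iff f).1 hb)

end Groth.Agent.H25AbCube.Stab
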