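import Mathlib
import Groth.Agent.H27Zeta.Series
import Groth.Agent.H27Weil.ZetaFormula

/-!
# Symmetric expressions in the roots and their zeta series
-/

set_option autoImplicit false
set_option linter.style.haveILetI false

open Polynomial

noncomputable section

namespace Groth.Agent.H25AbCube.SymRoots

local notation "K" => AlgebraicClosure ℚ

variable {P : ℤ[X]} (hP : P.Monic)

/-- The product of `1 - α_I X` over the `j`-element sub-multisets of the roots. -/
def Pj {L : Type*} [CommRing L] (s : Multiset L) (j : ℕ) : L[X] :=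
  ((s.powersetCard j).map fun I => (1 : L[X]) - C I.prod * X).prod

theorem Pj_map {L M : Type*} [CommRing L] [CommRing M] (f : L →+* M) (s : Multiset L) (j : ℕ) :
    (Pj s j).map f = Pj (s.map f) j := by
  rw [Pj, Pj, Polynomial.map_multiset_prod, Multiset.powersetCard_map, Multiset.map_map, Multiset.map_map]
  refine congrArg Multiset.prod (Multiset.map_congr rfl fun I _ => ?_)
  simp only [Function.comp_apply, Polynomial.map_sub, Polynomial.map_one, Polynomial.map_mul,
    Polynomial.map_C, Polynomial.map_X]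
  rw [map_multiset_prod f]

include hP in
/-- These products have integer coefficients. -/
theorem exists_int_poly (j : ℕ) :
    ∃ Q : ℤ[X], Q.map (Int.castRingHom ℂ) = Pj (P.map (Int.castRingHom ℂ)).roots j := by
  haveI : Algebra.IsAlgebraic ℚ K := AlgebraicClosure.isAlgebraic ℚ
  haveI : IsAlgClosure ℚ K := ⟨inferInstance, inferInstance⟩
  haveI : IsGalois ℚ K := IsAlgClosure.isGalois ℚ K
  let ι₀ : K →ₐ[ℚ] ℂ := IsAlgClosed.lift
  let RK := (P.map (Int.castRingHom K)).roots
  have hR : RK.map ι₀.toRingHom = (P.map (Int.castRingHom ℂ)).roots := by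
    rw [← (IsAlgClosed.splits _).roots_map_of_injective ι₀.toRingHom.injective, Polynomial.map_map,
      RingHom.ext_int (ι₀.toRingHom.comp (Int.castRingHom K)) (Int.castRingHom ℂ)]
  have hfix : ∀ σ : K ≃ₐ[ℚ] K, RK.map σ = RK := fun σ => by
    show RK.map σ.toAlgHom.toRingHom = RK
    rw [← (IsAlgClosed.splits _).roots_map_of_injective σ.toAlgHom.toRingHom.injective, Polynomial.map_map,
      RingHom.ext_int (σ.toAlgHom.toRingHom.comp (Int.castRingHom K)) (Int.castRingHom K)]
  have hint : Pj RK j ∈ Polynomial.lifts (integralClosure ℤ K).val.toRingHom := by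
    refine multiset_prod_mem _ fun q hq => ?_
    obtain ⟨I, hI, rfl⟩ := Multiset.mem_map.1 hq
    have hmem : IsIntegral ℤ I.prod := IsIntegral.multiset_prod fun α hα => by
      have hα' := Multiset.mem_of_le (Multiset.mem_powersetCard.1 hI).1 hα
      refine ⟨P, hP, ?_⟩
      have h2 := (mem_roots'.1 hα').2
      rw [IsRoot, eval_map] at h2
      exact h2
    exact ⟨1 - C (⟨I.prod, hmem⟩ : integralClosure ℤ K) * X, by simp⟩
  have hcoeff : ∀ i, ∃ z : ℤ, (Pj RK j).coeff i = z := by
    intro i
    have hb : (Pj RK j).coeff i ∈ (⊥ : IntermediateField ℚ K) := by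
      rw [InfiniteGalois.mem_bot_iff_fixed]
      intro σ
      show σ.toAlgHom.toRingHom _ = _
      rw [← Polynomial.coeff_map, Pj_map]
      exact congrArg (fun s => (Pj s j).coeff i) (hfix σ)
    obtain ⟨r, hr⟩ := IntermediateField.mem_bot.1 hb
    obtain ⟨y, hy⟩ := (lifts_iff_coeff_lifts _).1 hint i
    have hr' : IsIntegral ℤ r := by
      refine (isIntegral_algebraMap_iff (B := K) (algebraMap ℚ K).injective).1 ?_
      rw [hr, ← hy]
      exact y.2
    obtain ⟨z, hz⟩ := IsIntegrallyClosed.isIntegral_iff.1 hr'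
    exact ⟨z, by rw [← hr, ← hz]; simp⟩
  obtain ⟨Q, hQ⟩ : Pj RK j ∈ Polynomial.lifts (Int.castRingHom K) :=
    (lifts_iff_coeff_lifts _).2 fun i => by
      obtain ⟨z, hz⟩ := hcoeff i
      exact ⟨z, by rw [hz]; simp⟩
  refine ⟨Q, ?_⟩
  rw [← hR, ← Pj_map, ← hQ, coe_mapRingHom, Polynomial.map_map,
    RingHom.ext_int (ι₀.toRingHom.comp (Int.castRingHom K)) (Int.castRingHom ℂ)]

open PowerSeries in
theorem one_sub_eq_exp (a : ℂ) :
    ((1 - Polynomial.C a * Polynomial.X : Polynomial ℂ) : PowerSeries ℂ) =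
      (PowerSeries.exp ℂ).subst (PowerSeries.mk fun m : ℕ => -(a ^ m) / (m : ℂ)) := by
  have h := H27Zeta.charpolyRev_eq_exp (Matrix.of fun _ _ : Fin 1 => a)
  have e1 : (Matrix.of fun _ _ : Fin 1 => a).charpolyRev = 1 - Polynomial.C a * Polynomial.X := by
    rw [Matrix.charpolyRev, Matrix.det_unique, Matrix.sub_apply, Matrix.one_apply_eq, Matrix.smul_apply,
      Matrix.map_apply, Matrix.of_apply, smul_eq_mul, mul_comm (Polynomial.C a)]
  have e2 : ∀ m : ℕ, Matrix.trace ((Matrix.of fun _ _ : Fin 1 => a) ^ m) = a ^ m := fun m => by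
    rw [show (Matrix.of fun _ _ : Fin 1 => a) = Matrix.diagonal fun _ => a from Matrix.ext fun i j => by
      fin_cases i; fin_cases j; rfl, Matrix.diagonal_pow]
    rw [Matrix.trace_diagonal, Fin.sum_univ_one, Pi.pow_apply]
  rw [e1] at h
  rw [h]
  congr 2
  funext m
  rw [e2]

open CategoryTheory AlgebraicGeometry in
open PowerSeries in
/-- The zeta series of a scheme whose point counts are `∏ (1 - α ^ m)`. -/
theorem zeta_eq {k : Type*} [Field k] {X : Scheme} (f : X ⟶ Spec (CommRingCat.of k)) (R : Multiset ℂ)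
    (hN : ∀ m : ℕ, m ≠ 0 → (Zeta.nPts f m : ℂ) = (R.map fun α => 1 - α ^ m).prod) (n : ℕ) (hn : Multiset.card R = n) :
    (Zeta.zetaFun f).map (algebraMap ℚ ℂ) *
        ∏ j ∈ (Finset.range (n + 1)).filter (fun j => Even j), ((Pj R j : ℂ[X]) : PowerSeries ℂ) =
      ∏ j ∈ (Finset.range (n + 1)).filter (fun j => Odd j), ((Pj R j : ℂ[X]) : PowerSeries ℂ) := by
  classical
  let a : Fin R.toList.length → ℂ := fun i => R.toList.get i
  have ha : (Finset.univ : Finset (Fin R.toList.length)).val.map a = R := by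
    rw [Fin.univ_val_map, List.ofFn_get, Multiset.coe_toList]
  let L : Finset (Fin R.toList.length) → PowerSeries ℂ := fun I =>
    PowerSeries.mk fun m : ℕ => -((∏ i ∈ I, a i) ^ m) / (m : ℂ)
  have hL : ∀ I, constantCoeff (L I) = 0 := fun I => by simp [L]
  have hPj : ∀ j, ((Pj R j : ℂ[X]) : PowerSeries ℂ) =
      (PowerSeries.exp ℂ).subst (∑ I ∈ Finset.powersetCard j Finset.univ, L I) := fun j => by
    rw [H27Weil.exp_subst_sum _ _ fun I _ => hL I]
    conv_lhs => rw [Pj, ← ha, Multiset.powersetCard_map, ← Finset.map_val_val_powersetCard]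
    rw [← Polynomial.coeToPowerSeries.ringHom_apply, map_multiset_prod, Multiset.map_map, Multiset.map_map,
      Multiset.map_map, Finset.prod]
    refine congrArg Multiset.prod (Multiset.map_congr rfl fun I _ => ?_)
    exact one_sub_eq_exp _
  have h0 : constantCoeff (Zeta.logZeta f) = 0 := by
    rw [← coeff_zero_eq_constantCoeff_apply, Zeta.logZeta, PowerSeries.coeff_mk]; simp
  have hlog : constantCoeff (PowerSeries.map (algebraMap ℚ ℂ) (Zeta.logZeta f)) = 0 := by
    rw [← coeff_zero_eq_constantCoeff_apply, PowerSeries.coeff_map, coeff_zero_eq_constantCoeff_apply, h0, map_zero]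
  have hms : PowerSeries.map (algebraMap ℚ ℂ) (Zeta.zetaFun f) =
      (PowerSeries.exp ℂ).subst (PowerSeries.map (algebraMap ℚ ℂ) (Zeta.logZeta f)) := by
    rw [← PowerSeries.map_exp (algebraMap ℚ ℂ)]
    exact PowerSeries.map_subst (HasSubst.of_constantCoeff_zero' h0) _
  have hz : ∀ j, constantCoeff (∑ I ∈ Finset.powersetCard j Finset.univ, L I) = 0 := fun j => by
    rw [map_sum]; exact Finset.sum_eq_zero fun I _ => hL I
  rw [Finset.prod_congr rfl fun j _ => hPj j, Finset.prod_congr rfl fun j _ => hPj j,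
    ← H27Weil.exp_subst_sum _ _ (fun j _ => hz j), ← H27Weil.exp_subst_sum _ _ (fun j _ => hz j), hms,
    ← H27Weil.exp_subst_add hlog (by rw [map_sum]; exact Finset.sum_eq_zero fun j _ => hz j)]
  congr 1
  ext m
  simp only [map_add, map_sum, PowerSeries.coeff_map, Zeta.logZeta, L, PowerSeries.coeff_mk]
  rcases eq_or_ne m 0 with rfl | hm
  · simp
  rw [map_div₀, map_natCast, map_natCast, hN m hm]
  simp only [← Finset.sum_div, Finset.sum_neg_distrib, ← add_div]
  congr 1
  have h1 : (R.map fun α => 1 - α ^ m).prod =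
      ∑ j ∈ Finset.range (n + 1), (-1 : ℂ) ^ j * ∑ I ∈ Finset.powersetCard j Finset.univ, (∏ i ∈ I, a i) ^ m := by
    have hc : Fintype.card (Fin R.toList.length) = n := by rw [Fintype.card_fin, Multiset.length_toList, hn]
    calc _ = ∏ i, ((-(a i ^ m)) + 1) := by
          conv_lhs => rw [← ha]
          rw [Multiset.map_map, Finset.prod]
          exact congrArg Multiset.prod (Multiset.map_congr rfl fun i _ => by rw [Function.comp_apply]; ring)
      _ = _ := by
          rw [Finset.prod_add, Finset.sum_powerset, Finset.card_univ, hc]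
          refine Finset.sum_congr rfl fun j _ => ?_
          rw [Finset.mul_sum]
          refine Finset.sum_congr rfl fun I hI => ?_
          rw [Finset.prod_neg, Finset.prod_const_one, mul_one, Finset.prod_pow, (Finset.mem_powersetCard.1 hI).2]
  rw [h1, ← Finset.sum_filter_add_sum_filter_not (Finset.range (n + 1)) (fun j => Even j),
    Finset.filter_congr (fun j _ => Nat.not_even_iff_odd (n := j)),
    Finset.sum_congr rfl (fun j hj => by rw [(Finset.mem_filter.1 hj).2.neg_one_pow, one_mul] :
      ∀ j ∈ (Finset.range (n + 1)).filter (fun j => Even j), _ = ∑ I ∈ Finset.powersetCard j Finset.univ, (∏ i ∈ I, a i) ^ m),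
    Finset.sum_congr rfl (fun j hj => by rw [(Finset.mem_filter.1 hj).2.neg_one_pow, neg_one_mul] :
      ∀ j ∈ (Finset.range (n + 1)).filter (fun j => Odd j), _ = -∑ I ∈ Finset.powersetCard j Finset.univ, (∏ i ∈ I, a i) ^ m),
    Finset.sum_neg_distrib]
  ring

end Groth.Agent.H25AbCube.SymRoots
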