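import Groth.Agent.H25AbCube.DegreePoly
import Groth.Agent.H25AbCube.DetDeg
import Groth.Agent.H25AbCube.Formula
import Groth.Agent.H25Rig.GroupMaps
import Groth.Agent.H8Props.AmpleBatch
import Groth.Agent.S4643

/-!
# The top self-intersection of an invertible class and its behaviour under homomorphisms
-/

set_option autoImplicit false
set_option linter.style.haveILetI false
set_option linter.unusedSectionVars false
set_option backward.isDefEq.respectTransparency false
set_option synthInstance.maxHeartbeats 400000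
set_option maxHeartbeats 1000000
universe u

open CategoryTheory CategoryTheory.Limits MonoidalCategory CartesianMonoidalCategory MonObj GrpObj AlgebraicGeometry
  TopologicalSpace MvPolynomial
open Groth.Agent

noncomputable section

namespace Groth.Agent.H25AbCube

section Top

variable (k : Type u) [Field k] {X : Scheme.{u}} [X.Over (Spec (CommRingCat.of k))]
  [IsProper (X ↘ Spec (CommRingCat.of k))] (g : ℕ)

open Classical in
/-- The coefficient of `m ^ g` in the Euler characteristic of `m • u`. -/
def top (u : PC X) : ℚ :=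
  if h : ∃ P : Polynomial ℚ, ∀ m : ℕ, P.eval (m : ℚ) = (chiCls k (m • u) : ℚ) then h.choose.coeff g else 0

variable {k g}

theorem top_eq (u : PC X) {P : Polynomial ℚ} (hP : ∀ m : ℕ, P.eval (m : ℚ) = (chiCls k (m • u) : ℚ)) :
    top k g u = P.coeff g := by
  have h : ∃ P : Polynomial ℚ, ∀ m : ℕ, P.eval (m : ℚ) = (chiCls k (m • u) : ℚ) := ⟨P, hP⟩
  rw [top, dif_pos h]
  congr 1
  refine Polynomial.eq_of_infinite_eval_eq _ _
    ((Set.infinite_range_of_injective (f := fun m : ℕ => (m : ℚ)) Nat.cast_injective).mono ?_)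
  rintro _ ⟨m, rfl⟩
  show h.choose.eval (m : ℚ) = P.eval (m : ℚ)
  rw [h.choose_spec m, hP m]

/-- The top coefficient of a combination is a form. -/
theorem exists_top_form (hg : topologicalKrullDim X = g) {H : X.Modules} (hH : CohB1.IsAmple H)
    {J : Type*} [Fintype J] (D : J → PC X) :
    ∃ Q : MvPolynomial J ℚ, Q.IsHomogeneous g ∧ ∀ b : J → ℤ, top k g (∑ i, b i • D i) = eval (fun i => (b i : ℚ)) Q := by
  obtain ⟨Q, hQ, hQe⟩ := exists_topForm (k := k) hg hH D
  refine ⟨Q, hQ, fun b => ?_⟩
  obtain ⟨P, hP, hPQ⟩ := hQe b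
  rw [top_eq _ hP, hPQ]

theorem top_pos (hg : topologicalKrullDim X = g) {M : X.Modules} (hM : CohB1.IsAmple M) :
    0 < top k g (pc M hM.1) := by
  have hO := H11Ample.isCoh_of_isInvertible (H11Ample.isInvertible_structureModule (X := X))
  have hsupp : topologicalKrullDim (CohB1.support (Coh.structureModule X)) = (g : WithBot ℕ∞) := by
    rw [H25Euler.support_invertible H11Ample.isInvertible_structureModule]
    exact ((Homeomorph.Set.univ X).isHomeomorph.topologicalKrullDim_eq).trans hg
  haveI : CompactSpace X := QuasiCompact.compactSpace_of_compactSpace (X ↘ Spec (CommRingCat.of k))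
  obtain ⟨P, hP⟩ := H25Euler.exists_hilbPoly (k := k) hM hO (d := g + 1)
    (hsupp ▸ (by exact_mod_cast Nat.lt_succ_self g))
  obtain ⟨-, -, hpos⟩ := H10Coh.Stab.degree_hilbPoly hM hO hsupp hP
  rw [top_eq _ (P := P) fun m => ?_]
  · exact hpos
  · rw [← hP m]
    have := chi_eq_chiCls (k := k) M (Coh.structureModule X) hM.1 H11Ample.isInvertible_structureModule m
    rw [pc_one, zero_add] at this
    rw [← this]
    rfl

end Top

variable {k : Type u} [Field k]

/-- The structure morphism of an object over a field. -/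
abbrev overOf (A : Over (Spec (CommRingCat.of k))) : A.left.Over (Spec (CommRingCat.of k)) := ⟨A.hom⟩

attribute [local instance] overOf

instance isProper_overOf (A : Over (Spec (CommRingCat.of k))) [IsProper A.hom] :
    IsProper (A.left ↘ Spec (CommRingCat.of k)) := ‹IsProper A.hom›

variable {A B : Over (Spec (CommRingCat.of k))} [GrpObj A] [IsProper A.hom] [GeometricallyIntegral A.hom]
  [IsCommMonObj A] [GrpObj B] [IsProper B.hom] [GeometricallyIntegral B.hom] [IsCommMonObj B]

/-- Every class is a difference of ample classes. -/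
theorem exists_ample_sub {X : Scheme.{u}} [CompactSpace X] [QuasiSeparatedSpace X] {H : X.Modules}
    (hH : CohB1.IsAmple H) (u : PC X) :
    ∃ (M N : X.Modules) (hM : CohB1.IsAmple M) (hN : CohB1.IsAmple N), u = pc M hM.1 - pc N hN.1 := by
  obtain ⟨M, hM, rfl⟩ := exists_rep u
  obtain ⟨n, -, hn⟩ := H11Ample.eventually_ample_tensor hH hM
  obtain ⟨h1, e1⟩ := exists_pc_tensorPow hH.1 (n + 1)
  refine ⟨_, _, (hn (n + 1) (Nat.le_succ n)).1, (H11Ample.isAmple_tensorPow_iff hH.1 (n + 1) n.succ_pos).1 hH, ?_⟩
  rw [pc_tensor h1 hM _]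
  abel

/-- The top coefficient is multiplied by the degree under a homomorphism. -/
theorem top_ev (ξ : A ⟶ B) [IsMonHom ξ] {g : ℕ} (hA : topologicalKrullDim A.left = g)
    (hB : topologicalKrullDim B.left = g) (u : PC B.left) :
    top k g (ev u ξ) = degree ξ * top k g u := by
  classical
  haveI : CompactSpace B.left := QuasiCompact.compactSpace_of_compactSpace B.hom
  haveI : QuasiSeparatedSpace B.left := quasiSeparatedSpace_of_quasiSeparated B.hom
  obtain ⟨HA, hHA⟩ := exists_isAmple A
  obtain ⟨HB, hHB⟩ := exists_isAmple B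
  obtain ⟨M, N, hM, hN, rfl⟩ := exists_ample_sub hHB u
  let D : Fin 2 → PC B.left := ![pc M hM.1, pc N hN.1]
  obtain ⟨Q, -, hQ⟩ := exists_top_form (k := k) hB hHB D
  obtain ⟨R, -, hR⟩ := exists_top_form (k := k) hA hHA fun i => ev (D i) ξ
  have hRQ : R = MvPolynomial.C (degree ξ : ℚ) * Q := by
    refine MvPolynomial.funext_set (fun _ => Set.range fun m : ℕ => ((m + 1 : ℕ) : ℚ))
      (fun _ => Set.infinite_range_of_injective fun a b h => by simpa using h) fun x hx => ?_
    choose b hb using fun i => hx i trivial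
    obtain rfl : x = fun i => ((b i + 1 : ℕ) : ℚ) := funext fun i => (hb i).symm
    rw [map_mul, MvPolynomial.eval_C]
    have e1 := hR fun i => ((b i + 1 : ℕ) : ℤ)
    have e2 := hQ fun i => ((b i + 1 : ℕ) : ℤ)
    push_cast at e1 e2 ⊢
    rw [← e1, ← e2]
    obtain ⟨W, hW, eW⟩ := isAmple_pos_comb ![M, N] (fun i => by fin_cases i <;> assumption) (fun i => b i + 1)
      Finset.univ (Finset.sum_pos (fun i _ => Nat.succ_pos _) Finset.univ_nonempty)
    have hsum : ∑ i, ((b i : ℤ) + 1) • D i = pc W hW.1 := by
      rw [eW]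
      refine Finset.sum_congr rfl fun i _ => ?_
      rw [← natCast_zsmul]
      fin_cases i <;> push_cast <;> rfl
    have hsum' : ∑ i, ((b i : ℤ) + 1) • ev (D i) ξ = ev (pc W hW.1) ξ := by
      rw [← hsum]
      simp only [ev, map_sum, map_zsmul]
    rw [hsum, hsum']
    have hO := H11Ample.isCoh_of_isInvertible (H11Ample.isInvertible_structureModule (X := B.left))
    have hsupp : topologicalKrullDim (CohB1.support (Coh.structureModule B.left)) = (g : WithBot ℕ∞) := by
      rw [H25Euler.support_invertible H11Ample.isInvertible_structureModule]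
      exact ((Homeomorph.Set.univ B.left).isHomeomorph.topologicalKrullDim_eq).trans hB
    obtain ⟨P₀, hP₀⟩ := H25Euler.exists_hilbPoly (k := k) hW hO (d := g + 1)
      (hsupp ▸ (by exact_mod_cast Nat.lt_succ_self g))
    obtain ⟨Q₁, -, hQ₁⟩ := exists_topForm (k := k) hA hHA fun _ : Unit => ev (pc W hW.1) ξ
    obtain ⟨P, hP, -⟩ := hQ₁ fun _ => 1
    simp only [Finset.univ_unique, Finset.sum_singleton, one_smul] at hP
    rw [top_eq _ hP, top_eq _ (P := P₀) fun m => ?_]
    · exact coeff_eq_degree_mul rfl rfl ξ hA hB hW hP₀ hP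
    · rw [← hP₀ m]
      have := chi_eq_chiCls (k := k) W (Coh.structureModule B.left) hW.1 H11Ample.isInvertible_structureModule m
      rw [pc_one, zero_add] at this
      rw [← this]
      rfl
  have e1 := hR ![1, -1]
  have e2 := hQ ![1, -1]
  simp only [Fin.sum_univ_two, Matrix.cons_val_zero, Matrix.cons_val_one, one_smul, neg_smul, ← sub_eq_add_neg, D]
    at e1 e2
  rw [hRQ, map_mul, MvPolynomial.eval_C, ← e2] at e1
  rw [← e1]
  simp only [ev, map_sub]

section Product

variable {C : Over (Spec (CommRingCat.of k))} [GrpObj C] [IsProper C.hom] [GeometricallyIntegral C.hom]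
  [IsCommMonObj C]

instance isProper_tensor (X Y : Over (Spec (CommRingCat.of k))) [IsProper X.hom] [IsProper Y.hom] :
    IsProper (X ⊗ Y).hom := by
  show IsProper (pullback.fst X.hom Y.hom ≫ X.hom)
  infer_instance

theorem dim_tensor {a b : ℕ} (hA : topologicalKrullDim A.left = a) (hB : topologicalKrullDim B.left = b) :
    topologicalKrullDim (A ⊗ B).left = ((a + b : ℕ) : WithBot ℕ∞) := by
  change topologicalKrullDim ↥(pullback A.hom B.hom) = _
  rw [Groth.Agent.S4643.result A.hom B.hom, hA, hB, Nat.cast_add]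

/-- The degree of the product of a homomorphism with an identity. -/
theorem degree_map_id (f : A ⟶ B) [IsMonHom f] {g c : ℕ} (hA : topologicalKrullDim A.left = g)
    (hB : topologicalKrullDim B.left = g) (hC : topologicalKrullDim C.left = c) :
    degree (lift (fst A C ≫ f) (snd A C)) = degree f := by
  haveI : GeometricallyIntegral (A ⊗ C).hom := H25Rig.geometricallyIntegral_tensor A C
  haveI : GeometricallyIntegral (B ⊗ C).hom := H25Rig.geometricallyIntegral_tensor B C
  haveI : IsCommMonObj (A ⊗ C) := isCommMonObj_of_av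
  haveI : IsCommMonObj (B ⊗ C) := isCommMonObj_of_av
  let ξ : A ⊗ C ⟶ B ⊗ C := lift (fst A C ≫ f) (snd A C)
  haveI : IsMonHom ξ := H25Rig.isMonHom_of_one_hom _ (by
    refine CartesianMonoidalCategory.hom_ext _ _ ?_ ?_
    · rw [Category.assoc, lift_fst, IsMonHom.one_hom (f := fst B C), ← Category.assoc, IsMonHom.one_hom (f := fst A C),
        IsMonHom.one_hom (f := f)]
    · rw [Category.assoc, lift_snd, IsMonHom.one_hom (f := snd B C), IsMonHom.one_hom (f := snd A C)])
  have hsq : IsPullback (fst A C).left ξ.left f.left (fst B C).left := by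
    have h1 : ξ.left ≫ (snd B C).left = (snd A C).left := by rw [← Over.comp_left, lift_snd]
    refine IsPullback.of_bot (v₂₁ := (snd B C).left) (v₂₂ := B.hom) ?_ ?_ (IsPullback.of_hasPullback B.hom C.hom).flip.flip
    · rw [h1, Over.w f]
      exact IsPullback.of_hasPullback A.hom C.hom
    · rw [← Over.comp_left, ← Over.comp_left, lift_fst]
  have hAC := dim_tensor hA hC
  have hBC := dim_tensor hB hC
  by_cases hf : IsFinite f.left
  · haveI := hf
    haveI : IsFinite ξ.left := MorphismProperty.of_isPullback hsq hf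
    haveI := flat_of_finite f hA hB
    haveI : IsIntegral B.left := GeometricallyIntegral.isIntegral_of_subsingleton B.hom
    show degree ξ = degree f
    rw [← finrank_eq_degree ξ hAC hBC ((η[B ⊗ C]).left (IsLocalRing.closedPoint k)),
      Scheme.Hom.finrank_of_isPullback _ _ _ _ hsq, finrank_eq_degree f hA hB]
  · rw [degree_of_not_finite f hf, degree_of_not_finite _ fun h => hf ?_]
    haveI := h
    let i : A ⟶ A ⊗ C := lift (𝟙 A) (toUnit A ≫ η[C])
    let j : B ⟶ B ⊗ C := lift (𝟙 B) (toUnit B ≫ η[C])
    have hij : i ≫ ξ = f ≫ j := by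
      refine CartesianMonoidalCategory.hom_ext _ _ ?_ ?_
      · simp [i, j, ξ]
      · simp [i, j, ξ, comp_toUnit_assoc]
    haveI : IsSeparated ((fst A C).left ≫ A.hom) := by rw [Over.w (fst A C)]; infer_instance
    haveI : IsSeparated (fst A C).left := IsSeparated.of_comp (fst A C).left A.hom
    haveI : IsClosedImmersion (i.left ≫ (fst A C).left) := by
      rw [← Over.comp_left, lift_fst, Over.id_left]; infer_instance
    haveI : IsClosedImmersion i.left := IsClosedImmersion.of_comp i.left (fst A C).left
    haveI : IsFinite (i.left ≫ ξ.left) := inferInstance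
    haveI : IsFinite (f.left ≫ j.left) := by rw [← Over.comp_left, ← hij, Over.comp_left]; infer_instance
    haveI : IsSeparated (B ⊗ C).hom := inferInstance
    haveI : IsSeparated (j.left ≫ (B ⊗ C).hom) := by rw [Over.w j]; infer_instance
    haveI : IsSeparated j.left := IsSeparated.of_comp j.left (B ⊗ C).hom
    exact IsFinite.of_comp f.left j.left

theorem degree_swap {a b : ℕ} (hA : topologicalKrullDim A.left = a) (hB : topologicalKrullDim B.left = b) :
    degree (lift (snd A B) (fst A B)) = 1 := by
  haveI : GeometricallyIntegral (A ⊗ B).hom := H25Rig.geometricallyIntegral_tensor A B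
  haveI : GeometricallyIntegral (B ⊗ A).hom := H25Rig.geometricallyIntegral_tensor B A
  haveI : IsCommMonObj (A ⊗ B) := isCommMonObj_of_av
  haveI : IsCommMonObj (B ⊗ A) := isCommMonObj_of_av
  have hm : ∀ (P Q : Over (Spec (CommRingCat.of k))) [GrpObj P] [GrpObj Q] [IsProper P.hom] [IsProper Q.hom]
      [GeometricallyIntegral P.hom] [GeometricallyIntegral Q.hom], IsMonHom (lift (snd P Q) (fst P Q)) := by
    intro P Q _ _ _ _ _ _
    haveI : GeometricallyIntegral (P ⊗ Q).hom := H25Rig.geometricallyIntegral_tensor P Q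
    refine H25Rig.isMonHom_of_one_hom _ (CartesianMonoidalCategory.hom_ext _ _ ?_ ?_)
    · rw [Category.assoc, lift_fst, IsMonHom.one_hom (f := fst Q P), IsMonHom.one_hom (f := snd P Q)]
    · rw [Category.assoc, lift_snd, IsMonHom.one_hom (f := snd Q P), IsMonHom.one_hom (f := fst P Q)]
  haveI := hm A B
  haveI := hm B A
  refine Nat.eq_one_of_mul_eq_one_right (m := degree (lift (snd A B) (fst A B))) (n := degree (lift (snd B A) (fst B A))) ?_
  have hAB := dim_tensor hA hB
  have hBA : topologicalKrullDim (B ⊗ A).left = ((a + b : ℕ) : WithBot ℕ∞) := by rw [Nat.add_comm]; exact dim_tensor hB hA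
  rw [← degree_comp hAB hBA hAB, show lift (snd A B) (fst A B) ≫ lift (snd B A) (fst B A) = 𝟙 _ from
    CartesianMonoidalCategory.hom_ext _ _ (by simp) (by simp), degree_id]

end Product

end Groth.Agent.H25AbCube
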