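import Groth.Agent.H25AbCube.Degree
import Groth.Agent.H25Euler.ManyVar
import Groth.Agent.H11Ample.RelAmple

/-!
# The top intersection form on a projective variety

The top coefficient of the Euler characteristic of the multiples of a linear combination of invertible classes
is a form in the coefficients of the combination, homogeneous of degree the dimension.
-/

set_option autoImplicit false
set_option linter.style.haveILetI false
universe u

open CategoryTheory CategoryTheory.Limits AlgebraicGeometry TopologicalSpace MvPolynomial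
open Groth.Agent

noncomputable section

namespace Groth.Agent.H25AbCube

variable {k : Type u} [Field k] {X : Scheme.{u}} [X.Over (Spec (CommRingCat.of k))]

/-- The Euler characteristic of an invertible class. -/
def chiCls (k : Type u) [Field k] [X.Over (Spec (CommRingCat.of k))] (u : PC X) : ℤ :=
  Curv2.euler k X (exists_rep u).choose

theorem chiCls_pc (M : X.Modules) (hM : PicF.IsInvertible M) : chiCls k (pc M hM) = Curv2.euler k X M := by
  obtain ⟨h, e⟩ := (exists_rep (pc M hM)).choose_spec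
  obtain ⟨φ⟩ := (pc_eq_iff h hM).1 e
  exact H25Euler.euler_congr φ

theorem pc_twist (L M : X.Modules) (hL : PicF.IsInvertible L) (hM : PicF.IsInvertible M) (m : ℕ) :
    ∃ h, pc (ShStab.twist X L M m) h = pc M hM + m • pc L hL := by
  obtain ⟨h, e⟩ := exists_pc_tensorPow hL m
  exact ⟨H11Ample.isInvertible_tensor hM h, (pc_tensor hM h _).trans (by rw [e])⟩

theorem chi_eq_chiCls (L M : X.Modules) (hL : PicF.IsInvertible L) (hM : PicF.IsInvertible M) (m : ℕ) :
    H25Euler.chi k L M m = chiCls k (pc M hM + m • pc L hL) := by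
  obtain ⟨h, e⟩ := pc_twist L M hL hM m
  rw [← e, chiCls_pc]
  rfl

variable [IsProper (X ↘ Spec (CommRingCat.of k))]

/-- The Euler characteristic is polynomial on lines of ample direction. -/
theorem exists_line_poly {g : ℕ} (hg : topologicalKrullDim X = g) (L : X.Modules) (hL : CohB1.IsAmple L)
    (u : PC X) : ∃ P : Polynomial ℚ, P.natDegree ≤ g ∧ ∀ t : ℤ, (chiCls k (u + t • pc L hL.1) : ℚ) = P.eval (t : ℚ) := by
  have hN : ∀ v : PC X, ∃ P : Polynomial ℚ, P.natDegree ≤ g ∧
      ∀ m : ℕ, (chiCls k (v + m • pc L hL.1) : ℚ) = P.eval (m : ℚ) := by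
    intro v
    obtain ⟨M, hM, rfl⟩ := exists_rep v
    have hMc := H11Ample.isCoh_of_isInvertible hM
    have hd : topologicalKrullDim (CohB1.support M) < ((g + 1 : ℕ) : WithBot ℕ∞) := by
      rw [H25Euler.support_invertible hM, (Homeomorph.Set.univ X).isHomeomorph.topologicalKrullDim_eq, hg]
      exact_mod_cast Nat.lt_succ_self g
    obtain ⟨P, hP⟩ := H25Euler.exists_hilbPoly (k := k) hL hMc (d := g + 1) hd
    refine ⟨P, Polynomial.natDegree_le_iff_coeff_eq_zero.2 fun n hn =>
      H25Euler.coeff_hilbPoly_eq_zero hL hMc hP hd hn, fun m => ?_⟩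
    rw [← chi_eq_chiCls L M hL.1 hM m]
    exact hP m
  obtain ⟨P, hP, hPe⟩ := hN u
  refine ⟨P, hP, fun t => ?_⟩
  obtain ⟨N, n, rfl⟩ : ∃ N n : ℕ, t = (n : ℤ) - N := ⟨(-t).toNat, t.toNat, (Int.toNat_sub_toNat_neg t).symm⟩
  obtain ⟨Q, -, hQe⟩ := hN (u - N • pc L hL.1)
  have hcomp : Q.comp (Polynomial.X + Polynomial.C (N : ℚ)) = P := Polynomial.eq_of_infinite_eval_eq _ _
    (Set.Infinite.mono (by
      rintro _ ⟨m, rfl⟩
      show Polynomial.eval ((m : ℕ) : ℚ) _ = P.eval ((m : ℕ) : ℚ)
      rw [Polynomial.eval_comp, Polynomial.eval_add, Polynomial.eval_X, Polynomial.eval_C, ← Nat.cast_add, ← hQe,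
        ← hPe, add_nsmul]
      exact congrArg (fun z : PC X => (chiCls k z : ℚ)) (by abel))
      (Set.infinite_range_of_injective (f := fun m : ℕ => (m : ℚ)) Nat.cast_injective))
  rw [show u + ((n : ℤ) - N) • pc L hL.1 = (u - N • pc L hL.1) + n • pc L hL.1 by
    rw [sub_zsmul, natCast_zsmul, natCast_zsmul]; abel, hQe, ← hcomp]
  simp

theorem isAmple_pos_comb {ι : Type*} (L : ι → X.Modules) (hL : ∀ i, CohB1.IsAmple (L i)) (v : ι → ℕ) (s : Finset ι)
    (hv : 0 < ∑ i ∈ s, v i) :
    ∃ (M : X.Modules) (hM : CohB1.IsAmple M), pc M hM.1 = ∑ i ∈ s, v i • pc (L i) (hL i).1 := by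
  classical
  induction s using Finset.induction_on with
  | empty => simp at hv
  | insert a s ha ih =>
    rw [Finset.sum_insert ha] at hv ⊢
    have hpow : 0 < v a → ∃ (M : X.Modules) (hM : CohB1.IsAmple M), pc M hM.1 = v a • pc (L a) (hL a).1 := fun h => by
      obtain ⟨h', e⟩ := exists_pc_tensorPow (hL a).1 (v a)
      exact ⟨_, (H11Ample.isAmple_tensorPow_iff (hL a).1 (v a) h).1 (hL a), e⟩
    rcases Nat.eq_zero_or_pos (∑ i ∈ s, v i) with h | h
    · obtain ⟨M, hM, e⟩ := hpow (by omega)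
      refine ⟨M, hM, ?_⟩
      rw [e, Finset.sum_eq_zero fun i hi => by rw [(Finset.sum_eq_zero_iff.1 h) i hi, zero_smul], add_zero]
    · obtain ⟨N, hN, eN⟩ := ih h
      rcases Nat.eq_zero_or_pos (v a) with h' | h'
      · exact ⟨N, hN, by rw [eN, h', zero_smul, zero_add]⟩
      · obtain ⟨M, hM, e⟩ := hpow h'
        exact ⟨_, H11Ample.isAmple_tensor_of_isAmple hM hN, (pc_tensor hM.1 hN.1 _).trans (by rw [e, eN])⟩

/-- The top coefficient is a form in the coefficients of a linear combination. -/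
theorem exists_topForm {g : ℕ} (hg : topologicalKrullDim X = g) {H : X.Modules} (hH : CohB1.IsAmple H)
    {ι : Type*} [Fintype ι] (D : ι → PC X) :
    ∃ Q : MvPolynomial ι ℚ, Q.IsHomogeneous g ∧ ∀ b : ι → ℤ, ∃ P : Polynomial ℚ,
      (∀ m : ℕ, P.eval (m : ℚ) = (chiCls k (m • ∑ i, b i • D i) : ℚ)) ∧
        P.coeff g = eval (fun i => (b i : ℚ)) Q := by
  classical
  haveI : CompactSpace X := QuasiCompact.compactSpace_of_compactSpace (X ↘ Spec (CommRingCat.of k))
  haveI : QuasiSeparatedSpace X := quasiSeparatedSpace_of_quasiSeparated (X ↘ Spec (CommRingCat.of k))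
  have hD : ∀ i, ∃ (N : ℕ) (L : X.Modules) (hL : CohB1.IsAmple L), pc L hL.1 = N • pc H hH.1 + D i := fun i => by
    obtain ⟨M, hM, e⟩ := exists_rep (D i)
    obtain ⟨n, -, hn⟩ := H11Ample.eventually_ample_tensor hH hM
    obtain ⟨h1, e1⟩ := exists_pc_tensorPow hH.1 n
    exact ⟨n, _, (hn n le_rfl).1, (pc_tensor h1 hM _).trans (by rw [e1, e])⟩
  choose N L hL hLe using hD
  let e := Fintype.equivFin (Option ι)
  let W : Fin (Fintype.card (Option ι)) → X.Modules := fun j => (e.symm j).elim H L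
  have hW : ∀ j, CohB1.IsAmple (W j) := fun j => by
    show CohB1.IsAmple ((e.symm j).elim H L)
    cases e.symm j
    exacts [hH, hL _]
  let f : (Fin (Fintype.card (Option ι)) → ℤ) → ℚ := fun c => (chiCls k (∑ j, c j • pc (W j) (hW j).1) : ℚ)
  obtain ⟨P₀, hP₀, hPe⟩ := H25Euler.exists_mvPolynomial_of_lines g f fun b v hv => by
    obtain ⟨M, hM, eM⟩ := isAmple_pos_comb W hW v Finset.univ hv
    obtain ⟨Q, hQ, hQe⟩ := exists_line_poly (k := k) hg M hM (∑ j, b j • pc (W j) (hW j).1)
    refine ⟨Q, hQ, fun t => ?_⟩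
    rw [← hQe t, eM, Finset.smul_sum, ← Finset.sum_add_distrib]
    refine congrArg (fun z : PC X => (chiCls k z : ℚ)) (Finset.sum_congr rfl fun j _ => ?_)
    rw [Pi.add_apply, Pi.smul_apply, add_smul, smul_eq_mul, mul_smul, natCast_zsmul]
  let lf : Option ι → MvPolynomial ι ℚ := fun o => o.elim (-∑ i, MvPolynomial.C (N i : ℚ) * MvPolynomial.X i) MvPolynomial.X
  have hlf : ∀ o, (lf o).IsHomogeneous 1 := fun o => by
    cases o with
    | none => exact (IsHomogeneous.sum _ _ 1 fun i _ => by simpa using (isHomogeneous_C ι (N i : ℚ)).mul (isHomogeneous_X ℚ i)).neg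
    | some i => exact isHomogeneous_X ℚ i
  refine ⟨aeval (fun j => lf (e.symm j)) (homogeneousComponent g P₀), ?_, fun b => ?_⟩
  · simpa using (homogeneousComponent_isHomogeneous g P₀).aeval (n := 1) (fun j => lf (e.symm j)) fun j => hlf _
  let co : Option ι → ℤ := fun o => o.elim (-∑ i, b i * N i) b
  let c : Fin (Fintype.card (Option ι)) → ℤ := fun j => co (e.symm j)
  have hc : ∑ j, c j • pc (W j) (hW j).1 = ∑ i, b i • D i := by
    let F : Option ι → PC X := fun o => o.elim (pc H hH.1) fun i => pc (L i) (hL i).1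
    have h0 : ∀ (o : Option ι) (h : PicF.IsInvertible (o.elim H L)), pc (o.elim H L) h = F o := fun o h => by
      cases o <;> rfl
    have h1 : ∀ j, pc (W j) (hW j).1 = F (e.symm j) := fun j => h0 (e.symm j) _
    simp only [h1, c]
    rw [e.symm.sum_comp (fun o => co o • F o), Fintype.sum_option]
    simp only [co, F, Option.elim, hLe, smul_add, Finset.sum_add_distrib, neg_smul, Finset.sum_smul, mul_smul,
      natCast_zsmul]
    abel
  refine ⟨H25Euler.lineRes (fun j => (c j : ℚ)) P₀, fun m => ?_, ?_⟩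
  · have := hPe (fun j => c j * (m : ℤ))
    push_cast at this
    rw [H25Euler.eval_lineRes, ← this, ← hc, Finset.smul_sum]
    refine congrArg (fun z : PC X => (chiCls k z : ℚ)) (Finset.sum_congr rfl fun j _ => ?_)
    show (c j * (m : ℤ)) • _ = _
    rw [mul_comm, mul_smul, natCast_zsmul]
  rw [H25Euler.coeff_lineRes]
  rw [show eval (fun i => (b i : ℚ)) = (MvPolynomial.aeval (R := ℚ) fun i => (b i : ℚ)).toRingHom from rfl]
  simp only [AlgHom.toRingHom_eq_coe, RingHom.coe_coe, comp_aeval_apply]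
  refine congrArg (fun w => MvPolynomial.aeval w (homogeneousComponent g P₀)) (funext fun j => ?_)
  simp only [c]
  generalize e.symm j = o
  cases o <;> simp [lf, co, mul_comm]

end Groth.Agent.H25AbCube
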