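import Groth.Agent.H25AbCube.GeomCharPolyAny
import Groth.Agent.H19AbSch.SelfInt

/-!
# The trace of an endomorphism as an intersection number
-/

set_option autoImplicit false
set_option linter.style.haveILetI false
set_option linter.unusedSectionVars false
set_option backward.isDefEq.respectTransparency false
set_option synthInstance.maxHeartbeats 400000
set_option maxHeartbeats 1000000
universe u

open CategoryTheory CategoryTheory.Limits MonoidalCategory CartesianMonoidalCategory MonObj GrpObj AlgebraicGeometry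
  TopologicalSpace
open Groth.Agent Groth.Agent.H25Pic0 Groth.Agent.H25Index

noncomputable section

namespace Groth.Agent.H25AbCube.TraceForm

variable {k : Type u} [Field k] {A : Over (Spec (CommRingCat.of k))} [GrpObj A] [IsProper A.hom]
  [GeometricallyIntegral A.hom] [IsCommMonObj A]

attribute [local instance] Functor.grpObjObj

/-- The structure morphism of the underlying scheme. -/
@[reducible] def overA : A.left.Over (Spec (CommRingCat.of k)) := ⟨A.hom⟩

attribute [local instance] overA

/-- The Euler characteristic ignores multiples of the antisymmetric part of a class. -/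
theorem chi_add_antisymm (ℓ w : PC A.left) (c : ℕ) :
    @chiCls _ k _ ⟨A.hom⟩ (w + c • (ev ℓ ((𝟙 A)⁻¹) - ℓ)) = @chiCls _ k _ ⟨A.hom⟩ w := by
  letI : (gX A).left.Over (Spec (CommRingCat.of (Kbar k))) := ⟨(gX A).hom⟩
  haveI : IsProper (gX A).hom := MorphismProperty.pullback_snd (P := @IsProper) _ _ inferInstance
  haveI : GeometricallyIntegral (gX A).hom :=
    MorphismProperty.pullback_snd (P := @GeometricallyIntegral) _ _ inferInstance
  have hb : ∀ u : PC A.left, chiCls (Kbar k) (pullP (gp A) u) = chiCls k u := fun u => by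
    obtain ⟨M, hM, rfl⟩ := exists_rep u
    rw [← pullP_pc (gp A) M hM (H11Ample.isInvertible_pullback _ hM), chiCls_pc, chiCls_pc]
    exact euler_gM M (H11Ample.isCoh_of_isInvertible hM)
  have hmap : pullP (gp A) (ev ℓ ((𝟙 A)⁻¹)) = ev (A := gX A) (pullP (gp A) ℓ) ((𝟙 (gX A))⁻¹) := by
    have h1 : (GeomTate.bc k (Kbar k)).map ((𝟙 A)⁻¹) = (𝟙 (gX A))⁻¹ := by
      refine (map_inv (Functor.homMonoidHom (GeomTate.bc k (Kbar k)) (X := A) (M := A)) (𝟙 A)).trans ?_
      show ((GeomTate.bc k (Kbar k)).map (𝟙 A))⁻¹ = _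
      rw [CategoryTheory.Functor.map_id]
    rw [← h1]
    show pullP (gp A) (pullP _ ℓ) = pullP _ (pullP (gp A) ℓ)
    rw [pullP_pullP, pullP_pullP]
    exact congrArg (fun f => pullP f ℓ) (GeomTate.isPullback_map A ((𝟙 A)⁻¹)).w
  rw [← hb, ← hb w, map_add, map_nsmul, map_sub, hmap]
  refine H19AbSch.SelfInt.chi_add_additive _ _ ?_
  have hv := H19AbSch.SelfInt.additive_inv_sub (A := gX A) (pullP (gp A) ℓ)
  unfold Additive' at hv ⊢
  simp only [ev, map_nsmul] at hv ⊢
  rw [hv, smul_add]


/-- The top form at a point is the Euler characteristic of the combination. -/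
theorem eval_topForm {g : ℕ}
    (hg : topologicalKrullDim A.left = g) {J : Type*} [Fintype J] (D : J → PC A.left) (Q : MvPolynomial J ℚ)
    (hQ : ∀ b : J → ℤ, ∃ P : Polynomial ℚ,
      (∀ m : ℕ, P.eval (m : ℚ) = (chiCls k (m • ∑ i, b i • D i) : ℚ)) ∧
        P.coeff g = MvPolynomial.eval (fun i => (b i : ℚ)) Q) (b : J → ℤ) :
    MvPolynomial.eval (fun i => (b i : ℚ)) Q = (chiCls k (∑ i, b i • D i) : ℚ) := by
  obtain ⟨P, hP, hc⟩ := hQ b
  have hPX : P = Polynomial.C (chiCls k (∑ i, b i • D i) : ℚ) * Polynomial.X ^ g := by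
    refine Polynomial.eq_of_infinite_eval_eq _ _ (Set.Infinite.mono ?_
      (Set.infinite_range_of_injective (f := fun m : ℕ => (m : ℚ)) Nat.cast_injective))
    rintro _ ⟨m, rfl⟩
    show P.eval _ = Polynomial.eval _ _
    rw [hP, (H19AbSch.SelfInt.chi_smul_field g hg _).1]
    simp only [Polynomial.eval_mul, Polynomial.eval_C, Polynomial.eval_pow, Polynomial.eval_X]
    push_cast
    ring
  rw [← hc, hPX]
  simp

/-- The Euler characteristic of a pulled back ample class. -/
theorem chi_ev {g : ℕ} (hg : topologicalKrullDim A.left = g)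
    (L : A.left.Modules) (hL : CohB1.IsAmple L) (ξ : A ⟶ A) [IsMonHom ξ] :
    chiCls k (ev (pc L hL.1) ξ) = degree ξ * chiCls k (pc L hL.1) := by
  have h := coeff_eq_degree_mul (A := A) (B := A) rfl rfl ξ hg hg hL
    (P₀ := Polynomial.C (chiCls k (pc L hL.1) : ℚ) * Polynomial.X ^ g)
    (P := Polynomial.C (chiCls k (ev (pc L hL.1) ξ) : ℚ) * Polynomial.X ^ g) (fun m => ?_) fun m => ?_
  · simp only [Polynomial.coeff_C_mul, Polynomial.coeff_X_pow, if_true, _root_.mul_one] at h
    exact_mod_cast h
  · show ((H25Euler.chi k L (Coh.structureModule A.left) m : ℤ) : ℚ) = _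
    rw [chi_eq_chiCls L _ hL.1 H11Ample.isInvertible_structureModule m, pc_one, zero_add,
      (H19AbSch.SelfInt.chi_smul_field g hg _).1]
    simp only [Polynomial.eval_mul, Polynomial.eval_C, Polynomial.eval_pow, Polynomial.eval_X]
    push_cast
    ring
  · rw [(H19AbSch.SelfInt.chi_smul_field g hg _).1]
    simp only [Polynomial.eval_mul, Polynomial.eval_C, Polynomial.eval_pow, Polynomial.eval_X]
    push_cast
    ring

end Groth.Agent.H25AbCube.TraceForm
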