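import Groth.Agent.H25AbCube.TraceForm

/-!
# Intersection numbers of the class attached to an endomorphism
-/

set_option autoImplicit false
set_option linter.style.haveILetI false
set_option linter.unusedSectionVars false
set_option backward.isDefEq.respectTransparency false
set_option synthInstance.maxHeartbeats 400000
set_option maxHeartbeats 1000000
universe u

open CategoryTheory CategoryTheory.Limits MonoidalCategory CartesianMonoidalCategory MonObj AlgebraicGeometry
  TopologicalSpace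
open Groth.Agent Groth.Agent.H25Pic0 Groth.Agent.H25Index

noncomputable section

namespace Groth.Agent.H25AbCube.TraceForm

/-- The class of a product of modules. -/
theorem pc_tensorList_map {Y : Scheme.{u}} {J : Type*} (M : J → Y.Modules) (hM : ∀ j, PicF.IsInvertible (M j)) :
    ∀ l : List J, ∃ h, pc (FGA.tensorList (l.map M)) h = (l.map fun j => pc (M j) (hM j)).sum
  | [] => ⟨H11Ample.isInvertible_structureModule, pc_one.trans (by simp)⟩
  | j :: l => by
    obtain ⟨h, e⟩ := pc_tensorList_map M hM l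
    exact ⟨H11Ample.isInvertible_tensor (hM j) h, (pc_tensor (hM j) h _).trans (by
      rw [e, List.map_cons, List.sum_cons])⟩

/-- The exponent with one in the middle. -/
def mid (m : ℕ) : Fin 3 →₀ ℕ := Finsupp.equivFunOnFinite.symm ![m, 1, 0]

theorem deg_eq {Q : MvPolynomial (Fin 3) ℚ} {g : ℕ} (hQ : Q.IsHomogeneous g) {d : Fin 3 →₀ ℕ}
    (hd : d ∈ Q.support) : d 0 + d 1 + d 2 = g := by
  have h := hQ (MvPolynomial.mem_support_iff.1 hd)
  simpa [Finsupp.weight_apply, Finsupp.sum_fintype, Fin.sum_univ_three] using h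

theorem eval_three (Q : MvPolynomial (Fin 3) ℚ) (a b c : ℚ) :
    MvPolynomial.eval ![a, b, c] Q = ∑ d ∈ Q.support, Q.coeff d * (a ^ d 0 * b ^ d 1 * c ^ d 2) := by
  rw [MvPolynomial.eval_eq']
  simp [Fin.prod_univ_three]

/-- A coefficient read off along a parabola. -/
theorem coeff_parabola {Q : MvPolynomial (Fin 3) ℚ} {m : ℕ} (hQ : Q.IsHomogeneous (m + 1)) :
    (MvPolynomial.aeval (![Polynomial.X ^ 2, Polynomial.X, 1] : Fin 3 → Polynomial ℚ) Q).coeff (2 * m + 1) =
      Q.coeff (mid m) := by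
  rw [MvPolynomial.aeval_def, MvPolynomial.eval₂_eq', Polynomial.finsetSum_coeff, Finset.sum_eq_single (mid m)]
  · simp [Fin.prod_univ_three, mid, Polynomial.coeff_C_mul, ← pow_mul, ← pow_succ]
  · intro d hd hne
    simp only [Fin.prod_univ_three, Matrix.cons_val_zero, Matrix.cons_val_one, Matrix.cons_val, ← pow_mul, ← pow_add,
      one_pow, _root_.mul_one, ← Polynomial.C_eq_algebraMap, Polynomial.coeff_C_mul, Polynomial.coeff_X_pow]
    rw [if_neg, mul_zero]
    intro h
    refine hne (Finsupp.ext fun i => ?_)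
    have := deg_eq hQ hd
    fin_cases i <;> simp [mid] <;> omega
  · intro h
    simp [MvPolynomial.notMem_support_iff.1 h]

/-- A coefficient read off by finite differences. -/
theorem altSum_slope {Q : MvPolynomial (Fin 3) ℚ} {m : ℕ} (hQ : Q.IsHomogeneous (m + 1)) :
    ∑ j ∈ Finset.range (m + 1), (-1 : ℚ) ^ (m - j) * (m.choose j : ℚ) *
      (MvPolynomial.eval ![(j : ℚ), 1, 0] Q - MvPolynomial.eval ![(j : ℚ), 0, 0] Q) =
      m.factorial * Q.coeff (mid m) := by
  have halt : ∀ i, ∑ j ∈ Finset.range (m + 1), (-1 : ℚ) ^ (m - j) * (m.choose j : ℚ) * (j : ℚ) ^ i =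
      (m.factorial * Nat.stirlingSecond i m : ℕ) := fun i => by
    have h := congrArg (fun z : ℤ => (z : ℚ)) (H25Misc.altSum_pow_eq_stirling m i)
    push_cast at h ⊢
    exact h
  simp only [eval_three, ← Finset.sum_sub_distrib, Finset.mul_sum]
  rw [Finset.sum_comm, Finset.sum_eq_single (mid m)]
  · simp only [mid, Finsupp.equivFunOnFinite_symm_apply_apply, Finsupp.coe_equivFunOnFinite_symm, Matrix.cons_val_zero,
      Matrix.cons_val_one, Matrix.cons_val, pow_one, pow_zero, _root_.mul_one, mul_zero, sub_zero]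
    have h := halt m
    rw [Nat.stirlingSecond_self, _root_.mul_one] at h
    rw [← h, Finset.sum_mul]
    exact Finset.sum_congr rfl fun j _ => by ring
  · intro d hd hne
    have hdeg := deg_eq hQ hd
    by_cases h1 : d 1 = 0
    · refine Finset.sum_eq_zero fun j _ => ?_
      rw [h1]
      ring
    by_cases h2 : d 2 = 0
    · have hlt : d 0 < m := by
        by_contra hc
        refine hne (Finsupp.ext fun i => ?_)
        fin_cases i <;> simp [mid] <;> omega
      have h0 := halt (d 0)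
      rw [Nat.stirlingSecond_eq_zero_of_lt hlt, mul_zero, Nat.cast_zero] at h0
      refine Eq.trans (Finset.sum_congr rfl fun j _ => ?_)
        ((Finset.mul_sum _ _ (Q.coeff d)).symm.trans ((congrArg (Q.coeff d * ·) h0).trans (mul_zero _)))
      rw [h2, zero_pow h1]
      ring
    · refine Finset.sum_eq_zero fun j _ => ?_
      rw [zero_pow h2]
      ring
  · intro h
    simp [MvPolynomial.notMem_support_iff.1 h]

variable {k : Type u} [Field k] {A : Over (Spec (CommRingCat.of k))} [GrpObj A] [IsProper A.hom]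
  [GeometricallyIntegral A.hom] [IsCommMonObj A]

attribute [local instance] overA

/-- The cube form is additive in powers. -/
theorem ev_mul_pow (ℓ : PC A.left) (α : A ⟶ A) (n : ℕ) :
    ev ℓ (α * (𝟙 A) ^ n) =
      n • (ev ℓ (α * 𝟙 A) - ev ℓ α - ℓ) + ev ℓ α + ev ℓ ((𝟙 A) ^ n) := by
  induction n with
  | zero => simp [H25AbCube.ev_one]
  | succ n ih =>
    have h := three ℓ α ((𝟙 A) ^ n) (𝟙 A)
    rw [_root_.mul_assoc, ← pow_succ, ih, show ev ℓ (𝟙 A) = ℓ from pullP_id ℓ] at h
    rw [succ_nsmul]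
    linear_combination (norm := abel) h

/-- The intersection number of the class of an endomorphism against powers of a class. -/
theorem trace_number {m : ℕ} (hg : topologicalKrullDim A.left = (m + 1 : ℕ)) (L Linv : A.left.Modules)
    (hL : CohB1.IsAmple L) (hLinv : PicF.IsInvertible Linv) (hLL : pc L hL.1 + pc Linv hLinv = 0) (α : A ⟶ A)
    [IsMonHom α] (P : Polynomial ℤ) (hP : ∀ n : ℤ, (degree (EndAV.End.of α - (n : EndAV.End A)).toHom : ℤ) = P.eval n)
    (M₀ : A.left.Modules) (hM₀ : PicF.IsInvertible M₀)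
    (hM₀c : pc M₀ hM₀ = -(ev (pc L hL.1) (α * 𝟙 A) - ev (pc L hL.1) α - pc L hL.1)) :
    -P.coeff (2 * m + 1) * FGA.intNum k A.left (m + 1) (fun _ : Fin (m + 1) => Linv) (Coh.structureModule A.left) =
      ((m + 1 : ℕ) : ℤ) * FGA.intNum k A.left (m + 1)
        (fun i : Fin (m + 1) => if (i : ℕ) = 0 then M₀ else Linv) (Coh.structureModule A.left) := by
  classical
  set ℓ := pc L hL.1 with hℓ
  set u := ev ℓ (α * 𝟙 A) - ev ℓ α - ℓ with hu
  set v := ev ℓ α with hv
  haveI : IsProper (A.left ↘ Spec (CommRingCat.of k)) := ‹IsProper A.hom›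
  obtain ⟨Q, hQh, hQ⟩ := exists_topForm (k := k) hg hL ![ℓ, u, v]
  have hQe : ∀ a b c : ℤ, MvPolynomial.eval ![(a : ℚ), (b : ℚ), (c : ℚ)] Q = (chiCls k (a • ℓ + b • u + c • v) : ℚ) := by
    intro a b c
    have h := eval_topForm hg _ Q hQ ![a, b, c]
    rw [Fin.sum_univ_three] at h
    rw [show (![(a : ℚ), (b : ℚ), (c : ℚ)] : Fin 3 → ℚ) = fun i => ((![a, b, c] : Fin 3 → ℤ) i : ℚ) from
      funext fun i => by fin_cases i <;> rfl]
    exact h
  have hdeg : ∀ n : ℕ, ((P.eval (-(n : ℤ)) : ℤ) : ℚ) * chiCls k ℓ =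
      MvPolynomial.eval ![((n : ℚ) ^ 2), (n : ℚ), 1] Q := by
    intro n
    have hξ : (EndAV.End.of α - ((-(n : ℤ) : ℤ) : EndAV.End A)).toHom = α * (𝟙 A) ^ n := by
      rw [EndAV.End.toHom_sub, EndAV.End.toHom_intCast, zpow_neg, zpow_natCast, div_inv_eq_mul]
      rfl
    haveI : IsMonHom (α * (𝟙 A) ^ n) := hξ ▸ inferInstance
    rw [← hP, hξ, Int.cast_natCast, ← Int.cast_natCast (R := ℚ) (degree _), ← Int.cast_mul,
      ← chi_ev hg L hL (α * (𝟙 A) ^ n)]
    have e := hQe ((n : ℤ) ^ 2) n 1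
    push_cast at e
    rw [e]
    have hc : n.choose 2 + n.choose 2 + n = n ^ 2 := by
      rcases Nat.eq_zero_or_pos n with rfl | hn
      · simp
      have h : n * (n - 1) / 2 * 2 = n * (n - 1) := Nat.div_mul_cancel (Nat.even_mul_pred_self n).two_dvd
      have h' : n * (n - 1) + n = n * n := by rw [← Nat.mul_succ, Nat.succ_eq_add_one, Nat.sub_add_cancel hn]
      rw [Nat.choose_two_right, sq]; omega
    have hsplit : ev ℓ (α * (𝟙 A) ^ n) =
        ((n : ℤ) ^ 2 • ℓ + (n : ℤ) • u + (1 : ℤ) • v) + n.choose 2 • (ev ℓ ((𝟙 A)⁻¹) - ℓ) := by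
      rw [ev_mul_pow, H25AbCube.ev_pow ℓ n, one_smul, natCast_zsmul, ← Nat.cast_pow, natCast_zsmul, ← hc, hu, hv]
      simp only [add_nsmul, smul_sub, smul_add]
      abel
    rw [hsplit, chi_add_antisymm]
  have hR : MvPolynomial.aeval (![Polynomial.X ^ 2, Polynomial.X, 1] : Fin 3 → Polynomial ℚ) Q =
      Polynomial.C (chiCls k ℓ : ℚ) * (P.map (Int.castRingHom ℚ)).comp (Polynomial.C (-1) * Polynomial.X) := by
    refine Polynomial.eq_of_infinite_eval_eq _ _ (Set.Infinite.mono ?_
      (Set.infinite_range_of_injective (f := fun n : ℕ => (n : ℚ)) Nat.cast_injective))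
    rintro _ ⟨n, rfl⟩
    show Polynomial.eval _ _ = Polynomial.eval _ _
    rw [Polynomial.eval_mul, Polynomial.eval_C, Polynomial.eval_comp, Polynomial.eval_mul, Polynomial.eval_C,
      Polynomial.eval_X, neg_one_mul, mul_comm,
      show -(n : ℚ) = Int.castRingHom ℚ (-(n : ℤ)) by simp, Polynomial.eval_map, Polynomial.eval₂_hom]
    refine Eq.trans ?_ (hdeg n).symm
    rw [← Polynomial.coe_evalRingHom, MvPolynomial.aeval_def,
      MvPolynomial.eval₂_comp_left (Polynomial.evalRingHom (n : ℚ))]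
    rw [show (Polynomial.evalRingHom (n : ℚ)).comp (algebraMap ℚ (Polynomial ℚ)) = RingHom.id ℚ from
      RingHom.ext fun x => by simp]
    exact congrArg (fun w => MvPolynomial.eval₂ (RingHom.id ℚ) w Q) (funext fun i => by fin_cases i <;> simp)
  have hq : Q.coeff (mid m) = -(chiCls k ℓ : ℚ) * P.coeff (2 * m + 1) := by
    rw [← coeff_parabola hQh, hR, Polynomial.coeff_C_mul, Polynomial.comp_C_mul_X_coeff, Polynomial.coeff_map,
      Odd.neg_one_pow ⟨m, rfl⟩]
    simp
  -- the right hand side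
  let W : Fin (m + 1) → A.left.Modules := fun i => if (i : ℕ) = 0 then M₀ else Linv
  have hW : ∀ i, PicF.IsInvertible (W i) := fun i => by
    show PicF.IsInvertible (if (i : ℕ) = 0 then M₀ else Linv)
    split <;> assumption
  have hchi : ∀ I : Finset (Fin (m + 1)),
      FGA.eulerCharLE k A.left (CohB1.tensorMod (FGA.tensorList ((I.sort (· ≤ ·)).map W))
        (Coh.structureModule A.left)) (m + 1) = chiCls k (∑ i ∈ I, pc (W i) (hW i)) := by
    intro I
    obtain ⟨h, e⟩ := pc_tensorList_map W hW (I.sort (· ≤ ·))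
    have hT := H11Ample.isInvertible_tensor h (H11Ample.isInvertible_structureModule (X := A.left))
    rw [H28Int.eulerCharLE_eq k hg.le (H11Ample.isCoh_of_isInvertible hT).1, ← chiCls_pc _ hT,
      pc_tensor h H11Ample.isInvertible_structureModule, e, pc_one, add_zero]
    refine congrArg (chiCls k) ?_
    rw [← List.sum_toFinset (fun i => pc (W i) (hW i)) (I.sort_nodup _), Finset.sort_toFinset]
  have hW0 : pc (W 0) (hW 0) = -u := by
    rw [← hM₀c]; exact (pc_eq_iff _ _).2 ⟨eqToIso (if_pos rfl)⟩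
  have hWs : ∀ i : Fin m, pc (W i.succ) (hW _) = -ℓ := fun i => by
    rw [← eq_neg_of_add_eq_zero_right hLL]; exact (pc_eq_iff _ _).2 ⟨eqToIso (if_neg (by simp))⟩
  have hsum : ∀ (J : Finset (Fin m)), ∑ i ∈ J.map (Fin.succEmb m), pc (W i) (hW i) = J.card • -ℓ := fun J => by
    rw [Finset.sum_map]
    exact (Finset.sum_congr rfl fun i _ => hWs i).trans (Finset.sum_const _)
  have huniv : (Finset.univ : Finset (Fin (m + 1))) = insert 0 (Finset.univ.map (Fin.succEmb m)) := by
    ext i; rcases Fin.eq_zero_or_eq_succ i with rfl | ⟨j, rfl⟩ <;> simp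
  have h0notMem : (0 : Fin (m + 1)) ∉ Finset.univ.map (Fin.succEmb m) := by simp [Fin.succ_ne_zero]
  have hsign := fun x : PC A.left => (H19AbSch.SelfInt.chi_smul_field (m + 1) hg x).2
  have hA : ∀ T ∈ (Finset.univ.map (Fin.succEmb m)).powerset, (∑ i ∈ T, pc (W i) (hW i)) = T.card • -ℓ := by
    intro T hT
    obtain ⟨J, -, rfl⟩ := Finset.subset_map_iff.1 (Finset.mem_powerset.1 hT)
    rw [hsum, Finset.card_map]
  let f : ℕ → ℤ := fun j => (-1 : ℤ) ^ j * ((-1) ^ (m + 1) *
    (chiCls k ((j : ℤ) • ℓ + (0 : ℤ) • u + (0 : ℤ) • v) - chiCls k ((j : ℤ) • ℓ + (1 : ℤ) • u + (0 : ℤ) • v)))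
  have key : (FGA.intNum k A.left (m + 1) W (Coh.structureModule A.left) : ℚ) = m.factorial * Q.coeff (mid m) := by
    rw [FGA.intNum]
    simp only [hchi]
    rw [← Finset.powerset_univ, huniv, Finset.sum_powerset_insert h0notMem, ← Finset.sum_add_distrib,
      Finset.sum_congr rfl (g := fun T => f T.card) (fun T hT => ?_),
      Finset.sum_powerset_apply_card f, Finset.card_map, Finset.card_univ, Fintype.card_fin, ← altSum_slope hQh]
    · simp only [f]
      push_cast
      refine Finset.sum_congr rfl fun j hj => ?_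
      have e0 := hQe j 0 0
      have e1 := hQe j 1 0
      push_cast at e0 e1
      rw [nsmul_eq_mul]
      push_cast
      rw [← e0, ← e1]
      have hs : (-1 : ℚ) ^ j * (-1) ^ (m + 1) = -(-1) ^ (m - j) := by
        have hj' := Finset.mem_range_succ_iff.1 hj
        rw [← pow_add, show j + (m + 1) = (m - j) + 1 + 2 * j by omega, pow_add, pow_mul, neg_one_sq, one_pow,
          _root_.mul_one, pow_succ, mul_neg_one]
      linear_combination ((m.choose j : ℚ) * (MvPolynomial.eval ![(j : ℚ), 0, 0] Q -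
        MvPolynomial.eval ![(j : ℚ), 1, 0] Q)) * hs
    · have hmem : (0 : Fin (m + 1)) ∉ T := fun h => h0notMem (Finset.mem_powerset.1 hT h)
      rw [Finset.sum_insert hmem, hA T hT, hW0, Finset.card_insert_of_notMem hmem, smul_neg, ← neg_add, hsign, hsign]
      simp only [f, natCast_zsmul, zero_smul, one_smul, add_zero, add_comm u]
      ring
  have hconst := H19AbSch.SelfInt.intNum_const (m + 1) hg L Linv hL.1 hLinv hLL
  rw [← chiCls_pc L hL.1] at hconst
  have goalQ : ((-P.coeff (2 * m + 1) * FGA.intNum k A.left (m + 1) (fun _ : Fin (m + 1) => Linv)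
      (Coh.structureModule A.left) : ℤ) : ℚ) = ((((m + 1 : ℕ) : ℤ) * FGA.intNum k A.left (m + 1) W
      (Coh.structureModule A.left) : ℤ) : ℚ) := by
    rw [hconst]
    push_cast
    rw [key, hq, Nat.factorial_succ]
    push_cast
    ring
  exact Int.cast_injective goalQ

end Groth.Agent.H25AbCube.TraceForm
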