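import Groth.Agent.H25AbCube.AdjointDeg
import Groth.Agent.H25AbCube.SectionPositive

/-!
# The trace of an endomorphism given by an effective class is positive
-/

set_option autoImplicit false
set_option linter.style.haveILetI false
set_option linter.unusedSectionVars false
set_option backward.isDefEq.respectTransparency false
set_option synthInstance.maxHeartbeats 400000
set_option maxHeartbeats 1000000
universe u

open CategoryTheory CategoryTheory.Limits MonoidalCategory CartesianMonoidalCategory MonObj GrpObj AlgebraicGeometry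
  TopologicalSpace MvPolynomial
open Groth.Agent

noncomputable section

namespace Groth.Agent.H25AbCube

attribute [local instance] overOf

/-- A class with a nonzero section which vanishes somewhere. -/
def IsPosCls {X : Scheme.{u}} (v : PC X) : Prop :=
  ∃ (M : X.Modules) (hM : PicF.IsInvertible M) (g : Γ(M, ⊤)),
    pc M hM = v ∧ ((H11Ample.gen M g : X.Opens) : Set X).Nonempty ∧ H11Ample.gen M g ≠ ⊤

theorem IsPosCls.ne_zero {X : Scheme.{u}} {M : X.Modules} (g : Γ(M, ⊤))
    (hne : ((H11Ample.gen M g : X.Opens) : Set X).Nonempty) : g ≠ 0 := fun h1 => by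
  have h2 := H11Ample.gen_inf_eq_basicOpen (H11Ample.isGen_gen g) g 0 (by rw [zero_smul, h1, map_zero])
  rw [inf_idem, Scheme.basicOpen_zero] at h2
  rw [h2] at hne
  exact Set.not_nonempty_empty hne

theorem IsPosCls.add {X : Scheme.{u}} [IsIntegral X] {u v : PC X} (hu : IsPosCls u) (hv : IsPosCls v) :
    IsPosCls (u + v) := by
  obtain ⟨M, hM, a, rfl, ha, ha'⟩ := hu
  obtain ⟨N, hN, b, rfl, hb, hb'⟩ := hv
  refine ⟨_, H11Ample.isInvertible_tensor hM hN, H11Ample.tm a b, pc_tensor hM hN _, ?_, ?_⟩ <;>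
    rw [H11Ample.gen_tm hM hN]
  · exact nonempty_preirreducible_inter (H11Ample.gen M a).2 (H11Ample.gen N b).2 ha hb
  · exact fun h => ha' (top_le_iff.1 (h ▸ inf_le_left))

theorem IsPosCls.pull {X Y : Scheme.{u}} (f : X ⟶ Y) (hf : Function.Surjective f) {v : PC Y} (hv : IsPosCls v) :
    IsPosCls (pullP f v) := by
  obtain ⟨M, hM, g, rfl, hg, hg'⟩ := hv
  have h := H11Ample.isInvertible_pullback f hM
  have e : H11Ample.gen ((Scheme.Modules.pullback f).obj M) (H11Ample.pullTop f g) = f ⁻¹ᵁ H11Ample.gen M g := by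
    have := H11Ample.gen_smul_pullSect f hM g (isUnit_one (M := Γ(X, ⊤)))
    rwa [one_smul] at this
  refine ⟨_, h, H11Ample.pullTop f g, pullP_pc f M hM h, ?_, ?_⟩ <;> rw [e]
  · obtain ⟨y, hy⟩ := hg
    obtain ⟨x, rfl⟩ := hf y
    exact ⟨x, hy⟩
  · intro h
    refine hg' (eq_top_iff.2 fun y _ => ?_)
    obtain ⟨x, rfl⟩ := hf y
    exact h.ge (Set.mem_univ x)

variable {k : Type u} [Field k] {A : Over (Spec (CommRingCat.of k))} [GrpObj A] [IsProper A.hom]
  [GeometricallyIntegral A.hom] [IsCommMonObj A]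

theorem surjective_of_section {X Y : Over (Spec (CommRingCat.of k))} (p : X ⟶ Y) (i : Y ⟶ X) (h : i ≫ p = 𝟙 Y) :
    Function.Surjective p.left := fun y => ⟨i.left y, by
  show (i.left ≫ p.left) y = y
  rw [← Over.comp_left, h]
  rfl⟩

/-- The top coefficient on the square of combinations of the two pullbacks of a symmetric class. -/
theorem top_sq_symm {r : ℕ} (hr : topologicalKrullDim A.left = r) (w : PC A.left) (hs : ev w ((𝟙 A)⁻¹) = w)
    (b : Fin 2 → ℤ) :
    top k (r + r) (∑ i, b i • prA w i) = top k (r + r) (∑ i, prA w i) * (b 0 : ℚ) ^ r * (b 1 : ℚ) ^ r := by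
  classical
  haveI : GeometricallyIntegral (A ⊗ A).hom := H25Rig.geometricallyIntegral_tensor A A
  haveI : IsCommMonObj (A ⊗ A) := isCommMonObj_of_av
  obtain ⟨H, hH⟩ := exists_isAmple (A ⊗ A)
  have hd := dim_tensor hr hr
  obtain ⟨Q, -, hQ⟩ := exists_top_form (k := k) hd hH (prA w)
  have h1 := hQ fun _ => 1
  simp only [one_smul] at h1
  rw [h1]
  have key : Q = MvPolynomial.C (eval (fun _ => ((1 : ℤ) : ℚ)) Q) * MvPolynomial.X 0 ^ r * MvPolynomial.X 1 ^ r := by
    refine MvPolynomial.funext_set (fun _ => Set.range fun m : ℕ => ((m : ℚ) ^ 2))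
      (fun _ => Set.infinite_range_of_injective fun a b h => by
        exact_mod_cast (pow_left_inj₀ (Nat.cast_nonneg a) (Nat.cast_nonneg b) two_ne_zero).1 h) fun x hx => ?_
    choose a ha using fun i => hx i trivial
    obtain rfl : x = fun i => (a i : ℚ) ^ 2 := funext fun i => (ha i).symm
    simp only [map_mul, map_pow, MvPolynomial.eval_C, MvPolynomial.eval_X]
    haveI := isMonHom_pow (A := A) (a 0)
    haveI := isMonHom_pow (A := A) (a 1)
    let ξ₀ : A ⊗ A ⟶ A ⊗ A := lift (fst A A ≫ (𝟙 A) ^ a 0) (snd A A)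
    let ξ₁ : A ⊗ A ⟶ A ⊗ A := lift (fst A A ≫ (𝟙 A) ^ a 1) (snd A A)
    let σ : A ⊗ A ⟶ A ⊗ A := lift (snd A A) (fst A A)
    haveI : IsMonHom ξ₀ := isMonHom_sq _ _
    haveI : IsMonHom ξ₁ := isMonHom_sq _ _
    haveI : IsMonHom σ := isMonHom_sq _ _
    let ξ : A ⊗ A ⟶ A ⊗ A := lift (fst A A ≫ (𝟙 A) ^ a 0) (snd A A ≫ (𝟙 A) ^ a 1)
    haveI : IsMonHom ξ := isMonHom_sq _ _
    have hξ : ξ = ξ₀ ≫ (σ ≫ ξ₁ ≫ σ) := CartesianMonoidalCategory.hom_ext _ _
      (by simp [ξ, ξ₀, ξ₁, σ]) (by simp [ξ, ξ₀, ξ₁, σ])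
    have hdeg : (degree ξ : ℚ) = (a 0 : ℚ) ^ (2 * r) * (a 1 : ℚ) ^ (2 * r) := by
      rw [hξ, degree_comp hd hd hd, degree_comp hd hd hd, degree_comp hd hd hd,
        show degree σ = 1 from degree_swap hr hr, show degree ξ₀ = _ from degree_map_id _ hr hr hr,
        show degree ξ₁ = _ from degree_map_id _ hr hr hr]
      push_cast
      rw [degree_pow hr, degree_pow hr]
      ring
    have h0 : ev (ev w (fst A A)) ξ = (a 0 ^ 2) • ev w (fst A A) := by
      rw [ev_comp, lift_fst, ← ev_comp, ev_pow_symm _ hs]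
      exact map_nsmul _ _ _
    have h1 : ev (ev w (snd A A)) ξ = (a 1 ^ 2) • ev w (snd A A) := by
      rw [ev_comp, lift_snd, ← ev_comp, ev_pow_symm _ hs]
      exact map_nsmul _ _ _
    have e := top_ev ξ hd hd (∑ i, (1 : ℤ) • prA w i)
    rw [hdeg, hQ fun _ => 1] at e
    have e' : ev (∑ i, (1 : ℤ) • prA w i) ξ = ∑ i, ((a i : ℤ) ^ 2) • prA w i := by
      simp only [Fin.sum_univ_two, prA, Matrix.cons_val_zero, Matrix.cons_val_one, one_smul]
      refine (map_add (pullP ξ.left) _ _).trans ?_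
      refine (congrArg₂ (· + ·) h0 h1).trans ?_
      simp only [← Nat.cast_pow, natCast_zsmul]
    rw [e', hQ] at e
    push_cast at e ⊢
    rw [e]
    ring
  rw [hQ b]
  conv_lhs => rw [key]
  simp only [map_mul, map_pow, MvPolynomial.eval_C, MvPolynomial.eval_X]

/-- The homomorphism `(x, y) ↦ (x + y, x - y)`. -/
def sumDiff (A : Over (Spec (CommRingCat.of k))) [GrpObj A] : A ⊗ A ⟶ A ⊗ A :=
  lift (fst A A * snd A A) (fst A A * (snd A A)⁻¹)

theorem isMonHom_sumDiff :
    haveI : GeometricallyIntegral (A ⊗ A).hom := H25Rig.geometricallyIntegral_tensor A A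
    IsMonHom (sumDiff A) := by
  haveI : GeometricallyIntegral (A ⊗ A).hom := H25Rig.geometricallyIntegral_tensor A A
  haveI : IsCommMonObj (A ⊗ A) := isCommMonObj_of_av
  haveI : IsMonHom (fst A A * snd A A) := by rw [Hom.mul_def]; infer_instance
  haveI : IsMonHom (fst A A * (snd A A)⁻¹) := by rw [Hom.mul_def]; infer_instance
  exact isMonHom_sq _ _

/-- The top coefficient of the biextension of a symmetric class. -/
theorem top_th {r : ℕ} (hr : topologicalKrullDim A.left = r) (w : PC A.left) (hs : ev w ((𝟙 A)⁻¹) = w) :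
    degree (sumDiff A) * top k (r + r) (th w (fst A A) (snd A A)) =
      (-4 : ℚ) ^ r * top k (r + r) (∑ i, prA w i) := by
  haveI : GeometricallyIntegral (A ⊗ A).hom := H25Rig.geometricallyIntegral_tensor A A
  haveI : IsCommMonObj (A ⊗ A) := isCommMonObj_of_av
  haveI := isMonHom_sumDiff (A := A)
  have hd := dim_tensor hr hr
  have hdiag : ∀ p : A ⊗ A ⟶ A, th w p p = (2 : ℤ) • ev w p := fun p => by
    have h2 : ev w (p * p) = (4 : ℕ) • ev w p := by
      rw [← pow_two, show p ^ 2 = p ≫ ((𝟙 A) ^ 2 : A ⟶ A) by rw [MonObj.comp_pow, Category.comp_id], ← ev_comp,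
        ev_pow_symm w hs 2]
      exact map_nsmul _ _ _
    rw [th, h2]
    abel
  have hσ : ev (th w (fst A A) (snd A A)) (sumDiff A) = ∑ i, (![2, -2] i : ℤ) • prA w i := by
    rw [sumDiff, ev_th, lift_fst, lift_snd, th_mul_left, th_mul_right, th_mul_right, th_inv_right, th_inv_right,
      hdiag, hdiag, th_comm w (snd A A) (fst A A)]
    simp only [Fin.sum_univ_two, prA, Matrix.cons_val_zero, Matrix.cons_val_one, neg_smul]
    abel
  rw [← top_ev (sumDiff A) hd hd, hσ, top_sq_symm hr w hs]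
  simp only [Matrix.cons_val_zero, Matrix.cons_val_one]
  rw [show (-4 : ℚ) = 2 * -2 by norm_num, _root_.mul_pow]
  push_cast
  ring

section Closed

variable [IsAlgClosed k]

/-- A relation of translations between two classes is a relation of their pairings. -/
theorem th_eq_of_points (w ℓ : PC A.left) (f : A ⟶ A) [IsMonHom f]
    (hx : ∀ x : 𝟙_ _ ⟶ A, th w (𝟙 A) (toUnit A ≫ x) = th ℓ (𝟙 A) (toUnit A ≫ x ≫ f)) :
    th w (fst A A) (snd A A) = th ℓ (fst A A) (snd A A ≫ f) := by
  haveI : IsIntegral A.left := GeometricallyIntegral.isIntegral_of_subsingleton A.hom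
  let W : PC (A ⊗ A).left := th w (fst A A) (snd A A) - th ℓ (fst A A) (snd A A ≫ f)
  obtain ⟨N, hN⟩ := eq_ev_snd_of_slices A A W fun t => by
    refine (map_sub (pullP _) _ _).trans ?_
    show ev (th w _ _) _ - ev (th ℓ _ _) _ = 0
    rw [ev_th, ev_th, lift_fst, lift_snd, lift_snd_assoc, Category.assoc, hx, sub_self]
  have h0 : N = 0 := by
    have h := congrArg (fun u => ev u (lift (1 : A ⟶ A) (𝟙 A))) hN
    simp only [ev_comp, lift_snd] at h
    rw [show ev N (𝟙 A) = N from pullP_id N] at h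
    rw [← h]
    refine (map_sub (pullP _) _ _).trans ?_
    show ev (th w _ _) _ - ev (th ℓ _ _) _ = 0
    rw [ev_th, ev_th, lift_snd, lift_fst, th_comm w 1, th_one_right, th_comm ℓ 1, th_one_right, sub_zero]
  rw [h0] at hN
  exact sub_eq_zero.1 (hN.trans (map_zero _))

/-- The trace of an endomorphism whose product with a polarization is effective is positive. -/
theorem coeff_pos_of_posCls {r : ℕ} (hr : topologicalKrullDim A.left = r) (hr1 : 1 ≤ r) {L : A.left.Modules}
    (hL : CohB1.IsAmple L) (α : EndAV.End A) {m : ℕ} (hm : 1 ≤ m) (v : PC A.left) (hv : IsPosCls v)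
    (hrel : ∀ x : 𝟙_ _ ⟶ A, th v (𝟙 A) (toUnit A ≫ x) =
      th (pc L hL.1) (𝟙 A) (toUnit A ≫ x ≫ α.toHom ^ m))
    (P : Polynomial ℚ) (hP : ∀ j : ℤ, (degree (α + (j : EndAV.End A)).toHom : ℚ) = P.eval (j : ℚ)) :
    0 < P.coeff (2 * r - 1) := by
  classical
  haveI : IsIntegral A.left := GeometricallyIntegral.isIntegral_of_subsingleton A.hom
  haveI : GeometricallyIntegral (A ⊗ A).hom := H25Rig.geometricallyIntegral_tensor A A
  haveI : IsIntegral (A ⊗ A).left := GeometricallyIntegral.isIntegral_of_subsingleton (A ⊗ A).hom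
  haveI : IsCommMonObj (A ⊗ A) := isCommMonObj_of_av
  haveI : QuasiSeparatedSpace (Spec (CommRingCat.of k)) := inferInstance
  let ν : A ⟶ A := (𝟙 A)⁻¹
  have hν : ν ≫ ν = 𝟙 A := by rw [GrpObj.comp_inv, Category.comp_id, _root_.inv_inv]
  haveI : IsIso ν := ⟨ν, hν, hν⟩
  haveI : IsIso ν.left := inferInstanceAs (IsIso ((Over.forget _).map ν))
  let sy : PC A.left → PC A.left := fun u => u + ev u ν
  have hsy : ∀ u, ev (sy u) ν = sy u := fun u => by
    refine (map_add (pullP ν.left) _ _).trans ?_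
    show ev u ν + ev (ev u ν) ν = _
    rw [ev_comp, hν, show ev u (𝟙 A) = u from pullP_id _, add_comm]
  have hth : ∀ (u : PC A.left) {S : Over (Spec (CommRingCat.of k))} (p q : S ⟶ A),
      th (sy u) p q = th u p q + th u p q := by
    intro u S p q
    have h2 : th (ev u ν) p q = th u p q := by
      rw [th, ev_comp, ev_comp, ev_comp, GrpObj.comp_inv, Category.comp_id, GrpObj.comp_inv, Category.comp_id,
        GrpObj.comp_inv, Category.comp_id, _root_.mul_inv]
      show th u p⁻¹ q⁻¹ = _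
      rw [th_inv_right, th_comm, th_inv_right, neg_neg, th_comm]
    have h3 : th (sy u) p q = th u p q + th (ev u ν) p q := by
      simp only [th, ev, sy, map_add]
      abel
    rw [h3, h2]
  let ℓ' : PC A.left := sy (pc L hL.1)
  have hp := H11Ample.isInvertible_pullback ν.left hL.1
  have hamp : CohB1.IsAmple (CohB1.tensorMod L ((Scheme.Modules.pullback ν.left).obj L)) :=
    H11Ample.isAmple_tensor_of_isAmple hL (H11Ample.isAmple_pullback_of_isAffineHom ν.left hL)
  have eℓ : pc _ hamp.1 = ℓ' := by rw [pc_tensor hL.1 hp _, pullP_pc _ L hL.1 hp]; rfl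
  have hsum : CohB1.IsAmple (CohB1.tensorMod ((Scheme.Modules.pullback (fst A A).left).obj _)
      ((Scheme.Modules.pullback (snd A A).left).obj _)) := H8Props.Ample.isAmple_prod A.hom A.hom hamp hamp
  have eh : pc _ hsum.1 = ∑ i, prA ℓ' i := by
    have hp1 := H11Ample.isInvertible_pullback (fst A A).left hamp.1
    have hq1 := H11Ample.isInvertible_pullback (snd A A).left hamp.1
    rw [pc_tensor hp1 hq1 _, pullP_pc _ _ hamp.1 hp1, pullP_pc _ _ hamp.1 hq1, eℓ]
    simp only [Fin.sum_univ_two, prA, Matrix.cons_val_zero, Matrix.cons_val_one]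
    rfl
  have hvs : IsPosCls (sy v) := hv.add (hv.pull ν.left (surjective_of_section ν ν hν))
  have hD : IsPosCls (∑ i, prA (sy v) i) := by
    simp only [Fin.sum_univ_two, prA, Matrix.cons_val_zero, Matrix.cons_val_one]
    exact (hvs.pull (fst A A).left (surjective_of_section (fst A A) (lift (𝟙 A) 1) (lift_fst _ _))).add
      (hvs.pull (snd A A).left (surjective_of_section (snd A A) (lift 1 (𝟙 A)) (lift_snd _ _)))
  obtain ⟨M, hM, g, eM, hg, hg'⟩ := hD
  have hd := dim_tensor hr hr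
  obtain ⟨Q, -, hQ⟩ := exists_top_form (k := k) hd hsum ![pc M hM, pc _ hsum.1]
  let T : Polynomial ℚ := affRes 1 0 Q
  have hT : ∀ t : ℤ, T.eval (t : ℚ) = top k (r + r) (pc M hM + t • pc _ hsum.1) := by
    intro t
    have h := hQ ![1, t]
    simp only [Fin.sum_univ_two, Matrix.cons_val_zero, Matrix.cons_val_one, one_smul] at h
    rw [h, eval_affRes]
    refine congrArg (fun w => eval w Q) (funext fun i => ?_)
    fin_cases i <;> simp
  have hpos := coeff_pos_of_section (k := k) hd (by omega) hsum hM g (IsPosCls.ne_zero g hg) hg' hT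
  haveI : IsMonHom (α.toHom ^ m) := EndAV.End.toHom_nsmul m α ▸ (inferInstance : IsMonHom (m • α).toHom)
  have hadj := th_eq_of_points (sy v) ℓ' (α.toHom ^ m) fun x => by rw [hth, hth, hrel]
  haveI := isMonHom_sumDiff (A := A)
  have hu : degree (sumDiff A) * top k (r + r) (th ℓ' (fst A A) (snd A A)) =
      (-4 : ℚ) ^ r * top k (r + r) (pc _ hsum.1) := by
    rw [eh]; exact top_th hr _ (hsy _)
  have hc : ∀ j : ℤ, T.eval ((j : ℚ) * m) = (m : ℚ) ^ (2 * r) * top k (r + r) (pc _ hsum.1) * P.eval (j : ℚ) := by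
    intro j
    let φ : EndAV.End A := α + (j : EndAV.End A)
    haveI := isMonHom_pow (A := A) m
    haveI : IsMonHom (φ.toHom ^ m) := EndAV.End.toHom_nsmul m φ ▸ (inferInstance : IsMonHom (m • φ).toHom)
    let σ : A ⊗ A ⟶ A ⊗ A := lift (fst A A) (snd A A ≫ φ.toHom ^ m)
    let σ' : A ⊗ A ⟶ A ⊗ A := lift (fst A A ≫ φ.toHom ^ m) (snd A A)
    let τ : A ⊗ A ⟶ A ⊗ A := lift (snd A A) (fst A A)
    haveI : IsMonHom σ := isMonHom_sq _ _
    haveI : IsMonHom σ' := isMonHom_sq _ _
    haveI : IsMonHom τ := isMonHom_sq _ _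
    have hdeg : (degree σ : ℚ) = P.eval (j : ℚ) * (m : ℚ) ^ (2 * r) := by
      rw [show σ = τ ≫ σ' ≫ τ from CartesianMonoidalCategory.hom_ext _ _ (by simp [σ, σ', τ]) (by simp [σ, σ', τ]),
        degree_comp hd hd hd, degree_comp hd hd hd, show degree τ = 1 from degree_swap hr hr,
        show degree σ' = _ from degree_map_id _ hr hr hr, _root_.one_mul, _root_.mul_one,
        show φ.toHom ^ m = φ.toHom ≫ ((𝟙 A) ^ m : A ⟶ A) by rw [MonObj.comp_pow, Category.comp_id],
        degree_comp hr hr hr]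
      push_cast
      rw [degree_pow hr, hP]
    let t : ℤ := j * m
    let w : PC A.left := sy v + t • ℓ'
    have hw : ev w ν = w := by
      refine (map_add (pullP ν.left) _ _).trans (congrArg₂ (· + ·) (hsy v) ?_)
      exact (map_zsmul _ _ _).trans (congrArg (t • ·) (hsy _))
    have hσ : ev (th ℓ' (fst A A) (snd A A)) σ = th w (fst A A) (snd A A) := by
      have h1 : th w (fst A A) (snd A A) = th (sy v) (fst A A) (snd A A) + t • th ℓ' (fst A A) (snd A A) := by
        simp only [th, ev, w, map_add, map_zsmul, smul_sub]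
        abel
      rw [ev_th, lift_fst, lift_snd, h1, hadj, MonObj.comp_pow]
      show th ℓ' (fst A A) ((snd A A ≫ (α + (j : EndAV.End A)).toHom) ^ m) = _
      rw [EndAV.End.toHom_add, EndAV.End.toHom_intCast, MonObj.comp_mul, GrpObj.comp_zpow, Category.comp_id, _root_.mul_pow,
        th_mul_right, ← MonObj.comp_pow, th_comm ℓ' _ ((snd A A ^ j) ^ m), th_pow_left, th_zpow_left,
        th_comm ℓ' (snd A A), ← natCast_zsmul, ← mul_smul, _root_.mul_comm]
    have e1 := top_th hr w hw
    rw [← hσ, top_ev σ hd hd, hdeg] at e1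
    have e2 : ∑ i, prA w i = pc M hM + t • pc _ hsum.1 := by
      rw [eh, eM]
      simp only [Fin.sum_univ_two, prA, Matrix.cons_val_zero, Matrix.cons_val_one, ev, w, map_add, map_zsmul, smul_add]
      abel
    rw [e2, ← hT] at e1
    simp only [t, Int.cast_mul, Int.cast_natCast] at e1
    refine mul_left_cancel₀ (pow_ne_zero r (by norm_num : (-4 : ℚ) ≠ 0)) ?_
    rw [← e1]
    linear_combination (P.eval (j : ℚ) * (m : ℚ) ^ (2 * r)) * hu
  have hP' : T.comp (Polynomial.C (m : ℚ) * Polynomial.X) =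
      Polynomial.C ((m : ℚ) ^ (2 * r) * top k (r + r) (pc _ hsum.1)) * P := by
    refine Polynomial.eq_of_infinite_eval_eq _ _ ((Set.infinite_range_of_injective Int.cast_injective).mono ?_)
    rintro - ⟨j, rfl⟩
    show (T.comp (Polynomial.C (m : ℚ) * Polynomial.X)).eval (j : ℚ) = (Polynomial.C _ * P).eval (j : ℚ)
    rw [Polynomial.eval_comp, Polynomial.eval_mul, Polynomial.eval_C, Polynomial.eval_X, _root_.mul_comm, hc,
      Polynomial.eval_mul, Polynomial.eval_C]
  have h := congrArg (fun q => q.coeff (2 * r - 1)) hP'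
  simp only [Polynomial.comp_C_mul_X_coeff, Polynomial.coeff_C_mul] at h
  have hm0 : (0 : ℚ) < m := by exact_mod_cast hm
  have h2 : 0 < T.coeff (2 * r - 1) * (m : ℚ) ^ (2 * r - 1) :=
    mul_pos (by rwa [← two_mul] at hpos) (pow_pos hm0 _)
  rw [h] at h2
  exact (pos_iff_pos_of_mul_pos h2).1 (mul_pos (pow_pos hm0 _) (top_pos (k := k) hd hsum))

end Closed

section Points

variable {k : Type u} [Field k] [IsAlgClosed k] {A : Over (Spec (CommRingCat.of k))} [GrpObj A] [IsProper A.hom]
  [GeometricallyIntegral A.hom] [IsCommMonObj A]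

/-- The relation of translations defining positivity, in terms of pairings. -/
theorem th_of_pos_iso {L M : A.left.Modules} (hL : PicF.IsInvertible L) (hM : PicF.IsInvertible M) (m : ℕ)
    (f : A ⟶ A) (x : 𝟙_ _ ⟶ A)
    (h : Nonempty (CohB1.tensorMod ((Scheme.Modules.pullback ((𝟙 A * (toUnit A ≫ x))).left).obj M)
      (CohB1.tensorPow L m) ≅ CohB1.tensorMod M ((Scheme.Modules.pullback
        ((𝟙 A * (toUnit A ≫ x ≫ f))).left).obj (CohB1.tensorPow L m)))) :
    th (pc M hM) (𝟙 A) (toUnit A ≫ x) = th (pc L hL) (𝟙 A) (toUnit A ≫ x ≫ f ^ m) := by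
  obtain ⟨hLm, em⟩ := exists_pc_tensorPow hL m
  have h1 := H11Ample.isInvertible_pullback (𝟙 A * (toUnit A ≫ x)).left hM
  have h2 := H11Ample.isInvertible_pullback (𝟙 A * (toUnit A ≫ x ≫ f)).left hLm
  have e := (pc_eq_iff (H11Ample.isInvertible_tensor h1 hLm) (H11Ample.isInvertible_tensor hM h2)).2 h
  rw [pc_tensor h1 hLm _, pc_tensor hM h2 _, pullP_pc _ M hM h1, pullP_pc _ _ hLm h2, em, map_nsmul] at e
  change ev _ _ + m • _ = _ + m • ev _ _ at e
  rw [MonObj.comp_pow, MonObj.comp_pow, th_comm (pc L hL), th_pow_left, th_comm (pc L hL), th, th,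
    show ev (pc M hM) (𝟙 A) = pc M hM from pullP_id _, show ev (pc L hL) (𝟙 A) = pc L hL from pullP_id _,
    ev_const, ev_const, nsmul_sub, nsmul_sub, smul_zero]
  linear_combination (norm := abel) e

theorem degree_eval_of {P : Polynomial ℚ} (α : EndAV.End A)
    (hP : ∀ j : ℤ, (IsFinite (EndAV.End.toHom (α + (j : EndAV.End A))).left →
          ∀ a : A.left, (Scheme.Hom.finrank (EndAV.End.toHom (α + (j : EndAV.End A))).left a : ℚ) = P.eval (j : ℚ)) ∧
        (¬ IsFinite (EndAV.End.toHom (α + (j : EndAV.End A))).left → P.eval (j : ℚ) = 0)) (j : ℤ) :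
    (degree (α + (j : EndAV.End A)).toHom : ℚ) = P.eval (j : ℚ) := by
  haveI : IsIntegral A.left := GeometricallyIntegral.isIntegral_of_subsingleton A.hom
  by_cases hf : IsFinite (EndAV.End.toHom (α + (j : EndAV.End A))).left
  · rw [degree, if_pos hf]; exact (hP j).1 hf _
  · rw [degree, if_neg hf, Nat.cast_zero, (hP j).2 hf]

/-- A section which is nonzero and not an isomorphism gives a positive class. -/
theorem isPosCls_of_section {X : Scheme.{u}} [IsIntegral X] [IsLocallyNoetherian X] {M : X.Modules}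
    (hM : PicF.IsInvertible M) (s : Coh.structureModule X ⟶ M) (hs : s ≠ 0) (hs' : ¬ IsIso s) :
    IsPosCls (pc M hM) := by
  let g := SecTwist.val s ⊤
  have hsg : H11Tilde.homOfGlobal M g = s := by
    refine Scheme.Modules.hom_ext _ _ fun W => ?_
    ext r
    exact (H06Mod.app_unit s W r).symm
  have hg : g ≠ 0 := fun h0 => hs (by
    rw [← hsg, h0]
    refine Scheme.Modules.hom_ext _ _ fun W => ?_
    ext r
    erw [H11Tilde.homOfGlobal_app, map_zero, smul_zero]
    rfl)
  obtain ⟨-, hη⟩ := H29RR.mono_homOfGlobal hM hg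
  refine ⟨M, hM, g, rfl, ⟨_, H25Euler.mem_gen_of_notMem_support_coker hM g hη⟩, fun htop => hs' ?_⟩
  rw [← hsg]
  have hgen : H11Tilde.IsGen M g := by
    have := (H11Ample.isGen_gen g).res htop.ge
    rwa [H10Coh.mres_mres, H10Coh.mres_self] at this
  exact H11Tilde.isIso_homOfGlobal M g fun W => hgen.bijective (le_top : W ≤ ⊤)

end Points

end Groth.Agent.H25AbCube
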