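import Mathlib

/-!
# Integral polynomials whose roots have absolute value `√q`
-/

set_option autoImplicit false
set_option linter.style.haveILetI false

open Polynomial ComplexConjugate

noncomputable section

namespace Groth.Agent.H25AbCube.WeilRoots

variable {P : ℤ[X]} (hP : P.Monic)

include hP in
/-- The roots of a real polynomial are permuted by conjugation. -/
theorem roots_map_conj : (P.map (Int.castRingHom ℂ)).roots.map conj = (P.map (Int.castRingHom ℂ)).roots := by
  rw [← Polynomial.Splits.roots_map_of_injective (IsAlgClosed.splits _) (RingHom.injective (starRingEnd ℂ)),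
    Polynomial.map_map, RingHom.ext_int ((starRingEnd ℂ).comp (Int.castRingHom ℂ)) (Int.castRingHom ℂ)]

include hP in
theorem isIntegral_of_mem_roots {α : ℂ} (h : α ∈ (P.map (Int.castRingHom ℂ)).roots) : IsIntegral ℤ α := by
  refine ⟨P, hP, ?_⟩
  have := (mem_roots'.1 h).2
  rw [IsRoot, eval_map] at this
  exact this

include hP in
theorem sum_re_roots : ((P.map (Int.castRingHom ℂ)).roots.map Complex.re).sum = -(P.nextCoeff : ℝ) := by
  have h := (IsAlgClosed.splits (P.map (Int.castRingHom ℂ))).nextCoeff_eq_neg_sum_roots_of_monic (hP.map _)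
  rw [nextCoeff_map Int.cast_injective] at h
  have h2 := congrArg Complex.re h
  rw [Complex.neg_re, show ((Int.castRingHom ℂ) P.nextCoeff).re = (P.nextCoeff : ℝ) from Complex.intCast_re _,
    ← Complex.coe_reAddGroupHom, map_multiset_sum] at h2
  rw [Complex.coe_reAddGroupHom] at h2
  linarith

/-- A rational algebraic integer is an integer. -/
theorem exists_int {y : ℂ} (hy : IsIntegral ℤ y) (r : ℚ) (h : y = (r : ℂ)) : ∃ z : ℤ, y = z := by
  have h' : IsIntegral ℤ r := by
    refine (isIntegral_algebraMap_iff (B := ℂ) (algebraMap ℚ ℂ).injective).1 ?_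
    rwa [show algebraMap ℚ ℂ r = y by rw [h]; rfl]
  obtain ⟨z, hz⟩ := IsIntegrallyClosed.isIntegral_iff.1 h'
  exact ⟨z, by rw [h, ← hz]; simp⟩

/-- The bound of Serre, and its equality case. -/
theorem serre (s : Multiset ℝ) (hs : ∀ y ∈ s, 0 < y) (hprod : 1 ≤ s.prod) :
    (Multiset.card s : ℝ) ≤ s.sum ∧ (s.sum = Multiset.card s → ∀ y ∈ s, y = 1) := by
  have h1 : ∀ t : Multiset ℝ, (∀ y ∈ t, 0 < y) →
      Real.log t.prod ≤ t.sum - Multiset.card t ∧ (t.sum - Multiset.card t ≤ Real.log t.prod → ∀ y ∈ t, y = 1) := by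
    intro t
    induction t using Multiset.induction_on with
    | empty => intro _; simp
    | cons a t ih =>
      intro ht
      have ha := ht a (Multiset.mem_cons_self a t)
      obtain ⟨i1, i2⟩ := ih fun y hy => ht y (Multiset.mem_cons_of_mem hy)
      have hp : 0 < t.prod := Multiset.prod_pos fun y hy => ht y (Multiset.mem_cons_of_mem hy)
      simp only [Multiset.prod_cons, Multiset.sum_cons, Multiset.card_cons]
      rw [Real.log_mul ha.ne' hp.ne']
      push_cast
      refine ⟨by linarith [Real.log_le_sub_one_of_pos ha], fun h y hy => ?_⟩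
      rcases Multiset.mem_cons.1 hy with rfl | hy
      · by_contra hy1
        linarith [Real.log_lt_sub_one_of_pos ha hy1]
      · exact i2 (by linarith [Real.log_le_sub_one_of_pos ha]) y hy
  obtain ⟨h2, h3⟩ := h1 s hs
  have h4 : 0 ≤ Real.log s.prod := Real.log_nonneg hprod
  exact ⟨by linarith, fun h => h3 (by linarith)⟩

section Weil

variable {q g : ℕ} (hdeg : P.natDegree = 2 * g)
  (hR : ∀ α ∈ (P.map (Int.castRingHom ℂ)).roots, Complex.normSq α = q)
  (hN : ∀ G : ℤ[X], ∃ d : ℕ, (d : ℂ) = ((P.map (Int.castRingHom ℂ)).roots.map fun α => aeval α G).prod)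

include hP hdeg in
theorem card_roots_eq : Multiset.card (P.map (Int.castRingHom ℂ)).roots = 2 * g := by
  rw [← (IsAlgClosed.splits _).natDegree_eq_card_roots, hP.natDegree_map, hdeg]

include hP hdeg hR hN in
theorem prod_roots : (P.map (Int.castRingHom ℂ)).roots.prod = ((q ^ g : ℕ) : ℂ) := by
  obtain ⟨d, hd⟩ := hN X
  simp only [aeval_X, Multiset.map_id'] at hd
  rw [← hd]
  have h : ((d * d : ℕ) : ℂ) = ((q ^ g * q ^ g : ℕ) : ℂ) := by
    have e : ((d : ℕ) : ℂ) * conj ((d : ℕ) : ℂ) =
        ((P.map (Int.castRingHom ℂ)).roots.map fun α => α * conj α).prod := by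
      rw [Multiset.prod_map_mul, Multiset.map_id', hd, map_multiset_prod]
    rw [Complex.conj_natCast, Multiset.map_congr rfl (fun α hα => show α * conj α = (q : ℂ) by
      rw [Complex.mul_conj, hR α hα]; simp), Multiset.map_const', Multiset.prod_replicate,
      card_roots_eq hP hdeg] at e
    push_cast
    rw [e, ← pow_add, two_mul]
  have := Nat.cast_injective h
  rw [← sq, ← sq] at this
  rw [(pow_left_inj₀ (Nat.zero_le _) (Nat.zero_le _) two_ne_zero).1 this]

include hP hdeg hR hN in
/-- The integers `∏ (c − 2 ε Re α)` are positive when all factors are. -/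
theorem one_le_prod (hq : 0 < q) (c ε : ℤ) (hε : ε = 1 ∨ ε = -1)
    (h : ∀ α ∈ (P.map (Int.castRingHom ℂ)).roots, 0 < (c : ℝ) - ε * (2 * α.re)) :
    1 ≤ ((P.map (Int.castRingHom ℂ)).roots.map fun α => (c : ℝ) - ε * (2 * α.re)).prod := by
  set R := (P.map (Int.castRingHom ℂ)).roots
  obtain ⟨d, hd⟩ := hN (C c * X - C ε * (X ^ 2 + C (q : ℤ)))
  set y : ℝ := (R.map fun α => (c : ℝ) - ε * (2 * α.re)).prod with hy
  have hyC : (y : ℂ) = (R.map fun α => (c : ℂ) - ε * (α + conj α)).prod := by
    rw [hy, show ((R.map fun α => (c : ℝ) - ε * (2 * α.re)).prod : ℂ) =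
      Complex.ofRealHom (R.map fun α => (c : ℝ) - ε * (2 * α.re)).prod from rfl, map_multiset_prod, Multiset.map_map]
    refine congrArg Multiset.prod (Multiset.map_congr rfl fun α _ => ?_)
    simp [Complex.add_conj]
  have e : (d : ℂ) = ((q ^ g : ℕ) : ℂ) * (y : ℂ) := by
    rw [hd, hyC, ← prod_roots hP hdeg hR hN]
    refine Eq.trans ?_ (Multiset.prod_map_mul (m := R) (f := fun α => α)
      (g := fun α => (c : ℂ) - ε * (α + conj α)) |>.trans (by rw [Multiset.map_id']))
    refine congrArg Multiset.prod (Multiset.map_congr rfl fun α hα => ?_)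
    have : α * conj α = (q : ℂ) := by rw [Complex.mul_conj, hR α hα]; simp
    simp only [map_sub, map_add, map_mul, map_pow, aeval_X, map_intCast, map_natCast, eq_intCast, Int.cast_natCast]
    rw [← this]
    ring
  have hint : IsIntegral ℤ (y : ℂ) := by
    rw [hyC]
    refine IsIntegral.multiset_prod fun z hz => ?_
    obtain ⟨α, hα, rfl⟩ := Multiset.mem_map.1 hz
    have hc : conj α ∈ R := by
      have := Multiset.mem_map_of_mem (conj : ℂ → ℂ) hα
      rwa [roots_map_conj hP] at this
    exact isIntegral_algebraMap.sub (isIntegral_algebraMap.mul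
      ((isIntegral_of_mem_roots hP hα).add (isIntegral_of_mem_roots hP hc)))
  have hq0 : ((q ^ g : ℕ) : ℂ) ≠ 0 := Nat.cast_ne_zero.2 (pow_ne_zero _ hq.ne')
  obtain ⟨z, hz⟩ := exists_int hint ((d : ℚ) / (q ^ g : ℕ)) (by
    rw [Rat.cast_div, Rat.cast_natCast, Rat.cast_natCast, e, mul_div_cancel_left₀ _ hq0])
  have hz' : y = z := by
    have := congrArg Complex.re hz
    simpa using this
  have hpos : 0 < y := Multiset.prod_pos fun x hx => by
    obtain ⟨α, hα, rfl⟩ := Multiset.mem_map.1 hx
    exact h α hα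
  rw [hz'] at hpos ⊢
  exact_mod_cast Int.add_one_le_iff.2 (show (0 : ℤ) < z by exact_mod_cast hpos)

include hP hdeg hR hN in
/-- The bound on the trace and its equality case. -/
theorem trace_bound (hq : 0 < q) (ε : ℤ) (hε : ε = 1 ∨ ε = -1) :
    -(ε : ℝ) * P.nextCoeff ≤ g * (⌊2 * Real.sqrt q⌋ : ℝ) ∧
      (-(ε : ℝ) * P.nextCoeff = g * (⌊2 * Real.sqrt q⌋ : ℝ) →
        P = (X ^ 2 - C (ε * ⌊2 * Real.sqrt q⌋) * X + C (q : ℤ)) ^ g) := by
  set R := (P.map (Int.castRingHom ℂ)).roots
  set m : ℤ := ⌊2 * Real.sqrt q⌋ with hm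
  have hεR : (ε : ℝ) = 1 ∨ (ε : ℝ) = -1 := by rcases hε with h | h <;> simp [h]
  have hpos : ∀ α ∈ R, 0 < ((m + 1 : ℤ) : ℝ) - ε * (2 * α.re) := fun α hα => by
    have h1 : |α.re| ≤ Real.sqrt q := by
      refine (Complex.abs_re_le_norm α).trans ?_
      rw [Complex.norm_def, hR α hα]
    have h2 : 2 * Real.sqrt q < m + 1 := Int.lt_floor_add_one _
    have := abs_le.1 h1
    push_cast
    rcases hεR with h | h <;> rw [h] <;> linarith
  obtain ⟨s1, s2⟩ := serre (R.map fun α => ((m + 1 : ℤ) : ℝ) - ε * (2 * α.re))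
    (fun y hy => by obtain ⟨α, hα, rfl⟩ := Multiset.mem_map.1 hy; exact hpos α hα)
    (one_le_prod hP hdeg hR hN hq (m + 1) ε hε hpos)
  have hsum : (R.map fun α => ((m + 1 : ℤ) : ℝ) - ε * (2 * α.re)).sum =
      (2 * g : ℕ) * ((m + 1 : ℤ) : ℝ) + 2 * (ε * (P.nextCoeff : ℝ)) := by
    have e : (R.map fun α => (ε : ℝ) * (2 * α.re)).sum = ε * (2 * -(P.nextCoeff : ℝ)) := by
      rw [Multiset.sum_map_mul_left, Multiset.sum_map_mul_left, sum_re_roots hP]
    rw [Multiset.sum_map_sub, e, Multiset.map_const', Multiset.sum_replicate, card_roots_eq hP hdeg, nsmul_eq_mul]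
    ring
  rw [Multiset.card_map, card_roots_eq hP hdeg, hsum] at s1 s2
  push_cast at s1 s2
  refine ⟨by nlinarith, fun heq => ?_⟩
  have h1 := s2 (by linear_combination (-2 : ℝ) * heq)
  set Q : ℤ[X] := X ^ 2 - C (ε * m) * X + C (q : ℤ) with hQ
  have hPQ : (P.map (Int.castRingHom ℂ)) ^ 2 = (Q.map (Int.castRingHom ℂ)) ^ (2 * g) := by
    have hsplit := (IsAlgClosed.splits (P.map (Int.castRingHom ℂ))).eq_prod_roots_of_monic (hP.map _)
    calc (P.map (Int.castRingHom ℂ)) ^ 2 = (R.map fun α => X - Polynomial.C α).prod *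
          ((R.map conj).map fun α => X - Polynomial.C α).prod := by
          rw [roots_map_conj hP, sq, ← hsplit]
      _ = (R.map fun _ => Q.map (Int.castRingHom ℂ)).prod := by
          rw [Multiset.map_map, ← Multiset.prod_map_mul]
          refine congrArg Multiset.prod (Multiset.map_congr rfl fun α hα => ?_)
          have h2 := h1 _ (Multiset.mem_map_of_mem _ hα)
          have hre : (2 : ℂ) * (α.re : ℂ) = (ε : ℂ) * m := by
            have : (2 : ℝ) * α.re = ε * m := by
              push_cast at h2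
              rcases hεR with h | h <;> rw [h] at h2 ⊢ <;> linarith
            exact_mod_cast congrArg (fun x : ℝ => (x : ℂ)) this
          have hmul : α * conj α = (q : ℂ) := by rw [Complex.mul_conj, hR α hα]; simp
          simp only [Function.comp_apply, hQ, Polynomial.map_add, Polynomial.map_sub, Polynomial.map_mul,
            Polynomial.map_pow, map_X, Polynomial.map_C]
          rw [eq_intCast (Int.castRingHom ℂ), eq_intCast (Int.castRingHom ℂ), Int.cast_mul, Int.cast_natCast]
          rw [← hre, ← hmul, show (2 : ℂ) * (α.re : ℂ) = α + conj α by rw [Complex.add_conj]; push_cast; ring,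
            Polynomial.C_add, Polynomial.C_mul]
          ring
      _ = _ := by rw [Multiset.map_const', Multiset.prod_replicate, card_roots_eq hP hdeg]
  have hQm : Q.Monic := by
    rw [hQ]
    monicity!
  have h3 : P ^ 2 = (Q ^ g) ^ 2 := by
    refine map_injective (Int.castRingHom ℂ) Int.cast_injective ?_
    rw [Polynomial.map_pow, Polynomial.map_pow, Polynomial.map_pow, ← pow_mul, Nat.mul_comm, hPQ]
  rcases sq_eq_sq_iff_eq_or_eq_neg.1 h3 with h | h
  · exact h
  · have := congrArg leadingCoeff h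
    rw [leadingCoeff_neg, hP.leadingCoeff, (hQm.pow g).leadingCoeff] at this
    norm_num at this

include hP hdeg hN in
/-- The polynomial takes nonnegative values on the real line. -/
theorem eval_nonneg (x : ℝ) : 0 ≤ (P.map (Int.castRingHom ℝ)).eval x := by
  refine DenseRange.induction_on Rat.denseRange_cast x (isClosed_le continuous_const (Polynomial.continuous _)) fun r => ?_
  obtain ⟨d, hd⟩ := hN (C (r.den : ℤ) * X - C r.num)
  have hden : (r.den : ℂ) ≠ 0 := Nat.cast_ne_zero.2 r.den_ne_zero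
  have e : (d : ℂ) = (r.den : ℂ) ^ (2 * g) * (((P.map (Int.castRingHom ℝ)).eval (r : ℝ) : ℝ) : ℂ) := by
    have h1 : (((P.map (Int.castRingHom ℝ)).eval (r : ℝ) : ℝ) : ℂ) = (P.map (Int.castRingHom ℂ)).eval (r : ℂ) := by
      rw [show (((P.map (Int.castRingHom ℝ)).eval (r : ℝ) : ℝ) : ℂ) =
        Complex.ofRealHom ((P.map (Int.castRingHom ℝ)).eval (r : ℝ)) from rfl, ← Polynomial.eval₂_at_apply,
        Polynomial.eval₂_map, Polynomial.eval_map,
        RingHom.ext_int (Complex.ofRealHom.comp (Int.castRingHom ℝ)) (Int.castRingHom ℂ)]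
      simp
    rw [h1, (IsAlgClosed.splits _).eq_prod_roots_of_monic (hP.map _), eval_multiset_prod, Multiset.map_map, hd,
      ← card_roots_eq hP hdeg, ← Multiset.prod_replicate, ← Multiset.map_const', ← Multiset.prod_map_mul]
    have hev : Even (Multiset.card (P.map (Int.castRingHom ℂ)).roots) := ⟨g, by rw [card_roots_eq hP hdeg]; ring⟩
    calc _ = ((P.map (Int.castRingHom ℂ)).roots.map fun α => (-1) * ((r.den : ℂ) * ((r : ℂ) - α))).prod := by
          refine congrArg Multiset.prod (Multiset.map_congr rfl fun α _ => ?_)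
          simp only [map_sub, map_mul, aeval_X, map_intCast, map_natCast, eq_intCast, Int.cast_natCast, Rat.cast_def]
          field_simp
          ring
      _ = _ := by
          rw [Multiset.prod_map_mul, Multiset.map_const', Multiset.prod_replicate, hev.neg_one_pow, one_mul]
          refine congrArg Multiset.prod (Multiset.map_congr rfl fun α _ => ?_)
          simp
  have e' : (d : ℝ) = (r.den : ℝ) ^ (2 * g) * (P.map (Int.castRingHom ℝ)).eval (r : ℝ) := by exact_mod_cast e
  have : (0 : ℝ) < (r.den : ℝ) ^ (2 * g) := pow_pos (Nat.cast_pos.2 r.den_pos) _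
  have := Nat.cast_nonneg (α := ℝ) d
  nlinarith

/-- A nonnegative polynomial has real roots of even multiplicity only. -/
theorem even_rootMultiplicity {p : ℝ[X]} (hp : ∀ x, 0 ≤ p.eval x) (r : ℝ) : Even (p.rootMultiplicity r) := by
  rcases eq_or_ne p 0 with rfl | hp0
  · simp
  obtain ⟨h, hh, hr⟩ := exists_eq_pow_rootMultiplicity_mul_and_not_dvd p hp0 r
  set m := p.rootMultiplicity r
  by_contra hodd
  rw [Nat.not_even_iff_odd] at hodd
  have hne : h.eval r ≠ 0 := fun h0 => hr (dvd_iff_isRoot.2 h0)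
  obtain ⟨δ, hδ, hsame⟩ : ∃ δ > 0, ∀ x, dist x r < δ → 0 < h.eval r * h.eval x := by
    have := (continuous_const.mul h.continuous).continuousAt (x := r) |>.eventually
      (lt_mem_nhds (mul_self_pos.2 hne))
    exact Metric.eventually_nhds_iff.1 this
  have h1 := hp (r + δ / 2)
  have h2 := hp (r - δ / 2)
  rw [hh, eval_mul, eval_pow, eval_sub, eval_X, eval_C, add_sub_cancel_left] at h1
  rw [hh, eval_mul, eval_pow, eval_sub, eval_X, eval_C, sub_sub_cancel_left, hodd.neg_pow] at h2
  have hpow : 0 < (δ / 2) ^ m := pow_pos (by linarith) _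
  have s1 := hsame (r + δ / 2) (by rw [Real.dist_eq, add_sub_cancel_left, abs_of_pos] <;> linarith)
  have s2 := hsame (r - δ / 2) (by rw [Real.dist_eq, sub_sub_cancel_left, abs_neg, abs_of_pos] <;> linarith)
  have g1 : 0 ≤ h.eval (r + δ / 2) := by nlinarith
  have g2 : h.eval (r - δ / 2) ≤ 0 := by nlinarith
  rcases lt_or_gt_of_ne hne with hn | hn <;> nlinarith

end Weil

/-- Exchanging subsets and complements in the alternating product of the values `1 − f_I t`. -/
theorem functional_equation {J : Type*} [Fintype J] [DecidableEq J] (f : J → ℂ) (Q t : ℂ) (hQ : ∏ i, f i = Q)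
    (hQ0 : Q ≠ 0) (ht : t ≠ 0) (heven : Even (Fintype.card J)) (hJ : 2 ≤ Fintype.card J) :
    ∏ I ∈ (Finset.univ : Finset J).powerset, (1 - (∏ i ∈ I, f i) * (Q * t)⁻¹) ^ ((-1 : ℤ) ^ (I.card + 1)) =
      ∏ I ∈ (Finset.univ : Finset J).powerset, (1 - (∏ i ∈ I, f i) * t) ^ ((-1 : ℤ) ^ (I.card + 1)) := by
  have hf : ∀ I : Finset J, ∏ i ∈ I, f i ≠ 0 := fun I => Finset.prod_ne_zero_iff.2 fun i _ h =>
    hQ0 (hQ ▸ Finset.prod_eq_zero (Finset.mem_univ i) h)
  have hc : ∀ (s : Finset J), 2 ≤ s.card →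
      ∏ I ∈ s.powerset, (-((∏ i ∈ I, f i) * t)⁻¹) ^ ((-1 : ℤ) ^ (I.card + 1)) = 1 := by
    intro s hs
    obtain ⟨a, ha⟩ := Finset.card_pos.1 (show 0 < s.card by omega)
    have hfa : f a ≠ 0 := by simpa using hf {a}
    rw [← Finset.insert_erase ha, Finset.prod_powerset_insert (Finset.notMem_erase a s), ← Finset.prod_mul_distrib,
      Finset.prod_congr rfl (g := fun I => f a ^ ((-1 : ℤ) ^ (I.card + 1))) fun I hI => ?_]
    · have hsum : ∑ I ∈ (s.erase a).powerset, (-1 : ℤ) ^ (I.card + 1) = 0 := by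
        simp only [pow_succ, ← Finset.sum_mul]
        rw [Finset.sum_powerset_neg_one_pow_card_of_nonempty (Finset.card_pos.1 (by
          rw [Finset.card_erase_of_mem ha]; omega)), zero_mul]
      generalize (s.erase a).powerset = F at hsum ⊢
      have key : ∏ I ∈ F, f a ^ ((-1 : ℤ) ^ (I.card + 1)) = f a ^ ∑ I ∈ F, (-1 : ℤ) ^ (I.card + 1) := by
        clear hsum
        induction F using Finset.induction_on with
        | empty => simp
        | insert I F hI ih => rw [Finset.prod_insert hI, Finset.sum_insert hI, ih, zpow_add₀ hfa]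
      rw [key, hsum, zpow_zero]
    · have haI : a ∉ I := fun h => Finset.notMem_erase a s (Finset.mem_powerset.1 hI h)
      rw [Finset.card_insert_of_notMem haI, Finset.prod_insert haI, pow_succ (-1 : ℤ) (I.card + 1), mul_neg_one,
        zpow_neg, ← div_eq_mul_inv, ← div_zpow]
      congr 1
      have := hf I
      field_simp
  calc ∏ I ∈ (Finset.univ : Finset J).powerset, (1 - (∏ i ∈ I, f i) * (Q * t)⁻¹) ^ ((-1 : ℤ) ^ (I.card + 1)) =
      ∏ I ∈ (Finset.univ : Finset J).powerset, (1 - (∏ i ∈ Iᶜ, f i) * (Q * t)⁻¹) ^ ((-1 : ℤ) ^ (Iᶜ.card + 1)) := by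
        refine Finset.prod_nbij' (fun I => Iᶜ) (fun I => Iᶜ) ?_ ?_ ?_ ?_ ?_ <;> simp
    _ = ∏ I ∈ (Finset.univ : Finset J).powerset, (-((∏ i ∈ I, f i) * t)⁻¹) ^ ((-1 : ℤ) ^ (I.card + 1)) *
          (1 - (∏ i ∈ I, f i) * t) ^ ((-1 : ℤ) ^ (I.card + 1)) := by
        refine Finset.prod_congr rfl fun I _ => ?_
        have hcard : (-1 : ℤ) ^ (Iᶜ.card + 1) = (-1 : ℤ) ^ (I.card + 1) := by
          obtain ⟨g, hg⟩ := heven
          rw [Finset.card_compl, pow_succ, pow_succ]
          congr 1
          have hle := Finset.card_le_univ I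
          rcases Nat.even_or_odd I.card with he | he
          · rw [he.neg_one_pow, Even.neg_one_pow (by rw [Nat.even_sub hle]; exact iff_of_true ⟨g, hg⟩ he)]
          · rw [he.neg_one_pow, Odd.neg_one_pow (by
              rw [Nat.odd_sub hle]
              exact iff_of_false (Nat.not_odd_iff_even.2 ⟨g, hg⟩) (Nat.not_even_iff_odd.2 he))]
        rw [hcard, ← mul_zpow]
        congr 1
        have := hf I
        rw [← hQ, ← Finset.prod_compl_mul_prod I f]
        have := hf Iᶜ
        field_simp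
        ring
    _ = _ := by rw [Finset.prod_mul_distrib, hc _ (by rw [Finset.card_univ]; exact hJ), one_mul]

end Groth.Agent.H25AbCube.WeilRoots
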